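import Cfsg.Agent.Lib.OrderLeHundred
import Mathlib.GroupTheory.Transfer

/-!
# Tools for simple groups of a given small order
-/

set_option autoImplicit false

namespace Cfsg.Lib.Small

variable {G : Type*} [Group G] [Finite G]

theorem not_isCyclic_of_card [IsSimpleGroup G] (h : ¬ (Nat.card G).Prime) : ¬ IsCyclic G := by
  intro hc
  let _ := hc.commGroup
  exact h IsSimpleGroup.prime_card

theorem card_normalizer_mul {p : ℕ} [Fact p.Prime] (P : Sylow p G) :
    Nat.card (Sylow p G) * Nat.card ↥(Subgroup.normalizer ((P : Subgroup G) : Set G)) = Nat.card G := by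
  rw [P.card_eq_index_normalizer, Sylow.coe_coe]; exact Subgroup.index_mul_card _

theorem card_sylow {p : ℕ} [Fact p.Prime] (k m : ℕ) (hk : Nat.card G = p ^ k * m) (hm : ¬ p ∣ m)
    (P : Sylow p G) : Nat.card (P : Subgroup G) = p ^ k := by
  rw [P.card_eq_multiplicity, hk]
  congr 1
  rw [Nat.factorization_mul (pow_ne_zero _ (Fact.out : p.Prime).ne_zero) (by rintro rfl; simp at hm),
    Nat.Prime.factorization_pow Fact.out, Finsupp.add_apply, Finsupp.single_eq_same,
    Nat.factorization_eq_zero_of_not_dvd hm, add_zero]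

theorem sylow_facts {p : ℕ} [Fact p.Prime] (k m : ℕ) (hk : Nat.card G = p ^ k * m) (hm : ¬ p ∣ m) :
    Nat.card (Sylow p G) ∣ m ∧ Nat.card (Sylow p G) % p = 1 := by
  refine ⟨?_, ?_⟩
  · obtain ⟨P⟩ : Nonempty (Sylow p G) := inferInstance
    have h1 := P.card_dvd_index
    have h2 := Subgroup.card_mul_index (P : Subgroup G)
    rw [card_sylow k m hk hm P, hk] at h2
    rwa [Nat.eq_of_mul_eq_mul_left (pow_pos (Fact.out : p.Prime).pos k) h2] at h1
  · have h1 : Nat.card (Sylow p G) % p = 1 % p := card_sylow_modEq_one p G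
    rw [h1, Nat.one_mod_eq_one.2 (Fact.out : p.Prime).ne_one]

theorem card_dvd_factorial [IsSimpleGroup G] {H : Subgroup G} (hH : H ≠ ⊤) :
    Nat.card G ∣ H.index.factorial :=
  (Cfsg.Lib.OrderLeHundred.card_dvd_factorial_index hH).1

theorem index_dvd_factorial_le [IsSimpleGroup G] {H : Subgroup G} (hH : H ≠ ⊤) {b : ℕ}
    (hb : H.index ≤ b) : Nat.card G ∣ b.factorial :=
  (card_dvd_factorial hH).trans (Nat.factorial_dvd_factorial hb)

/-- In a noncyclic simple group no nontrivial Sylow subgroup has its normalizer equal to its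
centralizer. -/
theorem not_normalizer_le_centralizer [IsSimpleGroup G] (hG : ¬ IsCyclic G) {p : ℕ} [Fact p.Prime]
    (P : Sylow p G) (hP : (P : Subgroup G) ≠ ⊥) :
    ¬ Subgroup.normalizer ((P : Subgroup G) : Set G) ≤
      Subgroup.centralizer ((P : Subgroup G) : Set G) := by
  intro h
  have hc := MonoidHom.ker_transferSylow_isComplement' P h
  rcases (MonoidHom.normal_ker (MonoidHom.transferSylow P h)).eq_bot_or_eq_top with hK | hK
  · have htop := hc.sup_eq_top
    rw [hK, bot_sup_eq] at htop
    have hp : IsPGroup p G := fun g => by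
      obtain ⟨k, hk⟩ := P.isPGroup' ⟨g, htop ▸ Subgroup.mem_top g⟩
      exact ⟨k, congrArg Subtype.val hk⟩
    have : Nontrivial G := IsSimpleGroup.toNontrivial
    apply hG
    have hne := bot_lt_iff_ne_bot.mp hp.bot_lt_center
    have htop' : Subgroup.center G = ⊤ :=
      ((inferInstance : (Subgroup.center G).Normal).eq_bot_or_eq_top).resolve_left hne
    let _ : CommGroup G := { (inferInstance : Group G) with
      mul_comm := fun a b => (Subgroup.mem_center_iff.mp (htop' ▸ Subgroup.mem_top b) a) }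
    exact IsSimpleGroup.isCyclic
  · have hd := hc.disjoint
    rw [hK, top_disjoint] at hd
    exact hP hd

/-- For a subgroup of prime order the automizer has order dividing `p - 1`. -/
theorem relIndex_centralizer_dvd {p : ℕ} [Fact p.Prime] (P : Subgroup G) (hP : Nat.card P = p) :
    (Subgroup.centralizer (P : Set G)).relIndex (Subgroup.normalizer (P : Set G)) ∣ p - 1 := by
  have hc : IsCyclic P := isCyclic_of_prime_card hP
  have h1 : Nat.card (MulAut P) = p - 1 := by
    rw [IsCyclic.card_mulAut, hP, Nat.totient_prime Fact.out]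
  have h2 : P.normalizerMonoidHom.ker =
      (Subgroup.centralizer (P : Set G)).subgroupOf (Subgroup.normalizer (P : Set G)) :=
    P.normalizerMonoidHom_ker
  rw [Subgroup.relIndex, ← h2, Subgroup.index_ker, ← h1]
  exact Subgroup.card_subgroup_dvd_card _

omit [Finite G] in
theorem centralizer_zpowers (z : G) :
    Subgroup.centralizer ((Subgroup.zpowers z : Subgroup G) : Set G) =
      Subgroup.centralizer ({z} : Set G) := by
  rw [Subgroup.zpowers_eq_closure, Subgroup.centralizer_closure]

theorem zpowers_eq_of_prime_card {p : ℕ} [hp : Fact p.Prime] {P : Subgroup G} (hP : Nat.card P = p)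
    {u : G} (hu : u ∈ P) (hu1 : u ≠ 1) : Subgroup.zpowers u = P := by
  refine Subgroup.eq_of_le_of_card_ge (Subgroup.zpowers_le.mpr hu) ?_
  rw [hP, Nat.card_zpowers]
  rcases (Nat.dvd_prime hp.out).mp (hP ▸ Subgroup.orderOf_dvd_natCard _ hu) with h | h
  · exact absurd (orderOf_eq_one_iff.mp h) hu1
  · rw [h]

/-- When the Sylow `p`-subgroups have order `p`, an element of order `p` generates one of them. -/
theorem exists_sylow_eq_zpowers {p : ℕ} [hp : Fact p.Prime] (hP : ∀ P : Sylow p G, Nat.card (P : Subgroup G) = p)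
    {z : G} (hz : orderOf z = p) : ∃ P : Sylow p G, (P : Subgroup G) = Subgroup.zpowers z := by
  obtain ⟨P, hPz⟩ := (IsPGroup.of_card (G := ↥(Subgroup.zpowers z)) (p := p) (n := 1)
    (by rw [Nat.card_zpowers, hz, pow_one])).exists_le_sylow
  exact ⟨P, (Subgroup.eq_of_le_of_card_ge hPz (by rw [hP, Nat.card_zpowers, hz])).symm⟩

theorem card_orderOf_eq {p : ℕ} [hp : Fact p.Prime] (hP : ∀ P : Sylow p G, Nat.card (P : Subgroup G) = p) :
    Nat.card {g : G // orderOf g = p} = Nat.card (Sylow p G) * (p - 1) := by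
  classical
  let f : (Σ P : Sylow p G, {u : (P : Subgroup G) // u ≠ 1}) → {g : G // orderOf g = p} := fun x =>
    ⟨(x.2.1 : G), by
      rw [← Nat.card_zpowers, zpowers_eq_of_prime_card (hP x.1) x.2.1.2
        (fun h => x.2.2 (Subtype.ext h)), hP]⟩
  have hinj : Function.Injective f := by
    rintro ⟨P, u, hu⟩ ⟨Q, v, hv⟩ h
    have huv : (u : G) = v := congrArg Subtype.val h
    have hPQ : P = Q := Sylow.ext (by
      rw [← zpowers_eq_of_prime_card (hP P) u.2 (fun h => hu (Subtype.ext h)),
        ← zpowers_eq_of_prime_card (hP Q) v.2 (fun h => hv (Subtype.ext h)), huv])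
    subst hPQ
    have huv' : u = v := Subtype.ext huv
    subst huv'
    rfl
  have hsurj : Function.Surjective f := by
    rintro ⟨g, hg⟩
    obtain ⟨P, hPg⟩ := exists_sylow_eq_zpowers hP hg
    refine ⟨⟨P, ⟨⟨g, hPg ▸ Subgroup.mem_zpowers g⟩, fun h => ?_⟩⟩, rfl⟩
    rw [show g = 1 from congrArg Subtype.val h, orderOf_one] at hg
    exact hp.out.ne_one hg.symm
  have := Fintype.ofFinite (Sylow p G)
  rw [← Nat.card_eq_of_bijective f ⟨hinj, hsurj⟩, Nat.card_sigma]
  have hterm : ∀ P : Sylow p G, Nat.card {u : (P : Subgroup G) // u ≠ 1} = p - 1 := fun P => by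
    have := Fintype.ofFinite (P : Subgroup G)
    rw [Nat.card_eq_fintype_card, Fintype.card_subtype_compl, Fintype.card_subtype_eq,
      ← Nat.card_eq_fintype_card, hP]
  rw [Finset.sum_congr rfl fun P _ => hterm P, Finset.sum_const, smul_eq_mul, Finset.card_univ,
    Nat.card_eq_fintype_card]

end Cfsg.Lib.Small
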