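import Cfsg.Agent.Lib.Small.BlockShape

/-!
# Using the principal block to restrict orders of simple groups
-/

set_option autoImplicit false
set_option linter.unusedSectionVars false
set_option linter.style.haveILetI false

namespace Cfsg.Lib.Small

open Cfsg Cfsg.Lib

universe u

variable {G : Type u} [Group G] [Fintype G] {p : ℕ} [hp : Fact p.Prime]

/-- The Sylow data of a simple group whose order is divisible once by `p`. -/
theorem block_setup [IsSimpleGroup G] (hodd : p ≠ 2) {m : ℕ} (hm : Nat.card G = p * m)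
    (hpm : ¬ p ∣ m) (hm1 : m ≠ 1) :
    ∃ (P : Sylow p G) (e c n : ℕ), Nonempty (Shape P e) ∧
      Nat.card (Subgroup.centralizer ((P : Subgroup G) : Set G)) = p * c ∧
      n * e * c = m ∧ n % p = 1 ∧ n ≠ 1 ∧ 2 ≤ e ∧ e ∣ p - 1 ∧ n = Nat.card (Sylow p G) := by
  have hpp : p.Prime := hp.out
  have hnc : ¬ IsCyclic G := not_isCyclic_of_card (by
    rw [hm]; exact Nat.not_prime_mul hpp.ne_one hm1)
  have hk : Nat.card G = p ^ 1 * m := by rw [pow_one, hm]
  obtain ⟨P⟩ : Nonempty (Sylow p G) := inferInstance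
  have hP : Nat.card (P : Subgroup G) = p := by rw [card_sylow 1 m hk hpm P, pow_one]
  obtain ⟨-, hmod⟩ := sylow_facts (G := G) 1 m hk hpm
  set e := (Subgroup.centralizer ((P : Subgroup G) : Set G)).relIndex
    (Subgroup.normalizer ((P : Subgroup G) : Set G)) with he
  have hed : e ∣ p - 1 := relIndex_centralizer_dvd (P : Subgroup G) hP
  have he2 : 2 ≤ e := by
    have h0 : e ≠ 0 := fun h => by
      rw [h, zero_dvd_iff] at hed
      have := hpp.two_le
      omega
    have h1 : e ≠ 1 := fun h => not_normalizer_le_centralizer hnc P (fun hb => hpp.ne_one (by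
      rw [← hP, hb, Subgroup.card_bot])) (Subgroup.relIndex_eq_one.1 h)
    omega
  have hPC : (P : Subgroup G) ≤ Subgroup.centralizer ((P : Subgroup G) : Set G) :=
    Block.le_centralizer_self hP
  obtain ⟨c, hc⟩ : p ∣ Nat.card (Subgroup.centralizer ((P : Subgroup G) : Set G)) := by
    have := Subgroup.card_dvd_of_le hPC; rwa [hP] at this
  refine ⟨P, e, c, _, exists_shape hodd P hP he.symm he2, hc, ?_, hmod, ?_, he2, hed, rfl⟩
  · have h1 := card_normalizer_mul P
    have h2 := Subgroup.card_mul_index ((Subgroup.centralizer ((P : Subgroup G) : Set G)).subgroupOf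
      (Subgroup.normalizer ((P : Subgroup G) : Set G)))
    rw [Nat.card_congr (Subgroup.subgroupOfEquivOfLe (Subgroup.centralizer_le_normalizer _)).toEquiv,
      hc] at h2
    rw [← h2, hm] at h1
    refine Nat.eq_of_mul_eq_mul_left hpp.pos ?_
    rw [← h1]
    show p * (Nat.card (Sylow p G) * e * c) = Nat.card (Sylow p G) * (p * c * e)
    ring
  · intro h1
    have hN : Subgroup.normalizer ((P : Subgroup G) : Set G) = ⊤ := by
      rw [← Subgroup.index_eq_one, ← h1]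
      exact P.card_eq_index_normalizer.symm
    rcases (Subgroup.normalizer_eq_top_iff.1 hN).eq_bot_or_eq_top with h | h
    · exact hpp.ne_one (by rw [← hP, h, Subgroup.card_bot])
    · refine hm1 ?_
      rw [h, Subgroup.card_top, hm] at hP
      exact (Nat.mul_eq_left hpp.ne_zero).1 hP

theorem block_setup_c [IsSimpleGroup G] {m : ℕ} (hm : Nat.card G = p * m) (hpm : ¬ p ∣ m) :
    ¬ p ^ 2 ∣ Nat.card G := by
  rw [hm, pow_two]
  exact fun h => hpm ((Nat.mul_dvd_mul_iff_left hp.out.pos).1 h)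

namespace Shape

variable [IsSimpleGroup G] {P : Sylow p G} {e : ℕ} (S : Shape P e)

theorem θ_ne_one (he : e + 1 < p) : S.θ ≠ one' G := by
  intro h
  have h2 := S.congθ
  rw [h, S.sign_one, charDegree_one'] at h2
  have h3 : (p : ℤ) ∣ 1 + (e : ℤ) := by
    have := Int.modEq_iff_dvd.1 h2
    rw [show -(e : ℤ) - 1 * ((1 : ℕ) : ℤ) = -(1 + (e : ℤ)) by push_cast; ring, Int.dvd_neg] at this
    exact this
  have := Nat.le_of_dvd (by omega) (show p ∣ 1 + e by exact_mod_cast h3)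
  omega

theorem one_mem_X (he : e + 1 < p) : one' G ∈ S.X :=
  (S.mem_Z.1 S.one_mem).resolve_left fun h => S.θ_ne_one he h.symm

/-- The case of an automizer of order two. -/
theorem two_cases (hnc : ¬ IsCyclic G) {m : ℕ} (hm : Nat.card G = p * m) (he : e = 2) (hp3 : 3 < p) :
    ∃ χ : IrrCharacter G, χ ∈ S.X ∧ χ ≠ one' G ∧ S.X = {one' G, χ} ∧
      S.Z = {S.θ, one' G, χ} ∧ S.θ ≠ one' G ∧ 2 ≤ charDegree (χ : G → ℂ) ∧
      2 ≤ charDegree (S.θ : G → ℂ) ∧ charDegree (χ : G → ℂ) ∣ m ∧ charDegree (S.θ : G → ℂ) ∣ m ∧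
      ((S.σ χ = 1 ∧ S.σ S.θ = -1 ∧ charDegree (χ : G → ℂ) % p = 1 ∧
          charDegree (S.θ : G → ℂ) = charDegree (χ : G → ℂ) + 1) ∨
        (S.σ χ = -1 ∧ S.σ S.θ = 1 ∧ (charDegree (χ : G → ℂ) + 1) % p = 0 ∧
          charDegree (S.θ : G → ℂ) + 1 = charDegree (χ : G → ℂ))) ∧
      1 + charDegree (χ : G → ℂ) ^ 2 + (p - 1) / 2 * charDegree (S.θ : G → ℂ) ^ 2 ≤
        Nat.card G := by
  classical
  subst he
  have h1 := S.one_mem_X (by omega)
  have hc : (S.X.erase (one' G)).card = 1 := by rw [Finset.card_erase_of_mem h1, S.card_X]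
  obtain ⟨χ, hχ⟩ := Finset.card_eq_one.1 hc
  have hχ' : χ ∈ S.X.erase (one' G) := by rw [hχ]; exact Finset.mem_singleton_self χ
  have hne := (Finset.mem_erase.1 hχ').1
  have hχX := (Finset.mem_erase.1 hχ').2
  have hX : S.X = {one' G, χ} := by rw [← Finset.insert_erase h1, hχ]
  have hθ1 := S.θ_ne_one (by omega)
  have hθχ : S.θ ≠ χ := fun h => S.θ_notMem (h ▸ hχX)
  have hZ : S.Z = {S.θ, one' G, χ} := by rw [S.Z_eq, hX]
  have hd2 := two_le_charDegree hnc hne
  have hf2 := two_le_charDegree hnc hθ1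
  refine ⟨χ, hχX, hne, hX, hZ, hθ1, hd2, hf2, S.deg_dvd hm (S.mem_Z.2 (Or.inr hχX)),
    S.deg_dvd hm (S.mem_Z.2 (Or.inl rfl)), ?_, ?_⟩
  · have hrel := S.rel_deg
    rw [hZ, Finset.sum_insert (by simp [hθ1, hθχ]), Finset.sum_insert (by simp [hne.symm]),
      Finset.sum_singleton, S.sign_one, charDegree_one'] at hrel
    push_cast at hrel
    have hcg := S.cong χ hχX
    rcases S.sign χ (S.mem_Z.2 (Or.inr hχX)) with h | h <;>
      rcases S.sign S.θ (S.mem_Z.2 (Or.inl rfl)) with h' | h' <;> rw [h, h'] at hrel <;>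
      rw [h] at hcg
    · omega
    · refine Or.inl ⟨h, h', ?_, by omega⟩
      rw [one_mul] at hcg
      have : ((charDegree (χ : G → ℂ) % p : ℕ) : ℤ) = 1 := by
        rw [Int.natCast_mod]
        exact (show (charDegree (χ : G → ℂ) : ℤ) % (p : ℤ) = 1 % (p : ℤ) from hcg).trans
          (Int.emod_eq_of_lt one_pos.le (by exact_mod_cast (show 1 < p by omega)))
      exact_mod_cast this
    · refine Or.inr ⟨h, h', ?_, by omega⟩
      have := Int.modEq_iff_dvd.1 hcg
      rw [show (1 : ℤ) - (-1) * (charDegree (χ : G → ℂ) : ℤ) =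
        ((charDegree (χ : G → ℂ) + 1 : ℕ) : ℤ) by push_cast; ring, Int.natCast_dvd_natCast] at this
      exact Nat.mod_eq_zero_of_dvd this
    · omega
  · have h := S.sum_sq
    rwa [hX, Finset.sum_insert (by simp [hne.symm]), Finset.sum_singleton, charDegree_one',
      one_pow] at h

/-- The case of an automizer of order three. -/
theorem three_cases (hnc : ¬ IsCyclic G) {m : ℕ} (hm : Nat.card G = p * m) (he : e = 3) (hp4 : 4 < p) :
    ∃ χ ψ : IrrCharacter G, ∃ d₁ d₂ f : ℕ,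
      (χ ∈ S.Z ∧ χ ≠ one' G ∧ charDegree (χ : G → ℂ) = d₁) ∧
      (ψ ∈ S.Z ∧ ψ ≠ one' G ∧ charDegree (ψ : G → ℂ) = d₂) ∧
      (S.θ ≠ one' G ∧ charDegree (S.θ : G → ℂ) = f) ∧
      2 ≤ d₁ ∧ 2 ≤ d₂ ∧ 2 ≤ f ∧ d₁ ∣ m ∧ d₂ ∣ m ∧ f ∣ m ∧
      1 + d₁ ^ 2 + d₂ ^ 2 + (p - 1) / 3 * f ^ 2 ≤ Nat.card G ∧
      ∃ s₁ ∈ ([1, -1] : List ℤ), ∃ s₂ ∈ ([1, -1] : List ℤ), ∃ s ∈ ([1, -1] : List ℤ),
        (s₁ * d₁ - 1) % (p : ℤ) = 0 ∧ (s₂ * d₂ - 1) % (p : ℤ) = 0 ∧ (s * f + 3) % (p : ℤ) = 0 ∧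
        1 + s₁ * d₁ + s₂ * d₂ + s * f = 0 := by
  classical
  subst he
  have h1 := S.one_mem_X (by omega)
  have hc : (S.X.erase (one' G)).card = 2 := by rw [Finset.card_erase_of_mem h1, S.card_X]
  obtain ⟨χ, ψ, hχψ, hχ⟩ := Finset.card_eq_two.1 hc
  have hχ' : χ ∈ S.X.erase (one' G) := by rw [hχ]; simp
  have hψ' : ψ ∈ S.X.erase (one' G) := by rw [hχ]; simp
  obtain ⟨hne, hχX⟩ := Finset.mem_erase.1 hχ'
  obtain ⟨hne', hψX⟩ := Finset.mem_erase.1 hψ'
  have hX : S.X = {one' G, χ, ψ} := by rw [← Finset.insert_erase h1, hχ]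
  have hθ1 := S.θ_ne_one (by omega)
  have hZχ := S.mem_Z.2 (Or.inr hχX)
  have hZψ := S.mem_Z.2 (Or.inr hψX)
  have hZθ : S.θ ∈ S.Z := S.mem_Z.2 (Or.inl rfl)
  have hs : ∀ η ∈ S.Z, S.σ η ∈ ([1, -1] : List ℤ) := fun η h => by
    rcases S.sign η h with h | h <;> simp [h]
  refine ⟨χ, ψ, _, _, _, ⟨hZχ, hne, rfl⟩, ⟨hZψ, hne', rfl⟩, ⟨hθ1, rfl⟩, two_le_charDegree hnc hne,
    two_le_charDegree hnc hne', two_le_charDegree hnc hθ1, S.deg_dvd hm hZχ, S.deg_dvd hm hZψ,
    S.deg_dvd hm hZθ, ?_, _, hs χ hZχ, _, hs ψ hZψ, _, hs _ hZθ, ?_, ?_, ?_, ?_⟩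
  · have h := S.sum_sq
    rw [hX, Finset.sum_insert (by simp [hne.symm, hne'.symm]), Finset.sum_insert (by simp [hχψ]),
      Finset.sum_singleton, charDegree_one', one_pow] at h
    omega
  · exact Int.emod_eq_zero_of_dvd (Int.modEq_iff_dvd.1 (S.cong χ hχX).symm)
  · exact Int.emod_eq_zero_of_dvd (Int.modEq_iff_dvd.1 (S.cong ψ hψX).symm)
  · have := Int.modEq_iff_dvd.1 S.congθ.symm
    rw [sub_neg_eq_add] at this
    exact Int.emod_eq_zero_of_dvd this
  · have hrel := S.rel_deg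
    rw [S.Z_eq, hX, Finset.sum_insert (by
        simp only [Finset.mem_insert, Finset.mem_singleton, not_or]
        exact ⟨hθ1, fun h => S.θ_notMem (h ▸ hχX), fun h => S.θ_notMem (h ▸ hψX)⟩),
      Finset.sum_insert (by simp [hne.symm, hne'.symm]), Finset.sum_insert (by simp [hχψ]),
      Finset.sum_singleton, S.sign_one, charDegree_one'] at hrel
    push_cast at hrel
    omega

/-- With automizer of order `p - 1` all members have the same congruence; if all the nontrivial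
degrees are even the relation is impossible. -/
theorem not_all_even (heven : ∀ χ ∈ S.Z, χ ≠ one' G → 2 ∣ charDegree (χ : G → ℂ)) : False := by
  classical
  have h := S.rel_deg
  rw [← Finset.add_sum_erase _ _ S.one_mem, S.sign_one, charDegree_one'] at h
  have h2 : (2 : ℤ) ∣ ∑ χ ∈ S.Z.erase (one' G), S.σ χ * (charDegree (χ : G → ℂ) : ℤ) :=
    Finset.dvd_sum fun χ hχ => dvd_mul_of_dvd_right
      (Int.natCast_dvd_natCast.2 (heven χ (Finset.mem_of_mem_erase hχ) (Finset.ne_of_mem_erase hχ))) _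
  omega

end Shape

/-- An involution inverting the self-centralizing Sylow subgroup and its properties. -/
theorem exists_inverting [DecidableEq G] (hodd : p ≠ 2) (P : Sylow p G)
    (hP : Nat.card (P : Subgroup G) = p)
    (hC : Nat.card (Subgroup.centralizer ((P : Subgroup G) : Set G)) = p) {e : ℕ}
    (he : (Subgroup.centralizer ((P : Subgroup G) : Set G)).relIndex
      (Subgroup.normalizer ((P : Subgroup G) : Set G)) = e) (heven : 2 ∣ e) :
    ∃ t x : G, x ∈ (P : Subgroup G) ∧ x ≠ 1 ∧ orderOf t = 2 ∧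
      (∀ v ∈ (P : Subgroup G), t * v * t⁻¹ = v⁻¹) ∧
      ((Char.classFinset t ×ˢ Char.classFinset t).filter fun q => q.1 * q.2 = x).card = p ∧
      (∀ u : G, u ^ 2 = 1 → ¬ IsConj t u →
        ((Char.classFinset t ×ˢ Char.classFinset u).filter fun q => q.1 * q.2 = x).card = 0) ∧
      ¬ p ∣ Nat.card (Subgroup.centralizer ({t} : Set G)) ∧
      (4 ∣ e → 4 ∣ Nat.card (Subgroup.centralizer ({t} : Set G))) := by
  have hpp : p.Prime := hp.out
  have hCP : Subgroup.centralizer ((P : Subgroup G) : Set G) = (P : Subgroup G) :=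
    (Subgroup.eq_of_le_of_card_ge (Block.le_centralizer_self hP) (by rw [hC, hP])).symm
  set N := Subgroup.normalizer ((P : Subgroup G) : Set G) with hN
  have hNcard : Nat.card N = p * e := by
    have h2 := Subgroup.card_mul_index ((Subgroup.centralizer ((P : Subgroup G) : Set G)).subgroupOf N)
    rw [Nat.card_congr (Subgroup.subgroupOfEquivOfLe (Subgroup.centralizer_le_normalizer _)).toEquiv,
      hC] at h2
    rw [← h2, ← he]; rfl
  obtain ⟨⟨t, htN⟩, ht⟩ := exists_prime_orderOf_dvd_card' (G := N) 2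
    (hNcard ▸ dvd_mul_of_dvd_right heven p)
  rw [Subgroup.orderOf_mk] at ht
  have hti : t⁻¹ = t := inv_eq_of_mul_eq_one_right (by rw [← pow_two, ← ht, pow_orderOf_eq_one])
  have ht2 : t ^ 2 = 1 := by rw [← ht, pow_orderOf_eq_one]
  haveI : Nontrivial (P : Subgroup G) := by
    rw [← Finite.one_lt_card_iff_nontrivial, hP]; exact hpp.one_lt
  obtain ⟨⟨x, hx⟩, hx1'⟩ := exists_ne (1 : (P : Subgroup G))
  have hx1 : x ≠ 1 := fun h => hx1' (Subtype.ext h)
  have hzx : Subgroup.zpowers x = (P : Subgroup G) := zpowers_eq_of_prime_card hP hx hx1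
  have hxo : orderOf x = p := by rw [← Nat.card_zpowers, hzx, hP]
  have hCx : Subgroup.centralizer ({x} : Set G) = (P : Subgroup G) := by
    rw [← centralizer_zpowers, hzx, hCP]
  obtain ⟨r, hr⟩ : t * x * t⁻¹ ∈ Subgroup.zpowers x :=
    hzx ▸ (Subgroup.mem_normalizer_iff.1 htN x).1 hx
  have hr : t * x * t⁻¹ = x ^ r := hr.symm
  have hinvx : t * x * t⁻¹ = x⁻¹ := by
    have h1 : x ^ (r * r) = x ^ (1 : ℤ) := by
      rw [zpow_mul, ← hr, conj_zpow, ← hr, zpow_one,
        show t * (t * x * t⁻¹) * t⁻¹ = t ^ 2 * x * (t ^ 2)⁻¹ by simp [pow_two, mul_assoc], ht2]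
      simp
    have h2 : (p : ℤ) ∣ (r - 1) * (r + 1) := by
      rw [← hxo, orderOf_dvd_iff_zpow_eq_one, show (r - 1) * (r + 1) = r * r - 1 by ring, zpow_sub,
        h1, mul_inv_cancel]
    rcases (Nat.prime_iff_prime_int.mp hpp).dvd_or_dvd h2 with h | h
    · exfalso
      rw [← hxo, orderOf_dvd_iff_zpow_eq_one, zpow_sub, zpow_one, mul_inv_eq_one] at h
      have h3 : t ∈ (P : Subgroup G) := by
        rw [← hCx, Subgroup.mem_centralizer_singleton_iff]
        exact mul_inv_eq_iff_eq_mul.1 (hr.trans h)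
      have h4 : (2 : ℕ) ∣ p := ht ▸ hP ▸ Subgroup.orderOf_dvd_natCard _ h3
      exact hodd ((Nat.prime_dvd_prime_iff_eq Nat.prime_two hpp).1 h4).symm
    · rw [← hxo, orderOf_dvd_iff_zpow_eq_one, zpow_add, zpow_one] at h
      rw [hr]; exact eq_inv_of_mul_eq_one_left h
  have hinv : ∀ v ∈ (P : Subgroup G), t * v * t⁻¹ = v⁻¹ := by
    intro v hv
    rw [← hzx] at hv
    obtain ⟨i, rfl⟩ := hv
    show t * x ^ i * t⁻¹ = (x ^ i)⁻¹
    rw [← conj_zpow, hinvx, inv_zpow]
  have hPt : ∀ v ∈ (P : Subgroup G), (v * t) ^ 2 = 1 ∧ IsConj t (v * t) := by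
    intro v hv
    refine ⟨?_, ?_⟩
    · calc (v * t) ^ 2 = v * (t * v * t⁻¹) * t ^ 2 := by simp [pow_two, mul_assoc]
        _ = 1 := by rw [hinv v hv, mul_inv_cancel, ht2, mul_one]
    · obtain ⟨m, hm⟩ := exists_pow_eq_self_of_coprime (x := v) (n := 2)
        ((Nat.Prime.coprime_iff_not_dvd Nat.prime_two).2 fun h => hodd <|
          ((Nat.prime_dvd_prime_iff_eq Nat.prime_two hpp).1
            (h.trans ((Subgroup.orderOf_dvd_natCard _ hv).trans hP.dvd))).symm)
      rw [← pow_mul, mul_comm, pow_mul] at hm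
      refine isConj_iff.2 ⟨v ^ m, ?_⟩
      calc v ^ m * t * (v ^ m)⁻¹ = v ^ m * (t * (v ^ m)⁻¹ * t⁻¹) * t := by group
        _ = (v ^ m) ^ 2 * t := by rw [hinv _ (inv_mem (pow_mem hv m)), inv_inv, pow_two]
        _ = v * t := by rw [hm]
  have hinverts : ∀ u : G, u * x * u⁻¹ = x⁻¹ → ∃ v ∈ (P : Subgroup G), u = v * t := by
    intro u hu
    refine ⟨u * t, ?_, by rw [mul_assoc, ← pow_two, ht2, mul_one]⟩
    rw [← hCx, Subgroup.mem_centralizer_singleton_iff]
    have h1 : t * x * t⁻¹ = x⁻¹ := hinvx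
    have h2 : u * x⁻¹ * u⁻¹ = x := by rw [← conj_inv, hu, inv_inv]
    have h3 : u * t * x * (u * t)⁻¹ = x := by
      calc u * t * x * (u * t)⁻¹ = u * (t * x * t⁻¹) * u⁻¹ := by group
        _ = x := by rw [h1, h2]
    exact mul_inv_eq_iff_eq_mul.1 h3
  have hsq : ∀ u : G, IsConj t u → u ^ 2 = 1 := by
    intro u hu
    obtain ⟨c, rfl⟩ := isConj_iff.1 hu
    rw [conj_pow, ht2, mul_one, mul_inv_cancel]
  have hfirst : ∀ u w : G, u ^ 2 = 1 → w ^ 2 = 1 → u * w = x → u * x * u⁻¹ = x⁻¹ := by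
    intro u w hu hw huw
    have hwi : w⁻¹ = w := inv_eq_of_mul_eq_one_right (by rw [← pow_two, hw])
    have hui : u⁻¹ = u := inv_eq_of_mul_eq_one_right (by rw [← pow_two, hu])
    rw [← huw, mul_inv_rev, hwi, hui, ← mul_assoc u u w, ← pow_two, hu, one_mul]
  refine ⟨t, x, hx, hx1, ht, hinv, ?_, fun u hu hnc => ?_, ?_, fun h4 => ?_⟩
  · haveI : Fintype (P : Subgroup G) := Fintype.ofFinite _
    conv_rhs => rw [← hP, Nat.card_eq_fintype_card, ← Finset.card_univ]
    refine (Finset.card_bij (s := (Finset.univ : Finset (P : Subgroup G)))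
      (fun v _ => ((v : G) * t, (v : G) * t * x)) ?_ ?_ ?_).symm
    · intro v _
      obtain ⟨h1, h2⟩ := hPt v v.2
      obtain ⟨h3, h4⟩ := hPt ((v : G) * x⁻¹) (mul_mem v.2 (inv_mem hx))
      have h5 : (v : G) * t * x = (v : G) * x⁻¹ * t := by
        rw [← hinvx]
        group
      rw [Finset.mem_filter, Finset.mem_product, Char.mem_classFinset, Char.mem_classFinset]
      refine ⟨⟨h2, h5 ▸ h4⟩, ?_⟩
      show (v : G) * t * ((v : G) * t * x) = x
      rw [← mul_assoc, ← pow_two, h1, one_mul]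
    · intro v _ w _ h
      exact Subtype.ext (mul_right_cancel (congrArg Prod.fst h))
    · rintro ⟨u, w⟩ h
      rw [Finset.mem_filter, Finset.mem_product, Char.mem_classFinset, Char.mem_classFinset] at h
      obtain ⟨⟨hu, hw⟩, huw⟩ := h
      obtain ⟨v, hv, rfl⟩ := hinverts u (hfirst u w (hsq u hu) (hsq w hw) huw)
      refine ⟨⟨v, hv⟩, Finset.mem_univ _, ?_⟩
      refine Prod.ext rfl ?_
      show v * t * x = w
      have huw : v * t * w = x := huw
      rw [← huw, ← mul_assoc, ← pow_two, (hPt v hv).1, one_mul]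
  · rw [Finset.card_eq_zero, Finset.filter_eq_empty_iff]
    rintro ⟨u', w⟩ h huw
    rw [Finset.mem_product, Char.mem_classFinset, Char.mem_classFinset] at h
    obtain ⟨hu', hw⟩ := h
    have hw2 : w ^ 2 = 1 := by
      obtain ⟨c, rfl⟩ := isConj_iff.1 hw
      rw [conj_pow, hu, mul_one, mul_inv_cancel]
    have huw : u' * w = x := huw
    have h1 := hfirst u' w (hsq u' hu') hw2 huw
    have h2 : w * x * w⁻¹ = x⁻¹ := by
      have hwi : w⁻¹ = w := inv_eq_of_mul_eq_one_right (by rw [← pow_two, hw2])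
      have hui : u'⁻¹ = u' := inv_eq_of_mul_eq_one_right (by rw [← pow_two, hsq u' hu'])
      rw [← huw, mul_inv_rev, hwi, hui, mul_assoc, mul_assoc, ← pow_two, hw2, mul_one]
    obtain ⟨v, hv, rfl⟩ := hinverts w h2
    exact hnc ((hPt v hv).2.trans hw.symm)
  · intro hd
    obtain ⟨⟨y, hy⟩, hyo⟩ := exists_prime_orderOf_dvd_card'
      (G := Subgroup.centralizer ({t} : Set G)) p hd
    rw [Subgroup.orderOf_mk] at hyo
    obtain ⟨Q, hQ⟩ := exists_sylow_eq_zpowers (G := G) (fun Q => by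
      rw [Q.card_eq_multiplicity, ← P.card_eq_multiplicity, hP]) hyo
    obtain ⟨g, hg⟩ := MulAction.exists_smul_eq G Q P
    have hgy : g * y * g⁻¹ ∈ (P : Subgroup G) := by
      rw [← hg]
      exact Subgroup.smul_mem_pointwise_smul y (MulAut.conj g) _ (hQ ▸ Subgroup.mem_zpowers y)
    have hy1 : g * y * g⁻¹ ≠ 1 := fun h => hpp.ne_one (by
      rw [← hyo, conj_eq_one_iff.1 h, orderOf_one])
    have h3 : g * t * g⁻¹ ∈ (P : Subgroup G) := by
      rw [← hCP, ← zpowers_eq_of_prime_card hP hgy hy1, centralizer_zpowers,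
        Subgroup.mem_centralizer_singleton_iff, conj_mul, conj_mul,
        ← Subgroup.mem_centralizer_singleton_iff.1 hy]
    have h4 : (2 : ℕ) ∣ p := by
      rw [← ht]
      have := (Subgroup.orderOf_dvd_natCard _ h3).trans hP.dvd
      rwa [show orderOf (g * t * g⁻¹) = orderOf t from (MulAut.conj g).orderOf_eq t] at this
    exact hodd ((Nat.prime_dvd_prime_iff_eq Nat.prime_two hpp).1 h4).symm
  · haveI := Fact.mk Nat.prime_two
    obtain ⟨S, hS⟩ := (IsPGroup.of_card (p := 2) (n := 1) (G := Subgroup.zpowers (⟨t, htN⟩ : N))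
      (by rw [Nat.card_zpowers, Subgroup.orderOf_mk, ht, pow_one])).exists_le_sylow
    have hd4 : (2 : ℕ) ^ 2 ∣ Nat.card (S : Subgroup N) :=
      S.pow_dvd_card_of_pow_dvd_card (hNcard ▸ dvd_mul_of_dvd_right h4 p)
    haveI : IsCyclic (P : Subgroup G) := isCyclic_of_prime_card hP
    let φ : N →* (ZMod (Nat.card (P : Subgroup G)))ˣ :=
      (IsCyclic.mulAutMulEquiv (P : Subgroup G)).toMonoidHom.comp
        (P : Subgroup G).normalizerMonoidHom
    have hab : ∀ a ∈ (S : Subgroup N), ∀ b ∈ (S : Subgroup N), a * b = b * a := by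
      intro a ha b hb
      have h1 : φ (a * b * a⁻¹ * b⁻¹) = 1 := by
        rw [map_mul, map_mul, map_mul, map_inv, map_inv, mul_comm (φ a) (φ b), mul_inv_cancel_right,
          mul_inv_cancel]
      have h2 : a * b * a⁻¹ * b⁻¹ ∈ (P : Subgroup G).normalizerMonoidHom.ker := by
        rw [MonoidHom.mem_ker]
        exact (IsCyclic.mulAutMulEquiv (P : Subgroup G)).injective (h1.trans (map_one _).symm)
      rw [Subgroup.normalizerMonoidHom_ker, Subgroup.mem_subgroupOf, hCP] at h2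
      have h5 : a * b * a⁻¹ * b⁻¹ ∈ (S : Subgroup N) :=
        mul_mem (mul_mem (mul_mem ha hb) (inv_mem ha)) (inv_mem hb)
      obtain ⟨k, hk⟩ := IsPGroup.iff_orderOf.mp S.2 ⟨_, h5⟩
      rw [Subgroup.orderOf_mk] at hk
      have h6 : orderOf (a * b * a⁻¹ * b⁻¹) ∣ p := by
        rw [← Subgroup.orderOf_coe]; exact (Subgroup.orderOf_dvd_natCard _ h2).trans hP.dvd
      have h7 : orderOf (a * b * a⁻¹ * b⁻¹) = 1 := Nat.eq_one_of_dvd_coprimes
        (((Nat.coprime_primes Nat.prime_two hpp).2 (Ne.symm hodd)).pow_left k) (hk ▸ dvd_rfl) h6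
      rw [orderOf_eq_one_iff, mul_inv_eq_one, mul_inv_eq_iff_eq_mul] at h7
      exact h7
    have hle : (S : Subgroup N).map N.subtype ≤ Subgroup.centralizer ({t} : Set G) := by
      rintro _ ⟨s, hs, rfl⟩
      exact Subgroup.mem_centralizer_singleton_iff.2 (congrArg Subtype.val
        (hab s hs _ (hS (Subgroup.mem_zpowers _))))
    have := Subgroup.card_dvd_of_le hle
    rw [Subgroup.card_map_of_injective N.subtype_injective] at this
    exact (dvd_trans (by norm_num) hd4).trans this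

/-- The class formula with integral values. -/
theorem Shape.formula_int [DecidableEq G] {P : Sylow p G} {e : ℕ} (S : Shape P e)
    (hC : Nat.card (Subgroup.centralizer ((P : Subgroup G) : Set G)) = p) {a b x : G}
    (ha : ¬ p ∣ orderOf a) (hb : ¬ p ∣ orderOf b) (hx : x ∈ (P : Subgroup G)) (hx1 : x ≠ 1) :
    (((Char.classFinset a ×ˢ Char.classFinset b).filter fun q => q.1 * q.2 = x).card : ℂ) *
        (Nat.card (Subgroup.centralizer ({a} : Set G)) : ℂ) *
        (Nat.card (Subgroup.centralizer ({b} : Set G)) : ℂ) =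
      (Nat.card G : ℂ) * ∑ χ ∈ S.Z, (S.σ χ : ℂ) * ((χ : G → ℂ) a * (χ : G → ℂ) b / (χ : G → ℂ) 1) := by
  have hcl : ∀ g : G, ((Char.classFinset g).card : ℂ) *
      (Nat.card (Subgroup.centralizer ({g} : Set G)) : ℂ) = (Nat.card G : ℂ) := fun g => by
    rw [Char.card_classFinset, ← Nat.cast_mul, mul_comm, Subgroup.card_mul_index]
  have hG : (Nat.card G : ℂ) ≠ 0 := Nat.cast_ne_zero.2 Nat.card_pos.ne'
  rw [S.formula hC ha hb hx hx1]
  generalize (∑ χ ∈ S.Z, (S.σ χ : ℂ) * ((χ : G → ℂ) a * (χ : G → ℂ) b / (χ : G → ℂ) 1)) = T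
  calc _ = ((Char.classFinset a).card : ℂ) * (Nat.card (Subgroup.centralizer ({a} : Set G)) : ℂ) *
        (((Char.classFinset b).card : ℂ) * (Nat.card (Subgroup.centralizer ({b} : Set G)) : ℂ)) /
        (Nat.card G : ℂ) * T := by ring
    _ = _ := by rw [hcl a, hcl b, mul_div_assoc, div_self hG, mul_one]

end Cfsg.Lib.Small
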