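import Cfsg.Agent.Lib.Char.InvolutionSum
import Cfsg.Agent.Lib.Char.Central
import Cfsg.Agent.Lib.Char.Linear
import Cfsg.Agent.S0111
import Mathlib.GroupTheory.SpecificGroups.Dihedral

/-!
# An involution with dihedral centralizer of order eight
-/

set_option autoImplicit false
set_option linter.style.haveILetI false
set_option linter.unusedSectionVars false

namespace Cfsg.Lib.Small.CentralizerD8

open Subgroup Cfsg Cfsg.Lib.Char
open scoped ComplexConjugate commutatorElement
open DihedralGroup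

universe u

variable {G : Type u} [Group G] {t : G} (e : centralizer ({t} : Set G) ≃* DihedralGroup 4)
include e

/-- The centralizer as the image of the dihedral group. -/
def emb : DihedralGroup 4 →* G := (centralizer ({t} : Set G)).subtype.comp e.symm.toMonoidHom

theorem emb_injective : Function.Injective (emb e) :=
  (centralizer ({t} : Set G)).subtype_injective.comp e.symm.injective

theorem emb_commute (d : DihedralGroup 4) : emb e d * t = t * emb e d :=
  mem_centralizer_singleton_iff.mp (e.symm d).2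

theorem exists_emb {x : G} (hx : x * t = t * x) : ∃ d, emb e d = x :=
  ⟨e ⟨x, mem_centralizer_singleton_iff.mpr hx⟩, by simp [emb]⟩

theorem emb_r_two (ht : orderOf t = 2) : emb e (r 2) = t := by
  obtain ⟨d, hd⟩ := exists_emb e (x := t) rfl
  have hne : d ≠ 1 := fun h => by rw [h, map_one] at hd; rw [← hd, orderOf_one] at ht; omega
  have hc : ∀ x, x * d = d * x := fun x => emb_injective e (by
    rw [map_mul, map_mul, hd]; exact emb_commute e x)
  have key : ∀ d : DihedralGroup 4, (∀ x, x * d = d * x) → d ≠ 1 → d = r 2 := by decide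
  rw [← key d hc hne, hd]

theorem commute_t_of_commute_r (ht : orderOf t = 2) {x : G}
    (hx : x * emb e (r 1) * x⁻¹ = emb e (r 1) ∨ x * emb e (r 1) * x⁻¹ = (emb e (r 1))⁻¹) :
    x * t = t * x := by
  have h2 : emb e (r 1) * emb e (r 1) = t := (map_mul (emb e) _ _).symm.trans (emb_r_two e ht)
  have h3 : t⁻¹ = t := inv_eq_of_mul_eq_one_right (by rw [← sq, ← ht, pow_orderOf_eq_one])
  have : x * t * x⁻¹ = t := by
    rw [← h2, show x * (emb e (r 1) * emb e (r 1)) * x⁻¹ = x * emb e (r 1) * x⁻¹ * (x * emb e (r 1) * x⁻¹) by group]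
    rcases hx with h | h <;> rw [h]
    rw [← mul_inv_rev, h2, h3]
  exact mul_inv_eq_iff_eq_mul.mp this

theorem card_centralizer_t : Nat.card (centralizer ({t} : Set G)) = 8 := by
  rw [Nat.card_congr e.toEquiv, DihedralGroup.nat_card]

theorem card_centralizer_r (ht : orderOf t = 2) :
    Nat.card (centralizer ({emb e (r 1)} : Set G)) = 4 := by
  classical
  have hbij : Function.Bijective (fun k : {d : DihedralGroup 4 // d * r 1 = r 1 * d} =>
      (⟨emb e k.1, mem_centralizer_singleton_iff.mpr (by rw [← map_mul, ← map_mul, k.2])⟩ :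
        centralizer ({emb e (r 1)} : Set G))) := by
    refine ⟨fun a b h => Subtype.ext (emb_injective e (show emb e a.1 = emb e b.1 from congrArg (fun z : centralizer ({emb e (r 1)} : Set G) => (z : G)) h)), ?_⟩
    rintro ⟨x, hx⟩
    have hx' := mem_centralizer_singleton_iff.mp hx
    obtain ⟨d, rfl⟩ := exists_emb e (commute_t_of_commute_r e ht (x := x)
      (Or.inl (by rw [hx', mul_inv_cancel_right])))
    exact ⟨⟨d, emb_injective e (by rw [map_mul, map_mul, hx'])⟩, rfl⟩
  rw [← Nat.card_eq_of_bijective _ hbij, Nat.card_eq_fintype_card]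
  rfl

/-- The centralizer is a Sylow subgroup. -/
theorem exists_sylow_eq [Finite G] (ht : orderOf t = 2) :
    ∃ S : Sylow 2 G, (S : Subgroup G) = centralizer ({t} : Set G) := by
  haveI : Fact (Nat.Prime 2) := ⟨Nat.prime_two⟩
  obtain ⟨S, hS⟩ := (IsPGroup.of_card (n := 3) (by rw [card_centralizer_t e]; rfl) :
    IsPGroup 2 (centralizer ({t} : Set G))).exists_le_sylow
  refine ⟨S, le_antisymm ?_ hS⟩
  haveI : Nontrivial ↥(S : Subgroup G) := by
    refine ⟨⟨t, hS (mem_centralizer_singleton_iff.mpr rfl)⟩, 1, fun h => ?_⟩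
    have h' : t = 1 := congrArg Subtype.val h
    rw [h', orderOf_one] at ht; omega
  haveI := S.isPGroup'.center_nontrivial
  obtain ⟨z, hz⟩ := exists_ne (1 : center ↥(S : Subgroup G))
  have hzc : ∀ x ∈ (S : Subgroup G), x * (z : G) = (z : G) * x := fun x hx =>
    congrArg Subtype.val (mem_center_iff.mp z.2 ⟨x, hx⟩)
  obtain ⟨d, hd⟩ := exists_emb e (x := (z : G))
    (hzc t (hS (mem_centralizer_singleton_iff.mpr rfl))).symm
  have key : ∀ d : DihedralGroup 4, (∀ x, x * d = d * x) → d ≠ 1 → d = r 2 := by decide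
  have hd1 : d ≠ 1 := fun h => hz (by
    rw [h, map_one] at hd
    exact Subtype.ext (Subtype.ext hd.symm))
  have hdc : ∀ x, x * d = d * x := fun x => emb_injective e (by
    rw [map_mul, map_mul, hd]; exact hzc _ (hS (e.symm x).2))
  have hzt : (z : G) = t := by rw [← hd, key d hdc hd1, emb_r_two e ht]
  intro x hx
  rw [mem_centralizer_singleton_iff, ← hzt]
  exact hzc x hx

/-- Without a subgroup of index two all involutions are conjugate. -/
theorem one_class [Finite G] (ht : orderOf t = 2) (h2 : ∀ M : Subgroup G, M.Normal → M.index ≠ 2)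
    {x : G} (hx : orderOf x = 2) : IsConj x t := by
  haveI : Fact (Nat.Prime 2) := ⟨Nat.prime_two⟩
  obtain ⟨S, hS⟩ := exists_sylow_eq e ht
  obtain ⟨Q, hQ⟩ := (IsPGroup.of_card (n := 1) (by rw [Nat.card_zpowers, hx, pow_one]) :
    IsPGroup 2 (zpowers x)).exists_le_sylow
  obtain ⟨g, hg⟩ := MulAction.exists_smul_eq G Q S
  have hmem : g * x * g⁻¹ ∈ (S : Subgroup G) := by
    rw [← hg]
    exact smul_mem_pointwise_smul x (MulAut.conj g) _ (hQ (mem_zpowers x))
  refine (isConj_iff.mpr ⟨g, rfl⟩ : IsConj x (g * x * g⁻¹)).trans ?_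
  have hy : orderOf (g * x * g⁻¹) = 2 := by rw [← MulAut.conj_apply, MulEquiv.orderOf_eq, hx]
  generalize g * x * g⁻¹ = y at hmem hy
  rw [hS] at hmem
  obtain ⟨d, hd⟩ := exists_emb e (mem_centralizer_singleton_iff.mp hmem)
  have hdo : orderOf d = 2 := by rw [← orderOf_injective _ (emb_injective e), hd, hy]
  have hdd : d * d = 1 := by rw [← sq, ← hdo, pow_orderOf_eq_one]
  set Q' := (zpowers (r 1 : DihedralGroup 4)).map (emb e) with hQ'
  have hQS : Q' ≤ (S : Subgroup G) := by
    rw [hS]; rintro _ ⟨a, -, rfl⟩; exact (e.symm a).2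
  have hrange : (⊤ : Subgroup (DihedralGroup 4)).map (emb e) = (S : Subgroup G) := by
    rw [hS]
    refine le_antisymm (by rintro _ ⟨a, -, rfl⟩; exact (e.symm a).2) fun a ha => ?_
    obtain ⟨c, rfl⟩ := exists_emb e (mem_centralizer_singleton_iff.mp ha)
    exact mem_map_of_mem _ (mem_top c)
  have hidx : Q'.relIndex (S : Subgroup G) = 2 := by
    rw [hQ', ← hrange, relIndex_map_map_of_injective _ _ (emb_injective e), relIndex_top_right]
    have h := (zpowers (r 1 : DihedralGroup 4)).card_mul_index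
    rw [Nat.card_zpowers, DihedralGroup.orderOf_r_one, DihedralGroup.nat_card] at h
    omega
  have key : ∀ d : DihedralGroup 4, d * d = 1 → d ≠ 1 → d = r 2 ∨ d = sr 0 ∨ d = sr 1 ∨ d = sr 2 ∨ d = sr 3 := by
    decide
  by_cases hdQ : d ∈ zpowers (r 1 : DihedralGroup 4)
  · obtain ⟨k, rfl⟩ := hdQ
    beta_reduce at hd
    simp only [r_one_zpow] at hdd hdo
    rcases key _ hdd (fun h => by rw [h, orderOf_one] at hdo; omega) with h | h | h | h | h
    · rw [show (r 1 : DihedralGroup 4) ^ k = r 2 from (r_one_zpow k).trans h, emb_r_two e ht] at hd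
      rw [← hd]
    all_goals cases h
  · rcases Cfsg.Agent.S0111.result S Q' hQS hidx y hy (hS ▸ hmem) (fun h => hdQ (by
      obtain ⟨a, ha, hae⟩ := h
      rwa [emb_injective e (hae.trans hd.symm)] at ha)) with ⟨M, hM, hMi, -⟩ | ⟨k, a, ha, hae⟩
    · exact absurd hMi (h2 M hM)
    · refine (isConj_iff.mpr ⟨k, rfl⟩ : IsConj y (k * y * k⁻¹)).trans ?_
      have hao : orderOf a = 2 := by
        rw [← orderOf_injective _ (emb_injective e), hae, ← MulAut.conj_apply, MulEquiv.orderOf_eq, hy]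
      obtain ⟨i, rfl⟩ := ha
      simp only [r_one_zpow] at hao hae
      have key2 : ∀ i : ZMod 4, r i * r i = (1 : DihedralGroup 4) → r i ≠ (1 : DihedralGroup 4) → i = 2 := by decide
      have hi := key2 _ (by rw [← sq, ← hao, pow_orderOf_eq_one]) (fun h => by rw [h, orderOf_one] at hao; omega)
      rw [hi, emb_r_two e ht] at hae
      rw [← hae]

omit e in
/-- A character summed over the image of a finite group is a multiple of its order. -/
theorem exists_sum_eq [Finite G] {χ : G → ℂ} (hχ : IsCharacter G χ) {A : Type u} [Group A] [Fintype A]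
    (f : A →* G) : ∃ n : ℕ, ∑ a, χ (f a) = (Fintype.card A : ℂ) * n := by
  obtain ⟨n, hn⟩ := (hχ.comp f).exists_nat_classInner (isCharacter_one (G := A))
  refine ⟨n, ?_⟩
  rw [classInner_one_right, inv_mul_eq_iff_eq_mul₀ card_cast_ne_zero] at hn
  rw [hn, Nat.card_eq_fintype_card]

/-- A character summed over a finite set of elements forming a subgroup. -/
theorem exists_sum_dihedral [Finite G] {χ : G → ℂ} (hχ : IsCharacter G χ) (P : DihedralGroup 4 → Prop)
    [DecidablePred P] (h1 : P 1) (hm : ∀ a b, P a → P b → P (a * b)) (hi : ∀ a, P a → P a⁻¹) :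
    ∃ n : ℕ, ∑ d ∈ Finset.univ.filter P, χ (emb e d) = ((Finset.univ.filter P).card : ℂ) * n := by
  classical
  let K : Subgroup (DihedralGroup 4) :=
    { carrier := {d | P d}, one_mem' := h1, mul_mem' := fun {a b} => hm a b, inv_mem' := fun {a} => hi a }
  let A := ULift.{u} K
  haveI : Fintype K := Fintype.ofFinite K
  let up : A ≃* K := MulEquiv.ulift
  obtain ⟨n, hn⟩ := exists_sum_eq hχ ((emb e).comp (K.subtype.comp up.toMonoidHom))
  refine ⟨n, ?_⟩
  have hcard : Fintype.card A = (Finset.univ.filter P).card := by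
    rw [Fintype.card_congr up.toEquiv]
    exact Fintype.card_of_subtype _ (fun d => by simp [K])
  rw [← hcard, ← hn, Finset.sum_subtype (p := (· ∈ K)) (Finset.univ.filter P) (fun d => by simp [K])]
  exact (Fintype.sum_equiv up.toEquiv _ _ fun a => rfl).symm

/-- The values of an irreducible character on the identity, `t` and the element of order four. -/
theorem values [Finite G] (ht : orderOf t = 2) (hcl : ∀ x : G, orderOf x = 2 → IsConj x t)
    {χ : G → ℂ} (hχ : IsIrrCharacter G χ) :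
    ∃ (d : ℕ) (x ε : ℤ), 0 < d ∧ χ 1 = d ∧ χ t = x ∧ χ (emb e (r 1)) = ε ∧
      (Odd ε → Odd x) ∧ (8 : ℤ) ∣ (d : ℤ) + 5 * x + 2 * ε := by
  classical
  obtain ⟨d, hd0, hd⟩ := hχ.exists_degree
  have hc : ∀ {a b : G}, IsConj a b → χ a = χ b := fun {a b} h => by
    obtain ⟨c, rfl⟩ := isConj_iff.mp h
    rw [hχ.isClassFunction]
  have hsr : ∀ i : ZMod 4, χ (emb e (sr i)) = χ t := fun i => hc (hcl _ (by
    rw [orderOf_injective _ (emb_injective e), DihedralGroup.orderOf_sr]))
  have h3 : χ (emb e (r 3)) = χ (emb e (r 1)) := hc (isConj_iff.mpr ⟨emb e (sr 0), by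
    rw [← map_inv, ← map_mul, ← map_mul]; exact congrArg (emb e) (by decide)⟩)
  have h1 : χ (emb e (r 0)) = d := by rw [DihedralGroup.r_zero, map_one, hd]
  have htt : χ (emb e (r 2)) = χ t := by rw [emb_r_two e ht]
  obtain ⟨a, ha⟩ := exists_sum_dihedral e hχ.isCharacter
    (fun d => d = r 0 ∨ d = r 1 ∨ d = r 2 ∨ d = r 3) (by decide) (by decide) (by decide)
  obtain ⟨b, hb⟩ := exists_sum_dihedral e hχ.isCharacter
    (fun d => d = r 0 ∨ d = r 2 ∨ d = sr 0 ∨ d = sr 2) (by decide) (by decide) (by decide)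
  obtain ⟨c, hcc⟩ := exists_sum_dihedral e hχ.isCharacter
    (fun d => d = r 0 ∨ d = r 2) (by decide) (by decide) (by decide)
  obtain ⟨n, hn⟩ := exists_sum_dihedral e hχ.isCharacter (fun _ => True) trivial (by decide) (by decide)
  rw [show Finset.univ.filter (fun d : DihedralGroup 4 => d = r 0 ∨ d = r 1 ∨ d = r 2 ∨ d = r 3) =
      {r 0, r 1, r 2, r 3} by decide] at ha
  rw [show Finset.univ.filter (fun d : DihedralGroup 4 => d = r 0 ∨ d = r 2 ∨ d = sr 0 ∨ d = sr 2) =
      {r 0, r 2, sr 0, sr 2} by decide] at hb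
  rw [show Finset.univ.filter (fun d : DihedralGroup 4 => d = r 0 ∨ d = r 2) = {r 0, r 2} by decide] at hcc
  rw [show Finset.univ.filter (fun _ : DihedralGroup 4 => True) =
      {r 0, r 1, r 2, r 3, sr 0, sr 1, sr 2, sr 3} by decide] at hn
  simp (decide := true) only [Finset.sum_insert, Finset.sum_singleton, Finset.mem_insert, Finset.mem_singleton,
    Finset.card_insert_of_notMem, Finset.card_singleton, h1, htt, h3, hsr, not_false_eq_true] at ha hb hcc hn
  push_cast at ha hb hcc hn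
  set x : ℤ := 2 * c - d with hx
  have hxv : χ t = (x : ℂ) := by rw [hx]; push_cast; linear_combination hcc
  obtain ⟨ε, hε⟩ := exists_int_of_isIntegral_rat (q := ((4 * a - d - x : ℤ) : ℚ) / 2) (by
    have hval : χ (emb e (r 1)) = ((((4 * a - d - x : ℤ) : ℚ) / 2 : ℚ) : ℂ) := by
      push_cast
      linear_combination ha / 2 - hxv / 2
    rw [← hval]; exact hχ.isCharacter.isIntegral _)
  have hεv : χ (emb e (r 1)) = (ε : ℂ) := by
    have hq : ((4 * a - d - x : ℤ) : ℚ) = 2 * ε := by rw [← hε]; ring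
    have hz : (4 * a - d - x : ℤ) = 2 * ε := by exact_mod_cast hq
    have hz' : (4 * (a : ℂ) - d - x) = 2 * (ε : ℂ) := by exact_mod_cast hz
    linear_combination ha / 2 - hxv / 2 + hz' / 2
  rw [hxv, hεv] at ha hn
  rw [hxv] at hb
  have Ea : (d : ℤ) + 2 * ε + x = 4 * a := by
    have : ((d : ℂ) + 2 * ε + x) = 4 * a := by linear_combination ha
    exact_mod_cast this
  have Eb : (d : ℤ) + 3 * x = 4 * b := by
    have : ((d : ℂ) + 3 * x) = 4 * b := by linear_combination hb
    exact_mod_cast this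
  have En : (d : ℤ) + 5 * x + 2 * ε = 8 * n := by
    have : ((d : ℂ) + 5 * x + 2 * ε) = 8 * n := by linear_combination hn
    exact_mod_cast this
  refine ⟨d, x, ε, hd0, hd, hxv, hεv, fun ho => ?_, ⟨n, En⟩⟩
  rw [Int.odd_iff] at ho ⊢
  omega

omit e in
theorem arith {N : ℕ} {a b c : ℤ} (ha : a % 8 = 1) (ha1 : a ≠ 1) (hb : b % 8 = 3) (hc : c % 8 = 3)
    (hsum : 1 + a + b + c = 0) (hsq : 1 + a ^ 2 + b ^ 2 + c ^ 2 ≤ (N : ℤ))
    (hN : (N : ℚ) * (1 + 1 / (a : ℚ) + 1 / (b : ℚ) + 1 / (c : ℚ)) = 256) : N = 168 ∨ N = 360 := by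
  have h5 : ∀ z : ℤ, z % 8 = 3 → -(1 / 5 : ℚ) ≤ 1 / (z : ℚ) := by
    intro z hz
    rcases le_or_gt 0 z with h | h
    · exact le_trans (by norm_num) (one_div_nonneg.mpr (by exact_mod_cast h : (0 : ℚ) ≤ z))
    · have h' : z ≤ -5 := by omega
      rw [show -(1 / 5 : ℚ) = 1 / (-5) by norm_num]
      exact one_div_le_one_div_of_neg_of_le (by norm_num) (by exact_mod_cast h')
  have h7 : -(1 / 7 : ℚ) ≤ 1 / (a : ℚ) := by
    rcases le_or_gt 0 a with h | h
    · exact le_trans (by norm_num) (one_div_nonneg.mpr (by exact_mod_cast h : (0 : ℚ) ≤ a))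
    · have h' : a ≤ -7 := by omega
      rw [show -(1 / 7 : ℚ) = 1 / (-7) by norm_num]
      exact one_div_le_one_div_of_neg_of_le (by norm_num) (by exact_mod_cast h')
  have hb5 := h5 b hb
  have hc5 := h5 c hc
  have hN0 : (0 : ℚ) ≤ N := Nat.cast_nonneg N
  have hS : (16 / 35 : ℚ) ≤ 1 + 1 / (a : ℚ) + 1 / (b : ℚ) + 1 / (c : ℚ) := by linarith
  have hle : (N : ℚ) ≤ 560 := by nlinarith [mul_le_mul_of_nonneg_left hS hN0]
  have hle' : (N : ℤ) ≤ 560 := by exact_mod_cast hle
  have hb1 : -23 ≤ a ∧ a ≤ 23 := by constructor <;> nlinarith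
  have hb2 : -23 ≤ b ∧ b ≤ 23 := by constructor <;> nlinarith
  have hb3 : -23 ≤ c ∧ c ≤ 23 := by constructor <;> nlinarith
  have ha0 : (a : ℚ) ≠ 0 := by exact_mod_cast (show a ≠ 0 by omega)
  have hb0 : (b : ℚ) ≠ 0 := by exact_mod_cast (show b ≠ 0 by omega)
  have hc0 : (c : ℚ) ≠ 0 := by exact_mod_cast (show c ≠ 0 by omega)
  have hZ : (N : ℤ) * (a * b * c + b * c + a * c + a * b) = 256 * (a * b * c) := by
    have : (N : ℚ) * ((a : ℚ) * b * c + b * c + a * c + a * b) = 256 * ((a : ℚ) * b * c) := by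
      rw [← hN]; field_simp
    exact_mod_cast this
  obtain ⟨hal, hau⟩ := hb1
  obtain ⟨hbl, hbu⟩ := hb2
  have hA : a = -23 ∨ a = -15 ∨ a = -7 ∨ a = 9 ∨ a = 17 := by omega
  have hB : b = -21 ∨ b = -13 ∨ b = -5 ∨ b = 3 ∨ b = 11 ∨ b = 19 := by omega
  have hC : c = -(1 + a + b) := by omega
  subst hC
  rcases hA with rfl | rfl | rfl | rfl | rfl <;> rcases hB with rfl | rfl | rfl | rfl | rfl | rfl <;>
    omega

/-- A perfect group with such an involution has order 168 or 360. -/
theorem card_eq [Finite G] (hperf : commutator G = ⊤) (ht : orderOf t = 2) :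
    Nat.card G = 168 ∨ Nat.card G = 360 := by
  classical
  haveI := Fintype.ofFinite G
  have h2 : ∀ M : Subgroup G, M.Normal → M.index ≠ 2 := by
    intro M hM hi
    haveI := hM
    haveI : Fact (Nat.Prime 2) := ⟨Nat.prime_two⟩
    haveI : IsCyclic (G ⧸ M) := isCyclic_of_prime_card (p := 2) hi
    have hle : commutator G ≤ M := by
      rw [← QuotientGroup.ker_mk' M, commutator_eq_closure, closure_le]
      rintro _ ⟨a, b, rfl⟩
      show QuotientGroup.mk' M ⁅a, b⁆ = 1
      rw [map_commutatorElement, commutatorElement_eq_one_iff_commute]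
      exact IsMulCommutative.is_comm.comm _ _
    rw [hperf, top_le_iff] at hle
    rw [hle, index_top] at hi; omega
  have hcl : ∀ x : G, orderOf x = 2 → IsConj x t := fun x hx => one_class e ht h2 hx
  set ρ := emb e (r 1) with hρ
  have hρo : orderOf ρ = 4 := by rw [hρ, orderOf_injective _ (emb_injective e), DihedralGroup.orderOf_r_one]
  -- real values
  choose D X E hD0 hD hX hE hpar h8 using fun χ : IrrCharacter G => values e ht hcl χ.2
  have hcr : ∀ g h : G, ∀ f g' : IrrCharacter G → ℤ, (∀ χ : IrrCharacter G, (χ : G → ℂ) g = f χ) →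
      (∀ χ : IrrCharacter G, (χ : G → ℂ) h = g' χ) →
      ((∑ χ, f χ * g' χ : ℤ) : ℂ) = if IsConj g h then (Nat.card (centralizer ({g} : Set G)) : ℂ) else 0 := by
    intro g h f g' hf hg'
    rw [← column_orthogonality g h, Int.cast_sum]
    refine Finset.sum_congr rfl fun χ _ => ?_
    rw [hf, hg', map_intCast, Int.cast_mul]
  have ne1 : ∀ {a b : G}, orderOf a ≠ orderOf b → ¬ IsConj a b := fun {a b} h hc => h (by
    obtain ⟨c, rfl⟩ := isConj_iff.mp hc
    rw [← MulAut.conj_apply, MulEquiv.orderOf_eq])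
  have Crr : ∑ χ, E χ * E χ = 4 := by
    have h := hcr ρ ρ E E hE hE
    rw [if_pos (IsConj.refl _), card_centralizer_r e ht] at h
    exact_mod_cast h
  have Ctt : ∑ χ, X χ * X χ = 8 := by
    have h := hcr t t X X hX hX
    rw [if_pos (IsConj.refl _), card_centralizer_t e] at h
    exact_mod_cast h
  have Crt : ∑ χ, E χ * X χ = 0 := by
    have h := hcr ρ t E X hE hX
    rw [if_neg (ne1 (by rw [hρo, ht]; omega))] at h
    exact_mod_cast h
  have Cr1 : ∑ χ, E χ * (D χ : ℤ) = 0 := by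
    have h := hcr ρ 1 E (fun χ => (D χ : ℤ)) hE (fun χ => by rw [hD]; norm_cast)
    rw [if_neg (ne1 (by rw [hρo, orderOf_one]; omega))] at h
    exact_mod_cast h
  have C11 : ∑ χ, (D χ : ℤ) * (D χ : ℤ) = (Nat.card G : ℤ) := by
    have h := sum_sq_degree (G := G)
    simp only [hD] at h
    have h' : ((∑ χ, (D χ : ℤ) * (D χ : ℤ) : ℤ) : ℂ) = ((Nat.card G : ℤ) : ℂ) := by
      rw [Int.cast_sum, Int.cast_natCast, ← h]
      exact Finset.sum_congr rfl fun χ _ => by push_cast; ring
    exact_mod_cast h'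
  -- the count of pairs of involutions with product `ρ`
  set I := involFinset G with hIdef
  have hmemI : ∀ x, x ∈ I ↔ orderOf x = 2 := fun x => by
    rw [mem_involFinset, orderOf_eq_prime_iff (p := 2), sq, and_comm]
  have hIcard : I.card * 8 = Nat.card G := by
    have hset : (I : Set G) = MulAction.orbit (ConjAct G) t := by
      ext x
      rw [Finset.mem_coe, hmemI, ConjAct.mem_orbit_conjAct]
      exact ⟨fun h => hcl x h, fun h => by
        obtain ⟨c, hc⟩ := isConj_iff.mp h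
        rw [← MulEquiv.orderOf_eq (MulAut.conj c), MulAut.conj_apply, hc, ht]⟩
    have hst : Nat.card (MulAction.stabilizer (ConjAct G) t) = 8 := by
      rw [ConjAct.stabilizer_eq_centralizer, ← card_centralizer_t e]
      exact Nat.card_congr (Equiv.subtypeEquiv (ConjAct.ofConjAct).toEquiv fun x => by
        simp only [Subgroup.mem_centralizer_iff, Set.mem_singleton_iff, forall_eq,
          MulEquiv.toEquiv_eq_coe, EquivLike.coe_coe]
        exact ⟨fun h => congrArg ConjAct.ofConjAct h, fun h => congrArg ConjAct.toConjAct h⟩)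
    rw [← hst, ← Nat.card_coe_set_eq (I : Set G) |>.trans (Set.ncard_coe_finset I), hset, ← Nat.card_prod,
      Nat.card_congr (MulAction.orbitProdStabilizerEquivGroup (ConjAct G) t),
      Nat.card_congr (ConjAct.ofConjAct).toEquiv]
  have hcount : (I.filter fun x => ρ * x ∈ I).card = 4 := by
    have heq : (I.filter fun x => ρ * x ∈ I) =
        (Finset.univ.filter fun d : DihedralGroup 4 =>
          d * d = 1 ∧ d ≠ 1 ∧ r 1 * d * (r 1 * d) = 1 ∧ r 1 * d ≠ 1).map ⟨emb e, emb_injective e⟩ := by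
      ext x
      simp only [Finset.mem_filter, Finset.mem_map, Finset.mem_univ, true_and, Function.Embedding.coeFn_mk,
        hIdef, mem_involFinset]
      constructor
      · rintro ⟨⟨hx1, hx2⟩, hx3, hx4⟩
        have hxi : x⁻¹ = x := inv_eq_of_mul_eq_one_right hx2
        have hinv : x * ρ * x⁻¹ = ρ⁻¹ := by
          rw [hxi, ← eq_inv_of_mul_eq_one_right (show ρ * (x * ρ * x) = 1 by rw [← mul_assoc, ← mul_assoc, mul_assoc (ρ * x)]; exact hx4)]
        obtain ⟨d, rfl⟩ := exists_emb e (commute_t_of_commute_r e ht (Or.inr hinv))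
        have hi := emb_injective e
        refine ⟨d, ⟨hi (by rw [map_mul, map_one]; exact hx2), fun h => hx1 (by rw [h, map_one]),
          hi (by rw [map_mul, map_mul, map_one]; exact hx4),
          fun h => hx3 (by rw [hρ, ← map_mul, h, map_one])⟩, rfl⟩
      · rintro ⟨d, ⟨h1, h2, h3, h4⟩, rfl⟩
        refine ⟨⟨fun h => h2 (emb_injective e (h.trans (map_one _).symm)), by rw [← map_mul, h1, map_one]⟩, ?_, ?_⟩
        · rw [hρ, ← map_mul]
          exact fun h => h4 (emb_injective e (h.trans (map_one _).symm))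
        · rw [hρ, ← map_mul, ← map_mul, h3, map_one]
    rw [heq, Finset.card_map]
    rfl
  set f : G → ℂ := fun g => if g ∈ I then 1 else 0 with hf
  have hfc : IsClassFunction G f := by
    intro g k
    have : k * g * k⁻¹ ∈ I ↔ g ∈ I := by
      rw [hmemI, hmemI, ← MulAut.conj_apply, MulEquiv.orderOf_eq]
    exact if_congr this rfl rfl
  have hconst : ∀ χ : IrrCharacter G, ∀ x ∈ I, (χ : G → ℂ) x = X χ := fun χ x hx => by
    obtain ⟨c, hc⟩ := isConj_iff.mp (hcl x ((hmemI x).mp hx))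
    rw [← hX χ, ← hc, χ.2.isClassFunction]
  have hsumI : ∀ χ : IrrCharacter G, ∑ x ∈ I, (χ : G → ℂ) x = (I.card : ℂ) * X χ := fun χ => by
    rw [Finset.sum_congr rfl (hconst χ), Finset.sum_const, nsmul_eq_mul]
  have hinner : ∀ χ : IrrCharacter G, classInner f (χ : G → ℂ) = (Nat.card G : ℂ)⁻¹ * ((I.card : ℂ) * X χ) := by
    intro χ
    simp only [classInner, hf, ite_mul, one_mul, zero_mul, Finset.sum_ite_mem, Finset.univ_inter]
    congr 1
    rw [Finset.sum_congr rfl (fun x hx => by rw [hconst χ x hx, map_intCast]), Finset.sum_const,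
      nsmul_eq_mul]
  have hmain : (4 : ℂ) = ∑ χ : IrrCharacter G, (Nat.card G : ℂ)⁻¹ * ((I.card : ℂ) * X χ) *
      ((E χ : ℂ) * ((I.card : ℂ) * X χ) / (D χ : ℂ)) := by
    have h1 : ∑ x ∈ I, f (ρ * x) = 4 := by
      rw [hf, Finset.sum_boole, hcount]; norm_num
    have h2 : ∀ x, f (ρ * x) = ∑ χ : IrrCharacter G, classInner f (χ : G → ℂ) * (χ : G → ℂ) (ρ * x) := fun x => by
      conv_lhs => rw [eq_sum_classInner hfc]
      simp
    rw [← h1, Finset.sum_congr rfl fun x _ => h2 x, Finset.sum_comm]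
    refine Finset.sum_congr rfl fun χ _ => ?_
    rw [← Finset.mul_sum, sum_involFinset_char χ.2, hsumI, hinner, hE, hD]
  have hG0 : (Nat.card G : ℂ) ≠ 0 := card_cast_ne_zero
  have h256 : (256 : ℚ) = (Nat.card G : ℚ) * ∑ χ : IrrCharacter G, ((E χ : ℚ) * (X χ : ℚ) * X χ / (D χ : ℚ)) := by
    have h' : ((256 : ℚ) : ℂ) = (((Nat.card G : ℚ) * ∑ χ : IrrCharacter G, ((E χ : ℚ) * (X χ : ℚ) * X χ / (D χ : ℚ)) : ℚ) : ℂ) := by
      have hI : (I.card : ℂ) * 8 = (Nat.card G : ℂ) := by exact_mod_cast hIcard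
      push_cast
      rw [Finset.mul_sum, show (256 : ℂ) = 64 * 4 by norm_num, hmain, Finset.mul_sum]
      refine Finset.sum_congr rfl fun χ _ => ?_
      rw [← hI]
      have h0 : (I.card : ℂ) ≠ 0 := fun h => hG0 (by rw [← hI, h, zero_mul])
      have hD' : (D χ : ℂ) ≠ 0 := Nat.cast_ne_zero.mpr (hD0 χ).ne'
      field_simp
      ring
    exact_mod_cast h'
  -- the support at `ρ`
  set one : IrrCharacter G := ⟨fun _ => 1, isIrrCharacter_one⟩ with hone
  have hD1 : D one = 1 := by
    have := (hD one).symm; simp only [hone] at this; exact_mod_cast this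
  have hX1 : X one = 1 := by
    have := (hX one).symm; simp only [hone] at this; exact_mod_cast this
  have hE1 : E one = 1 := by
    have := (hE one).symm; simp only [hone] at this; exact_mod_cast this
  have hdeg : ∀ χ : IrrCharacter G, χ ≠ one → D χ ≠ 1 := by
    intro χ hne h
    obtain ⟨φ, hφ⟩ := exists_hom_of_degree_one χ.2.isCharacter (by rw [hD, h, Nat.cast_one])
    refine hne (Subtype.ext (funext fun g => ?_))
    have hk : commutator G ≤ φ.ker := by
      rw [commutator_eq_closure, closure_le]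
      rintro _ ⟨a, b, rfl⟩
      rw [SetLike.mem_coe, MonoidHom.mem_ker, map_commutatorElement, commutatorElement_eq_one_iff_commute]
      exact Commute.all _ _
    rw [hperf] at hk
    show (χ : G → ℂ) g = 1
    rw [hφ]
    simp [MonoidHom.mem_ker.mp (hk (mem_top g))]
  set T := (Finset.univ.erase one).filter (fun χ => E χ ≠ 0) with hT
  have hsplit : ∀ F : IrrCharacter G → ℚ, (∀ χ, E χ = 0 → F χ = 0) → ∑ χ, F χ = F one + ∑ χ ∈ T, F χ := by
    intro F hF
    rw [hT, ← Finset.add_sum_erase _ _ (Finset.mem_univ one)]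
    congr 1
    symm
    refine Finset.sum_filter_of_ne fun χ _ h hE0 => h (hF χ hE0)
  have hTsum : ∀ χ ∈ T, E χ * E χ = 1 := by
    intro χ hχ
    rw [hT, Finset.mem_filter, Finset.mem_erase] at hχ
    have h1 : E one * E one + E χ * E χ ≤ 4 := by
      rw [← Crr, ← Finset.sum_pair (f := fun χ => E χ * E χ) hχ.1.1.symm]
      exact Finset.sum_le_univ_sum_of_nonneg (fun i => mul_self_nonneg _)
    rw [hE1] at h1
    have hne := hχ.2
    have h4 : -1 ≤ E χ ∧ E χ ≤ 1 := by constructor <;> nlinarith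
    obtain ⟨hl, hu⟩ := h4
    rcases (show E χ = -1 ∨ E χ = 1 by omega) with h | h <;> rw [h] <;> rfl
  have hTcard : T.card = 3 := by
    have h := hsplit (fun χ => ((E χ * E χ : ℤ) : ℚ)) (fun χ h => by simp [h])
    rw [Finset.sum_congr rfl (fun χ hχ => by rw [hTsum χ hχ] : ∀ χ ∈ T, ((E χ * E χ : ℤ) : ℚ) = ((1 : ℤ) : ℚ)),
      ← Int.cast_sum, Crr, hE1, Finset.sum_const, nsmul_eq_mul] at h
    have : (T.card : ℚ) = 3 := by push_cast at h; linarith
    exact_mod_cast this
  obtain ⟨p, q, s, hpq, hps, hqs, hTeq⟩ := Finset.card_eq_three.mp hTcard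
  have hmemT : ∀ χ ∈ T, χ ≠ one ∧ E χ * E χ = 1 ∧ Odd (X χ) := fun χ hχ => by
    have h1 := hTsum χ hχ
    rw [hT, Finset.mem_filter, Finset.mem_erase] at hχ
    exact ⟨hχ.1.1, h1, hpar χ (Int.odd_mul.mp (by rw [h1]; exact odd_one)).1⟩
  have hX1T : ∀ χ ∈ T, X χ = 1 ∨ X χ = -1 := fun χ hχ => by
    obtain ⟨hne, -, hodd⟩ := hmemT χ hχ
    have h1 : X one * X one + X χ * X χ ≤ 8 := by
      rw [← Ctt, ← Finset.sum_pair (f := fun χ => X χ * X χ) hne.symm]
      exact Finset.sum_le_univ_sum_of_nonneg (fun i => mul_self_nonneg _)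
    rw [hX1] at h1
    have h4 : -2 ≤ X χ ∧ X χ ≤ 2 := by constructor <;> nlinarith
    obtain ⟨hl, hu⟩ := h4
    rw [Int.odd_iff] at hodd
    omega
  have sums : ∀ F : IrrCharacter G → ℚ, (∀ χ, E χ = 0 → F χ = 0) → ∑ χ, F χ = F one + (F p + F q + F s) := by
    intro F hF
    rw [hsplit F hF, hTeq, Finset.sum_insert (by simp [hpq, hps]), Finset.sum_pair hqs]; ring
  have S1 : 1 + E p * (D p : ℤ) + E q * (D q : ℤ) + E s * (D s : ℤ) = 0 := by
    have h := sums (fun χ => ((E χ * (D χ : ℤ) : ℤ) : ℚ)) (fun χ h => by simp [h])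
    rw [← Int.cast_sum, Cr1, hE1, hD1] at h
    have h' : (0 : ℤ) = 1 * ((1 : ℕ) : ℤ) + (E p * (D p : ℤ) + E q * (D q : ℤ) + E s * (D s : ℤ)) := by exact_mod_cast h
    omega
  have S2 : 1 + E p * X p + E q * X q + E s * X s = 0 := by
    have h := sums (fun χ => ((E χ * X χ : ℤ) : ℚ)) (fun χ h => by simp [h])
    rw [← Int.cast_sum, Crt, hE1, hX1] at h
    have h' : (0 : ℤ) = 1 * 1 + (E p * X p + E q * X q + E s * X s) := by exact_mod_cast h
    omega
  have S3 : (Nat.card G : ℚ) * (1 + 1 / ((E p * (D p : ℤ) : ℤ) : ℚ) + 1 / ((E q * (D q : ℤ) : ℤ) : ℚ) +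
      1 / ((E s * (D s : ℤ) : ℤ) : ℚ)) = 256 := by
    have key : ∀ χ ∈ T, (E χ : ℚ) * X χ * X χ / (D χ : ℚ) = 1 / ((E χ * (D χ : ℤ) : ℤ) : ℚ) := by
      intro χ hχ
      have hEE : (E χ : ℚ) * E χ = 1 := by exact_mod_cast (hmemT χ hχ).2.1
      have hE0 : (E χ : ℚ) ≠ 0 := left_ne_zero_of_mul (hEE.trans_ne one_ne_zero)
      have hD' : (D χ : ℚ) ≠ 0 := Nat.cast_ne_zero.mpr (hD0 χ).ne'
      rcases hX1T χ hχ with h | h <;> rw [h] <;> push_cast <;> field_simp <;> linear_combination hEE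
    rw [h256, sums (fun χ => (E χ : ℚ) * X χ * X χ / (D χ : ℚ)) (fun χ h => by simp [h]),
      key p (by simp [hTeq]), key q (by simp [hTeq]), key s (by simp [hTeq]), hE1, hX1, hD1]
    push_cast
    ring
  have S4 : 1 + (E p * (D p : ℤ)) ^ 2 + (E q * (D q : ℤ)) ^ 2 + (E s * (D s : ℤ)) ^ 2 ≤ (Nat.card G : ℤ) := by
    have hsq : ∀ χ ∈ T, (E χ * (D χ : ℤ)) ^ 2 = (D χ : ℤ) * (D χ : ℤ) := fun χ hχ => by
      rw [mul_pow, sq, (hmemT χ hχ).2.1, one_mul, sq]
    rw [hsq p (by simp [hTeq]), hsq q (by simp [hTeq]), hsq s (by simp [hTeq]), ← C11]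
    have hsub := Finset.sum_le_univ_sum_of_nonneg (s := insert one T)
      (f := fun χ => (D χ : ℤ) * (D χ : ℤ)) (fun i => mul_self_nonneg _)
    rw [Finset.sum_insert (fun h => (hmemT one h).1 rfl), hTeq, Finset.sum_insert (by simp [hpq, hps]),
      Finset.sum_pair hqs, hD1] at hsub
    push_cast at hsub ⊢
    linarith
  -- congruences
  have cong : ∀ χ ∈ T, (E χ * X χ = 1 → (E χ * (D χ : ℤ)) % 8 = 1 ∧ E χ * (D χ : ℤ) ≠ 1) ∧
      (E χ * X χ ≠ 1 → E χ * X χ = -1 ∧ (E χ * (D χ : ℤ)) % 8 = 3) := by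
    intro χ hχ
    obtain ⟨hne, hEE, -⟩ := hmemT χ hχ
    have h8' := h8 χ
    have hd1 := hdeg χ hne
    have hd0 := hD0 χ
    have hEv : E χ = 1 ∨ E χ = -1 := mul_self_eq_one_iff.mp hEE
    rcases hEv with hE' | hE' <;> rcases hX1T χ hχ with hX' | hX' <;> rw [hE', hX'] at h8' ⊢ <;>
      simp only [one_mul, mul_one, neg_mul, mul_neg, neg_neg, true_and] <;> omega
  obtain ⟨cp, cp'⟩ := cong p (by simp [hTeq])
  obtain ⟨cq, cq'⟩ := cong q (by simp [hTeq])
  obtain ⟨cs, cs'⟩ := cong s (by simp [hTeq])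
  by_cases h1 : E p * X p = 1
  · obtain ⟨hq1, hq3⟩ := cq' (by intro h; by_cases hh : E s * X s = 1 <;> [skip; have := (cs' hh).1] <;> omega)
    obtain ⟨hs1, hs3⟩ := cs' (by omega)
    exact arith (cp h1).1 (cp h1).2 hq3 hs3 S1 S4 S3
  · obtain ⟨hp1, hp3⟩ := cp' h1
    by_cases h3 : E q * X q = 1
    · obtain ⟨hs1, hs3⟩ := cs' (by omega)
      exact arith (cq h3).1 (cq h3).2 hp3 hs3 (by omega) (by linarith) (by linear_combination S3)
    · obtain ⟨hq1, hq3⟩ := cq' h3
      have h4 : E s * X s = 1 := by omega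
      exact arith (cs h4).1 (cs h4).2 hp3 hq3 (by omega) (by linarith) (by linear_combination S3)

end Cfsg.Lib.Small.CentralizerD8
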