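import Cfsg.Agent.Lib.Small.SimpleOrder
import Cfsg.Agent.Lib.Linear.SLBasic
import Mathlib.Topology.Compactification.OnePoint.ProjectiveLine
import Mathlib.NumberTheory.LegendreSymbol.Basic

/-!
A simple group of order `p (p² - 1) / 2` with `p + 1` Sylow `p`-subgroups is `PSL(2, p)`.
-/

set_option autoImplicit false

namespace Cfsg.Lib.Small.PSLTwoRecog

open scoped MatrixGroups OnePoint
open OnePoint Matrix

section Projective

variable (K : Type) [Field K] [DecidableEq K]

/-- The action of `SL(2, K)` on the projective line. -/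
noncomputable def mu : SL(2, K) →* Equiv.Perm (OnePoint K) :=
  (MulAction.toPermHom (GL (Fin 2) K) (OnePoint K)).comp SpecialLinearGroup.toGL

variable {K}

theorem mu_infty (A : SL(2, K)) :
    mu K A ∞ = if A.1 1 0 = 0 then ∞ else ((A.1 0 0 / A.1 1 0 : K) : OnePoint K) := by
  show SpecialLinearGroup.toGL A • (∞ : OnePoint K) = _
  rw [smul_infty_eq_ite]
  rfl

theorem mu_some (A : SL(2, K)) (x : K) :
    mu K A (x : OnePoint K) = if A.1 1 0 * x + A.1 1 1 = 0 then ∞ else
      (((A.1 0 0 * x + A.1 0 1) / (A.1 1 0 * x + A.1 1 1) : K) : OnePoint K) := by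
  show SpecialLinearGroup.toGL A • (x : OnePoint K) = _
  rw [smul_some_eq_ite]
  rfl

theorem ker_mu : (mu K).ker = Subgroup.center SL(2, K) := by
  ext A
  rw [MonoidHom.mem_ker, Matrix.SpecialLinearGroup.mem_center_iff]
  constructor
  · intro h
    have hinf := congrArg (fun σ : Equiv.Perm (OnePoint K) => σ ∞) h
    simp only [mu_infty, Equiv.Perm.one_apply] at hinf
    have h10 : A.1 1 0 = 0 := by
      by_contra hne
      rw [if_neg hne] at hinf
      exact coe_ne_infty _ hinf
    have hdet : A.1 0 0 * A.1 1 1 = 1 := by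
      have := A.2
      rw [det_fin_two, h10, mul_zero, sub_zero] at this
      exact this
    have h11 : A.1 1 1 ≠ 0 := fun h => by simp [h] at hdet
    have hval : ∀ x : K, (A.1 0 0 * x + A.1 0 1) / A.1 1 1 = x := fun x => by
      have hx := congrArg (fun σ : Equiv.Perm (OnePoint K) => σ (x : OnePoint K)) h
      simp only [mu_some, Equiv.Perm.one_apply, h10, zero_mul, zero_add, if_neg h11] at hx
      exact coe_injective hx
    have h01 : A.1 0 1 = 0 := by simpa [h11] using hval 0
    have h00 : A.1 0 0 = A.1 1 1 := by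
      have := hval 1
      rw [h01, mul_one, add_zero, div_eq_one_iff_eq h11] at this
      exact this
    refine ⟨A.1 0 0, ?_, ?_⟩
    · rw [Fintype.card_fin, sq]
      nth_rewrite 2 [h00]
      exact hdet
    · ext i j
      fin_cases i <;> fin_cases j <;> simp [h10, h01, ← h00]
  · rintro ⟨r, hr, hA⟩
    have e : ∀ i j, A.1 i j = if i = j then r else 0 := fun i j => by
      rw [← hA, Matrix.scalar_apply, Matrix.diagonal_apply]
    have hr0 : r ≠ 0 := by rintro rfl; simp at hr
    refine Equiv.ext fun x => ?_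
    cases x with
    | infty => simp [mu_infty, e]
    | coe x => simp [mu_some, e, hr0, mul_div_cancel_left₀]

end Projective

section Main

variable {p : ℕ} [hp : Fact p.Prime]

local notation "𝔽" => ZMod p

noncomputable local instance : DecidableEq (OnePoint (ZMod p)) := Classical.decEq _

/-- An injective permutation representation of a simple group with image in even permutations. -/
theorem sign_eq_one {G α : Type*} [Group G] [Finite G] [IsSimpleGroup G] [Fintype α] [DecidableEq α]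
    (hcard : 2 < Nat.card G) (ρ : G →* Equiv.Perm α) (g : G) : Equiv.Perm.sign (ρ g) = 1 := by
  rcases ((Equiv.Perm.sign.comp ρ).normal_ker).eq_bot_or_eq_top with h | h
  · exfalso
    have h1 := Nat.card_le_card_of_injective _ ((MonoidHom.ker_eq_bot_iff _).1 h)
    rw [Nat.card_eq_fintype_card (α := ℤˣ)] at h1
    simp at h1
    omega
  · exact MonoidHom.mem_ker.1 (h ▸ Subgroup.mem_top g : g ∈ (Equiv.Perm.sign.comp ρ).ker)

/-- The data of a suitably normalised representation. -/
structure Rep (G : Type*) [Group G] (p : ℕ) where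
  ρ : G →* Equiv.Perm (OnePoint (ZMod p))
  inj : Function.Injective ρ
  t : G
  t_inf : ρ t ∞ = ∞
  t_some : ∀ x : ZMod p, ρ t (x : OnePoint (ZMod p)) = ((x + 1 : ZMod p) : OnePoint (ZMod p))
  norm : ∀ g : G, ρ g ∞ = ∞ → ∃ a : ℕ, g * t * g⁻¹ = t ^ a
  card_inf : Nat.card {g : G // ρ g ∞ = ∞} = p * ((p - 1) / 2)
  move : ∃ g : G, ρ g ∞ ≠ ∞

variable {G : Type*} [Group G] [Finite G]

theorem exists_rep [IsSimpleGroup G] (hp5 : 5 ≤ p) (hG : 2 * Nat.card G = p * (p ^ 2 - 1))
    (hn : Nat.card (Sylow p G) = p + 1) : Nonempty (Rep G p) := by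
  classical
  have hodd : p % 2 = 1 := (Nat.Prime.eq_two_or_odd hp.out).resolve_left (by omega)
  obtain ⟨m, hm⟩ : ∃ m, p = 2 * m + 1 := ⟨p / 2, by omega⟩
  have hcard : Nat.card G = p ^ 1 * ((p + 1) * m) := by
    have : p ^ 2 - 1 = (p + 1) * (2 * m) := by
      rw [show 2 * m = p - 1 by omega, ← Nat.sq_sub_sq, one_pow]
    rw [this] at hG
    rw [pow_one]
    linarith
  have hpm : ¬ p ∣ (p + 1) * m := by
    intro h
    rcases hp.out.dvd_mul.1 h with h | h
    · exact hp.out.not_dvd_one ((Nat.dvd_add_right dvd_rfl).1 h)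
    · have := Nat.le_of_dvd (by omega) h; omega
  have hPc : ∀ P : Sylow p G, Nat.card (P : Subgroup G) = p := fun P => by
    rw [Small.card_sylow 1 _ hcard hpm P, pow_one]
  obtain ⟨P0⟩ : Nonempty (Sylow p G) := inferInstance
  obtain ⟨Q0, hQ0⟩ : ∃ Q0 : Sylow p G, Q0 ≠ P0 := by
    by_contra hcon
    push Not at hcon
    have : Subsingleton (Sylow p G) := ⟨fun a b => (hcon a).trans (hcon b).symm⟩
    have := Finite.card_le_one_iff_subsingleton.2 this
    omega
  obtain ⟨t, htP, ht1⟩ : ∃ t ∈ (P0 : Subgroup G), t ≠ 1 := by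
    refine (Subgroup.bot_or_exists_ne_one _).resolve_left fun h => ?_
    have := hPc P0
    rw [h, Subgroup.card_bot] at this
    omega
  have htz : Subgroup.zpowers t = (P0 : Subgroup G) := Small.zpowers_eq_of_prime_card (hPc P0) htP ht1
  have hord : orderOf t = p := by rw [← Nat.card_zpowers, htz, hPc]
  -- elements of `P0` normalizing another Sylow subgroup are trivial
  have htriv : ∀ Q : Sylow p G, Q ≠ P0 → ∀ u ∈ (P0 : Subgroup G), u • Q = Q → u = 1 := by
    intro Q hQ u hu huQ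
    by_contra hu1
    have hnorm : u ∈ Subgroup.normalizer ((Q : Subgroup G) : Set G) := Sylow.smul_eq_iff_mem_normalizer.1 huQ
    have hle : (P0 : Subgroup G) ≤ Subgroup.normalizer ((Q : Subgroup G) : Set G) := by
      rw [← Small.zpowers_eq_of_prime_card (hPc P0) hu hu1]
      exact Subgroup.zpowers_le.2 hnorm
    have hd := (IsPGroup.to_sup_of_normal_right' P0.isPGroup' Q.isPGroup' hle)
    have h1 : (P0 : Subgroup G) ⊔ (Q : Subgroup G) = (P0 : Subgroup G) := P0.is_maximal' hd le_sup_left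
    exact hQ (Sylow.ext (Subgroup.eq_of_le_of_card_ge (le_sup_right.trans h1.le) (by rw [hPc, hPc])))
  have hfix : t • P0 = P0 := Sylow.smul_eq_iff_mem_normalizer.2 (Subgroup.le_normalizer htP)
  have hpow : ∀ k : ℕ, t ^ k = t ^ (k % p) := fun k => by rw [← hord, pow_mod_orderOf]
  let f : OnePoint (ZMod p) → Sylow p G := fun x => x.elim P0 (fun i => t ^ i.val • Q0)
  have hfne : ∀ i : ℕ, t ^ i • Q0 ≠ P0 := fun i h => hQ0 (by
    rw [← inv_smul_smul (t ^ i) Q0, h, inv_smul_eq_iff]
    exact (Sylow.smul_eq_iff_mem_normalizer.2 (Subgroup.le_normalizer (pow_mem htP i))).symm)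
  have hfinj : Function.Injective f := by
    intro x y hxy
    cases x with
    | infty =>
      cases y with
      | infty => rfl
      | coe j => exact absurd hxy.symm (hfne j.val)
    | coe i =>
      cases y with
      | infty => exact absurd hxy (hfne i.val)
      | coe j =>
        have h : ((t ^ j.val)⁻¹ * t ^ i.val) • Q0 = Q0 := by
          rw [mul_smul, show t ^ i.val • Q0 = t ^ j.val • Q0 from hxy, inv_smul_smul]
        have h2 := htriv Q0 hQ0 _ (mul_mem (inv_mem (pow_mem htP _)) (pow_mem htP _)) h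
        rw [inv_mul_eq_one, pow_inj_mod, hord, Nat.mod_eq_of_lt (ZMod.val_lt i),
          Nat.mod_eq_of_lt (ZMod.val_lt j)] at h2
        rw [ZMod.val_injective p h2.symm]
  have hfbij : Function.Bijective f := (Nat.bijective_iff_injective_and_card f).2 ⟨hfinj, by
    rw [hn]
    show Nat.card (Option (ZMod p)) = _
    rw [Finite.card_option, Nat.card_zmod]⟩
  let e := Equiv.ofBijective f hfbij
  let ρ : G →* Equiv.Perm (OnePoint (ZMod p)) :=
    (e.symm.permCongrHom.toMonoidHom).comp (MulAction.toPermHom G (Sylow p G))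
  have hρ : ∀ g x, e (ρ g x) = g • e x := fun g x => by
    show e (e.symm (g • e x)) = _
    simp
  have hinj : Function.Injective ρ := by
    rw [← MonoidHom.ker_eq_bot_iff]
    refine ρ.normal_ker.eq_bot_or_eq_top.resolve_right fun h => hQ0 ?_
    obtain ⟨g, hg⟩ := MulAction.exists_smul_eq G P0 Q0
    have h1 : ρ g ∞ = ∞ := by rw [MonoidHom.mem_ker.1 (h ▸ Subgroup.mem_top g : g ∈ ρ.ker)]; rfl
    have h2 := hρ g ∞
    rw [h1] at h2
    exact hg.symm.trans h2.symm
  refine ⟨⟨ρ, hinj, t, e.injective ((hρ t ∞).trans hfix), fun x => e.injective ((hρ t _).trans ?_),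
    fun g hg => ?_, ?_, ?_⟩⟩
  · show t • (t ^ x.val • Q0) = t ^ (x + 1).val • Q0
    rw [← mul_smul, ← pow_succ', ZMod.val_add, ZMod.val_one, ← hpow]
  · have h1 : g • P0 = P0 := by
      have h2 := hρ g ∞
      rw [hg] at h2
      exact h2.symm
    have h3 := (Subgroup.mem_normalizer_iff.1 (Sylow.smul_eq_iff_mem_normalizer.1 h1) t).1 htP
    rw [← htz] at h3
    obtain ⟨k, hk⟩ := Subgroup.mem_zpowers_iff.1 h3
    refine ⟨(k % (p : ℤ)).toNat, ?_⟩
    rw [← hk, ← zpow_mod_orderOf, hord, ← zpow_natCast, Int.toNat_of_nonneg (Int.emod_nonneg _ (by omega))]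
  · have hN := Small.card_normalizer_mul P0
    rw [hn, hcard] at hN
    have h1 : Nat.card {g : G // ρ g ∞ = ∞} = Nat.card (Subgroup.normalizer ((P0 : Subgroup G) : Set G)) := by
      refine Nat.card_congr (Equiv.subtypeEquivRight fun g => ?_)
      refine (e.injective.eq_iff.symm.trans ?_).trans Sylow.smul_eq_iff_mem_normalizer
      rw [hρ]; exact Iff.rfl
    rw [h1, show (p - 1) / 2 = m by omega]
    exact Nat.eq_of_mul_eq_mul_left (show 0 < p + 1 by omega) (by rw [hN]; ring)
  · obtain ⟨g, hg⟩ := MulAction.exists_smul_eq G P0 Q0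
    refine ⟨g, fun h => hQ0 ?_⟩
    have h2 := hρ g ∞
    rw [h] at h2
    exact hg.symm.trans h2.symm

namespace Rep

variable (R : Rep G p)

theorem apply_mul (g h : G) (x : OnePoint 𝔽) : R.ρ (g * h) x = R.ρ g (R.ρ h x) := by
  rw [map_mul, Equiv.Perm.mul_apply]

theorem apply_inv_eq {g : G} {x y : OnePoint 𝔽} (h : R.ρ g x = y) : R.ρ g⁻¹ y = x := by
  rw [← h, ← R.apply_mul, inv_mul_cancel, map_one, Equiv.Perm.one_apply]

theorem tpow_inf (n : ℕ) : R.ρ (R.t ^ n) ∞ = ∞ := by
  induction n with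
  | zero => simp
  | succ n ih => rw [pow_succ', R.apply_mul, ih, R.t_inf]

theorem tpow_some (n : ℕ) (x : 𝔽) : R.ρ (R.t ^ n) (x : OnePoint 𝔽) = ((x + n : 𝔽) : OnePoint 𝔽) := by
  induction n generalizing x with
  | zero => simp
  | succ n ih => rw [pow_succ', R.apply_mul, ih, R.t_some, Nat.cast_succ, add_assoc]

/-- The stabilizer of `∞` consists of affine maps. -/
theorem affine {g : G} (hg : R.ρ g ∞ = ∞) : ∃ a b : 𝔽, a ≠ 0 ∧
    ∀ x : 𝔽, R.ρ g (x : OnePoint 𝔽) = ((a * x + b : 𝔽) : OnePoint 𝔽) := by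
  obtain ⟨n, hn⟩ := R.norm g hg
  obtain ⟨b, hb⟩ : ∃ b : 𝔽, R.ρ g ((0 : 𝔽) : OnePoint 𝔽) = (b : OnePoint 𝔽) := by
    obtain ⟨b, hb⟩ := OnePoint.ne_infty_iff_exists.1 (show R.ρ g ((0 : 𝔽) : OnePoint 𝔽) ≠ ∞ from
      fun h => coe_ne_infty (0 : 𝔽) ((R.ρ g).injective (h.trans hg.symm)))
    exact ⟨b, hb.symm⟩
  have hstep : ∀ (x c : 𝔽), R.ρ g (x : OnePoint 𝔽) = (c : OnePoint 𝔽) →
      R.ρ g ((x + 1 : 𝔽) : OnePoint 𝔽) = ((c + n : 𝔽) : OnePoint 𝔽) := by
    intro x c h
    rw [← R.t_some, ← R.apply_mul, show g * R.t = R.t ^ n * g by rw [← hn]; group, R.apply_mul, h,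
      R.tpow_some]
  have hall : ∀ k : ℕ, R.ρ g ((k : 𝔽) : OnePoint 𝔽) = (((n : 𝔽) * k + b : 𝔽) : OnePoint 𝔽) := by
    intro k
    induction k with
    | zero => simpa using hb
    | succ k ih => rw [Nat.cast_succ, hstep _ _ ih]; congr 1; ring
  have hx : ∀ x : 𝔽, R.ρ g (x : OnePoint 𝔽) = (((n : 𝔽) * x + b : 𝔽) : OnePoint 𝔽) := fun x => by
    have := hall x.val
    rwa [ZMod.natCast_zmod_val] at this
  refine ⟨n, b, fun h0 => ?_, hx⟩
  simp only [h0, zero_mul, zero_add] at hx
  exact one_ne_zero (coe_injective ((R.ρ g).injective ((hx 1).trans (hx 0).symm)))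

/-- `h` acts as multiplication by `a`. -/
def Scales (h : G) (a : 𝔽) : Prop :=
  R.ρ h ∞ = ∞ ∧ ∀ x : 𝔽, R.ρ h (x : OnePoint 𝔽) = ((a * x : 𝔽) : OnePoint 𝔽)

theorem scales_of_fix {g : G} (h1 : R.ρ g ∞ = ∞) (h2 : R.ρ g ((0 : 𝔽) : OnePoint 𝔽) = ((0 : 𝔽) : OnePoint 𝔽)) :
    ∃ a : 𝔽, a ≠ 0 ∧ R.Scales g a := by
  obtain ⟨a, b, ha, hx⟩ := R.affine h1
  have hb := (hx 0).symm.trans h2
  rw [mul_zero, zero_add] at hb
  exact ⟨a, ha, h1, fun x => by rw [hx, coe_injective hb, add_zero]⟩

theorem scales_eq {h h' : G} {a : 𝔽} (H : R.Scales h a) (H' : R.Scales h' a) : h = h' :=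
  R.inj (Equiv.ext fun x => by
    cases x with
    | infty => rw [H.1, H'.1]
    | coe x => rw [H.2, H'.2])

theorem scales_mul {h h' : G} {a a' : 𝔽} (H : R.Scales h a) (H' : R.Scales h' a') :
    R.Scales (h * h') (a * a') :=
  ⟨by rw [R.apply_mul, H'.1, H.1], fun x => by rw [R.apply_mul, H'.2, H.2, mul_assoc]⟩

theorem scales_one : R.Scales 1 1 := ⟨by simp, fun x => by simp⟩

variable (hp5 : 5 ≤ p)
include hp5

theorem scales_iff : (∀ {h : G} {a : 𝔽}, a ≠ 0 → R.Scales h a → IsSquare a) ∧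
    ∀ a : 𝔽, a ≠ 0 → IsSquare a → ∃ h, R.Scales h a := by
  classical
  set m := (p - 1) / 2 with hm
  have hp2 : p % 2 = 1 := (Nat.Prime.eq_two_or_odd hp.out).resolve_left (by omega)
  let K : Subgroup 𝔽ˣ :=
    { carrier := {u | ∃ h, R.Scales h (u : 𝔽)}
      one_mem' := ⟨1, R.scales_one⟩
      mul_mem' := by rintro u v ⟨h, hh⟩ ⟨h', hh'⟩; exact ⟨h * h', R.scales_mul hh hh'⟩
      inv_mem' := by
        rintro u ⟨h, hh⟩
        refine ⟨h⁻¹, R.apply_inv_eq hh.1, fun x => R.apply_inv_eq ?_⟩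
        rw [hh.2, Units.mul_inv_cancel_left] }
  -- the number of scalings
  let S := {g : G // R.ρ g ∞ = ∞}
  let K0 := {g : G // R.ρ g ∞ = ∞ ∧ R.ρ g ((0 : 𝔽) : OnePoint 𝔽) = ((0 : 𝔽) : OnePoint 𝔽)}
  have hS : Nat.card S = p * Nat.card K0 := by
    let bo : G → 𝔽 := fun g => (R.ρ g ((0 : 𝔽) : OnePoint 𝔽)).elim 0 id
    have hbo : ∀ g, R.ρ g ∞ = ∞ → R.ρ g ((0 : 𝔽) : OnePoint 𝔽) = (bo g : OnePoint 𝔽) := by
      intro g hg
      obtain ⟨a, b, -, hab⟩ := R.affine hg
      simp only [bo, hab]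
      rfl
    have e : S ≃ 𝔽 × K0 :=
      { toFun := fun g => (bo g.1, ⟨R.t ^ (-bo g.1).val * g.1, by rw [R.apply_mul, g.2, R.tpow_inf], by
          rw [R.apply_mul, hbo g.1 g.2, R.tpow_some, ZMod.natCast_zmod_val, add_neg_cancel]⟩)
        invFun := fun z => ⟨R.t ^ z.1.val * z.2.1, by rw [R.apply_mul, z.2.2.1, R.tpow_inf]⟩
        left_inv := fun g => Subtype.ext (R.inj (Equiv.ext fun x => by
          obtain ⟨a, b, -, hab⟩ := R.affine g.2
          simp only [R.apply_mul]
          cases x with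
          | infty => rw [g.2, R.tpow_inf, R.tpow_inf]
          | coe x =>
            rw [hab, R.tpow_some, R.tpow_some, ZMod.natCast_zmod_val, ZMod.natCast_zmod_val,
              neg_add_cancel_right]))
        right_inv := fun z => by
          have hb1 : bo (R.t ^ z.1.val * z.2.1) = z.1 := by
            simp only [bo]
            rw [R.apply_mul, z.2.2.2, R.tpow_some, ZMod.natCast_zmod_val, zero_add]
            rfl
          refine Prod.ext hb1 (Subtype.ext (R.inj (Equiv.ext fun x => ?_)))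
          simp only [hb1, R.apply_mul]
          cases x with
          | infty => rw [z.2.2.1, R.tpow_inf, R.tpow_inf]
          | coe x =>
            obtain ⟨a, -, ha⟩ := R.scales_of_fix z.2.2.1 z.2.2.2
            rw [ha.2, R.tpow_some, R.tpow_some, ZMod.natCast_zmod_val, ZMod.natCast_zmod_val, add_neg_cancel_right] }
    rw [Nat.card_congr e, Nat.card_prod, Nat.card_zmod]
  have hK0 : Nat.card K0 = m := Nat.eq_of_mul_eq_mul_left hp.out.pos (hS ▸ R.card_inf)
  have hK : Nat.card K = m := by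
    rw [← hK0]
    refine Nat.card_eq_of_bijective (fun u => ⟨u.2.choose, u.2.choose_spec.1, by
      rw [u.2.choose_spec.2, mul_zero]⟩) ⟨fun u v h => ?_, fun g => ?_⟩
    · have h' : u.2.choose = v.2.choose := congrArg Subtype.val h
      have h1 := u.2.choose_spec.2 1
      rw [h', v.2.choose_spec.2 1, mul_one, mul_one] at h1
      exact (Subtype.ext (Units.ext (coe_injective h1))).symm
    · obtain ⟨a, ha, hsc⟩ := R.scales_of_fix g.2.1 g.2.2
      exact ⟨⟨Units.mk0 a ha, g.1, hsc⟩, Subtype.ext (R.scales_eq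
        (⟨Units.mk0 a ha, g.1, hsc⟩ : K).2.choose_spec hsc)⟩
  have hker : K = (powMonoidHom (p / 2) : 𝔽ˣ →* 𝔽ˣ).ker := by
    refine Subgroup.eq_of_le_of_card_ge (fun u hu => ?_) ?_
    · have h1 : orderOf (⟨u, hu⟩ : K) ∣ m := hK ▸ orderOf_dvd_natCard _
      rw [Subgroup.orderOf_mk] at h1
      rw [MonoidHom.mem_ker, powMonoidHom_apply, ← orderOf_dvd_iff_pow_eq_one]
      rwa [show p / 2 = m by omega]
    · rw [IsCyclic.card_powMonoidHom_ker, Nat.card_units, Nat.card_zmod, hK, show p / 2 = m by omega]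
      exact Nat.le_of_dvd (by omega) (Nat.gcd_dvd_right _ _)
  constructor
  · intro h a ha hh
    have : Units.mk0 a ha ∈ K := ⟨h, hh⟩
    rw [hker, MonoidHom.mem_ker, powMonoidHom_apply, Units.ext_iff, Units.val_pow_eq_pow_val] at this
    exact (ZMod.euler_criterion p ha).2 this
  · intro a ha hsq
    have : Units.mk0 a ha ∈ K := by
      rw [hker, MonoidHom.mem_ker, powMonoidHom_apply, Units.ext_iff, Units.val_pow_eq_pow_val]
      exact (ZMod.euler_criterion p ha).1 hsq
    exact this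

/-- Every element fixing two points and moving a third is nontrivial; three fixed points give the identity. -/
theorem eq_one_of_three {g : G} (h1 : R.ρ g ∞ = ∞) {x y : 𝔽} (hxy : x ≠ y)
    (hx : R.ρ g (x : OnePoint 𝔽) = (x : OnePoint 𝔽)) (hy : R.ρ g (y : OnePoint 𝔽) = (y : OnePoint 𝔽)) :
    g = 1 := by
  obtain ⟨a, b, -, hab⟩ := R.affine h1
  rw [hab] at hx hy
  have hx' := coe_injective hx
  have hy' := coe_injective hy
  have ha : a = 1 := by
    have : (a - 1) * (x - y) = 0 := by linear_combination hx' - hy'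
    rcases mul_eq_zero.1 this with h | h
    · exact sub_eq_zero.1 h
    · exact absurd (sub_eq_zero.1 h) hxy
  subst ha
  have hb : b = 0 := by linear_combination hx'
  exact R.inj (Equiv.ext fun z => by
    cases z with
    | infty => rw [h1, map_one]; rfl
    | coe z => rw [hab, map_one, hb]; simp)

theorem exists_to_infty (x : OnePoint 𝔽) : ∃ g : G, R.ρ g x = ∞ := by
  cases x with
  | infty => exact ⟨1, by simp⟩
  | coe x =>
    obtain ⟨g, hg⟩ := R.move
    obtain ⟨y, hy⟩ := OnePoint.ne_infty_iff_exists.1 hg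
    refine ⟨g⁻¹ * R.t ^ (y - x).val, ?_⟩
    rw [R.apply_mul, R.tpow_some, ZMod.natCast_zmod_val, add_sub_cancel]
    exact R.apply_inv_eq hy.symm

theorem two_trans {x y : OnePoint 𝔽} (hxy : x ≠ y) :
    ∃ g : G, R.ρ g x = ∞ ∧ R.ρ g y = ((0 : 𝔽) : OnePoint 𝔽) := by
  obtain ⟨g, hg⟩ := R.exists_to_infty hp5 x
  obtain ⟨z, hz⟩ := OnePoint.ne_infty_iff_exists.1 (show R.ρ g y ≠ ∞ from
    fun h => hxy ((R.ρ g).injective (hg.trans h.symm)))
  refine ⟨R.t ^ (-z).val * g, by rw [R.apply_mul, hg, R.tpow_inf], ?_⟩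
  rw [R.apply_mul, ← hz, R.tpow_some, ZMod.natCast_zmod_val, add_neg_cancel]

theorem exists_swap : ∃ w : G, R.ρ w ∞ = ((0 : 𝔽) : OnePoint 𝔽) ∧ R.ρ w ((0 : 𝔽) : OnePoint 𝔽) = ∞ := by
  obtain ⟨g, h1, h2⟩ := R.two_trans hp5 (show ((0 : 𝔽) : OnePoint 𝔽) ≠ ∞ from coe_ne_infty _)
  exact ⟨g, h2, h1⟩

/-- Involutions fix at most two points. -/
theorem card_fixed_le {g : G} (hg : g ≠ 1) :
    (Finset.univ.filter fun x => R.ρ g x = x).card ≤ 2 := by
  classical
  by_contra hcon
  obtain ⟨x, hx, y, hy, z, hz, hxy, hxz, hyz⟩ := Finset.two_lt_card.1 (Nat.lt_of_not_le hcon)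
  simp only [Finset.mem_filter, Finset.mem_univ, true_and] at hx hy hz
  obtain ⟨k, hk1, hk2⟩ := R.two_trans hp5 hxy
  obtain ⟨v, hv⟩ := OnePoint.ne_infty_iff_exists.1 (show R.ρ k z ≠ ∞ from
    fun h => hxz ((R.ρ k).injective (hk1.trans h.symm)))
  have hv0 : (0 : 𝔽) ≠ v := fun h => hyz ((R.ρ k).injective (by rw [hk2, ← hv, h]))
  have hc : ∀ s, R.ρ g s = s → R.ρ (k * g * k⁻¹) (R.ρ k s) = R.ρ k s := fun s hs => by
    rw [R.apply_mul, R.apply_mul, R.apply_inv_eq rfl, hs]
  refine hg ((conj_eq_one_iff (a := k)).1 (R.eq_one_of_three hp5 (g := k * g * k⁻¹) ?_ hv0 ?_ ?_))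
  · simpa [hk1] using hc x hx
  · simpa [hk2] using hc y hy
  · have := hc z hz
    rwa [← hv] at this

variable [IsSimpleGroup G] (hG : 2 * Nat.card G = p * (p ^ 2 - 1))
include hG

theorem two_lt_card : 2 < Nat.card G := by
  have h1 : 24 ≤ p ^ 2 - 1 := by
    have : 25 ≤ p ^ 2 := by nlinarith
    omega
  nlinarith

theorem sign_ρ (g : G) : Equiv.Perm.sign (R.ρ g) = 1 :=
  sign_eq_one (two_lt_card (G := G) hp5 hG) R.ρ g

/-- For `p ≡ 1 (mod 4)` every involution fixes exactly two points. -/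
theorem card_fixed_involution (h4 : p % 4 = 1) {g : G} (hg : g ≠ 1) (hg2 : g * g = 1) :
    (Finset.univ.filter fun x => R.ρ g x = x).card = 2 := by
  classical
  have hle := R.card_fixed_le hp5 hg
  have hs := Equiv.Perm.sign_of_pow_two_eq_one (σ := R.ρ g) (by rw [sq, ← map_mul, hg2, map_one])
  rw [R.sign_ρ hp5 hG, eq_comm, neg_one_pow_eq_one_iff_even (by decide)] at hs
  obtain ⟨k, hk⟩ := hs
  have hcard : Fintype.card (OnePoint 𝔽) = p + 1 := by
    show Fintype.card (Option 𝔽) = _
    rw [Fintype.card_option, ZMod.card]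
  have hfix : Fintype.card (Function.fixedPoints (R.ρ g)) = (Finset.univ.filter fun x => R.ρ g x = x).card := by
    rw [← Fintype.card_subtype]
    rfl
  have hpar : Fintype.card (Function.fixedPoints (R.ρ g)) % 2 = (p + 1) % 2 := by
    have h := Equiv.Perm.card_compl_support_modEq (n := 1) (σ := R.ρ g) (p := 2) (hσ := by
      rw [pow_one, sq, ← map_mul, hg2, map_one])
    rw [hcard] at h
    rw [hfix, ← h]
    congr 2
    ext x
    simp
  rw [hcard, hfix] at hk
  rw [hfix] at hpar
  omega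

/-- Off-diagonal counting: the elements swapping `∞` and `0` are involutions. -/
theorem swap_invol_one (h4 : p % 4 = 1) {w : G} (hw1 : R.ρ w ∞ = ((0 : 𝔽) : OnePoint 𝔽))
    (hw2 : R.ρ w ((0 : 𝔽) : OnePoint 𝔽) = ∞) : w * w = 1 := by
  classical
  have := Fintype.ofFinite G
  set J := Finset.univ.filter fun g : G => g ≠ 1 ∧ g * g = 1 with hJ
  have hmemJ : ∀ g, g ∈ J ↔ g ≠ 1 ∧ g * g = 1 := fun g => by simp [hJ]
  have hconjJ : ∀ k g, g ∈ J → k * g * k⁻¹ ∈ J := fun k g hg => by
    rw [hmemJ] at hg ⊢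
    refine ⟨fun h => hg.1 (conj_eq_one_iff.1 h), ?_⟩
    rw [show k * g * k⁻¹ * (k * g * k⁻¹) = k * (g * g) * k⁻¹ by group, hg.2, mul_one, mul_inv_cancel]
  have hunconj : ∀ k g, k⁻¹ * g * k ∈ J → g ∈ J := fun k g hg => by
    have := hconjJ k _ hg
    rwa [show k * (k⁻¹ * g * k) * k⁻¹ = g by group] at this
  let O := (Finset.univ : Finset (OnePoint 𝔽 × OnePoint 𝔽)).filter fun z => z.1 ≠ z.2
  let F2 := fun (j : G) (z : OnePoint 𝔽 × OnePoint 𝔽) => R.ρ j z.1 = z.1 ∧ R.ρ j z.2 = z.2
  let SW := fun (j : G) (z : OnePoint 𝔽 × OnePoint 𝔽) => R.ρ j z.1 = z.2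
  have hinv : ∀ (P : G → OnePoint 𝔽 × OnePoint 𝔽 → Prop),
      (∀ k j z, P (k * j * k⁻¹) (R.ρ k z.1, R.ρ k z.2) ↔ P j z) → ∀ z ∈ O,
      (J.filter fun j => P j z).card =
        (J.filter fun j => P j (∞, ((0 : 𝔽) : OnePoint 𝔽))).card := by
    intro P hP z hz
    simp only [O, Finset.mem_filter, Finset.mem_univ, true_and] at hz
    obtain ⟨k, hk1, hk2⟩ := R.two_trans hp5 hz
    refine Finset.card_bij (fun j _ => k * j * k⁻¹) (fun j hj => ?_) (fun a _ b _ h => ?_) (fun b hb => ?_)
    · rw [Finset.mem_filter] at hj ⊢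
      refine ⟨hconjJ k j hj.1, ?_⟩
      have := (hP k j z).2 hj.2
      rwa [hk1, hk2] at this
    · exact mul_left_cancel (mul_right_cancel h)
    · rw [Finset.mem_filter] at hb
      refine ⟨k⁻¹ * b * k, Finset.mem_filter.2 ⟨hunconj k⁻¹ _ ?_, (hP k _ z).1 ?_⟩, by group⟩
      · rw [show k⁻¹⁻¹ * (k⁻¹ * b * k) * k⁻¹ = b by group]; exact hb.1
      · rw [hk1, hk2, show k * (k⁻¹ * b * k) * k⁻¹ = b by group]; exact hb.2
  have hSWinv : ∀ k j z, SW (k * j * k⁻¹) (R.ρ k z.1, R.ρ k z.2) ↔ SW j z := by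
    intro k j z
    simp only [SW]
    rw [R.apply_mul, R.apply_mul, R.apply_inv_eq rfl]
    exact (R.ρ k).injective.eq_iff
  have hF2inv : ∀ k j z, F2 (k * j * k⁻¹) (R.ρ k z.1, R.ρ k z.2) ↔ F2 j z := by
    intro k j z
    simp only [F2]
    rw [R.apply_mul, R.apply_mul, R.apply_inv_eq rfl, R.apply_mul, R.apply_mul, R.apply_inv_eq rfl]
    simp only [(R.ρ k).injective.eq_iff]
  have hF2one : (J.filter fun j => F2 j (∞, ((0 : 𝔽) : OnePoint 𝔽))).card = 1 := by
    have hne : (-1 : 𝔽) ≠ 0 := neg_ne_zero.2 one_ne_zero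
    obtain ⟨h, hh⟩ := (R.scales_iff hp5).2 (-1) hne ((ZMod.exists_sq_eq_neg_one_iff).2 (by omega))
    have h11 : (-1 : 𝔽) ≠ 1 := by
      intro e
      have : (2 : 𝔽) = 0 := by linear_combination -e
      have h2 : ((2 : ℕ) : 𝔽) = 0 := by exact_mod_cast this
      rw [ZMod.natCast_eq_zero_iff] at h2
      have := Nat.le_of_dvd (by omega) h2
      omega
    refine Finset.card_eq_one.2 ⟨h, Finset.ext fun j => ?_⟩
    rw [Finset.mem_filter, Finset.mem_singleton, hmemJ]
    constructor
    · rintro ⟨⟨hj1, hj2⟩, hj3, hj4⟩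
      obtain ⟨a, -, ha⟩ := R.scales_of_fix hj3 hj4
      have h2 := R.scales_mul ha ha
      rw [hj2] at h2
      have haa : a * a = 1 := by
        have := (h2.2 1).symm.trans (R.scales_one.2 1)
        simpa using coe_injective this
      rcases mul_self_eq_one_iff.1 haa with rfl | rfl
      · exact absurd (R.scales_eq ha R.scales_one) hj1
      · exact R.scales_eq ha hh
    · rintro rfl
      refine ⟨⟨fun e => h11 ?_, R.scales_eq (R.scales_mul hh hh) (by simpa using R.scales_one)⟩, hh.1,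
        by rw [hh.2, mul_zero]⟩
      have := (hh.2 1).symm.trans (e ▸ R.scales_one.2 1)
      simpa using coe_injective this
  have hcardO : O.card = (p + 1) * p := by
    show ((Finset.univ : Finset (OnePoint 𝔽 × OnePoint 𝔽)).filter fun z => z.1 ≠ z.2).card = _
    rw [show ((Finset.univ : Finset (OnePoint 𝔽 × OnePoint 𝔽)).filter fun z => z.1 ≠ z.2) =
      (Finset.univ : Finset (OnePoint 𝔽)).offDiag by ext; simp, Finset.offDiag_card, Finset.card_univ,
      show Fintype.card (OnePoint 𝔽) = p + 1 from by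
        show Fintype.card (Option 𝔽) = _
        rw [Fintype.card_option, ZMod.card]]
    rw [← Nat.mul_sub_one, Nat.add_sub_cancel]
  have hsum : ∀ P : G → OnePoint 𝔽 × OnePoint 𝔽 → Prop,
      ∑ j ∈ J, (O.filter fun z => P j z).card = ∑ z ∈ O, (J.filter fun j => P j z).card := by
    intro P
    simp only [Finset.card_filter]
    exact Finset.sum_comm
  have hF2j : ∀ j ∈ J, (O.filter fun z => F2 j z).card = 2 := by
    intro j hj
    obtain ⟨hj1, hj2⟩ := (hmemJ j).1 hj
    have e : (O.filter fun z => F2 j z) = (Finset.univ.filter fun x => R.ρ j x = x).offDiag := by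
      ext ⟨a, b⟩
      simp [O, F2]
      tauto
    rw [e, Finset.offDiag_card, R.card_fixed_involution hp5 hG h4 hj1 hj2]
  have hSWj : ∀ j ∈ J, (O.filter fun z => SW j z).card = p - 1 := by
    intro j hj
    obtain ⟨hj1, hj2⟩ := (hmemJ j).1 hj
    have e : (O.filter fun z => SW j z).card = (Finset.univ.filter fun x => ¬ R.ρ j x = x).card := by
      refine Finset.card_bij (fun z _ => z.1) (fun z hz => ?_) (fun a ha b hb h => ?_)
        (fun x hx => ⟨(x, R.ρ j x), ?_, rfl⟩)
      · simp only [O, SW, Finset.mem_filter, Finset.mem_univ, true_and] at hz ⊢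
        rw [hz.2]; exact Ne.symm hz.1
      · simp only [O, SW, Finset.mem_filter, Finset.mem_univ, true_and] at ha hb
        exact Prod.ext h (by rw [← ha.2, ← hb.2, h])
      · simp only [O, SW, Finset.mem_filter, Finset.mem_univ, true_and] at hx ⊢
        exact ⟨Ne.symm hx, trivial⟩
    have hadd := Finset.card_filter_add_card_filter_not (s := (Finset.univ : Finset (OnePoint 𝔽)))
      (fun x => R.ρ j x = x)
    rw [R.card_fixed_involution hp5 hG h4 hj1 hj2, Finset.card_univ,
      show Fintype.card (OnePoint 𝔽) = p + 1 from by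
        show Fintype.card (Option 𝔽) = _
        rw [Fintype.card_option, ZMod.card]] at hadd
    omega
  have e1 : J.card * 2 = (p + 1) * p := by
    calc J.card * 2 = ∑ j ∈ J, (O.filter fun z => F2 j z).card := by
          rw [Finset.sum_congr rfl hF2j, Finset.sum_const, smul_eq_mul]
      _ = ∑ z ∈ O, (J.filter fun j => F2 j z).card := by convert hsum F2
      _ = ∑ z ∈ O, 1 := Finset.sum_congr rfl fun z hz => by
          rw [← hF2one]; convert hinv F2 hF2inv z hz
      _ = (p + 1) * p := by rw [Finset.sum_const, smul_eq_mul, mul_one, hcardO]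
  have e2 : J.card * (p - 1) = J.card * 2 * (J.filter fun j => SW j (∞, ((0 : 𝔽) : OnePoint 𝔽))).card := by
    calc J.card * (p - 1) = ∑ j ∈ J, (O.filter fun z => SW j z).card := by
          rw [Finset.sum_congr rfl hSWj, Finset.sum_const, smul_eq_mul]
      _ = ∑ z ∈ O, (J.filter fun j => SW j z).card := by convert hsum SW
      _ = ∑ z ∈ O, (J.filter fun j => SW j (∞, ((0 : 𝔽) : OnePoint 𝔽))).card :=
          Finset.sum_congr rfl fun z hz => by convert hinv SW hSWinv z hz
      _ = _ := by rw [Finset.sum_const, smul_eq_mul, hcardO, e1]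
  set A := J.filter fun j => SW j (∞, ((0 : 𝔽) : OnePoint 𝔽)) with hA
  have hAcard : 2 * A.card = p - 1 := by
    refine Nat.eq_of_mul_eq_mul_left (show 0 < J.card by
      rcases Nat.eq_zero_or_pos J.card with h | h
      · rw [h, zero_mul] at e1
        have : 0 < (p + 1) * p := by positivity
        omega
      · exact h) ?_
    rw [e2]; ring
  -- the coset of swapping elements
  set W := Finset.univ.filter fun g : G => R.ρ g ∞ = ((0 : 𝔽) : OnePoint 𝔽) ∧
    R.ρ g ((0 : 𝔽) : OnePoint 𝔽) = ∞ with hW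
  have hAW : A ⊆ W := by
    intro j hj
    simp only [hA, SW, Finset.mem_filter] at hj
    simp only [hW, Finset.mem_filter, Finset.mem_univ, true_and]
    refine ⟨hj.2, ?_⟩
    conv_lhs => rw [← hj.2, ← R.apply_mul, ((hmemJ j).1 hj.1).2, map_one, Equiv.Perm.one_apply]
  have hWle : W.card ≤ (p - 1) / 2 := by
    have h1 : ∀ g ∈ W, ∃ a : 𝔽, a ≠ 0 ∧ IsSquare a ∧ R.Scales (w * g) a := by
      intro g hg
      simp only [hW, Finset.mem_filter, Finset.mem_univ, true_and] at hg
      obtain ⟨a, ha, hs⟩ := R.scales_of_fix (g := w * g) (by rw [R.apply_mul, hg.1, hw2])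
        (by rw [R.apply_mul, hg.2, hw1])
      exact ⟨a, ha, (R.scales_iff hp5).1 ha hs, hs⟩
    choose f hf1 hf2 hf3 using h1
    let fu : ∀ g ∈ W, 𝔽ˣ := fun g hg => Units.mk0 (f g hg) (hf1 g hg)
    have hle := Finset.card_le_card_of_injOn (s := W.attach)
      (t := (Finset.univ : Finset 𝔽ˣ).filter fun u => u ^ (p / 2) = 1)
      (fun g => fu g.1 g.2) (fun g _ => by
        simp only [Finset.coe_filter, Finset.mem_univ, true_and, Set.mem_setOf_eq, Units.ext_iff,
          Units.val_pow_eq_pow_val]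
        exact (ZMod.euler_criterion p (hf1 _ g.2)).1 (hf2 _ g.2))
      (fun g _ g' _ h => by
        have h' : f g.1 g.2 = f g'.1 g'.2 := congrArg Units.val h
        exact Subtype.ext (mul_left_cancel (R.scales_eq (hf3 g.1 g.2) (h' ▸ hf3 g'.1 g'.2))))
    rw [Finset.card_attach] at hle
    refine hle.trans ?_
    have hk := IsCyclic.card_powMonoidHom_ker (G := 𝔽ˣ) (d := p / 2)
    rw [Nat.card_units, Nat.card_zmod, Nat.card_eq_fintype_card, Fintype.card_subtype] at hk
    have hle2 : Nat.gcd (p - 1) (p / 2) ≤ (p - 1) / 2 := by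
      have : p / 2 = (p - 1) / 2 := by omega
      exact this ▸ Nat.le_of_dvd (by omega) (Nat.gcd_dvd_right _ _)
    refine le_trans (le_of_eq ?_) (hk.le.trans hle2)
    congr 1
    ext u
    simp
  have heq : A = W := Finset.eq_of_subset_of_card_le hAW (by omega)
  have : w ∈ A := heq ▸ (by simp [hW, hw1, hw2])
  exact ((hmemJ w).1 (Finset.mem_filter.1 this).1).2

/-- For `p ≡ 3 (mod 4)` a swapping element inverts the scalings and is an involution. -/
theorem swap_invol_three (h4 : p % 4 = 3) {w : G} (hw1 : R.ρ w ∞ = ((0 : 𝔽) : OnePoint 𝔽))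
    (hw2 : R.ρ w ((0 : 𝔽) : OnePoint 𝔽) = ∞) :
    w * w = 1 ∧ ∀ h a, R.Scales h a → w * h * w⁻¹ = h⁻¹ := by
  classical
  have hncyc : ¬ IsCyclic G := fun hc => by
    let _ := hc.commGroup
    have hcp : (Nat.card G).Prime := IsSimpleGroup.prime_card
    have hd : p ∣ Nat.card G := (Nat.Coprime.dvd_mul_left
      ((Nat.coprime_primes hp.out Nat.prime_two).2 (by omega))).1 ⟨_, hG⟩
    have := ((Nat.dvd_prime hcp).1 hd).resolve_left hp.out.ne_one
    have h2 : p ^ 2 - 1 = 2 := by
      have h1 := hG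
      rw [← this, mul_comm 2 p] at h1
      exact (Nat.eq_of_mul_eq_mul_left hp.out.pos h1).symm
    have : 25 ≤ p ^ 2 := by nlinarith
    omega
  obtain ⟨m, hm⟩ : ∃ m, p = 2 * m + 1 := ⟨p / 2, by omega⟩
  have hmo : m % 2 = 1 := by omega
  let H : Subgroup G :=
    { carrier := {g | R.ρ g ∞ = ∞ ∧ R.ρ g ((0 : 𝔽) : OnePoint 𝔽) = ((0 : 𝔽) : OnePoint 𝔽)}
      one_mem' := by simp
      mul_mem' := fun {a b} ha hb => ⟨by rw [R.apply_mul, hb.1, ha.1], by rw [R.apply_mul, hb.2, ha.2]⟩
      inv_mem' := fun {a} ha => ⟨R.apply_inv_eq ha.1, R.apply_inv_eq ha.2⟩ }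
  have hHs : ∀ g ∈ H, ∃ a : 𝔽, a ≠ 0 ∧ R.Scales g a := fun g hg => R.scales_of_fix hg.1 hg.2
  have hwi1 : R.ρ w⁻¹ ∞ = ((0 : 𝔽) : OnePoint 𝔽) := R.apply_inv_eq hw2
  have hwi2 : R.ρ w⁻¹ ((0 : 𝔽) : OnePoint 𝔽) = ∞ := R.apply_inv_eq hw1
  have hwH : ∀ g ∈ H, w * g * w⁻¹ ∈ H := fun g hg =>
    ⟨by rw [R.apply_mul, R.apply_mul, hwi1, hg.2, hw2], by rw [R.apply_mul, R.apply_mul, hwi2, hg.1, hw1]⟩
  have hcommH : ∀ g ∈ H, ∀ g' ∈ H, g * g' = g' * g := by
    intro g hg g' hg'
    obtain ⟨a, -, ha⟩ := hHs g hg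
    obtain ⟨b, -, hb⟩ := hHs g' hg'
    exact R.scales_eq (R.scales_mul ha hb) (mul_comm b a ▸ R.scales_mul hb ha)
  have hcardH : Nat.card H ∣ m := by
    let f : H → 𝔽ˣ := fun g => Units.mk0 (hHs g g.2).choose (hHs g g.2).choose_spec.1
    let fh : H →* 𝔽ˣ := MonoidHom.mk' f fun g g' => Units.ext (by
      have h1 := (hHs _ (g * g').2).choose_spec.2
      have h2 := R.scales_mul (hHs g g.2).choose_spec.2 (hHs g' g'.2).choose_spec.2
      have := (h1.2 1).symm.trans (h2.2 1)
      simpa [f] using coe_injective this)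
    have hinj : Function.Injective fh := fun g g' h => by
      have h' : (hHs g g.2).choose = (hHs g' g'.2).choose := congrArg Units.val h
      exact Subtype.ext (R.scales_eq (hHs g g.2).choose_spec.2 (h' ▸ (hHs g' g'.2).choose_spec.2))
    have hle : fh.range ≤ (powMonoidHom m : 𝔽ˣ →* 𝔽ˣ).ker := by
      rintro _ ⟨g, rfl⟩
      obtain ⟨hne, hs⟩ := (hHs g g.2).choose_spec
      rw [MonoidHom.mem_ker, powMonoidHom_apply, Units.ext_iff, Units.val_pow_eq_pow_val,
        show m = p / 2 by omega]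
      exact (ZMod.euler_criterion p hne).1 ((R.scales_iff hp5).1 hne hs)
    rw [Nat.card_congr (MonoidHom.ofInjective hinj).toEquiv]
    refine (Subgroup.card_dvd_of_le hle).trans ?_
    rw [IsCyclic.card_powMonoidHom_ker]
    exact Nat.gcd_dvd_right _ _
  have hdiv : m ∣ Nat.card H := by
    -- `H` has exactly `m` elements
    have hle : (powMonoidHom m : 𝔽ˣ →* 𝔽ˣ).ker.carrier.ncard ≤ Nat.card H := by
      have hex : ∀ u : (powMonoidHom m : 𝔽ˣ →* 𝔽ˣ).ker, ∃ h : G, R.Scales h ((u : 𝔽ˣ) : 𝔽) := fun u => by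
        refine (R.scales_iff hp5).2 _ (Units.ne_zero _) ((ZMod.euler_criterion p (Units.ne_zero _)).2 ?_)
        rw [show p / 2 = m by omega, ← Units.val_pow_eq_pow_val, ← powMonoidHom_apply,
          MonoidHom.mem_ker.1 u.2, Units.val_one]
      choose f hf using hex
      rw [← Nat.card_coe_set_eq]
      refine Nat.card_le_card_of_injective (fun u => (⟨f u, (hf u).1, by rw [(hf u).2, mul_zero]⟩ : H)) ?_
      intro u v h
      have h' : f u = f v := congrArg Subtype.val h
      have h1 := ((hf u).2 1).symm.trans (h' ▸ (hf v).2 1)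
      simp only [mul_one] at h1
      exact Subtype.ext (Units.ext (coe_injective h1))
    rw [← Nat.card_coe_set_eq] at hle
    have hk : Nat.card (powMonoidHom m : 𝔽ˣ →* 𝔽ˣ).ker = m := by
      rw [IsCyclic.card_powMonoidHom_ker, Nat.card_units, Nat.card_zmod,
        show p - 1 = m * 2 by omega, Nat.gcd_mul_right_left]
    have : m ≤ Nat.card H := hk ▸ hle
    exact (Nat.le_antisymm (Nat.le_of_dvd (by omega) hcardH) this).symm ▸ dvd_rfl
  have hHcard : Nat.card H = m := Nat.dvd_antisymm hcardH hdiv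
  -- no nontrivial element of `H` commutes with `w`
  have hC : ∀ h ∈ H, w * h * w⁻¹ = h → h = 1 := by
    intro h hh hfix
    by_contra hne
    obtain ⟨r, hr, hrd⟩ := Nat.exists_prime_and_dvd (fun e => hne (orderOf_eq_one_iff.1 e) : orderOf h ≠ 1)
    have : Fact r.Prime := ⟨hr⟩
    set h0 := h ^ (orderOf h / r) with hh0
    have hord0 : orderOf h0 = r := by
      rw [hh0, orderOf_pow_orderOf_div (orderOf_pos h).ne' hrd]
    have hh0H : h0 ∈ H := pow_mem hh _
    have hfix0 : w * h0 * w⁻¹ = h0 := by rw [hh0, ← conj_pow, hfix]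
    have hrm : r ∣ m := (hrd.trans (Subgroup.orderOf_dvd_natCard H hh)).trans hHcard.dvd
    have hr2 : r ≠ 2 := by rintro rfl; omega
    obtain ⟨Q⟩ : Nonempty (Sylow r H) := inferInstance
    set R' := (Q : Subgroup H).map H.subtype with hR'
    have hR'H : R' ≤ H := Subgroup.map_subtype_le _
    have hidx : ¬ r ∣ R'.index := by
      rw [Subgroup.index_map_subtype]
      intro hd
      rcases hr.dvd_mul.1 hd with h1 | h1
      · exact Q.not_dvd_index h1
      · have hc : Nat.card H * H.index = Nat.card G := Subgroup.card_mul_index H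
        rw [hHcard] at hc
        have : H.index = (p + 1) * p := by
          refine Nat.eq_of_mul_eq_mul_left (show 0 < m by omega) ?_
          have : p ^ 2 - 1 = (p + 1) * (2 * m) := by
            rw [show 2 * m = p - 1 by omega, ← Nat.sq_sub_sq, one_pow]
          rw [hc]
          rw [this] at hG
          linarith
        rw [this] at h1
        have hrle : r ≤ m := Nat.le_of_dvd (by omega) hrm
        rcases hr.dvd_mul.1 h1 with h2 | h2
        · have h3 : r ∣ 2 * m := dvd_mul_of_dvd_right hrm 2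
          have h4 : r ∣ (p + 1) - 2 * m := Nat.dvd_sub h2 h3
          rw [show (p + 1) - 2 * m = 2 by omega] at h4
          exact hr2 ((Nat.prime_dvd_prime_iff_eq hr Nat.prime_two).1 h4)
        · have := (Nat.prime_dvd_prime_iff_eq hr hp.out).1 h2
          omega
    let S : Sylow r G := (Q.isPGroup'.map H.subtype).toSylow hidx
    have hScoe : (S : Subgroup G) = R' := IsPGroup.toSylow_coe _ _
    have hh0R : h0 ∈ R' := by
      -- `H` is abelian, so its Sylow subgroup is unique
      have hQn : (Q : Subgroup H).Normal := ⟨fun x hx g => by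
        have e : g * x * g⁻¹ = x := Subtype.ext (by
          show (g : G) * (x : G) * (g : G)⁻¹ = x
          rw [hcommH g g.2 x x.2, mul_inv_cancel_right])
        rwa [e]⟩
      have : Unique (Sylow r H) := Sylow.unique_of_normal Q hQn
      obtain ⟨Q', hQ'⟩ := (IsPGroup.of_card (n := 1) (show Nat.card (Subgroup.zpowers (⟨h0, hh0H⟩ : H)) = r ^ 1 by
        rw [Nat.card_zpowers, Subgroup.orderOf_mk, hord0, pow_one])).exists_le_sylow
      rw [Subsingleton.elim Q' Q] at hQ'
      exact ⟨⟨h0, hh0H⟩, hQ' (Subgroup.mem_zpowers _), rfl⟩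
    refine Small.not_normalizer_le_centralizer hncyc S ?_ ?_
    · rw [hScoe]
      intro e
      rw [e, Subgroup.mem_bot] at hh0R
      rw [hh0R, orderOf_one] at hord0
      exact hr.ne_one hord0.symm
    rw [hScoe]
    intro g hg
    -- `g` stabilizes `{∞, 0}`
    have hfixpts : ∀ x, R.ρ h0 x = x → x = ∞ ∨ x = ((0 : 𝔽) : OnePoint 𝔽) := by
      intro x hx
      cases x with
      | infty => exact Or.inl rfl
      | coe x =>
        right
        by_contra hx0
        have := R.eq_one_of_three hp5 hh0H.1 (x := x) (y := 0) (fun e => hx0 (by rw [e])) hx hh0H.2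
        rw [this, orderOf_one] at hord0
        exact hr.ne_one hord0.symm
    have hgh : g⁻¹ * h0 * g ∈ R' := by
      simpa using (Subgroup.mem_normalizer_iff.1 (inv_mem hg) h0).1 hh0R
    have himg : ∀ x, (x = ∞ ∨ x = ((0 : 𝔽) : OnePoint 𝔽)) → R.ρ g x = ∞ ∨ R.ρ g x = ((0 : 𝔽) : OnePoint 𝔽) := by
      intro x hx
      refine hfixpts _ ?_
      have h1 : R.ρ (g⁻¹ * h0 * g) x = x := by
        rcases hx with rfl | rfl
        · exact (hR'H hgh).1
        · exact (hR'H hgh).2
      rw [R.apply_mul, R.apply_mul] at h1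
      have h2 := congrArg (R.ρ g) h1
      rwa [← R.apply_mul g g⁻¹, mul_inv_cancel, map_one, Equiv.Perm.one_apply] at h2
    refine Subgroup.mem_centralizer_iff.2 fun x hx => ?_
    rcases himg ∞ (Or.inl rfl) with h1 | h1
    · rcases himg _ (Or.inr rfl) with h2 | h2
      · exact absurd ((R.ρ g).injective (h2.trans h1.symm)) (coe_ne_infty _)
      · exact hcommH x (hR'H hx) g ⟨h1, h2⟩
    · rcases himg _ (Or.inr rfl) with h2 | h2
      swap
      · exact absurd ((R.ρ g).injective (h2.trans h1.symm)) (coe_ne_infty _)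
      -- `g ∈ w H`
      have hgw : w⁻¹ * g ∈ H := ⟨by rw [R.apply_mul, h1, hwi2], by rw [R.apply_mul, h2, hwi1]⟩
      have hxw : w * x * w⁻¹ = x := by
        -- `w` centralizes the cyclic group `R'`, because it centralizes `h0`
        obtain ⟨e, he⟩ := IsPGroup.iff_card.1 (hScoe ▸ S.isPGroup' : IsPGroup r R')
        let f : R' → 𝔽ˣ := fun z => Units.mk0 (hHs z (hR'H z.2)).choose (hHs z (hR'H z.2)).choose_spec.1
        have hfinj : Function.Injective f := fun a b hab => by
          have h' : (hHs a (hR'H a.2)).choose = (hHs b (hR'H b.2)).choose := congrArg Units.val hab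
          exact Subtype.ext (R.scales_eq (hHs a (hR'H a.2)).choose_spec.2
            (h' ▸ (hHs b (hR'H b.2)).choose_spec.2))
        let fh : R' →* 𝔽ˣ := MonoidHom.mk' f fun a b => Units.ext (by
          have h3 := (hHs _ (hR'H (a * b).2)).choose_spec.2
          have h4 := R.scales_mul (hHs a (hR'H a.2)).choose_spec.2 (hHs b (hR'H b.2)).choose_spec.2
          have := (h3.2 1).symm.trans (h4.2 1)
          simpa [f] using coe_injective this)
        have hcyc : IsCyclic R' := isCyclic_of_injective fh hfinj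
        obtain ⟨z, hz⟩ := hcyc.exists_generator
        have hwR : ∀ y ∈ R', w * y * w⁻¹ ∈ R' := by
          intro y hy
          have hn : w ∈ Subgroup.normalizer (R' : Set G) := by
            have hgR : g ∈ Subgroup.normalizer (R' : Set G) := hg
            have hH' : w⁻¹ * g ∈ Subgroup.normalizer (R' : Set G) := by
              refine Subgroup.centralizer_le_normalizer _ (Subgroup.mem_centralizer_iff.2 fun y hy => ?_)
              exact hcommH y (hR'H hy) _ hgw
            have := mul_mem hgR (inv_mem hH')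
            rwa [_root_.mul_inv_rev, inv_inv, mul_inv_cancel_left] at this
          exact (Subgroup.mem_normalizer_iff.1 hn y).1 hy
        obtain ⟨k, hk⟩ := Subgroup.mem_zpowers_iff.1 (hz ⟨_, hwR z z.2⟩)
        have hk' : w * (z : G) * w⁻¹ = (z : G) ^ k := (congrArg Subtype.val hk).symm.trans (by rfl)
        have hw2H : w * w ∈ H := ⟨by rw [R.apply_mul, hw1, hw2], by rw [R.apply_mul, hw2, hw1]⟩
        have hkk : (z : G) ^ (k * k) = z := by
          rw [_root_.zpow_mul, ← hk', conj_zpow, ← hk',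
            show w * (w * (z : G) * w⁻¹) * w⁻¹ = (w * w) * z * (w * w)⁻¹ by group,
            hcommH _ hw2H _ (hR'H z.2), mul_inv_cancel_right]
        have horde : (orderOf (z : G) : ℤ) ∣ (k - 1) * (k + 1) := by
          rw [orderOf_dvd_iff_zpow_eq_one, show (k - 1) * (k + 1) = k * k - 1 by ring, _root_.zpow_sub,
            hkk, _root_.zpow_one, mul_inv_cancel]
        have hze : orderOf (z : G) = r ^ e := by
          rw [Subgroup.orderOf_coe, orderOf_eq_card_of_forall_mem_zpowers hz, he]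
        obtain ⟨j, hj⟩ := Subgroup.mem_zpowers_iff.1 (hz ⟨h0, hh0R⟩)
        have hj' : (z : G) ^ j = h0 := congrArg Subtype.val hj
        have hr_int : Prime (r : ℤ) := Nat.prime_iff_prime_int.1 hr
        have he0 : e ≠ 0 := by
          rintro rfl
          rw [pow_zero, orderOf_eq_one_iff] at hze
          rw [hze, _root_.one_zpow] at hj'
          rw [← hj', orderOf_one] at hord0
          exact hr.ne_one hord0.symm
        have hk1 : (r : ℤ) ∣ k - 1 := by
          have h3 : h0 ^ (k - 1) = 1 := by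
            rw [_root_.zpow_sub, _root_.zpow_one, mul_inv_eq_one, ← hj', ← _root_.zpow_mul, mul_comm,
              _root_.zpow_mul, ← hk', conj_zpow, hj', hfix0]
          rw [← orderOf_dvd_iff_zpow_eq_one, hord0] at h3
          exact h3
        have hk2 : ¬ (r : ℤ) ∣ k + 1 := fun hd => by
          have h5 := dvd_sub hd hk1
          rw [show k + 1 - (k - 1) = ((2 : ℕ) : ℤ) by push_cast; ring, Int.natCast_dvd_natCast] at h5
          exact hr2 ((Nat.prime_dvd_prime_iff_eq hr Nat.prime_two).1 h5)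
        have hk3 : (orderOf (z : G) : ℤ) ∣ k - 1 := by
          rw [hze, Nat.cast_pow] at horde ⊢
          exact (IsCoprime.dvd_of_dvd_mul_right ((Prime.coprime_iff_not_dvd hr_int).2 hk2).pow_left horde)
        have hzfix : w * (z : G) * w⁻¹ = z := by
          rw [hk', ← mul_inv_eq_one, ← _root_.zpow_sub_one, ← orderOf_dvd_iff_zpow_eq_one]
          exact hk3
        obtain ⟨i, hi⟩ := Subgroup.mem_zpowers_iff.1 (hz ⟨x, hx⟩)
        have hi' : (z : G) ^ i = x := congrArg Subtype.val hi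
        rw [← hi', ← conj_zpow, hzfix]
      have hxw' : w * x = x * w := mul_inv_eq_iff_eq_mul.1 hxw
      calc x * g = x * w * (w⁻¹ * g) := by group
        _ = w * x * (w⁻¹ * g) := by rw [hxw']
        _ = w * (x * (w⁻¹ * g)) := by rw [mul_assoc]
        _ = w * ((w⁻¹ * g) * x) := by rw [hcommH x (hR'H hx) _ hgw]
        _ = g * x := by group
  have hinvH : ∀ h ∈ H, w * h * w⁻¹ = h⁻¹ := by
    intro h hh
    have hw2H : w * w ∈ H := ⟨by rw [R.apply_mul, hw1, hw2], by rw [R.apply_mul, hw2, hw1]⟩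
    have h1 := hC _ (mul_mem hh (hwH h hh)) (by
      rw [show w * (h * (w * h * w⁻¹)) * w⁻¹ = (w * h * w⁻¹) * ((w * w) * h * (w * w)⁻¹) by group,
        hcommH _ hw2H h hh, mul_inv_cancel_right]
      exact hcommH _ (hwH h hh) h hh)
    exact eq_inv_of_mul_eq_one_right h1
  refine ⟨?_, fun h a ha => hinvH h ⟨ha.1, by rw [ha.2, mul_zero]⟩⟩
  have hw2H : w * w ∈ H := ⟨by rw [R.apply_mul, hw1, hw2], by rw [R.apply_mul, hw2, hw1]⟩
  exact hC _ hw2H (by group)

theorem exists_swap_formula : ∃ (w : G) (c : 𝔽), c ≠ 0 ∧ IsSquare (-c) ∧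
    R.ρ w ∞ = ((0 : 𝔽) : OnePoint 𝔽) ∧ R.ρ w ((0 : 𝔽) : OnePoint 𝔽) = ∞ ∧
    ∀ x : 𝔽, x ≠ 0 → R.ρ w (x : OnePoint 𝔽) = ((c / x : 𝔽) : OnePoint 𝔽) := by
  classical
  obtain ⟨w, hw1, hw2⟩ := R.exists_swap hp5
  have hscale := R.scales_iff hp5
  have hodd : p % 2 = 1 := (Nat.Prime.eq_two_or_odd hp.out).resolve_left (by omega)
  have hww : w * w = 1 ∧ ∀ h a, R.Scales h a → w * h * w⁻¹ = h⁻¹ := by
    rcases (show p % 4 = 1 ∨ p % 4 = 3 by omega) with h4 | h4
    · have hw := R.swap_invol_one hp5 hG h4 hw1 hw2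
      refine ⟨hw, fun h a ha => ?_⟩
      have h0 : R.ρ h ((0 : 𝔽) : OnePoint 𝔽) = ((0 : 𝔽) : OnePoint 𝔽) := by rw [ha.2, mul_zero]
      have hwh := R.swap_invol_one hp5 hG h4 (w := w * h) (by rw [R.apply_mul, ha.1, hw1])
        (by rw [R.apply_mul, h0, hw2])
      rw [inv_eq_of_mul_eq_one_right hw]
      refine eq_inv_of_mul_eq_one_left ?_
      rwa [show w * h * (w * h) = w * h * w * h by group] at hwh
    · exact R.swap_invol_three hp5 hG h4 hw1 hw2
  obtain ⟨hw, hwinv⟩ := hww
  have hwwx : ∀ x, R.ρ w (R.ρ w x) = x := fun x => by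
    rw [← R.apply_mul, hw, map_one, Equiv.Perm.one_apply]
  have hne : ∀ x : 𝔽, x ≠ 0 → ∃ y : 𝔽, y ≠ 0 ∧ R.ρ w (x : OnePoint 𝔽) = (y : OnePoint 𝔽) := by
    intro x hx
    obtain ⟨y, hy⟩ := OnePoint.ne_infty_iff_exists.1 (show R.ρ w (x : OnePoint 𝔽) ≠ ∞ from fun h => by
      have := congrArg (R.ρ w) h
      rw [hwwx, hw1] at this
      exact hx (coe_injective this))
    refine ⟨y, fun h0 => ?_, hy.symm⟩
    have := congrArg (R.ρ w) hy
    rw [hwwx, h0, hw2] at this
    exact coe_ne_infty x this.symm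
  choose ω hω0 hω using hne
  -- `w (a x) = w (x) / a`
  have hωa : ∀ (a : 𝔽), a ≠ 0 → IsSquare a → ∀ (x : 𝔽) (hx : x ≠ 0) (hax : a * x ≠ 0),
      ω (a * x) hax = ω x hx / a := by
    intro a ha hsq x hx hax
    obtain ⟨h, hh⟩ := hscale.2 a ha hsq
    apply coe_injective
    rw [← hω (a * x) hax, ← hh.2, ← R.apply_mul, mul_inv_eq_iff_eq_mul.1 (hwinv h a hh), R.apply_mul, hω x hx]
    refine R.apply_inv_eq ?_
    rw [hh.2, mul_div_cancel₀ _ ha]
  set c := ω 1 one_ne_zero with hc
  have hc0 : c ≠ 0 := hω0 1 one_ne_zero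
  have hS : ∀ (s : 𝔽) (hs : s ≠ 0), IsSquare s → ω s hs = c / s := fun s hs hsq => by
    have := hωa s hs hsq 1 one_ne_zero (by rw [mul_one]; exact hs)
    simp only [mul_one] at this
    exact this
  have hnn : ∀ {a b : 𝔽}, a ≠ 0 → b ≠ 0 → ¬ IsSquare a → ¬ IsSquare b → IsSquare (a * b) := by
    intro a b ha hb hna hnb
    rw [ZMod.euler_criterion p (mul_ne_zero ha hb), mul_pow]
    rw [ZMod.euler_criterion p ha] at hna
    rw [ZMod.euler_criterion p hb] at hnb
    rw [(ZMod.pow_div_two_eq_neg_one_or_one p ha).resolve_left hna,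
      (ZMod.pow_div_two_eq_neg_one_or_one p hb).resolve_left hnb, neg_one_mul, neg_neg]
  have hfix : ∀ (y : 𝔽) (hy : y ≠ 0), IsSquare y → y * y = c → R.ρ w (y : OnePoint 𝔽) = (y : OnePoint 𝔽) := by
    intro y hy hsq hyy
    rw [hω y hy, hS y hy hsq, ← hyy, mul_div_assoc, div_self hy, mul_one]
  rcases (show p % 4 = 1 ∨ p % 4 = 3 by omega) with h4 | h4
  · -- `p ≡ 1 (mod 4)`
    have hm1 : IsSquare (-1 : 𝔽) := ZMod.exists_sq_eq_neg_one_iff.2 (by omega)
    have hw1' : w ≠ 1 := fun h => by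
      rw [h, map_one, Equiv.Perm.one_apply] at hw1
      exact coe_ne_infty _ hw1.symm
    have hcS : IsSquare c := by
      by_contra hns
      -- then no finite nonzero point is fixed
      have hnofix : ∀ x, R.ρ w x ≠ x := by
        intro x
        cases x with
        | infty => rw [hw1]; exact coe_ne_infty _
        | coe x =>
          rcases eq_or_ne x 0 with rfl | hx
          · rw [hw2]; exact Ne.symm (coe_ne_infty _)
          intro he
          rw [hω x hx] at he
          have he' := coe_injective he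
          by_cases hxs : IsSquare x
          · rw [hS x hx hxs, div_eq_iff hx] at he'
            exact hns ⟨x, he'⟩
          · have hq : IsSquare (x * x⁻¹) := ⟨1, by rw [mul_inv_cancel₀ hx, mul_one]⟩
            have hxin : ¬ IsSquare (x⁻¹) := fun h => hxs (by simpa using IsSquare.inv h)
            -- `x` lies off the squares, but `w` maps the squares onto the nonsquares
            obtain ⟨hy, hys⟩ : c / x ≠ 0 ∧ IsSquare (c / x) :=
              ⟨div_ne_zero hc0 hx, by rw [div_eq_mul_inv]; exact hnn hc0 (inv_ne_zero hx) hns hxin⟩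
            have h5 := hω (c / x) hy
            rw [hS _ hy hys, div_div_cancel₀ hc0] at h5
            have h6 := congrArg (R.ρ w) h5
            rw [hwwx, hω x hx, he'] at h6
            exact hxs (coe_injective h6 ▸ hys)
      have h2 := R.card_fixed_involution hp5 hG h4 hw1' hw
      rw [Finset.filter_false_of_mem (fun x _ => hnofix x), Finset.card_empty] at h2
      omega
    have hnegc : IsSquare (-c) := by simpa using hm1.mul hcS
    obtain ⟨n0, hn0⟩ : ∃ n0 : 𝔽, ¬ IsSquare n0 := FiniteField.exists_nonsquare (by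
      rw [ZMod.ringChar_zmod_n]; omega)
    have hn00 : n0 ≠ 0 := fun h => hn0 (h ▸ IsSquare.zero)
    set d := ω n0 hn00 * n0 with hd
    have hN : ∀ (x : 𝔽) (hx : x ≠ 0), ¬ IsSquare x → ω x hx = d / x := by
      intro x hx hxs
      have hni : ¬ IsSquare (n0⁻¹) := fun h => hn0 (by simpa using IsSquare.inv h)
      have ha : IsSquare (x * n0⁻¹) := hnn hx (inv_ne_zero hn00) hxs hni
      have := hωa (x * n0⁻¹) (mul_ne_zero hx (inv_ne_zero hn00)) ha n0 hn00
        (by rw [inv_mul_cancel_right₀ hn00]; exact hx)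
      simp only [inv_mul_cancel_right₀ hn00] at this
      rw [this, hd]
      field_simp
    have hdc : d = c := by
      obtain ⟨x, hx, hxs, hxc⟩ : ∃ x : 𝔽, x ≠ 0 ∧ IsSquare x ∧ ¬ IsSquare (x + c) := by
        by_contra hcon
        push Not at hcon
        have hall : ∀ k : ℕ, IsSquare ((k : 𝔽) * c) := by
          intro k
          induction k with
          | zero => rw [Nat.cast_zero, zero_mul]; exact IsSquare.zero
          | succ k ih =>
            rw [Nat.cast_succ, add_mul, one_mul]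
            rcases eq_or_ne ((k : 𝔽) * c) 0 with h0 | h0
            · rw [h0, zero_add]; exact hcS
            · exact hcon _ h0 ih
        obtain ⟨k, hk⟩ := ZMod.natCast_zmod_surjective (n0 / c)
        have := hall k
        rw [hk, div_mul_cancel₀ _ hc0] at this
        exact hn0 this
      have hxc0 : x + c ≠ 0 := fun h => hxc (h ▸ IsSquare.zero)
      -- the element `u = t ^ (-c) * w * t * w` fixes the point over `∞`
      set u := R.t ^ (-c).val * (w * (R.t * w)) with hu
      have huinf : R.ρ u ∞ = ((0 : 𝔽) : OnePoint 𝔽) := by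
        rw [hu, R.apply_mul, R.apply_mul, R.apply_mul, hw1, R.t_some, zero_add, hω 1 one_ne_zero,
          R.tpow_some, ZMod.natCast_zmod_val, ← hc, add_neg_cancel]
      have hu0 : R.ρ u ((0 : 𝔽) : OnePoint 𝔽) = ((-c : 𝔽) : OnePoint 𝔽) := by
        rw [hu, R.apply_mul, R.apply_mul, R.apply_mul, hw2, R.t_inf, hw1, R.tpow_some,
          ZMod.natCast_zmod_val, zero_add]
      obtain ⟨A, B, -, hAB⟩ := R.affine (g := w * u) (by rw [R.apply_mul, huinf, hw2])
      have hval : ∀ y : 𝔽, R.ρ u (y : OnePoint 𝔽) = R.ρ w ((A * y + B : 𝔽) : OnePoint 𝔽) := fun y => by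
        rw [← hAB, R.apply_mul w u, hwwx]
      have hB : B = -1 := by
        have h := (hval 0).symm.trans hu0
        rw [mul_zero, zero_add] at h
        have h' := congrArg (R.ρ w) h
        rw [hwwx, hω (-c) (neg_ne_zero.2 hc0), hS _ _ hnegc] at h'
        rw [coe_injective h', div_neg, div_self hc0]
      have hA : A = -1 / c := by
        have hum : R.ρ u ((-c : 𝔽) : OnePoint 𝔽) = ∞ := by
          rw [hu, R.apply_mul, R.apply_mul, R.apply_mul, hω (-c) (neg_ne_zero.2 hc0), hS _ _ hnegc,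
            div_neg, div_self hc0, R.t_some, neg_add_cancel, hw2, R.tpow_inf]
        rw [hval, hB] at hum
        have h' := congrArg (R.ρ w) hum
        rw [hwwx, hw1] at h'
        rw [eq_div_iff hc0]
        linear_combination -coe_injective h'
      have hinvs : IsSquare ((-c)⁻¹) := IsSquare.inv hnegc
      have hxi : IsSquare x⁻¹ := IsSquare.inv hxs
      have hy1 : ¬ IsSquare (c / x + 1) := fun h => by
        refine hxc ?_
        have := hxs.mul h
        rwa [show x * (c / x + 1) = x + c by field_simp; ring] at this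
      have hy10 : c / x + 1 ≠ 0 := fun h => hy1 (h ▸ IsSquare.zero)
      have hy2 : ¬ IsSquare (A * x + B) := fun h => by
        refine hxc ?_
        have := hnegc.mul h
        rwa [hA, hB, show -c * (-1 / c * x + -1) = x + c by field_simp; ring] at this
      have hy20 : A * x + B ≠ 0 := fun h => hy2 (h ▸ IsSquare.zero)
      have h := hval x
      rw [hu, R.apply_mul, R.apply_mul, R.apply_mul, hω x hx, hS x hx hxs, R.t_some,
        hω _ hy10, hN _ _ hy1, R.tpow_some, ZMod.natCast_zmod_val, hω _ hy20, hN _ _ hy2] at h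
      have h' := coe_injective h
      rw [hA, hB] at h'
      have e1 : d / (c / x + 1) = d * x / (x + c) := by
        rw [show c / x + 1 = (x + c) / x by field_simp; ring, div_div_eq_mul_div]
      have e2 : d / (-1 / c * x + -1) = -(d * c) / (x + c) := by
        rw [show -1 / c * x + -1 = -(x + c) / c by field_simp; ring, div_div_eq_mul_div, div_neg, neg_div]
      rw [e1, e2] at h'
      field_simp at h'
      have : (d - c) * (x + c) = 0 := by linear_combination h'
      exact sub_eq_zero.1 ((mul_eq_zero.1 this).resolve_right hxc0)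
    refine ⟨w, c, hc0, hnegc, hw1, hw2, fun x hx => ?_⟩
    rw [hω x hx]
    by_cases hxs : IsSquare x
    · rw [hS x hx hxs]
    · rw [hN x hx hxs, hdc]
  · -- `p ≡ 3 (mod 4)`
    have hm1 : ¬ IsSquare (-1 : 𝔽) := fun h => by
      have := ZMod.exists_sq_eq_neg_one_iff.1 h
      omega
    have hm10 : (-1 : 𝔽) ≠ 0 := neg_ne_zero.2 one_ne_zero
    have hcN : ¬ IsSquare c := by
      intro hcs
      obtain ⟨y, hy⟩ := hcs
      have hy0 : y ≠ 0 := fun h => hc0 (by rw [hy, h, mul_zero])
      obtain ⟨z, hz0, hzs, hzz⟩ : ∃ z : 𝔽, z ≠ 0 ∧ IsSquare z ∧ z * z = c := by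
        by_cases hys : IsSquare y
        · exact ⟨y, hy0, hys, hy.symm⟩
        · exact ⟨-y, neg_ne_zero.2 hy0, by simpa using hnn hm10 hy0 hm1 hys, by rw [neg_mul_neg, ← hy]⟩
      -- a conjugate of `w` would fix `∞`
      obtain ⟨k, hk⟩ := R.exists_to_infty hp5 ((z : 𝔽) : OnePoint 𝔽)
      set v := k * w * k⁻¹ with hv
      have hvinf : R.ρ v ∞ = ∞ := by
        rw [hv, R.apply_mul, R.apply_mul, R.apply_inv_eq hk, hfix z hz0 hzs hzz, hk]
      have hv2 : v * v = 1 := by
        rw [hv, show k * w * k⁻¹ * (k * w * k⁻¹) = k * (w * w) * k⁻¹ by group, hw, mul_one, mul_inv_cancel]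
      have hv1 : v ≠ 1 := fun h => by
        rw [hv, conj_eq_one_iff] at h
        rw [h, map_one, Equiv.Perm.one_apply] at hw1
        exact coe_ne_infty _ hw1.symm
      obtain ⟨a, b, ha, hab⟩ := R.affine hvinf
      have hsqa : IsSquare a := by
        have h0 : R.ρ (R.t ^ (-b).val * v) ((0 : 𝔽) : OnePoint 𝔽) = ((0 : 𝔽) : OnePoint 𝔽) := by
          rw [R.apply_mul, hab, R.tpow_some, ZMod.natCast_zmod_val, mul_zero, zero_add, add_neg_cancel]
        obtain ⟨a', ha', hs'⟩ := R.scales_of_fix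
          (show R.ρ (R.t ^ (-b).val * v) ∞ = ∞ by rw [R.apply_mul, hvinf, R.tpow_inf]) h0
        have h1 := hs'.2 1
        rw [R.apply_mul, hab, R.tpow_some, ZMod.natCast_zmod_val] at h1
        have h2 := coe_injective h1
        rw [show a = a' by linear_combination h2]
        exact hscale.1 ha' hs'
      have hiter : ∀ y : 𝔽, a * (a * y + b) + b = y := fun y => by
        have h := hab (a * y + b)
        rw [← hab y, ← R.apply_mul, hv2, map_one, Equiv.Perm.one_apply] at h
        exact (coe_injective h).symm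
      have haa : a * a = 1 := by linear_combination (hiter 1) - (hiter 0)
      rcases mul_self_eq_one_iff.1 haa with rfl | rfl
      · have hb : b = 0 := by
          have h := hiter 0
          have h2 : (2 : 𝔽) * b = 0 := by linear_combination h
          refine (mul_eq_zero.1 h2).resolve_left fun e => ?_
          have h3 : ((2 : ℕ) : 𝔽) = 0 := by exact_mod_cast e
          rw [ZMod.natCast_eq_zero_iff] at h3
          have := Nat.le_of_dvd (by omega) h3
          omega
        refine hv1 (R.eq_one_of_three hp5 hvinf (zero_ne_one (α := 𝔽)) ?_ ?_) <;> rw [hab, hb] <;> simp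
      · exact hm1 hsqa
    have hnegc : IsSquare (-c) := by simpa using hnn hm10 hc0 hm1 hcN
    refine ⟨w, c, hc0, hnegc, hw1, hw2, fun x hx => ?_⟩
    by_cases hxs : IsSquare x
    · rw [hω x hx, hS x hx hxs]
    · have hxi : ¬ IsSquare x⁻¹ := fun h => hxs (by simpa using IsSquare.inv h)
      have hys : IsSquare (c / x) := by rw [div_eq_mul_inv]; exact hnn hc0 (inv_ne_zero hx) hcN hxi
      have h5 := hω (c / x) (div_ne_zero hc0 hx)
      rw [hS _ _ hys, div_div_cancel₀ hc0] at h5
      have h6 := congrArg (R.ρ w) h5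
      rw [hwwx] at h6
      exact h6.symm

theorem le_range_mu (g : G) : R.ρ g ∈ (mu 𝔽).range := by
  classical
  obtain ⟨w, c, hc0, ⟨r, hr⟩, hw1, hw2, hw⟩ := R.exists_swap_formula hp5 hG
  have hr0 : r ≠ 0 := fun h => hc0 (by rw [h, mul_zero, neg_eq_zero] at hr; exact hr)
  have haff : ∀ g, R.ρ g ∞ = ∞ → R.ρ g ∈ (mu 𝔽).range := by
    intro g hg
    obtain ⟨a, b, ha, hab⟩ := R.affine hg
    obtain ⟨a', ha', hs'⟩ := R.scales_of_fix
      (show R.ρ (R.t ^ (-b).val * g) ∞ = ∞ by rw [R.apply_mul, hg, R.tpow_inf])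
      (show R.ρ (R.t ^ (-b).val * g) ((0 : 𝔽) : OnePoint 𝔽) = ((0 : 𝔽) : OnePoint 𝔽) by
        rw [R.apply_mul, hab, R.tpow_some, ZMod.natCast_zmod_val, mul_zero, zero_add, add_neg_cancel])
    have h1 := hs'.2 1
    rw [R.apply_mul, hab, R.tpow_some, ZMod.natCast_zmod_val] at h1
    have h2 : a = a' := by linear_combination coe_injective h1
    obtain ⟨s, hs⟩ := (R.scales_iff hp5).1 ha' hs'
    rw [← h2] at hs
    have hs0 : s ≠ 0 := fun h => ha (by rw [hs, h, mul_zero])
    refine ⟨⟨!![s, b / s; 0, 1 / s], by simp [det_fin_two, hs0]⟩, Equiv.ext fun x => ?_⟩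
    cases x with
    | infty => erw [mu_infty]; rw [hg]; simp
    | coe x =>
      erw [mu_some]; rw [hab, if_neg (by simp [hs0])]
      congr 1
      simp only [Matrix.cons_val', Matrix.cons_val_zero, Matrix.cons_val_one, Matrix.of_apply,
        Matrix.cons_val_fin_one, zero_mul, zero_add]
      rw [hs]; field_simp
  by_cases hg : R.ρ g ∞ = ∞
  · exact haff g hg
  obtain ⟨y, hy⟩ := OnePoint.ne_infty_iff_exists.1 hg
  have h1 := haff (w * (R.t ^ (-y).val * g)) (by
    rw [R.apply_mul, R.apply_mul, ← hy, R.tpow_some, ZMod.natCast_zmod_val, add_neg_cancel, hw2])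
  have hwmu : R.ρ w ∈ (mu 𝔽).range := by
    refine ⟨⟨!![0, c / r; 1 / r, 0], by simp [det_fin_two]; field_simp; linear_combination hr⟩,
      Equiv.ext fun x => ?_⟩
    cases x with
    | infty => erw [mu_infty]; rw [hw1, if_neg (by simp [hr0])]; simp
    | coe x =>
      rcases eq_or_ne x 0 with rfl | hx
      · erw [mu_some]; rw [hw2, if_pos (by simp)]
      · erw [mu_some]; rw [hw x hx, if_neg (by simp [hr0, hx])]
        congr 1
        simp only [Matrix.cons_val', Matrix.cons_val_zero, Matrix.cons_val_one, Matrix.of_apply,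
          Matrix.cons_val_fin_one, zero_mul, zero_add, add_zero]
        field_simp
  have ht := haff (R.t ^ (-y).val) (R.tpow_inf _)
  rw [map_mul, map_mul] at h1
  have h2 := mul_mem (inv_mem ht) (mul_mem (inv_mem hwmu) h1)
  rwa [inv_mul_cancel_left, inv_mul_cancel_left] at h2

end Rep

/-- A simple group of order `p (p² - 1) / 2` with `p + 1` Sylow `p`-subgroups is `PSL(2, p)`. -/
theorem iso_psl [IsSimpleGroup G] (hp5 : 5 ≤ p) (hG : 2 * Nat.card G = p * (p ^ 2 - 1))
    (hn : Nat.card (Sylow p G) = p + 1) {F : Type*} [Field F] [Fintype F] (hF : Fintype.card F = p) :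
    Nonempty (G ≃* ProjectiveSpecialLinearGroup (Fin 2) F) := by
  classical
  obtain ⟨R⟩ := exists_rep hp5 hG hn
  let e1 : ProjectiveSpecialLinearGroup (Fin 2) 𝔽 ≃* (mu 𝔽).range :=
    (QuotientGroup.quotientMulEquivOfEq (ker_mu (K := 𝔽)).symm).trans
      (QuotientGroup.quotientKerEquivRange (mu 𝔽))
  have hcardP : 2 * Nat.card (ProjectiveSpecialLinearGroup (Fin 2) 𝔽) = p * (p ^ 2 - 1) := by
    have h := Linear.card_SL_eq_gcd_mul_card_PSL (ι := Fin 2) (F := 𝔽)
    rw [Fintype.card_fin, ZMod.card] at h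
    have hg : Nat.gcd 2 (p - 1) = 2 := Nat.gcd_eq_left (by
      rcases Nat.Prime.eq_two_or_odd hp.out with h2 | h2 <;> omega)
    rw [hg] at h
    have h2 := Linear.card_SL_mul (F := 𝔽) 2 (by norm_num)
    rw [ZMod.card, Fin.prod_univ_two] at h2
    simp only [Fin.val_zero, Fin.val_one, pow_zero, pow_one] at h2
    rw [← h]
    refine Nat.eq_of_mul_eq_mul_left (show 0 < p - 1 by omega) ?_
    rw [h2, show p ^ 2 - p = p * (p - 1) by rw [Nat.mul_sub_one, sq]]
    ring
  have hle : R.ρ.range ≤ (mu 𝔽).range := by rintro _ ⟨g, rfl⟩; exact R.le_range_mu hp5 hG g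
  have hrange : R.ρ.range = (mu 𝔽).range := by
    refine Subgroup.eq_of_le_of_card_ge hle (le_of_eq ?_)
    rw [← Nat.card_congr e1.toEquiv, ← Nat.card_congr (MonoidHom.ofInjective R.inj).toEquiv]
    omega
  let e2 : G ≃* ProjectiveSpecialLinearGroup (Fin 2) 𝔽 :=
    ((MonoidHom.ofInjective R.inj).trans (MulEquiv.subgroupCongr hrange)).trans e1.symm
  let φ : 𝔽 ≃+* F := ZMod.ringEquivOfPrime F hp.out hF
  let E : SL(2, 𝔽) ≃* SL(2, F) :=
    { (SpecialLinearGroup.map φ.toRingHom : SL(2, 𝔽) →* SL(2, F)) with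
      invFun := SpecialLinearGroup.map φ.symm.toRingHom
      left_inv := fun A => by ext i j; simp
      right_inv := fun A => by ext i j; simp }
  refine ⟨e2.trans (QuotientGroup.congr _ _ E ?_)⟩
  refine le_antisymm ?_ ?_
  · rintro _ ⟨x, hx, rfl⟩
    refine Subgroup.mem_center_iff.2 fun y => ?_
    obtain ⟨z, rfl⟩ := E.surjective y
    show E z * E x = E x * E z
    rw [← map_mul, ← map_mul, Subgroup.mem_center_iff.1 hx z]
  · intro y hy
    obtain ⟨x, rfl⟩ := E.surjective y
    exact ⟨x, Subgroup.mem_center_iff.2 fun z => E.injective (by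
      rw [map_mul, map_mul, Subgroup.mem_center_iff.1 hy (E z)]), rfl⟩

end Main

end Cfsg.Lib.Small.PSLTwoRecog

namespace Cfsg.Lib.Small.PSLTwoRecog

/-- In a simple group the number of Sylow `p`-subgroups is a nontrivial divisor that is `1` modulo `p`. -/
theorem card_sylow_eq_add_one {G : Type*} [Group G] [Finite G] [IsSimpleGroup G] {p : ℕ} [Fact p.Prime]
    (hG : 2 * Nat.card G = p * (p ^ 2 - 1)) (hp5 : 5 ≤ p)
    (hdiv : ∀ d, d ≤ (p ^ 2 - 1) / 2 → d ∣ (p ^ 2 - 1) / 2 → d % p = 1 → d = 1 ∨ d = p + 1) :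
    Nat.card (Sylow p G) = p + 1 := by
  have hp := (Fact.out : p.Prime)
  have h25 : 25 ≤ p ^ 2 := by nlinarith
  have he : 2 ∣ p ^ 2 - 1 := by
    rcases hp.eq_two_or_odd with h | h
    · omega
    · exact (Nat.even_iff.2 (by rw [Nat.sub_mod_eq_zero_of_mod_eq]; simp [Nat.pow_mod, h])).two_dvd
  obtain ⟨m, hm⟩ := he
  have hcard : Nat.card G = p ^ 1 * m := by
    rw [hm] at hG
    rw [pow_one]
    linarith
  have hpm : ¬ p ∣ m := fun h => by
    have h1 : p ∣ p ^ 2 - 1 := hm ▸ dvd_mul_of_dvd_right h 2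
    have h2 : p ∣ 1 := by
      have := Nat.dvd_sub (dvd_pow_self p two_ne_zero) h1
      rwa [Nat.sub_sub_self (by omega)] at this
    exact hp.not_dvd_one h2
  obtain ⟨h1, h2⟩ := Small.sylow_facts (G := G) 1 m hcard hpm
  have hm2 : (p ^ 2 - 1) / 2 = m := by omega
  rcases hdiv _ (hm2 ▸ Nat.le_of_dvd (by omega) h1) (hm2 ▸ h1) h2 with h | h
  · exfalso
    have : Subsingleton (Sylow p G) := (Nat.card_eq_one_iff_unique.1 h).1
    obtain ⟨P⟩ : Nonempty (Sylow p G) := inferInstance
    have hc : Nat.card (P : Subgroup G) = p := by rw [Small.card_sylow 1 m hcard hpm P, pow_one]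
    have hN := Sylow.normal_of_subsingleton P
    rcases hN.eq_bot_or_eq_top with hb | hb
    · rw [hb, Subgroup.card_bot] at hc; omega
    · rw [hb, Subgroup.card_top] at hc
      rw [hc] at hG
      have : p ^ 2 - 1 = 2 := by
        rw [mul_comm 2 p] at hG
        exact (Nat.eq_of_mul_eq_mul_left hp.pos hG).symm
      omega
  · exact h

end Cfsg.Lib.Small.PSLTwoRecog
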