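import Cfsg.Agent.Lib.Small.SimpleOrder
import Cfsg.Agent.Lib.Small.PSLTwoRecog
import Mathlib.GroupTheory.SpecificGroups.Alternating.Simple
import Mathlib.GroupTheory.SchurZassenhaus

/-!
# Simple groups of order 360 as permutation groups on their ten Sylow 3-subgroups

A simple group of order 360 is isomorphic to one fixed subgroup of `Equiv.Perm (Fin 10)`.
-/

set_option autoImplicit false
set_option linter.style.haveILetI false
set_option linter.unusedSectionVars false

namespace Cfsg.Lib.Small.Order360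

open Subgroup
open scoped Pointwise

variable {G : Type*} [Group G] [Finite G] [IsSimpleGroup G] (h : Nat.card G = 360)
include h

theorem noncyclic : ¬ IsCyclic G := not_isCyclic_of_card (by rw [h]; norm_num)

theorem index_ge {H : Subgroup G} (hH : H ≠ ⊤) : 6 ≤ H.index := by
  by_contra hlt
  have := index_dvd_factorial_le hH (b := 5) (by omega)
  rw [h] at this
  norm_num [Nat.factorial] at this

theorem card_lt {H : Subgroup G} (hH : H ≠ ⊤) : Nat.card H ≤ 60 := by
  have h1 := H.card_mul_index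
  rw [h] at h1
  have := index_ge h hH
  nlinarith

theorem ne_top_of_normal_ne {H : Subgroup G} (h1 : H ≠ ⊥) (h2 : H ≠ ⊤) :
    normalizer (H : Set G) ≠ ⊤ := by
  intro hn
  rcases (normalizer_eq_top_iff.mp hn).eq_bot_or_eq_top with h | h
  exacts [h1 h, h2 h]

theorem sylow_three_card (P : Sylow 3 G) : Nat.card (P : Subgroup G) = 9 :=
  haveI : Fact (Nat.Prime 3) := ⟨Nat.prime_three⟩
  card_sylow (p := 3) 2 40 (by rw [h]; norm_num) (by norm_num) P

theorem comm (P : Sylow 3 G) {a b : G} (ha : a ∈ (P : Subgroup G)) (hb : b ∈ (P : Subgroup G)) :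
    a * b = b * a := by
  haveI : Fact (Nat.Prime 3) := ⟨Nat.prime_three⟩
  exact congrArg Subtype.val (IsPGroup.commutative_of_card_eq_prime_sq (p := 3)
    (G := (P : Subgroup G)) (by rw [sylow_three_card h]; norm_num) ⟨a, ha⟩ ⟨b, hb⟩)

theorem card_three : Nat.card (Sylow 3 G) = 10 := by
  haveI : Fact (Nat.Prime 3) := ⟨Nat.prime_three⟩
  obtain ⟨hdvd, hmod⟩ := sylow_facts (G := G) (p := 3) 2 40 (by rw [h]; norm_num) (by norm_num)
  obtain ⟨P⟩ : Nonempty (Sylow 3 G) := inferInstance
  have hle : Nat.card (Sylow 3 G) ≤ 40 := Nat.le_of_dvd (by norm_num) hdvd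
  have hm := card_normalizer_mul P
  rw [h] at hm
  have hP := sylow_three_card h P
  have h40 : Nat.card (Sylow 3 G) ≠ 40 := by
    intro h40
    rw [h40] at hm
    refine not_normalizer_le_centralizer (noncyclic h) P (fun e => by rw [e, card_bot] at hP; omega) ?_
    have : normalizer ((P : Subgroup G) : Set G) = (P : Subgroup G) :=
      (eq_of_le_of_card_ge le_normalizer (by rw [hP]; omega)).symm
    rw [this]
    exact fun a ha => mem_centralizer_iff.mpr fun b hb => comm h P hb ha
  have hsmall : 5 < Nat.card (Sylow 3 G) := by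
    have hne : normalizer ((P : Subgroup G) : Set G) ≠ ⊤ := by
      refine ne_top_of_normal_ne h (fun e => by rw [e, card_bot] at hP; omega)
        (fun e => by rw [e, card_top, h] at hP; omega)
    have h6 := index_ge h hne
    rw [P.card_eq_index_normalizer, ← Sylow.coe_coe]
    omega
  generalize Nat.card (Sylow 3 G) = n at *
  interval_cases n <;> omega

theorem card_normalizer (P : Sylow 3 G) :
    Nat.card (normalizer ((P : Subgroup G) : Set G)) = 36 := by
  haveI : Fact (Nat.Prime 3) := ⟨Nat.prime_three⟩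
  have := card_normalizer_mul P
  rw [card_three h, h] at this
  omega

/-- Distinct Sylow 3-subgroups meet trivially. -/
theorem trivial_meet {P Q : Sylow 3 G} (hPQ : P ≠ Q) {x : G} (hxP : x ∈ (P : Subgroup G))
    (hxQ : x ∈ (Q : Subgroup G)) : x = 1 := by
  haveI : Fact (Nat.Prime 3) := ⟨Nat.prime_three⟩
  by_contra hx
  set C : Subgroup G := centralizer ({x} : Set G) with hCdef
  have hPC : (P : Subgroup G) ≤ C := fun a ha =>
    mem_centralizer_singleton_iff.mpr (comm h P ha hxP)
  have hQC : (Q : Subgroup G) ≤ C := fun a ha =>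
    mem_centralizer_singleton_iff.mpr (comm h Q ha hxQ)
  have hCtop : C ≠ ⊤ := by
    intro hC
    have hxc : x ∈ center G := mem_center_iff.mpr fun g =>
      mem_centralizer_singleton_iff.mp (by rw [← hCdef, hC]; trivial)
    rcases (inferInstance : (center G).Normal).eq_bot_or_eq_top with hz | hz
    · rw [hz, mem_bot] at hxc; exact hx hxc
    · let _ : CommGroup G := { (inferInstance : Group G) with
        mul_comm := fun a b => (mem_center_iff.mp (hz ▸ mem_top b) a) }
      exact noncyclic h IsSimpleGroup.isCyclic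
  have hle := card_lt h hCtop
  obtain ⟨m, hm⟩ : 9 ∣ Nat.card C := sylow_three_card h P ▸ card_dvd_of_le hPC
  have hdvd : Nat.card C ∣ 360 := h ▸ card_subgroup_dvd_card C
  have hm40 : m ∣ 40 := by
    rw [hm, show (360 : ℕ) = 9 * 40 by norm_num] at hdvd
    exact Nat.dvd_of_mul_dvd_mul_left (by norm_num) hdvd
  have hm3 : ¬ 3 ∣ m := fun h3 => by
    have := h3.trans hm40; omega
  obtain ⟨hn1, hn2⟩ := sylow_facts (G := C) (p := 3) 2 m (by rw [hm]; norm_num) hm3
  by_cases h1 : Nat.card (Sylow 3 C) = 1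
  · haveI := (Nat.card_eq_one_iff_unique.mp h1).1
    have heq := congrArg Sylow.toSubgroup (Subsingleton.elim (P.subtype hPC) (Q.subtype hQC))
    rw [Sylow.coe_subtype, Sylow.coe_subtype] at heq
    exact hPQ (Sylow.ext (le_antisymm
      (fun a ha => (mem_subgroupOf (h := ⟨a, hPC ha⟩)).mp (heq ▸ ha))
      (fun a ha => (mem_subgroupOf (h := ⟨a, hQC ha⟩)).mp (heq.symm ▸ ha))))
  have hnle : Nat.card (Sylow 3 C) ≤ m := Nat.le_of_dvd (Nat.pos_of_dvd_of_pos hm40 (by norm_num)) hn1
  have hm6 : m ≤ 6 := by omega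
  obtain ⟨hn4, hm4⟩ : Nat.card (Sylow 3 C) = 4 ∧ m = 4 := by
    have hpos : 0 < Nat.card (Sylow 3 C) := Nat.card_pos
    have := hm40
    interval_cases m <;> first | omega | (
      generalize Nat.card (Sylow 3 C) = n at *
      interval_cases n <;> omega)
  subst hm4
  let PC : Sylow 3 C := P.subtype hPC
  have hPCc : Nat.card (PC : Subgroup C) = 9 :=
    card_sylow (p := 3) 2 4 (by rw [hm]; norm_num) (by norm_num) PC
  have hN := card_normalizer_mul PC
  rw [hn4, hm] at hN
  have hNeq : normalizer ((PC : Subgroup C) : Set C) = (PC : Subgroup C) :=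
    (eq_of_le_of_card_ge le_normalizer (by rw [hPCc]; omega)).symm
  have hNC : normalizer ((PC : Subgroup C) : Set C) ≤ centralizer ((PC : Subgroup C) : Set C) := by
    rw [hNeq]
    intro a ha
    rw [mem_centralizer_iff]
    intro b hb
    exact IsPGroup.commutative_of_card_eq_prime_sq (p := 3) (G := (PC : Subgroup C))
      (by rw [hPCc]; norm_num) ⟨b, hb⟩ ⟨a, ha⟩ |> congrArg Subtype.val
  have hV := MonoidHom.ker_transferSylow_isComplement' PC hNC
  set V : Subgroup C := (MonoidHom.transferSylow PC hNC).ker with hVdef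
  have hVc : Nat.card V = 4 := by
    have := hV.card_mul
    rw [hPCc, hm] at this
    omega
  have hV0c : Nat.card (V.map C.subtype) = 4 := by
    rw [card_map_of_injective C.subtype_injective, hVc]
  obtain ⟨K, hK, hVK⟩ := Sylow.exists_subgroup_card_pow_succ (p := 2) (n := 2)
    (hp := ⟨Nat.prime_two⟩) (by rw [h]; norm_num) (H := V.map C.subtype) (by rw [hV0c]; norm_num)
  have hKN : K ≤ normalizer ((V.map C.subtype : Subgroup G) : Set G) := by
    haveI : ((V.map C.subtype).subgroupOf K).Normal := normal_of_index_eq_two (by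
      have := relIndex_mul_relIndex ⊥ (V.map C.subtype) K bot_le hVK
      rw [relIndex_bot_left, relIndex_bot_left, hV0c, hK] at this
      change (V.map C.subtype).relIndex K = 2
      omega)
    exact (normal_subgroupOf_iff_le_normalizer hVK).mp inferInstance
  have hCN : C ≤ normalizer ((V.map C.subtype : Subgroup G) : Set G) := by
    haveI : ((V.map C.subtype).subgroupOf C).Normal := by
      rw [show (V.map C.subtype).subgroupOf C = V from comap_map_eq_self_of_injective C.subtype_injective V]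
      exact MonoidHom.normal_ker _
    exact (normal_subgroupOf_iff_le_normalizer (map_subtype_le V)).mp inferInstance
  have h72 : 72 ∣ Nat.card (normalizer ((V.map C.subtype : Subgroup G) : Set G)) := by
    have a := card_dvd_of_le hKN
    have b := card_dvd_of_le hCN
    rw [hK] at a
    rw [hm] at b
    omega
  have := card_lt h (ne_top_of_normal_ne h (H := V.map C.subtype)
    (fun e => by rw [e, card_bot] at hV0c; omega) (fun e => by rw [e, card_top, h] at hV0c; omega))
  have := Nat.le_of_dvd Nat.card_pos h72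
  omega

/-- A nontrivial element of a Sylow 3-subgroup fixes no other one. -/
theorem semiregular {P Q : Sylow 3 G} (hPQ : Q ≠ P) {x : G} (hx : x ∈ (P : Subgroup G))
    (hfix : x • Q = Q) : x = 1 := by
  have : x ∈ (P : Subgroup G) ⊓ normalizer (Q : Set G) :=
    ⟨hx, Sylow.smul_eq_iff_mem_normalizer.mp hfix⟩
  rw [P.isPGroup'.inf_normalizer_sylow Q] at this
  exact trivial_meet h hPQ.symm this.1 this.2

theorem smul_self {P : Sylow 3 G} {x : G} (hx : x ∈ (P : Subgroup G)) : x • P = P :=
  Sylow.smul_eq_iff_mem_normalizer.mpr (le_normalizer hx)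

theorem exists_translate {P Q R : Sylow 3 G} (hQ : Q ≠ P) (hR : R ≠ P) :
    ∃ x ∈ (P : Subgroup G), x • Q = R := by
  classical
  let f : ↥(P : Subgroup G) → {S : Sylow 3 G // S ≠ P} := fun x =>
    ⟨(x : G) • Q, fun e => hQ (by
      have := congrArg ((x : G)⁻¹ • ·) e
      simpa [smul_self h (inv_mem x.2)] using this)⟩
  have hinj : Function.Injective f := fun x y hxy => by
    have e : (x : G) • Q = (y : G) • Q := congrArg Subtype.val hxy
    have := semiregular h hQ (mul_mem (inv_mem y.2) x.2) (by rw [mul_smul, e, inv_smul_smul])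
    exact Subtype.ext (inv_mul_eq_one.mp this).symm
  have hc : Nat.card {S : Sylow 3 G // S ≠ P} = 9 := by
    haveI : Fintype (Sylow 3 G) := Fintype.ofFinite _
    rw [Nat.card_eq_fintype_card, Fintype.card_subtype_compl, ← Nat.card_eq_fintype_card,
      card_three h, Fintype.card_subtype_eq]
  obtain ⟨x, hx⟩ := ((Nat.bijective_iff_injective_and_card f).mpr
    ⟨hinj, by rw [hc, sylow_three_card h]⟩).2 ⟨R, hR⟩
  exact ⟨x, x.2, congrArg Subtype.val hx⟩

/-- The action on the Sylow 3-subgroups is doubly transitive. -/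
theorem two_trans {P Q P' Q' : Sylow 3 G} (h1 : P ≠ Q) (h2 : P' ≠ Q') :
    ∃ g : G, g • P = P' ∧ g • Q = Q' := by
  haveI : Fact (Nat.Prime 3) := ⟨Nat.prime_three⟩
  obtain ⟨g, hg⟩ := MulAction.exists_smul_eq G P P'
  have hgQ : g • Q ≠ P' := fun e => h1 (MulAction.injective g (hg.trans e.symm))
  obtain ⟨x, hx, hxe⟩ := exists_translate h hgQ h2.symm
  exact ⟨x * g, by rw [mul_smul, hg, smul_self h hx], by rw [mul_smul, hxe]⟩

theorem toPerm_injective : Function.Injective (MulAction.toPermHom G (Sylow 3 G)) := by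
  haveI : Fact (Nat.Prime 3) := ⟨Nat.prime_three⟩
  rcases (MulAction.toPermHom G (Sylow 3 G)).normal_ker.eq_bot_or_eq_top with hk | hk
  · exact (MonoidHom.ker_eq_bot_iff _).mp hk
  · exfalso
    obtain ⟨P⟩ : Nonempty (Sylow 3 G) := inferInstance
    have hsub : Subsingleton (Sylow 3 G) := ⟨fun A B => by
      obtain ⟨g, rfl⟩ := MulAction.exists_smul_eq G A B
      have hg : g ∈ (MulAction.toPermHom G (Sylow 3 G)).ker := hk ▸ mem_top g
      exact (Equiv.ext_iff.mp (MonoidHom.mem_ker.mp hg) A).symm⟩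
    have := Nat.card_eq_one_iff_unique.mpr ⟨hsub, inferInstance⟩
    rw [card_three h] at this
    omega

theorem eq_one_of_fix_all {P Q : Sylow 3 G} (hQ : Q ≠ P) {d : G} (hP : d • P = P) (hd : d • Q = Q)
    (hc : ∀ x ∈ (P : Subgroup G), d * x = x * d) : d = 1 := by
  refine toPerm_injective h ?_
  rw [map_one]
  refine Equiv.ext fun S => ?_
  show d • S = S
  by_cases hS : S = P
  · rw [hS, hP]
  · obtain ⟨x, hx, rfl⟩ := exists_translate h hQ hS
    rw [← mul_smul, hc x hx, mul_smul, hd]

/-- The stabilizer of two points. -/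
def two (P Q : Sylow 3 G) : Subgroup G := MulAction.stabilizer G P ⊓ MulAction.stabilizer G Q

omit h in
theorem mem_two {P Q : Sylow 3 G} {g : G} : g ∈ two P Q ↔ g • P = P ∧ g • Q = Q := Iff.rfl

theorem card_two {P Q : Sylow 3 G} (hQ : Q ≠ P) : Nat.card (two P Q) = 4 := by
  haveI : Fact (Nat.Prime 3) := ⟨Nat.prime_three⟩
  let f : ↥(P : Subgroup G) × ↥(two P Q) → ↥(normalizer ((P : Subgroup G) : Set G)) := fun z =>
    ⟨(z.1 : G) * z.2, mul_mem (le_normalizer z.1.2)
      (Sylow.smul_eq_iff_mem_normalizer.mp z.2.2.1)⟩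
  have hf : Function.Bijective f := by
    refine ⟨fun z w hzw => ?_, fun g => ?_⟩
    · have e : (z.1 : G) * z.2 = w.1 * w.2 := congrArg Subtype.val hzw
      have e2 : (z.1 : G) • Q = (w.1 : G) • Q := by
        have := congrArg (· • Q) e
        simpa [mul_smul, (mem_two.mp z.2.2).2, (mem_two.mp w.2.2).2] using this
      have e3 : (z.1 : G) = w.1 := (inv_mul_eq_one.mp (semiregular h hQ
        (mul_mem (inv_mem w.1.2) z.1.2) (by rw [mul_smul, e2, inv_smul_smul]))).symm
      exact Prod.ext (Subtype.ext e3) (Subtype.ext (mul_left_cancel (e3 ▸ e)))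
    · have hgP : (g : G) • P = P := Sylow.smul_eq_iff_mem_normalizer.mpr g.2
      obtain ⟨x, hx, hxe⟩ := exists_translate h hQ (R := (g : G) • Q)
        (fun e => hQ (MulAction.injective (g : G) (e.trans hgP.symm)))
      refine ⟨(⟨x, hx⟩, ⟨x⁻¹ * g, mem_two.mpr ⟨?_, ?_⟩⟩), Subtype.ext (mul_inv_cancel_left x _)⟩
      · rw [mul_smul, hgP, smul_self h (inv_mem hx)]
      · rw [mul_smul, ← hxe, inv_smul_smul]
  have := Nat.card_eq_of_bijective f hf
  rw [Nat.card_prod, sylow_three_card h, card_normalizer h] at this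
  omega

theorem sign_eq_one {α : Type*} [Fintype α] [DecidableEq α] (ρ : G →* Equiv.Perm α) (g : G) :
    Equiv.Perm.sign (ρ g) = 1 :=
  Cfsg.Lib.Small.PSLTwoRecog.sign_eq_one (by rw [h]; norm_num) ρ g

/-- An involution fixing two points inverts the Sylow subgroup. -/
theorem inverts {P Q : Sylow 3 G} (hQ : Q ≠ P) {d : G} (hd : d ∈ two P Q) (hd1 : d ≠ 1)
    (hd2 : d * d = 1) {x : G} (hx : x ∈ (P : Subgroup G)) : d * x * d⁻¹ = x⁻¹ := by
  classical
  haveI : Fintype (Sylow 3 G) := Fintype.ofFinite _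
  obtain ⟨hdP, hdQ⟩ := mem_two.mp hd
  set ρ := MulAction.toPermHom G (Sylow 3 G)
  have hdn : d ∈ normalizer ((P : Subgroup G) : Set G) := Sylow.smul_eq_iff_mem_normalizer.mp hdP
  set F : Subgroup G := (P : Subgroup G) ⊓ centralizer ({d} : Set G) with hF
  let f : Option F → {S : Sylow 3 G // ρ d S = S} := fun o => o.elim ⟨P, hdP⟩ fun y =>
    ⟨(y : G) • Q, by
      show d • (y : G) • Q = (y : G) • Q
      rw [← mul_smul, ← mem_centralizer_singleton_iff.mp y.2.2, mul_smul, hdQ]⟩
  have hne : ∀ y : G, y ∈ (P : Subgroup G) → y • Q ≠ P := fun y hy e => hQ (by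
    have := congrArg (y⁻¹ • ·) e
    simpa [smul_self h (inv_mem hy)] using this)
  have hf : Function.Bijective f := by
    refine ⟨?_, ?_⟩
    · rintro (_ | y) (_ | z) e
      · rfl
      · exact absurd (congrArg Subtype.val e).symm (hne _ z.2.1)
      · exact absurd (congrArg Subtype.val e) (hne _ y.2.1)
      · have e' : (y : G) • Q = (z : G) • Q := congrArg Subtype.val e
        exact congrArg some (Subtype.ext (inv_mul_eq_one.mp (semiregular h hQ
          (mul_mem (inv_mem z.2.1) y.2.1) (by rw [mul_smul, e', inv_smul_smul]))).symm)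
    · rintro ⟨S, hS⟩
      by_cases hSP : S = P
      · exact ⟨none, Subtype.ext hSP.symm⟩
      obtain ⟨y, hy, rfl⟩ := exists_translate h hQ hSP
      have hS' : d • y • Q = y • Q := hS
      have hdy : d * y * d⁻¹ ∈ (P : Subgroup G) := (mem_normalizer_iff.mp hdn y).mp hy
      have e := semiregular h hQ (mul_mem (inv_mem hy) hdy) (by
        rw [mul_smul, mul_smul, mul_smul, inv_smul_eq_iff.mpr hdQ.symm, hS', inv_smul_smul])
      refine ⟨some ⟨y, hy, mem_centralizer_singleton_iff.mpr ?_⟩, rfl⟩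
      exact (eq_mul_inv_iff_mul_eq.mp (inv_mul_eq_one.mp e))
  haveI : Fintype F := Fintype.ofFinite _
  have hcard := Fintype.card_of_bijective hf
  rw [Fintype.card_option, ← Nat.card_eq_fintype_card (α := F)] at hcard
  have hFdvd : Nat.card F ∣ 9 := sylow_three_card h P ▸ card_dvd_of_le inf_le_left
  have hs := Equiv.Perm.sign_of_pow_two_eq_one (σ := ρ d) (by rw [sq, ← map_mul, hd2, map_one])
  rw [sign_eq_one h, eq_comm, neg_one_pow_eq_one_iff_even (by decide)] at hs
  obtain ⟨k, hk⟩ := hs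
  rw [← Nat.card_eq_fintype_card, card_three h,
    show Fintype.card (Function.fixedPoints (ρ d)) = Fintype.card {S : Sylow 3 G // ρ d S = S} from
      Fintype.card_congr (Equiv.refl _), ← hcard] at hk
  have hle := Nat.le_of_dvd (by norm_num) hFdvd
  have hF1 : Nat.card F = 1 := by
    by_contra hne1
    have h9 : Nat.card F = 9 := by
      generalize Nat.card F = n at *
      interval_cases n <;> omega
    have hFP : F = (P : Subgroup G) :=
      eq_of_le_of_card_ge inf_le_left (by rw [h9, sylow_three_card h])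
    exact hd1 (eq_one_of_fix_all h hQ hdP hdQ fun y hy => (mem_centralizer_singleton_iff.mp
      (hFP.symm ▸ hy : y ∈ F).2).symm)
  have hdx : d * x * d⁻¹ ∈ (P : Subgroup G) := (mem_normalizer_iff.mp hdn x).mp hx
  have hdi : d⁻¹ = d := inv_eq_of_mul_eq_one_right hd2
  have hzF : x * (d * x * d⁻¹) ∈ F := by
    refine ⟨mul_mem hx hdx, mem_centralizer_singleton_iff.mpr ?_⟩
    have hc := comm h P hx hdx
    calc x * (d * x * d⁻¹) * d = x * d * x := by group
      _ = d * ((d * x * d⁻¹) * x) := by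
        rw [hdi, mul_assoc d x d, ← mul_assoc d (d * (x * d)) x, ← mul_assoc d d (x * d), hd2,
          one_mul, mul_assoc]
      _ = d * (x * (d * x * d⁻¹)) := by rw [hc]
  rw [F.eq_bot_of_card_eq hF1, mem_bot] at hzF
  exact eq_inv_of_mul_eq_one_right hzF

theorem eq_of_invol {P Q : Sylow 3 G} (hQ : Q ≠ P) {d d' : G} (hd : d ∈ two P Q) (hd1 : d ≠ 1)
    (hd2 : d * d = 1) (hd' : d' ∈ two P Q) (hd1' : d' ≠ 1) (hd2' : d' * d' = 1) : d = d' := by
  have e : d'⁻¹ * d = 1 := eq_one_of_fix_all h hQ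
    (mem_two.mp (mul_mem (inv_mem hd') hd)).1 (mem_two.mp (mul_mem (inv_mem hd') hd)).2 fun x hx => by
    have a := inverts h hQ hd hd1 hd2 hx
    have b := inverts h hQ hd' hd1' hd2' (inv_mem hx)
    have hi : d'⁻¹ = d' := inv_eq_of_mul_eq_one_right hd2'
    rw [inv_inv] at b
    have e : d' * (d * x * d⁻¹) * d'⁻¹ = x := by rw [a, b]
    calc d'⁻¹ * d * x = (d' * (d * x * d⁻¹) * d'⁻¹) * (d' * d) := by
          rw [show d'⁻¹ * d * x = d' * d * x by rw [hi]]; group
      _ = x * (d'⁻¹ * d) := by rw [e, hi]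
  exact (inv_mul_eq_one.mp e).symm

theorem exists_four {P Q : Sylow 3 G} (hQ : Q ≠ P) : ∃ j ∈ two P Q, orderOf j = 4 := by
  classical
  by_contra hno
  simp only [not_exists, not_and] at hno
  haveI : Fintype (two P Q) := Fintype.ofFinite _
  have hsq : ∀ d ∈ two P Q, d * d = 1 := fun d hd => by
    have hdvd : orderOf d ∣ 4 := card_two h hQ ▸ Subgroup.orderOf_dvd_natCard _ hd
    have h4 := hno d hd
    have := Nat.le_of_dvd (by norm_num) hdvd
    have hpow : d ^ orderOf d = 1 := pow_orderOf_eq_one d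
    have : orderOf d = 1 ∨ orderOf d = 2 := by
      interval_cases (orderOf d) <;> omega
    rcases this with o | o
    · rw [orderOf_eq_one_iff.mp o, mul_one]
    · rwa [o, sq] at hpow
  haveI : Nontrivial (two P Q) := Fintype.one_lt_card_iff_nontrivial.mp
    (by rw [← Nat.card_eq_fintype_card, card_two h hQ]; norm_num)
  obtain ⟨d, hd1⟩ := exists_ne (1 : two P Q)
  have hsub : (Finset.univ : Finset (two P Q)) ⊆ {1, d} := fun y _ => by
    by_cases hy : y = 1
    · simp [hy]
    · have := eq_of_invol h hQ y.2 (fun e => hy (Subtype.ext e)) (hsq _ y.2) d.2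
        (fun e => hd1 (Subtype.ext e)) (hsq _ d.2)
      simp [Subtype.ext this]
  have := (Finset.card_le_card hsub).trans Finset.card_le_two
  rw [Finset.card_univ, ← Nat.card_eq_fintype_card, card_two h hQ] at this
  omega

/-- A nontrivial element fixes at most two points. -/
theorem eq_one_of_three {S₁ S₂ S₃ : Sylow 3 G} (h12 : S₁ ≠ S₂) (h13 : S₁ ≠ S₃) (h23 : S₂ ≠ S₃)
    {g : G} (g1 : g • S₁ = S₁) (g2 : g • S₂ = S₂) (g3 : g • S₃ = S₃) : g = 1 := by
  by_contra hg
  have hmem : g ∈ two S₁ S₂ := ⟨g1, g2⟩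
  have hdvd : orderOf g ∣ 4 := card_two h h12.symm ▸ Subgroup.orderOf_dvd_natCard _ hmem
  have hle := Nat.le_of_dvd (by norm_num) hdvd
  have hne1 : orderOf g ≠ 1 := fun o => hg (orderOf_eq_one_iff.mp o)
  obtain ⟨d, hd, hd1, hd2, hd3⟩ : ∃ d ∈ two S₁ S₂, d ≠ 1 ∧ d * d = 1 ∧ d • S₃ = S₃ := by
    have hpow : g ^ orderOf g = 1 := pow_orderOf_eq_one g
    have : orderOf g = 2 ∨ orderOf g = 4 := by
      interval_cases (orderOf g) <;> omega
    rcases this with o | o
    · exact ⟨g, hmem, hg, by rwa [o, sq] at hpow, g3⟩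
    · refine ⟨g * g, mul_mem hmem hmem, fun e => ?_, ?_, by rw [mul_smul, g3, g3]⟩
      · have : orderOf g ∣ 2 := orderOf_dvd_of_pow_eq_one (by rw [sq, e])
        rw [o] at this
        norm_num at this
      · rw [o] at hpow
        rw [← hpow]; simp [pow_succ, mul_assoc]
  obtain ⟨x, hx, rfl⟩ := exists_translate h h12.symm h13.symm
  have e := inverts h h12.symm hd hd1 hd2 hx
  have hdx : x⁻¹ • S₂ = x • S₂ := by
    calc x⁻¹ • S₂ = (d * x * d⁻¹) • S₂ := by rw [e]
      _ = d • x • (d⁻¹ • S₂) := by rw [mul_smul, mul_smul]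
      _ = x • S₂ := by rw [inv_smul_eq_iff.mpr (mem_two.mp hd).2.symm, hd3]
  have hxx : x * x = 1 := semiregular h h12.symm (mul_mem hx hx) (by
    rw [mul_smul, ← hdx, smul_inv_smul])
  have ho : orderOf x ∣ 2 := orderOf_dvd_of_pow_eq_one (by rw [sq, hxx])
  have ho9 : orderOf x ∣ 9 := sylow_three_card h S₁ ▸ Subgroup.orderOf_dvd_natCard _ hx
  have : orderOf x = 1 := Nat.dvd_one.mp (by simpa using Nat.dvd_gcd ho ho9)
  exact h23 (by rw [orderOf_eq_one_iff.mp this, one_smul])

/-- The translation table. -/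
def TA : Fin 10 → Fin 10 := ![3, 4, 5, 6, 7, 8, 0, 1, 2, 9]
/-- The second translation table. -/
def TB : Fin 10 → Fin 10 := ![1, 2, 0, 4, 5, 3, 7, 8, 6, 9]
/-- The rotation table. -/
def TH : Fin 10 → Fin 10 := ![0, 6, 3, 1, 7, 4, 2, 8, 5, 9]
/-- The standard swap. -/
def TW : Fin 10 → Fin 10 := ![9, 3, 6, 1, 8, 5, 2, 7, 4, 0]

/-- A swap commuting or anticommuting with the rotation. -/
def cand (r : ℕ) (p q : Fin 10) : Fin 10 → Fin 10 :=
  ![9, TH^[r] p, TH^[3 * r] p, p, q, TH^[3 * r] q, TH^[2 * r] p, TH^[r] q, TH^[2 * r] q, 0]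

/-- At most two fixed points unless trivial. -/
def Small (f : Fin 10 → Fin 10) : Prop :=
  (∀ n, f n = n) ∨ (Finset.univ.filter fun n => f n = n).card ≤ 2

instance decidableSmall (f : Fin 10 → Fin 10) : Decidable (Small f) := by
  unfold Small; infer_instance

omit h in
theorem key : ∀ ε : Bool, ∀ p q : Fin 10, let f := cand (cond ε 1 3) p q
    (∀ n, f (f n) = n) → (∃ n, f n = n) → Small f →
    Small (fun n => f (TB (f (TB (f (TB n)))))) →
    Small (fun n => f (TB (TH (TH (f (TB (TH (TH n)))))))) →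
    ∃ k : Fin 4, ∀ n, f n = TW (TH^[k.val] n) := by
  decide +kernel

omit h in
theorem perm_inj {f : Fin 10 → Fin 10} (hf : ∀ a b, f a = f b → a = b) : Function.Bijective f :=
  (Finite.injective_iff_bijective).mp fun a b => hf a b

/-- The permutation of the first table. -/
noncomputable def PA : Equiv.Perm (Fin 10) := Equiv.ofBijective TA (perm_inj (by decide))
/-- The permutation of the rotation table. -/
noncomputable def PH : Equiv.Perm (Fin 10) := Equiv.ofBijective TH (perm_inj (by decide))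
/-- The permutation of the swap table. -/
noncomputable def PW : Equiv.Perm (Fin 10) := Equiv.ofBijective TW (perm_inj (by decide))

omit h in
theorem pow_apply_iterate {α : Type*} (σ : Equiv.Perm α) (k : ℕ) (n : α) : (σ ^ k) n = σ^[k] n := by
  rw [← Equiv.Perm.coe_pow]

omit h [Finite G] [IsSimpleGroup G] in
theorem zpowers_pow_mem {a b : G} (hb : b ∉ zpowers a) (ha : orderOf a = 3) (hb3 : b ^ 3 = 1)
    (hab : a * b = b * a) {i j i' j' : ℕ} (hi : i < 3) (hj : j < 3) (hi' : i' < 3) (hj' : j' < 3)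
    (e : a ^ i * b ^ j = a ^ i' * b ^ j') : i = i' ∧ j = j' := by
  have h1 : b ^ j * (b ^ j')⁻¹ ∈ zpowers a := by
    have : b ^ j * (b ^ j')⁻¹ = (a ^ i)⁻¹ * a ^ i' := by
      rw [eq_inv_mul_iff_mul_eq, ← mul_assoc, e, mul_inv_cancel_right]
    rw [this]
    exact mul_mem (inv_mem (npow_mem_zpowers a i)) (npow_mem_zpowers a i')
  have hjj : j = j' := by
    by_contra hne
    apply hb
    have hbb : b⁻¹ = b ^ 2 := inv_eq_of_mul_eq_one_right (by rw [← pow_succ', hb3])
    have h2 := inv_mem h1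
    interval_cases j <;> interval_cases j' <;> simp at hne h1 h2 ⊢ <;>
      first
      | assumption
      | (have := inv_mem h1; simpa using this)
      | (rw [← hbb] at h1; simpa using inv_mem h1)
      | (simpa [pow_succ] using h1)
      | (simpa [pow_succ, mul_inv_rev] using h2)
  subst hjj
  have e' : a ^ i = a ^ i' := mul_right_cancel e
  have := pow_eq_pow_iff_modEq.mp e'
  rw [ha] at this
  exact ⟨Nat.ModEq.eq_of_lt_of_lt this hi hi', rfl⟩

/-- A normalised copy of `G` inside the permutations of ten points. -/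
theorem exists_embedding : ∃ ρ : G →* Equiv.Perm (Fin 10), Function.Injective ρ ∧
    ρ.range = closure {PA, PH, PW} := by
  classical
  haveI : Fact (Nat.Prime 3) := ⟨Nat.prime_three⟩
  haveI : Fintype (Sylow 3 G) := Fintype.ofFinite _
  haveI : Nontrivial (Sylow 3 G) := Fintype.one_lt_card_iff_nontrivial.mp
    (by rw [← Nat.card_eq_fintype_card, card_three h]; norm_num)
  obtain ⟨P, Q, hPQ⟩ := exists_pair_ne (Sylow 3 G)
  have hQ : Q ≠ P := hPQ.symm
  obtain ⟨j, hj, hjo⟩ := exists_four h hQ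
  obtain ⟨hjP, hjQ⟩ := mem_two.mp hj
  have hjn : j ∈ normalizer ((P : Subgroup G) : Set G) := Sylow.smul_eq_iff_mem_normalizer.mp hjP
  have hj4 : j ^ 4 = 1 := hjo ▸ pow_orderOf_eq_one j
  have hj2 : j * j ≠ 1 := fun e => by
    have : orderOf j ∣ 2 := orderOf_dvd_of_pow_eq_one (by rw [sq, e])
    rw [hjo] at this
    norm_num at this
  have hinv : ∀ x ∈ (P : Subgroup G), (j * j) * x * (j * j)⁻¹ = x⁻¹ := fun x hx =>
    inverts h hQ (mul_mem hj hj) hj2 (by rw [← hj4]; simp [pow_succ, mul_assoc]) hx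
  obtain ⟨a, ha⟩ := exists_prime_orderOf_dvd_card' (G := (P : Subgroup G)) 3
    (by rw [sylow_three_card h]; norm_num)
  obtain ⟨a, haP⟩ := a
  rw [orderOf_mk] at ha
  set b := j * a * j⁻¹ with hbdef
  have hbP : b ∈ (P : Subgroup G) := (mem_normalizer_iff.mp hjn a).mp haP
  have hjb : j * b * j⁻¹ = a⁻¹ := by
    rw [← hinv a haP, hbdef]; group
  have ha3 : a ^ 3 = 1 := ha ▸ pow_orderOf_eq_one a
  have hb3 : b ^ 3 = 1 := by rw [hbdef, conj_pow, ha3, mul_one, mul_inv_cancel]
  have hab : a * b = b * a := comm h P haP hbP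
  have hnb : b ∉ zpowers a := by
    intro hb
    have hai : a⁻¹ = a ^ 2 := inv_eq_of_mul_eq_one_right (by rw [← pow_succ', ha3])
    obtain ⟨k, hk⟩ := (Submonoid.mem_powers_iff _ _).mp (mem_powers_iff_mem_zpowers.mpr hb)
    have e : a ^ (k * k) = a ^ 2 := by
      rw [← hai, ← hjb, ← hk, ← conj_pow, ← hbdef, ← hk, ← pow_mul]
    have e2 := pow_eq_pow_iff_modEq.mp e
    rw [ha, Nat.ModEq, Nat.mul_mod] at e2
    have : k % 3 < 3 := Nat.mod_lt _ (by norm_num)
    interval_cases (k % 3) <;> simp at e2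
  let L : ℕ → ℕ → Sylow 3 G := fun i k => (a ^ i * b ^ k) • Q
  have hLmod : ∀ i k, L i k = L (i % 3) (k % 3) := fun i k => by
    show (a ^ i * b ^ k) • Q = _
    rw [pow_eq_pow_mod i ha3, pow_eq_pow_mod k hb3]
  have hLmem : ∀ i k : ℕ, a ^ i * b ^ k ∈ (P : Subgroup G) := fun i k =>
    mul_mem (pow_mem haP i) (pow_mem hbP k)
  have hLne : ∀ i k, L i k ≠ P := fun i k e => hQ (by
    rw [eq_inv_smul_iff.mpr (show (a ^ i * b ^ k) • Q = P from e), smul_self h (inv_mem (hLmem i k))])
  let ψ : Fin 10 → Sylow 3 G := fun n => if n.val = 9 then P else L (n.val / 3) (n.val % 3)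
  have hψinj : Function.Injective ψ := by
    intro m n e
    simp only [ψ] at e
    by_cases hm : m.val = 9 <;> by_cases hn : n.val = 9
    · exact Fin.ext (by omega)
    · rw [if_pos hm, if_neg hn] at e; exact absurd e.symm (hLne _ _)
    · rw [if_neg hm, if_pos hn] at e; exact absurd e (hLne _ _)
    · rw [if_neg hm, if_neg hn] at e
      have e' := semiregular h hQ (mul_mem (inv_mem (hLmem (n.val / 3) (n.val % 3)))
        (hLmem (m.val / 3) (m.val % 3))) (by
          rw [mul_smul]; show (_ : G) • L (m.val / 3) (m.val % 3) = Q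
          rw [e]; exact inv_smul_smul _ _)
      obtain ⟨h1, h2⟩ := zpowers_pow_mem hnb ha hb3 hab (by omega) (by omega) (by omega) (by omega)
        (inv_mul_eq_one.mp e').symm
      exact Fin.ext (by omega)
  have hψ : Function.Bijective ψ := (Nat.bijective_iff_injective_and_card ψ).mpr
    ⟨hψinj, by rw [Nat.card_fin, card_three h]⟩
  let E : Fin 10 ≃ Sylow 3 G := Equiv.ofBijective ψ hψ
  let ρ : G →* Equiv.Perm (Fin 10) :=
    E.symm.permCongrHom.toMonoidHom.comp (MulAction.toPermHom G (Sylow 3 G))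
  have hρ : ∀ (g : G) (n : Fin 10), ψ (ρ g n) = g • ψ n := fun g n => by
    show E (E.symm (g • E n)) = g • E n
    rw [Equiv.apply_symm_apply]
  have hρinj : Function.Injective ρ :=
    E.symm.permCongrHom.injective.comp (toPerm_injective h)
  have hρeq : ∀ (g : G) (n m : Fin 10), g • ψ n = ψ m → ρ g n = m := fun g n m e =>
    hψinj (by rw [hρ, e])
  have sA : ∀ i k, a • L i k = L ((i + 1) % 3) (k % 3) := fun i k => by
    rw [← hLmod]
    show a • (a ^ i * b ^ k) • Q = _
    rw [← mul_smul, ← mul_assoc, ← pow_succ']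
  have sJ : ∀ i k, j • L i k = L ((2 * k) % 3) (i % 3) := fun i k => by
    rw [← hLmod]
    show j • (a ^ i * b ^ k) • Q = (a ^ (2 * k) * b ^ i) • Q
    have hai : a⁻¹ = a ^ 2 := inv_eq_of_mul_eq_one_right (by rw [← pow_succ', ha3])
    have hbk : j * b ^ k * j⁻¹ = a ^ (2 * k) := by rw [← conj_pow, hjb, hai, pow_mul]
    calc j • (a ^ i * b ^ k) • Q = (j * (a ^ i * b ^ k) * j⁻¹) • (j • Q) := by
          rw [← mul_smul, ← mul_smul]; group
      _ = (b ^ i * a ^ (2 * k)) • Q := by
          rw [hjQ, show j * (a ^ i * b ^ k) * j⁻¹ = (j * a ^ i * j⁻¹) * (j * b ^ k * j⁻¹) by group,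
            hbk, ← conj_pow, ← hbdef]
      _ = _ := by rw [comm h P (pow_mem hbP _) (pow_mem haP _)]
  have hA : ρ a = PA := by
    refine Equiv.ext fun n => hρeq _ _ _ ?_
    show a • ψ n = ψ (TA n)
    fin_cases n <;> first | exact smul_self h haP | exact sA _ _
  have hJ : ρ j = PH := by
    refine Equiv.ext fun n => hρeq _ _ _ ?_
    show j • ψ n = ψ (TH n)
    fin_cases n <;> first | exact hjP | exact sJ _ _
  have hb' : ∀ n, ρ b n = TB n := by
    intro n
    refine hρeq _ _ _ ?_
    have sB : ∀ i k, b • L i k = L (i % 3) ((k + 1) % 3) := fun i k => by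
      rw [← hLmod]
      show b • (a ^ i * b ^ k) • Q = _
      rw [← mul_smul, ← mul_assoc, comm h P hbP (pow_mem haP i), mul_assoc, ← pow_succ']
    fin_cases n <;> first | exact smul_self h hbP | exact sB _ _
  have h9 : ψ 9 = P := rfl
  have h0 : ψ 0 = Q := by simp [ψ, L]
  -- the swap
  set S := L 1 0 with hS
  have hd2 : j * j * (j * j) = 1 := by rw [← hj4]; simp [pow_succ, mul_assoc]
  have hSQ : Q ≠ S := fun e => by
    have h03 : ψ 0 = ψ 3 := h0.trans e
    exact absurd (hψinj h03) (by decide)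
  have hjS : (j * j) • S ≠ S := fun e =>
    hj2 (eq_one_of_three h hPQ (hLne 1 0).symm hSQ (by rw [mul_smul, hjP, hjP])
      (by rw [mul_smul, hjQ, hjQ]) e)
  obtain ⟨x, hx1, hx2⟩ := two_trans h hjS.symm hPQ
  set g := x * (j * j) * x⁻¹ with hgdef
  have hg2 : g * g = 1 := by
    rw [hgdef, show x * (j * j) * x⁻¹ * (x * (j * j) * x⁻¹) = x * (j * j * (j * j)) * x⁻¹ by group,
      hd2, mul_one, mul_inv_cancel]
  have hgP : g • P = Q := by
    rw [← hx2, ← hx1, ← mul_smul, hgdef, inv_mul_cancel_right, mul_smul]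
  have hgQ : g • Q = P := by
    rw [← hgP, ← mul_smul, hg2, one_smul]
  have hgfix : g • (x • P) = x • P := by
    rw [← mul_smul, hgdef, inv_mul_cancel_right, mul_smul, mul_smul, hjP, hjP]
  have hg1 : g ≠ 1 := fun e => hQ (by rw [← hgP, e, one_smul])
  have hgi : g⁻¹ = g := inv_eq_of_mul_eq_one_right hg2
  have hK : zpowers j = two P Q := eq_of_le_of_card_ge ((zpowers_le).mpr hj)
    (by rw [card_two h hQ, Nat.card_zpowers, hjo])
  have hmem : g * j * g⁻¹ ∈ two P Q :=
    mem_two.mpr ⟨by rw [hgi, mul_smul, mul_smul, hgP, hjQ, hgQ],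
      by rw [hgi, mul_smul, mul_smul, hgQ, hjP, hgP]⟩
  obtain ⟨ε, hε⟩ : ∃ ε : Bool, g * j * g⁻¹ = j ^ (cond ε 1 3) := by
    rw [← hK] at hmem
    obtain ⟨k, hk⟩ := (Submonoid.mem_powers_iff _ _).mp (mem_powers_iff_mem_zpowers.mpr hmem)
    rw [pow_eq_pow_mod k hj4] at hk
    have hord : orderOf (g * j * g⁻¹) = 4 := by rw [← MulAut.conj_apply, MulEquiv.orderOf_eq, hjo]
    have : k % 4 < 4 := Nat.mod_lt _ (by norm_num)
    interval_cases hm : k % 4
    · rw [← hk, pow_zero, orderOf_one] at hord; omega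
    · exact ⟨true, hk.symm⟩
    · rw [← hk, orderOf_pow, hjo] at hord; norm_num at hord
    · exact ⟨false, hk.symm⟩
  have hgk : ∀ k n, ρ g (TH^[k] n) = TH^[cond ε 1 3 * k] (ρ g n) := fun k n => by
    have e : g * j ^ k = j ^ (cond ε 1 3 * k) * g := by
      rw [pow_mul, ← hε, conj_pow, inv_mul_cancel_right]
    have := congrArg (fun y => ρ y n) e
    simp only [map_mul, map_pow, hJ, Equiv.Perm.mul_apply, pow_apply_iterate] at this
    exact this
  have hf : ∀ n, ρ g n = cand (cond ε 1 3) (ρ g 3) (ρ g 4) n := by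
    intro n
    fin_cases n
    · exact hρeq _ _ _ (by show g • ψ 0 = ψ 9; rw [h0, h9, hgQ])
    · exact (hgk 1 3).trans (by simp [cand])
    · exact (hgk 3 3).trans (by simp [cand, Nat.mul_comm])
    · rfl
    · rfl
    · exact (hgk 3 4).trans (by simp [cand, Nat.mul_comm])
    · exact (hgk 2 3).trans (by simp [cand, Nat.mul_comm])
    · exact (hgk 1 4).trans (by simp [cand])
    · exact (hgk 2 4).trans (by simp [cand, Nat.mul_comm])
    · exact hρeq _ _ _ (by show g • ψ 9 = ψ 0; rw [h0, h9, hgP])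
  have hsmall : ∀ y : G, Small (fun n => ρ y n) := by
    intro y
    by_cases hy : y = 1
    · left; intro n; rw [hy, map_one]; rfl
    · right
      by_contra hlt
      obtain ⟨u, hu, v, hv, w, hw, huv, huw, hvw⟩ := Finset.two_lt_card.mp (not_le.mp hlt)
      simp only [Finset.mem_filter, Finset.mem_univ, true_and] at hu hv hw
      exact hy (eq_one_of_three h (hψinj.ne huv) (hψinj.ne huw) (hψinj.ne hvw)
        (by rw [← hρ, hu]) (by rw [← hρ, hv]) (by rw [← hρ, hw]))
  obtain ⟨p, hp⟩ : ∃ p, ρ g 3 = p := ⟨_, rfl⟩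
  obtain ⟨q, hq⟩ : ∃ q, ρ g 4 = q := ⟨_, rfl⟩
  rw [hp, hq] at hf
  have hff : (fun n => ρ g n) = cand (cond ε 1 3) p q := funext hf
  obtain ⟨k, hk⟩ := key ε p q
    (fun n => by rw [← hf, ← hf, ← Equiv.Perm.mul_apply, ← map_mul, hg2, map_one]; rfl)
    ⟨E.symm (x • P), by
      rw [← hf]
      refine hρeq _ _ _ ?_
      show g • E (E.symm (x • P)) = E (E.symm (x • P))
      rw [Equiv.apply_symm_apply, hgfix]⟩
    (hff ▸ hsmall g)
    (by
      have := hsmall (g * b * (g * b) * (g * b))
      simp only [map_mul, Equiv.Perm.mul_apply] at this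
      simpa only [hb', hf] using this)
    (by
      have := hsmall (g * b * (j * j) * (g * b * (j * j)))
      simp only [map_mul, Equiv.Perm.mul_apply] at this
      simpa only [hb', hJ, hf, show ∀ n, PH n = TH n from fun n => rfl] using this)
  have hW : ρ g = PW * PH ^ k.val := Equiv.ext fun n => by
    rw [hf, hk, Equiv.Perm.mul_apply, pow_apply_iterate]; rfl
  refine ⟨ρ, hρinj, le_antisymm ?_ ?_⟩
  · have hgen : closure ({a, j, g} : Set G) = ⊤ := by
      set K := closure ({a, j, g} : Set G)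
      have hK1 : a ∈ K := subset_closure (by simp)
      have hK2 : j ∈ K := subset_closure (by simp)
      have hK3 : g ∈ K := subset_closure (by simp)
      have hPK : ∀ y ∈ (P : Subgroup G), y ∈ K := by
        intro y hy
        have hyQ : y • Q ≠ P := fun e => hQ (by
          have := congrArg (y⁻¹ • ·) e
          simpa [smul_self h (inv_mem hy)] using this)
        obtain ⟨m, hm⟩ := hψ.2 (y • Q)
        have hm9 : m.val ≠ 9 := fun e => hyQ (by rw [← hm]; simp [ψ, e])
        have e : (a ^ (m.val / 3) * b ^ (m.val % 3)) • Q = y • Q := by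
          rw [← hm]; simp [ψ, L, hm9]
        have := semiregular h hQ (mul_mem (inv_mem hy) (hLmem (m.val / 3) (m.val % 3)))
          (by rw [mul_smul, e, inv_smul_smul])
        rw [inv_mul_eq_one.mp this]
        exact mul_mem (pow_mem hK1 _) (pow_mem (mul_mem (mul_mem hK2 hK1) (inv_mem hK2)) _)
      have horb : ∀ R : Sylow 3 G, ∃ z ∈ K, z • P = R := fun R => by
        by_cases hR : R = P
        · exact ⟨1, one_mem K, by rw [one_smul, hR]⟩
        · obtain ⟨y, hy, hye⟩ := exists_translate h hQ hR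
          exact ⟨y * g, mul_mem (hPK y hy) hK3, by rw [mul_smul, hgP, hye]⟩
      have hstab : ∀ y : G, y • P = P → y ∈ K := fun y hy => by
        obtain ⟨z, hz, hze⟩ := exists_translate h hQ (R := y • Q)
          (fun e => hQ (MulAction.injective y (e.trans hy.symm)))
        have hm2 : z⁻¹ * y ∈ two P Q := mem_two.mpr
          ⟨by rw [mul_smul, hy, smul_self h (inv_mem hz)], by rw [mul_smul, ← hze, inv_smul_smul]⟩
        rw [← hK] at hm2
        have := mul_mem (hPK z hz) ((zpowers_le.mpr hK2) hm2)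
        rwa [mul_inv_cancel_left] at this
      rw [eq_top_iff]
      intro y _
      obtain ⟨z, hz, hze⟩ := horb (y • P)
      have := mul_mem hz (hstab (z⁻¹ * y) (by rw [mul_smul, ← hze, inv_smul_smul]))
      rwa [mul_inv_cancel_left] at this
    rw [MonoidHom.range_eq_map, ← hgen, MonoidHom.map_closure, closure_le]
    rintro _ ⟨y, hy, rfl⟩
    rcases hy with rfl | rfl | rfl
    · exact subset_closure (by simp [hA])
    · exact subset_closure (by simp [hJ])
    · rw [SetLike.mem_coe, hW]
      exact mul_mem (subset_closure (by simp)) (pow_mem (subset_closure (by simp)) _)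
  · rw [closure_le]
    rintro y (rfl | rfl | rfl)
    · exact ⟨a, hA⟩
    · exact ⟨j, hJ⟩
    · exact ⟨g * (j ^ k.val)⁻¹, by rw [map_mul, map_inv, map_pow, hW, hJ, mul_inv_cancel_right]⟩

omit h in
/-- Two simple groups of order 360 are isomorphic. -/
theorem iso {H : Type*} [Group H] [Finite H] [IsSimpleGroup H] (h : Nat.card G = 360)
    (h' : Nat.card H = 360) : Nonempty (G ≃* H) := by
  obtain ⟨ρ, hρ, hr⟩ := exists_embedding h
  obtain ⟨σ, hσ, hs⟩ := exists_embedding h'
  exact ⟨(MonoidHom.ofInjective hρ).trans ((MulEquiv.subgroupCongr (hr.trans hs.symm)).trans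
    (MonoidHom.ofInjective hσ).symm)⟩

/-- A simple group of order 360 is the alternating group of degree six. -/
theorem iso_alternating : Nonempty (G ≃* alternatingGroup (Fin 6)) := by
  haveI : IsSimpleGroup (alternatingGroup (Fin 6)) := alternatingGroup.isSimpleGroup (by simp)
  exact iso h (by rw [nat_card_alternatingGroup]; simp [Nat.factorial])

end Cfsg.Lib.Small.Order360
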