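import Cfsg.Agent.Lib.Small.Order168Classes
import Cfsg.Agent.Lib.Coprime.Conjugacy

/-!
# Simple groups of order 168: Klein four-subgroups and maximal subgroups
-/

set_option autoImplicit false

namespace Cfsg.Lib.Small

/-- The two Klein four-subgroups of the dihedral group of order eight. -/
def d4Klein (b : Bool) : DihedralGroup 4 → Bool
  | .r i => decide (i + i = 0)
  | .sr i => decide (i + i = if b then 2 else 0)

def d4Sub (b : Bool) : Subgroup (DihedralGroup 4) where
  carrier := {x | d4Klein b x = true}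
  one_mem' := by
    revert b; decide
  mul_mem' {x y} hx hy :=
    (by decide : ∀ (b : Bool) (x y : DihedralGroup 4),
      d4Klein b x = true → d4Klein b y = true → d4Klein b (x * y) = true) b x y hx hy
  inv_mem' {x} hx :=
    (by decide : ∀ (b : Bool) (x : DihedralGroup 4),
      d4Klein b x = true → d4Klein b x⁻¹ = true) b x hx

theorem card_d4Sub (b : Bool) : Nat.card (d4Sub b) = 4 := by
  rw [Nat.card_congr (Equiv.subtypeEquivRight fun x => Iff.rfl :
    d4Sub b ≃ {x : DihedralGroup 4 // d4Klein b x = true}), Nat.card_eq_fintype_card,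
    Fintype.card_subtype]
  revert b; decide

theorem d4Sub_klein (b : Bool) : IsKleinFour (d4Sub b) :=
  isKleinFour_of_card (card_d4Sub b) fun u => Subtype.ext
    ((by decide : ∀ (b : Bool) (x : DihedralGroup 4), d4Klein b x = true → x * x = 1) b u.1 u.2)

theorem d4_klein_cases (V : Subgroup (DihedralGroup 4)) (hV : IsKleinFour V) :
    V = d4Sub false ∨ V = d4Sub true := by
  have key : ∀ x y : DihedralGroup 4, x * x = 1 → y * y = 1 → (x * y) * (x * y) = 1 →
      (d4Klein false x = true ∧ d4Klein false y = true) ∨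
        (d4Klein true x = true ∧ d4Klein true y = true) := by decide
  have hc : ∀ b, V ≤ d4Sub b → V = d4Sub b := fun b hle =>
    Subgroup.eq_of_le_of_card_ge hle (by rw [card_d4Sub, hV.card_four])
  by_contra hne
  push Not at hne
  obtain ⟨x, hx, hx'⟩ := SetLike.not_le_iff_exists.mp fun hle => hne.1 (hc false hle)
  obtain ⟨y, hy, hy'⟩ := SetLike.not_le_iff_exists.mp fun hle => hne.2 (hc true hle)
  rcases key x y (klein_sq hV hx) (klein_sq hV hy) (klein_sq hV (mul_mem hx hy)) with e | e
  · exact hx' e.1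
  · exact hy' e.2

theorem isKleinFour_map {A B : Type*} [Group A] [Group B] (U : Subgroup A) (hU : IsKleinFour U)
    (f : A →* B) (hf : Function.Injective f) : IsKleinFour (U.map f) :=
  isKleinFour_of_card (by rw [Subgroup.card_map_of_injective hf, hU.card_four]) (by
    rintro ⟨_, u, hu, rfl⟩
    exact Subtype.ext (by
      change f u * f u = 1
      rw [← map_mul, klein_sq hU hu, map_one]))

/-- The normal Klein four-subgroup of `Perm (Fin 4)`. -/
def v4 : Subgroup (Equiv.Perm (Fin 4)) where
  carrier := {σ | σ * σ = 1 ∧ (σ = 1 ∨ ∀ i, σ i ≠ i)}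
  one_mem' := ⟨one_mul 1, Or.inl rfl⟩
  mul_mem' {x y} hx hy :=
    (by decide +kernel : ∀ x y : Equiv.Perm (Fin 4), (x * x = 1 ∧ (x = 1 ∨ ∀ i, x i ≠ i)) →
      (y * y = 1 ∧ (y = 1 ∨ ∀ i, y i ≠ i)) →
      (x * y * (x * y) = 1 ∧ (x * y = 1 ∨ ∀ i, (x * y) i ≠ i))) x y hx hy
  inv_mem' {x} hx := by
    have e : x⁻¹ = x := inv_eq_of_mul_eq_one_left hx.1
    rw [e]; exact hx

theorem v4_normal : v4.Normal :=
  ⟨fun x hx g => (by decide +kernel : ∀ x g : Equiv.Perm (Fin 4),
    (x * x = 1 ∧ (x = 1 ∨ ∀ i, x i ≠ i)) →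
    (g * x * g⁻¹ * (g * x * g⁻¹) = 1 ∧ (g * x * g⁻¹ = 1 ∨ ∀ i, (g * x * g⁻¹) i ≠ i))) x g hx⟩

theorem v4_klein : IsKleinFour v4 := by
  refine isKleinFour_of_card ?_ fun u => Subtype.ext u.2.1
  rw [Nat.card_congr (Equiv.subtypeEquivRight fun x => Iff.rfl :
    v4 ≃ {σ : Equiv.Perm (Fin 4) // σ * σ = 1 ∧ (σ = 1 ∨ ∀ i, σ i ≠ i)}),
    Nat.card_eq_fintype_card, Fintype.card_subtype]
  decide +kernel

namespace Order168

variable {G : Type*} [Group G] [Finite G] [IsSimpleGroup G] (h : Nat.card G = 168)
include h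

theorem klein_pair (T : Sylow 2 G) : ∃ U W : Subgroup G, U ≠ W ∧ U ≤ (T : Subgroup G) ∧
    W ≤ (T : Subgroup G) ∧ IsKleinFour U ∧ IsKleinFour W ∧
    ∀ V : Subgroup G, V ≤ (T : Subgroup G) → IsKleinFour V → V = U ∨ V = W := by
  obtain ⟨e⟩ := dihedral h T
  let f : DihedralGroup 4 →* G := (T : Subgroup G).subtype.comp e.symm.toMonoidHom
  have hf : Function.Injective f := Subtype.val_injective.comp e.symm.injective
  refine ⟨(d4Sub false).map f, (d4Sub true).map f, ?_, ?_, ?_,
    isKleinFour_map _ (d4Sub_klein _) f hf, isKleinFour_map _ (d4Sub_klein _) f hf, ?_⟩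
  · intro he
    have := Subgroup.map_injective hf he
    have h1 : (DihedralGroup.sr 0 : DihedralGroup 4) ∈ d4Sub true := this ▸
      (by decide : d4Klein false (DihedralGroup.sr 0) = true)
    exact absurd h1 (by
      change ¬ (d4Klein true (DihedralGroup.sr 0) = true)
      decide)
  · rintro _ ⟨x, -, rfl⟩; exact (e.symm x).2
  · rintro _ ⟨x, -, rfl⟩; exact (e.symm x).2
  · intro V hV hVk
    have hmap : (V.comap f).map f = V := by
      rw [Subgroup.map_comap_eq, inf_eq_right]
      intro v hv
      exact ⟨e ⟨v, hV hv⟩, by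
        change ((e.symm (e ⟨v, hV hv⟩) : (T : Subgroup G)) : G) = v
        rw [e.symm_apply_apply]⟩
    have hk : IsKleinFour (V.comap f) := by
      refine isKleinFour_of_card ?_ fun u => ?_
      · rw [← Subgroup.card_map_of_injective hf, hmap, hVk.card_four]
      · apply Subtype.ext
        apply hf
        change f (u.1 * u.1) = f 1
        rw [map_mul, map_one]
        exact klein_sq hVk u.2
    rcases d4_klein_cases _ hk with e' | e' <;> rw [e'] at hmap
    · exact Or.inl hmap.symm
    · exact Or.inr hmap.symm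

omit [IsSimpleGroup G] h in
theorem exists_sylow_ge_klein {U : Subgroup G} (hU : IsKleinFour U) :
    ∃ T : Sylow 2 G, U ≤ (T : Subgroup G) :=
  (IsPGroup.of_card (p := 2) (n := 2) (hU.card_four)).exists_le_sylow

theorem sylow_le_normalizer {U : Subgroup G} (hU : IsKleinFour U) {T : Sylow 2 G}
    (hle : U ≤ (T : Subgroup G)) : (T : Subgroup G) ≤ Subgroup.normalizer (U : Set G) := by
  have hidx : (U.subgroupOf (T : Subgroup G)).index = 2 := by
    have h1 := Subgroup.card_mul_index (U.subgroupOf (T : Subgroup G))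
    rw [Nat.card_congr (Subgroup.subgroupOfEquivOfLe hle).toEquiv, hU.card_four, sylow_two_card h T] at h1
    omega
  exact (Subgroup.normal_subgroupOf_iff_le_normalizer hle).mp (Subgroup.normal_of_index_eq_two hidx)

theorem klein_ne_top {U : Subgroup G} (hU : IsKleinFour U) :
    Subgroup.normalizer (U : Set G) ≠ ⊤ := by
  refine normalizer_ne_top h (fun hb => ?_) fun ht => ?_
  · have := hU.card_four
    rw [hb, Subgroup.card_bot] at this; norm_num at this
  · have := hU.card_four
    rw [ht, Subgroup.card_top, h] at this; norm_num at this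

theorem card_of_two_sylow {H : Subgroup G} (hH : H ≠ ⊤) {T T' : Sylow 2 G} (hne : T ≠ T')
    (hT : (T : Subgroup G) ≤ H) (hT' : (T' : Subgroup G) ≤ H) : Nat.card H = 24 := by
  have hle := card_le h hH
  have hd : 8 ∣ Nat.card H := sylow_two_card h T ▸ Subgroup.card_dvd_of_le hT
  have hd' : Nat.card H ∣ 168 := h ▸ Subgroup.card_subgroup_dvd_card H
  have hne8 : Nat.card H ≠ 8 := fun h8 => by
    have e1 := Subgroup.eq_of_le_of_card_ge hT (by rw [h8, sylow_two_card h T])
    have e2 := Subgroup.eq_of_le_of_card_ge hT' (by rw [h8, sylow_two_card h T'])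
    exact hne (Sylow.ext (e1.trans e2.symm))
  have := Nat.card_pos (α := H)
  interval_cases hh : Nat.card H <;> omega

theorem klein_normalizer_card {U : Subgroup G} (hU : IsKleinFour U) :
    Nat.card ↥(Subgroup.normalizer (U : Set G)) = 24 := by
  have := Fact.mk Nat.prime_two
  obtain ⟨T, hT⟩ := exists_sylow_ge_klein hU
  obtain ⟨z, hzT, hz, hzc, hzu⟩ := exists_central h T
  -- an involution of `U` that is not central in `T`
  obtain ⟨u, hu, hu1, huz⟩ : ∃ u ∈ U, u ≠ 1 ∧ u ≠ z := by
    by_contra hn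
    push Not at hn
    have hle : U ≤ Subgroup.zpowers z := fun u hu => by
      by_cases h1 : u = 1
      · rw [h1]; exact one_mem _
      · rw [hn u hu h1]; exact Subgroup.mem_zpowers z
    have := Subgroup.card_le_of_le hle
    rw [hU.card_four, Nat.card_zpowers, hz] at this
    omega
  have hu2 : orderOf u = 2 := orderOf_eq_prime (by rw [pow_two, klein_sq hU hu]) hu1
  obtain ⟨g, hg⟩ := isConj_iff.mp (involutions_conj h hz hu2)
  have huT : u ∈ ((g • T : Sylow 2 G) : Subgroup G) := hg ▸ map_conj_mem T g hzT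
  have huc : ∀ t ∈ ((g • T : Sylow 2 G) : Subgroup G), t * u = u * t := by
    rintro _ ⟨t, ht, rfl⟩
    change g * t * g⁻¹ * u = u * (g * t * g⁻¹)
    rw [← hg]
    simp only [mul_assoc, inv_mul_cancel_left]
    rw [← mul_assoc t, hzc t ht, mul_assoc]
  have hC := centralizer_center h (g • T) huT hu1 huc
  have hne : T ≠ g • T := by
    intro he
    rw [← he] at huc
    rcases hzu u (hT hu) huc with e | e
    · exact hu1 e
    · exact huz e
  have hUT' : U ≤ ((g • T : Sylow 2 G) : Subgroup G) := by
    rw [← hC]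
    intro v hv
    rw [Subgroup.mem_centralizer_iff]
    simp only [Set.mem_singleton_iff, forall_eq]
    have := hU
    exact congrArg Subtype.val (IsKleinFour.isMulCommutative.is_comm.comm (⟨u, hu⟩ : U) ⟨v, hv⟩)
  exact card_of_two_sylow h (klein_ne_top h hU) hne (sylow_le_normalizer h hU hT)
    (sylow_le_normalizer h hU hUT')

theorem no_six (H : Subgroup G) : ∀ g : H, orderOf g ≠ 6 := by
  intro g hg
  rw [← Subgroup.orderOf_coe] at hg
  have := orderOf_cases h (g : G)
  omega

theorem iso_perm_four {H : Subgroup G} (hH : Nat.card H = 24) :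
    Nonempty (H ≃* Equiv.Perm (Fin 4)) := Cfsg.Agent.S1012.result hH (no_six h H)

theorem klein_not_conj (T : Sylow 2 G) {U W : Subgroup G} (hU : U ≤ (T : Subgroup G))
    (hW : W ≤ (T : Subgroup G)) (hUk : IsKleinFour U) (hWk : IsKleinFour W) (hne : U ≠ W) (g : G) :
    U.map (MulAut.conj g).toMonoidHom ≠ W := by
  have := Fact.mk Nat.prime_two
  intro he
  have h1 : (T : Subgroup G) ≤ Subgroup.normalizer (W : Set G) := sylow_le_normalizer h hWk hW
  have h2 : ((g • T : Sylow 2 G) : Subgroup G) ≤ Subgroup.normalizer (W : Set G) := by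
    refine sylow_le_normalizer h hWk ?_
    rw [← he]
    rintro _ ⟨x, hx, rfl⟩
    exact map_conj_mem T g (hU hx)
  obtain ⟨n, hn⟩ := MulAction.exists_smul_eq ↥(Subgroup.normalizer (W : Set G))
    ((g • T).subtype h2) (T.subtype h1)
  rw [Sylow.smul_subtype] at hn
  have h3 := Sylow.subtype_injective hn
  rw [Subgroup.smul_def, ← mul_smul, Sylow.smul_eq_iff_mem_normalizer] at h3
  change (n : G) * g ∈ Subgroup.normalizer ((T : Subgroup G) : Set G) at h3
  rw [normalizer_two h T] at h3
  have h4 := sylow_le_normalizer h hUk hU h3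
  apply hne
  have h5 := Subgroup.mem_normalizer_iff_map_conj_eq.mp h4
  have h6 := Subgroup.mem_normalizer_iff_map_conj_eq.mp n.2
  change U.map (MulAut.conj ((n : G) * g)).toMonoidHom = U at h5
  change W.map (MulAut.conj (n : G)).toMonoidHom = W at h6
  rw [← Cfsg.Lib.Coprime.map_conj_conj, he, h6] at h5
  exact h5.symm

theorem isCoatom_of_card {M : Subgroup G} (hM : Nat.card M = 21 ∨ Nat.card M = 24) : IsCoatom M := by
  refine ⟨fun ht => ?_, fun K hK => ?_⟩
  · rw [ht, Subgroup.card_top, h] at hM; omega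
  · by_contra hne
    have h1 := card_le h hne
    have h2 := Subgroup.card_dvd_of_le hK.le
    have h3 : Nat.card M ≠ Nat.card K := fun he =>
      hK.ne (Subgroup.eq_of_le_of_card_ge hK.le he.ge)
    have := Nat.card_pos (α := K)
    obtain ⟨c, hc⟩ := h2
    rcases hM with hM | hM <;> rw [hM] at hc h3 <;> omega

theorem eq_klein_normalizer {M : Subgroup G} (hM : Nat.card M = 24) :
    ∃ V : Subgroup G, IsKleinFour V ∧ M = Subgroup.normalizer (V : Set G) := by
  obtain ⟨e⟩ := iso_perm_four h hM
  let V : Subgroup G := v4.map (M.subtype.comp e.symm.toMonoidHom)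
  have hVk : IsKleinFour V := isKleinFour_map _ v4_klein _ (Subtype.val_injective.comp e.symm.injective)
  refine ⟨V, hVk, Subgroup.eq_of_le_of_card_ge ?_ (by rw [klein_normalizer_card h hVk, hM])⟩
  have hle : v4.map e.symm.toMonoidHom ≤ ⊤ := le_top
  have hn : (v4.map e.symm.toMonoidHom).Normal := v4_normal.map _ e.symm.surjective
  intro m hm
  have hV : V = (v4.map e.symm.toMonoidHom).map M.subtype := (Subgroup.map_map _ _ _).symm
  have h1 : (⟨m, hm⟩ : M) ∈ Subgroup.normalizer ((v4.map e.symm.toMonoidHom : Subgroup M) : Set M) := by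
    rw [Subgroup.normalizer_eq_top_iff.mpr hn]; exact Subgroup.mem_top _
  rw [hV]
  exact Subgroup.le_normalizer_map M.subtype ⟨_, h1, rfl⟩

/-- Subgroups of order prime to 7 lie in subgroups of order 24. -/
theorem exists_card24_ge {M : Subgroup G} (hM : M ≠ ⊤) (h7 : ¬ 7 ∣ Nat.card M) :
    ∃ K : Subgroup G, M ≤ K ∧ Nat.card K = 24 := by
  have := Fact.mk Nat.prime_two
  have := Fact.mk Nat.prime_three
  have hd : Nat.card M ∣ 24 * 7 := by
    have := Subgroup.card_subgroup_dvd_card M
    rwa [h] at this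
  have hd24 : Nat.card M ∣ 24 :=
    (((Nat.Prime.coprime_iff_not_dvd (by norm_num)).mpr h7).symm).dvd_of_dvd_mul_right hd
  obtain ⟨T⟩ : Nonempty (Sylow 2 G) := inferInstance
  obtain ⟨U, -, -, hUT, -, hUk, -, -⟩ := klein_pair h T
  by_cases h3 : 3 ∣ Nat.card M
  swap
  · have hd8 : Nat.card M ∣ 2 ^ 3 :=
      (((Nat.Prime.coprime_iff_not_dvd (by norm_num)).mpr h3).symm).dvd_of_dvd_mul_right
        (show Nat.card M ∣ 8 * 3 from hd24)
    obtain ⟨k, -, hk⟩ := (Nat.dvd_prime_pow Nat.prime_two).mp hd8
    obtain ⟨R, hR⟩ := (IsPGroup.of_card hk).exists_le_sylow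
    obtain ⟨U', -, -, hUR, -, hUk', -, -⟩ := klein_pair h R
    exact ⟨_, hR.trans (sylow_le_normalizer h hUk' hUR), klein_normalizer_card h hUk'⟩
  -- a Sylow 3-normalizer inside a subgroup of order 24
  have hnorm : ∀ Q : Sylow 3 G, ∃ K : Subgroup G,
      Subgroup.normalizer ((Q : Subgroup G) : Set G) ≤ K ∧ Nat.card K = 24 := by
    intro Q
    set N := Subgroup.normalizer (U : Set G) with hN
    have hN24 : Nat.card N = 24 := klein_normalizer_card h hUk
    obtain ⟨e⟩ := iso_perm_four h hN24
    let σ : Equiv.Perm (Fin 4) := Equiv.swap 0 1 * Equiv.swap 1 2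
    let τ : Equiv.Perm (Fin 4) := Equiv.swap 0 1
    set y : G := ((e.symm σ : N) : G) with hy
    have hyo : orderOf y = 3 := by
      rw [hy, Subgroup.orderOf_coe, MulEquiv.orderOf_eq]
      exact orderOf_eq_prime (by decide) (by decide)
    obtain ⟨R, hR⟩ := exists_sylow_eq_zpowers (sylow_three_card h) hyo
    have hRle : Subgroup.normalizer ((R : Subgroup G) : Set G) ≤ N := by
      set u : G := ((e.symm τ : N) : G) with hu
      have huo : orderOf u = 2 := by
        rw [hu, Subgroup.orderOf_coe, MulEquiv.orderOf_eq]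
        exact orderOf_eq_prime (by decide) (by decide)
      have huy : u * y * u⁻¹ = y⁻¹ := by
        have : τ * σ * τ⁻¹ = σ⁻¹ := by decide
        have := congrArg (fun z => ((e.symm z : N) : G)) this
        simpa [hu, hy] using this
      set L := (R : Subgroup G) ⊔ Subgroup.zpowers u
      have huN : u ∈ Subgroup.normalizer ((R : Subgroup G) : Set G) := by
        rw [hR, Subgroup.mem_normalizer_iff_map_conj_eq]
        change (Subgroup.zpowers y).map (MulAut.conj u).toMonoidHom = _
        rw [MonoidHom.map_zpowers]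
        change Subgroup.zpowers (u * y * u⁻¹) = _
        rw [huy, Subgroup.zpowers_inv]
      have hLN : L ≤ Subgroup.normalizer ((R : Subgroup G) : Set G) :=
        sup_le Subgroup.le_normalizer (Subgroup.zpowers_le.mpr huN)
      have hL6 : 6 ∣ Nat.card L := Nat.Coprime.mul_dvd_of_dvd_of_dvd (by norm_num : Nat.Coprime 2 3)
        (huo ▸ Subgroup.orderOf_dvd_natCard _ (Subgroup.mem_sup_right (Subgroup.mem_zpowers u)))
        (sylow_three_card h R ▸ Subgroup.card_dvd_of_le le_sup_left)
      rw [← Subgroup.eq_of_le_of_card_ge hLN (by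
        rw [normalizer_three h R]; exact Nat.le_of_dvd Nat.card_pos hL6)]
      exact sup_le (hR ▸ Subgroup.zpowers_le.mpr (e.symm σ).2) (Subgroup.zpowers_le.mpr (e.symm τ).2)
    obtain ⟨g, hg⟩ := MulAction.exists_smul_eq G R Q
    refine ⟨N.map (MulAut.conj g).toMonoidHom, ?_, by
      rw [Subgroup.card_map_of_injective (MulAut.conj g).injective, hN24]⟩
    intro x hx
    refine ⟨g⁻¹ * x * g, hRle (Sylow.smul_eq_iff_mem_normalizer.mp ?_), by simp [mul_assoc]⟩
    rw [mul_smul, mul_smul, hg, show x • Q = Q from Sylow.smul_eq_iff_mem_normalizer.mpr hx, ← hg,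
      inv_smul_smul]
  obtain ⟨⟨y, hyM⟩, hy⟩ := exists_prime_orderOf_dvd_card' 3 h3
  rw [Subgroup.orderOf_mk] at hy
  obtain ⟨Q, hQ⟩ := exists_sylow_eq_zpowers (sylow_three_card h) hy
  have hQM : (Q : Subgroup G) ≤ M := hQ ▸ Subgroup.zpowers_le.mpr hyM
  have hpos := Nat.card_pos (α := M)
  have hle := Nat.le_of_dvd (by norm_num) hd24
  rcases (by interval_cases hh : Nat.card M <;> omega :
    Nat.card M = 3 ∨ Nat.card M = 6 ∨ Nat.card M = 12 ∨ Nat.card M = 24) with h' | h' | h' | h'
  · obtain ⟨K, hK, hK'⟩ := hnorm Q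
    exact ⟨K, (Subgroup.eq_of_le_of_card_ge hQM (by rw [h', sylow_three_card h Q])).ge.trans
      (Subgroup.le_normalizer.trans hK), hK'⟩
  · obtain ⟨K, hK, hK'⟩ := hnorm Q
    refine ⟨K, le_trans ?_ hK, hK'⟩
    refine (Subgroup.normal_subgroupOf_iff_le_normalizer hQM).mp (Subgroup.normal_of_index_eq_two ?_)
    have h1 := Subgroup.card_mul_index ((Q : Subgroup G).subgroupOf M)
    rw [Nat.card_congr (Subgroup.subgroupOfEquivOfLe hQM).toEquiv, sylow_three_card h Q, h'] at h1
    omega
  · -- order 12: the Sylow 2-subgroup is a normal Klein four-group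
    have hc3 : ∀ P : Sylow 3 M, Nat.card (P : Subgroup M) = 3 := fun P => by
      rw [card_sylow 1 4 (by rw [h']; norm_num) (by norm_num) P, pow_one]
    have hn3 : Nat.card (Sylow 3 M) = 4 := by
      obtain ⟨hd3, hm3⟩ := sylow_facts (G := M) (p := 3) 1 4
        (by rw [h']; norm_num) (by norm_num)
      have := Nat.le_of_dvd (by norm_num) hd3
      by_contra hne
      have hone : Nat.card (Sylow 3 M) = 1 := by
        interval_cases hh : Nat.card (Sylow 3 M) <;> omega
      have hsub : Subsingleton (Sylow 3 M) := (Nat.card_eq_one_iff_unique.mp hone).1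
      have hQn : ((Q.subtype hQM : Sylow 3 M) : Subgroup M).Normal := Sylow.normal_of_subsingleton _
      rw [Sylow.coe_subtype] at hQn
      have := Subgroup.card_le_of_le ((Subgroup.normal_subgroupOf_iff_le_normalizer hQM).mp hQn)
      rw [h', normalizer_three h Q] at this
      omega
    have hcount := card_orderOf_eq hc3
    rw [hn3] at hcount
    obtain ⟨S⟩ : Nonempty (Sylow 2 M) := inferInstance
    have hS4 : Nat.card (S : Subgroup M) = 4 := by
      rw [card_sylow 2 3 (by rw [h']; norm_num) (by norm_num) S]; norm_num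
    classical
    have := Fintype.ofFinite M
    have hall : ∀ R : Sylow 2 M, ((R : Subgroup M) : Set M) = {m : M | orderOf m ≠ 3} := by
      intro R
      have hR4 : Nat.card (R : Subgroup M) = 4 := by
        rw [card_sylow 2 3 (by rw [h']; norm_num) (by norm_num) R]; norm_num
      refine Set.eq_of_subset_of_ncard_le ?_ ?_ (Set.toFinite _)
      · intro m hm
        have := Subgroup.orderOf_dvd_natCard _ hm
        rw [hR4] at this
        intro h3'
        rw [h3'] at this; norm_num at this
      · rw [← Nat.card_coe_set_eq, ← Nat.card_coe_set_eq]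
        change Nat.card {m : M // ¬ orderOf m = 3} ≤ Nat.card (R : Subgroup M)
        rw [hR4, Nat.card_eq_fintype_card, Fintype.card_subtype_compl, ← Nat.card_eq_fintype_card,
          ← Nat.card_eq_fintype_card, hcount, h']
    have hsub : Subsingleton (Sylow 2 M) := ⟨fun R R' => Sylow.ext
      (SetLike.coe_injective ((hall R).trans (hall R').symm))⟩
    have hSn : (S : Subgroup M).Normal := Sylow.normal_of_subsingleton S
    set V := (S : Subgroup M).map M.subtype
    have hVk : IsKleinFour V := by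
      refine isKleinFour_of_card (by rw [Subgroup.card_map_of_injective M.subtype_injective, hS4]) ?_
      rintro ⟨_, v, hv, rfl⟩
      apply Subtype.ext
      change (v : G) * v = 1
      rw [← pow_two, ← orderOf_dvd_iff_pow_eq_one]
      have h4 : orderOf (v : G) ∣ 4 := by
        rw [Subgroup.orderOf_coe, ← hS4]; exact Subgroup.orderOf_dvd_natCard _ hv
      have hcases : orderOf (v : G) = 1 ∨ orderOf (v : G) = 2 ∨ orderOf (v : G) = 4 := by
        have := Nat.le_of_dvd (by norm_num) h4
        have := orderOf_cases h (v : G)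
        by_contra hne
        have e3 : orderOf (v : G) = 3 := by omega
        rw [e3] at h4
        norm_num at h4
      rcases hcases with e | e | e
      · rw [e]; norm_num
      · rw [e]
      exfalso
      -- a cyclic normal subgroup of order four would commute with an element of order three
      have hvV : (v : G) ∈ V := ⟨v, hv, rfl⟩
      have hyN : y ∈ Subgroup.normalizer (V : Set G) := Subgroup.le_normalizer_map M.subtype
        ⟨⟨y, hyM⟩, by rw [Subgroup.normalizer_eq_top_iff.mpr hSn]; exact Subgroup.mem_top _, rfl⟩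
      have hVz : Subgroup.zpowers (v : G) = V := Subgroup.eq_of_le_of_card_ge
        (Subgroup.zpowers_le.mpr hvV)
        (by rw [Nat.card_zpowers, e, Subgroup.card_map_of_injective M.subtype_injective, hS4])
      have hv2 : orderOf ((v : G) ^ 2) = 2 := by rw [orderOf_pow' _ two_ne_zero, e]; norm_num
      have hmem : y * (v : G) ^ 2 * y⁻¹ ∈ V :=
        (Subgroup.mem_normalizer_iff.mp hyN _).mp (pow_mem hvV 2)
      have := Cfsg.Lib.Invol.eq_of_pow_two_group_cyclic (C := Subgroup.zpowers (v : G)) inferInstance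
        (hVz ▸ hmem) (pow_mem (Subgroup.mem_zpowers (v : G)) 2)
        (by rw [show y * (v : G) ^ 2 * y⁻¹ = MulAut.conj y ((v : G) ^ 2) from rfl,
          MulEquiv.orderOf_eq, hv2]) hv2
      have hcm := orderOf_dvd_prime h (Or.inl rfl) hy
        (show Commute y ((v : G) ^ 2) from mul_inv_eq_iff_eq_mul.mp this)
      rw [hv2] at hcm; norm_num at hcm
    refine ⟨_, ?_, klein_normalizer_card h hVk⟩
    intro m hm
    exact Subgroup.le_normalizer_map M.subtype
      ⟨⟨m, hm⟩, by rw [Subgroup.normalizer_eq_top_iff.mpr hSn]; exact Subgroup.mem_top _, rfl⟩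
  · exact ⟨M, le_rfl, h'⟩

theorem card_coatom {M : Subgroup G} (hM : IsCoatom M) : Nat.card M = 21 ∨ Nat.card M = 24 := by
  have := Fact.mk (show Nat.Prime 7 by norm_num)
  by_cases h7 : 7 ∣ Nat.card M
  · left
    obtain ⟨⟨x, hx⟩, hxo⟩ := exists_prime_orderOf_dvd_card' 7 h7
    rw [Subgroup.orderOf_mk] at hxo
    obtain ⟨P, hP⟩ := exists_sylow_eq_zpowers (sylow_seven_card h) hxo
    have hPM : (P : Subgroup G) ≤ M := hP ▸ Subgroup.zpowers_le.mpr hx
    have hle := card_le h hM.1
    have hone : Nat.card (Sylow 7 M) = 1 := by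
      obtain ⟨m, hm⟩ := h7
      have hm7 : ¬ 7 ∣ m := by
        intro hd
        have := Nat.le_of_dvd (Nat.pos_of_ne_zero fun h0 => by
          rw [hm, h0] at hle; have := Nat.card_pos (α := M); rw [hm, h0] at this; omega) hd
        omega
      obtain ⟨hd, hm1⟩ := sylow_facts (G := M) (p := 7) 1 m (by rw [hm]; ring) hm7
      have hpos : 0 < m := Nat.pos_of_ne_zero fun h0 => by
        have := Nat.card_pos (α := M); rw [hm, h0] at this; omega
      have := Nat.le_of_dvd hpos hd
      omega
    have hsub : Subsingleton (Sylow 7 M) := (Nat.card_eq_one_iff_unique.mp hone).1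
    have hPn : ((P.subtype hPM : Sylow 7 M) : Subgroup M).Normal := Sylow.normal_of_subsingleton _
    rw [Sylow.coe_subtype] at hPn
    have hMN : M ≤ Subgroup.normalizer ((P : Subgroup G) : Set G) :=
      (Subgroup.normal_subgroupOf_iff_le_normalizer hPM).mp hPn
    rcases hM.le_iff.mp hMN with e | e
    · have := normalizer_seven h P
      rw [e, Subgroup.card_top, h] at this; omega
    · rw [← e]; exact normalizer_seven h P
  · right
    obtain ⟨K, hMK, hK⟩ := exists_card24_ge h hM.1 h7
    rcases hM.le_iff.mp hMK with e | e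
    · rw [e, Subgroup.card_top, h] at hK; omega
    · rw [← e]; exact hK

theorem conj_of_card21 {M M' : Subgroup G} (hM : Nat.card M = 21) (hM' : Nat.card M' = 21) :
    ∃ g : G, M' = M.map (MulAut.conj g).toMonoidHom := by
  have := Fact.mk (show Nat.Prime 7 by norm_num)
  have key : ∀ L : Subgroup G, Nat.card L = 21 → ∃ P : Sylow 7 G,
      L = Subgroup.normalizer ((P : Subgroup G) : Set G) := by
    intro L hL
    obtain ⟨hd, hm⟩ := sylow_facts (G := L) (p := 7) 1 3 (by rw [hL]; norm_num) (by norm_num)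
    have := Nat.le_of_dvd (by norm_num) hd
    have hsub : Subsingleton (Sylow 7 L) := (Nat.card_eq_one_iff_unique.mp (by omega)).1
    obtain ⟨⟨x, hx⟩, hxo⟩ := exists_prime_orderOf_dvd_card' 7 (show 7 ∣ Nat.card L by rw [hL]; norm_num)
    rw [Subgroup.orderOf_mk] at hxo
    obtain ⟨P, hP⟩ := exists_sylow_eq_zpowers (sylow_seven_card h) hxo
    have hPL : (P : Subgroup G) ≤ L := hP ▸ Subgroup.zpowers_le.mpr hx
    have hPn : ((P.subtype hPL : Sylow 7 L) : Subgroup L).Normal := Sylow.normal_of_subsingleton _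
    rw [Sylow.coe_subtype] at hPn
    exact ⟨P, Subgroup.eq_of_le_of_card_ge ((Subgroup.normal_subgroupOf_iff_le_normalizer hPL).mp hPn)
      (by rw [normalizer_seven h P, hL])⟩
  obtain ⟨P, rfl⟩ := key M hM
  obtain ⟨P', rfl⟩ := key M' hM'
  obtain ⟨g, rfl⟩ := MulAction.exists_smul_eq G P P'
  refine ⟨g, (Subgroup.eq_of_le_of_card_ge (Subgroup.le_normalizer_map _) (by
    change Nat.card ↥(Subgroup.normalizer (((g • P : Sylow 7 G) : Subgroup G) : Set G)) ≤ _
    exact le_of_eq ((normalizer_seven h (g • P)).trans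
      ((Subgroup.card_map_of_injective (MulAut.conj g).injective).trans hM).symm))).symm⟩

end Order168

end Cfsg.Lib.Small
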