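import Cfsg.Agent.Lib.Small.SimpleOrder
import Cfsg.Agent.Lib.Invol.Cyclic
import Cfsg.Agent.Lib.TwoGroup.Models
import Cfsg.Agent.S1012
import Mathlib.GroupTheory.SpecificGroups.KleinFour

/-!
# Simple groups of order 168: Sylow subgroups, element orders, classes
-/

set_option autoImplicit false

namespace Cfsg.Lib.Small.Order168

open Cfsg.Lib.Small

variable {G : Type*} [Group G] [Finite G] [IsSimpleGroup G] (h : Nat.card G = 168)
include h

theorem noncyclic : ¬ IsCyclic G := not_isCyclic_of_card (by rw [h]; norm_num)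

theorem index_ge {H : Subgroup G} (hH : H ≠ ⊤) : 7 ≤ H.index := by
  by_contra hlt
  have := index_dvd_factorial_le hH (show H.index ≤ 6 by omega)
  rw [h] at this
  norm_num [Nat.factorial] at this

theorem card_le {H : Subgroup G} (hH : H ≠ ⊤) : Nat.card H ≤ 24 := by
  have h1 := Subgroup.card_mul_index H
  have h2 := index_ge h hH
  rw [h] at h1
  nlinarith

theorem normalizer_ne_top {H : Subgroup G} (h1 : H ≠ ⊥) (h2 : H ≠ ⊤) :
    Subgroup.normalizer (H : Set G) ≠ ⊤ := fun ht =>
  (Subgroup.normalizer_eq_top_iff.mp ht).eq_bot_or_eq_top.elim h1 h2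

theorem sylow_seven_card (P : Sylow 7 G) : Nat.card (P : Subgroup G) = 7 := by
  have := Fact.mk (show Nat.Prime 7 by norm_num)
  rw [card_sylow 1 24 (by rw [h]; norm_num) (by norm_num) P, pow_one]

theorem sylow_three_card (P : Sylow 3 G) : Nat.card (P : Subgroup G) = 3 := by
  have := Fact.mk Nat.prime_three
  rw [card_sylow 1 56 (by rw [h]; norm_num) (by norm_num) P, pow_one]

theorem sylow_two_card (T : Sylow 2 G) : Nat.card (T : Subgroup G) = 8 := by
  have := Fact.mk Nat.prime_two
  rw [card_sylow 3 21 (by rw [h]; norm_num) (by norm_num) T]; norm_num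

theorem card_seven : Nat.card (Sylow 7 G) = 8 := by
  have := Fact.mk (show Nat.Prime 7 by norm_num)
  have hk : Nat.card G = 7 ^ 1 * 24 := by rw [h]; norm_num
  obtain ⟨-, hd, hm⟩ := Cfsg.Lib.OrderLeHundred.sylow_count 7 hk (by norm_num)
  have hn1 := Cfsg.Lib.OrderLeHundred.sylow_ne_one (noncyclic h) 7 hk (by norm_num) one_ne_zero (by norm_num)
  have := Nat.le_of_dvd (by norm_num) hd
  interval_cases hh : Nat.card (Sylow 7 G) <;> omega

theorem normalizer_seven (P : Sylow 7 G) :
    Nat.card ↥(Subgroup.normalizer ((P : Subgroup G) : Set G)) = 21 := by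
  have := Fact.mk (show Nat.Prime 7 by norm_num)
  have := card_normalizer_mul P
  rw [card_seven h, h] at this
  omega

theorem centralizer_seven (P : Sylow 7 G) :
    Subgroup.centralizer ((P : Subgroup G) : Set G) = P := by
  have := Fact.mk (show Nat.Prime 7 by norm_num)
  have hP := sylow_seven_card h P
  have : IsCyclic (P : Subgroup G) := isCyclic_of_prime_card hP
  have hle : (P : Subgroup G) ≤ Subgroup.centralizer ((P : Subgroup G) : Set G) :=
    Subgroup.le_centralizer _
  refine (Subgroup.eq_of_le_of_card_ge hle ?_).symm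
  set C := Subgroup.centralizer ((P : Subgroup G) : Set G)
  have hCN : C ≤ Subgroup.normalizer ((P : Subgroup G) : Set G) := Subgroup.centralizer_le_normalizer _
  have hd : Nat.card C ∣ 21 := normalizer_seven h P ▸ Subgroup.card_dvd_of_le hCN
  have h7 : 7 ∣ Nat.card C := hP ▸ Subgroup.card_dvd_of_le hle
  have hne : Nat.card C ≠ 21 := fun h21 =>
    not_normalizer_le_centralizer (noncyclic h) P
      (fun hb => by rw [hb, Subgroup.card_bot] at hP; norm_num at hP)
      (Subgroup.eq_of_le_of_card_ge hCN (by rw [h21, normalizer_seven h P])).ge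
  have := Nat.le_of_dvd (by norm_num) hd
  rw [hP]
  interval_cases hh : Nat.card C <;> omega

theorem centralizer_orderOf_seven {x : G} (hx : orderOf x = 7) :
    Nat.card ↥(Subgroup.centralizer ({x} : Set G)) = 7 := by
  have := Fact.mk (show Nat.Prime 7 by norm_num)
  obtain ⟨P, hP⟩ := exists_sylow_eq_zpowers (sylow_seven_card h) hx
  rw [← centralizer_zpowers, ← hP, centralizer_seven h P, sylow_seven_card h P]

theorem card_three : Nat.card (Sylow 3 G) = 28 := by
  have := Fact.mk Nat.prime_three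
  have := Fact.mk (show Nat.Prime 7 by norm_num)
  have hk : Nat.card G = 3 ^ 1 * 56 := by rw [h]; norm_num
  obtain ⟨hc, hd, hm⟩ := Cfsg.Lib.OrderLeHundred.sylow_count 3 hk (by norm_num)
  have hn1 := Cfsg.Lib.OrderLeHundred.sylow_ne_one (noncyclic h) 3 hk (by norm_num) one_ne_zero (by norm_num)
  obtain ⟨P⟩ : Nonempty (Sylow 7 G) := inferInstance
  set N := Subgroup.normalizer ((P : Subgroup G) : Set G) with hN
  -- a Sylow 3-subgroup inside the normalizer of a Sylow 7-subgroup
  obtain ⟨⟨y, hyN⟩, hy⟩ := exists_prime_orderOf_dvd_card' (G := N) 3 (by rw [normalizer_seven h P]; norm_num)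
  rw [Subgroup.orderOf_mk] at hy
  obtain ⟨Q, hQ⟩ := exists_sylow_eq_zpowers (sylow_three_card h) hy
  have hQne : (Q : Subgroup G) ≠ ⊥ := fun hb => by
    have := sylow_three_card h Q
    rw [hb, Subgroup.card_bot] at this; norm_num at this
  have hNQ : Subgroup.normalizer ((Q : Subgroup G) : Set G) ≠ ⊤ := normalizer_ne_top h hQne fun ht => by
    have := sylow_three_card h Q
    rw [ht, Subgroup.card_top, h] at this; norm_num at this
  have h7 : 7 ≤ Nat.card (Sylow 3 G) := by
    rw [Q.card_eq_index_normalizer]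
    exact index_ge h hNQ
  have := Nat.le_of_dvd (by norm_num) hd
  by_contra hne
  have hn : Nat.card (Sylow 3 G) = 7 := by
    interval_cases hh : Nat.card (Sylow 3 G) <;> omega
  have hQc := card_normalizer_mul Q
  rw [hn, h] at hQc
  -- then every Sylow 3-subgroup lies in that normalizer
  let f : ↥(P : Subgroup G) → Sylow 3 G := fun u => (u : G) • Q
  have hinj : Function.Injective f := by
    intro u v huv
    have h1 : ((v : G)⁻¹ * u) • Q = Q := by
      rw [mul_smul]
      change (v : G)⁻¹ • f u = Q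
      rw [huv]
      exact inv_smul_smul _ _
    have h2 := Sylow.smul_eq_iff_mem_normalizer.mp h1
    have h3 : orderOf ((v : G)⁻¹ * u) ∣ Nat.card ↥(Subgroup.normalizer ((Q : Subgroup G) : Set G)) :=
      Subgroup.orderOf_dvd_natCard _ h2
    have h4 : orderOf ((v : G)⁻¹ * u) ∣ 7 :=
      (Subgroup.orderOf_dvd_natCard (P : Subgroup G) (mul_mem (inv_mem v.2) u.2)).trans
        (sylow_seven_card h P).dvd
    rw [show Nat.card ↥(Subgroup.normalizer ((Q : Subgroup G) : Set G)) = 24 by omega] at h3
    have h5 := Nat.eq_one_of_dvd_coprimes (show Nat.Coprime 24 7 by norm_num) h3 h4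
    rw [orderOf_eq_one_iff, inv_mul_eq_one] at h5
    exact Subtype.ext h5.symm
  have hsurj := (hinj.bijective_of_nat_card_le (by rw [hn, sylow_seven_card h P])).2
  have hall : ∀ R : Sylow 3 G, (R : Subgroup G) ≤ N := by
    intro R
    obtain ⟨u, rfl⟩ := hsurj R
    rintro _ ⟨a, ha, rfl⟩
    rw [SetLike.mem_coe, hQ] at ha
    have huN : (u : G) ∈ N := Subgroup.le_normalizer u.2
    exact mul_mem (mul_mem huN (Subgroup.zpowers_le.mpr hyN ha)) (inv_mem huN)
  set K : Subgroup G := ⨆ R : Sylow 3 G, (R : Subgroup G) with hK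
  have hKn : K.Normal := by
    refine ⟨fun a ha g => ?_⟩
    have hle : K ≤ K.comap (MulAut.conj g).toMonoidHom := by
      refine iSup_le fun R => ?_
      intro b hb
      exact (le_iSup (fun R : Sylow 3 G => (R : Subgroup G)) (g • R)) ⟨b, hb, rfl⟩
    exact hle ha
  rcases hKn.eq_bot_or_eq_top with hb | ht
  · exact hQne (le_bot_iff.mp (hb ▸ le_iSup (fun R : Sylow 3 G => (R : Subgroup G)) Q))
  · have h1 := Subgroup.card_le_of_le (iSup_le hall : K ≤ N)
    rw [← hK, ht, Subgroup.card_top, h, normalizer_seven h P] at h1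
    omega

theorem normalizer_three (Q : Sylow 3 G) :
    Nat.card ↥(Subgroup.normalizer ((Q : Subgroup G) : Set G)) = 6 := by
  have := Fact.mk Nat.prime_three
  have := card_normalizer_mul Q
  rw [card_three h, h] at this
  omega

theorem centralizer_three (Q : Sylow 3 G) :
    Subgroup.centralizer ((Q : Subgroup G) : Set G) = Q := by
  have := Fact.mk Nat.prime_three
  have hQ := sylow_three_card h Q
  have : IsCyclic (Q : Subgroup G) := isCyclic_of_prime_card hQ
  have hle : (Q : Subgroup G) ≤ Subgroup.centralizer ((Q : Subgroup G) : Set G) :=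
    Subgroup.le_centralizer _
  refine (Subgroup.eq_of_le_of_card_ge hle ?_).symm
  set C := Subgroup.centralizer ((Q : Subgroup G) : Set G)
  have hCN : C ≤ Subgroup.normalizer ((Q : Subgroup G) : Set G) := Subgroup.centralizer_le_normalizer _
  have hd : Nat.card C ∣ 6 := normalizer_three h Q ▸ Subgroup.card_dvd_of_le hCN
  have h3 : 3 ∣ Nat.card C := hQ ▸ Subgroup.card_dvd_of_le hle
  have hne : Nat.card C ≠ 6 := fun h6 =>
    not_normalizer_le_centralizer (noncyclic h) Q
      (fun hb => by rw [hb, Subgroup.card_bot] at hQ; norm_num at hQ)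
      (Subgroup.eq_of_le_of_card_ge hCN (by rw [h6, normalizer_three h Q])).ge
  have := Nat.le_of_dvd (by norm_num) hd
  rw [hQ]
  interval_cases hh : Nat.card C <;> omega

theorem centralizer_orderOf_three {x : G} (hx : orderOf x = 3) :
    Nat.card ↥(Subgroup.centralizer ({x} : Set G)) = 3 := by
  have := Fact.mk Nat.prime_three
  obtain ⟨Q, hQ⟩ := exists_sylow_eq_zpowers (sylow_three_card h) hx
  rw [← centralizer_zpowers, ← hQ, centralizer_three h Q, sylow_three_card h Q]

/-- Elements of odd prime order have centralizers of prime order. -/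
theorem orderOf_dvd_prime {x g : G} {p : ℕ} (hp : p = 3 ∨ p = 7) (hx : orderOf x = p)
    (hg : Commute x g) : orderOf g ∣ p := by
  have hmem : g ∈ Subgroup.centralizer ({x} : Set G) := by
    rw [Subgroup.mem_centralizer_iff]
    simp only [Set.mem_singleton_iff, forall_eq]
    exact hg.eq
  rcases hp with rfl | rfl
  · exact centralizer_orderOf_three h hx ▸ Subgroup.orderOf_dvd_natCard _ hmem
  · exact centralizer_orderOf_seven h hx ▸ Subgroup.orderOf_dvd_natCard _ hmem

theorem orderOf_dvd_eight_of_ne {g : G} (h3 : orderOf g ≠ 3) (h7 : orderOf g ≠ 7) :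
    orderOf g ∣ 8 := by
  have key : ∀ p : ℕ, (p = 3 ∨ p = 7) → orderOf g ≠ p → ¬ p ∣ orderOf g := by
    intro p hp hne hd
    have hx : orderOf (g ^ (orderOf g / p)) = p := orderOf_pow_orderOf_div (orderOf_pos g).ne' hd
    have := orderOf_dvd_prime h hp hx (Commute.pow_left (Commute.refl g) _)
    exact hne (Nat.dvd_antisymm this hd)
  have k3 := key 3 (Or.inl rfl) h3
  have k7 := key 7 (Or.inr rfl) h7
  have hd : orderOf g ∣ 8 * 21 := by
    have := orderOf_dvd_natCard g
    rwa [h] at this
  refine Nat.Coprime.dvd_of_dvd_mul_right ?_ hd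
  rw [show (21 : ℕ) = 3 * 7 by norm_num]
  exact Nat.Coprime.mul_right ((Nat.Prime.coprime_iff_not_dvd (by norm_num)).mpr k3).symm
    ((Nat.Prime.coprime_iff_not_dvd (by norm_num)).mpr k7).symm

theorem card_two : Nat.card (Sylow 2 G) = 21 := by
  classical
  have := Fact.mk Nat.prime_two
  have hk : Nat.card G = 2 ^ 3 * 21 := by rw [h]; norm_num
  obtain ⟨hc, hd, -⟩ := Cfsg.Lib.OrderLeHundred.sylow_count 2 hk (by norm_num)
  have hn1 := Cfsg.Lib.OrderLeHundred.sylow_ne_one (noncyclic h) 2 hk (by norm_num) (by norm_num) (by norm_num)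
  obtain ⟨T⟩ : Nonempty (Sylow 2 G) := inferInstance
  set N := Subgroup.normalizer ((T : Subgroup G) : Set G) with hN
  have h7 : 7 ≤ Nat.card (Sylow 2 G) := by
    rw [T.card_eq_index_normalizer]
    refine index_ge h fun ht => hn1 ?_
    rw [T.card_eq_index_normalizer]
    exact Subgroup.index_eq_one.mpr ht
  have := Nat.le_of_dvd (by norm_num) hd
  by_contra hne
  have hn : Nat.card (Sylow 2 G) = 7 := by
    interval_cases hh : Nat.card (Sylow 2 G) <;> omega
  have hcN := card_normalizer_mul T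
  rw [hn, h] at hcN
  change 7 * Nat.card N = 168 at hcN
  have hN24 : Nat.card N = 24 := by omega
  have h6 : ∀ g : N, orderOf g ≠ 6 := by
    intro g hg
    rw [← Subgroup.orderOf_coe] at hg
    have := orderOf_dvd_eight_of_ne h (g := (g : G)) (by omega) (by omega)
    rw [hg] at this; norm_num at this
  obtain ⟨e⟩ := Cfsg.Agent.S1012.result hN24 h6
  have hTN : (T : Subgroup G) ≤ N := Subgroup.le_normalizer
  have key : ∀ σ : Equiv.Perm (Fin 4), σ ^ 2 = 1 → ((e.symm σ : N) : G) ∈ (T : Subgroup G) := by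
    intro σ hσ
    have h1 : ((e.symm σ : N) : G) ^ 2 = 1 := by
      have := congrArg e.symm hσ
      rw [map_pow, map_one] at this
      exact congrArg Subtype.val this
    have hpz : IsPGroup 2 ↥(Subgroup.zpowers ((e.symm σ : N) : G)) := by
      obtain ⟨k, -, hk⟩ := (Nat.dvd_prime_pow Nat.prime_two).mp
        (orderOf_dvd_of_pow_eq_one (n := 2 ^ 1) (by simpa using h1))
      exact IsPGroup.of_card (by rw [Nat.card_zpowers, hk])
    have := T.is_maximal' (T.isPGroup'.to_sup_of_normal_left' hpz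
      (Subgroup.zpowers_le.mpr (e.symm σ).2)) le_sup_left
    exact this.le (Subgroup.mem_sup_right (Subgroup.mem_zpowers _))
  have hmem := mul_mem (key (Equiv.swap 0 1) (by decide)) (key (Equiv.swap 1 2) (by decide))
  rw [← Subgroup.coe_mul, ← map_mul] at hmem
  have h8 := Subgroup.orderOf_dvd_natCard _ hmem
  rw [hc T, Subgroup.orderOf_coe, MulEquiv.orderOf_eq,
    orderOf_eq_prime (p := 3) (hp := ⟨Nat.prime_three⟩) (by decide) (by decide)] at h8
  norm_num at h8

theorem normalizer_two (T : Sylow 2 G) :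
    Subgroup.normalizer ((T : Subgroup G) : Set G) = T := by
  have := Fact.mk Nat.prime_two
  refine (Subgroup.eq_of_le_of_card_ge Subgroup.le_normalizer ?_).symm
  have := card_normalizer_mul T
  rw [card_two h, h] at this
  rw [sylow_two_card h T]
  omega

theorem not_comm_two (T : Sylow 2 G) : ¬ IsMulCommutative (T : Subgroup G) := by
  intro hc
  have := Fact.mk Nat.prime_two
  have hT := sylow_two_card h T
  apply not_normalizer_le_centralizer (noncyclic h) T (fun hb => by
    rw [hb, Subgroup.card_bot] at hT; norm_num at hT)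
  rw [normalizer_two h T]
  exact Subgroup.le_centralizer _

theorem card_dvd_eight {C : Subgroup G} {t : G} (ht : t ∈ C) (hc : ∀ g ∈ C, Commute t g)
    (ht2 : orderOf t = 2) : Nat.card C ∣ 8 := by
  have key : ∀ p : ℕ, p.Prime → (p = 3 ∨ p = 7) → ¬ p ∣ Nat.card C := by
    intro p hp hp' hd
    have := Fact.mk hp
    obtain ⟨⟨y, hy⟩, hyo⟩ := exists_prime_orderOf_dvd_card' p hd
    rw [Subgroup.orderOf_mk] at hyo
    have := orderOf_dvd_prime h hp' hyo (hc y hy).symm
    rw [ht2] at this
    rcases hp' with rfl | rfl <;> norm_num at this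
  have hd : Nat.card C ∣ 8 * 21 := by
    have := Subgroup.card_subgroup_dvd_card C
    rwa [h] at this
  refine Nat.Coprime.dvd_of_dvd_mul_right ?_ hd
  rw [show (21 : ℕ) = 3 * 7 by norm_num]
  exact Nat.Coprime.mul_right
    ((Nat.Prime.coprime_iff_not_dvd (by norm_num)).mpr (key 3 (by norm_num) (Or.inl rfl))).symm
    ((Nat.Prime.coprime_iff_not_dvd (by norm_num)).mpr (key 7 (by norm_num) (Or.inr rfl))).symm

theorem centralizer_center (T : Sylow 2 G) {z : G} (hz : z ∈ (T : Subgroup G)) (hz1 : z ≠ 1)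
    (hc : ∀ t ∈ (T : Subgroup G), t * z = z * t) : Subgroup.centralizer ({z} : Set G) = T := by
  have := Fact.mk Nat.prime_two
  set C := Subgroup.centralizer ({z} : Set G)
  have hle : (T : Subgroup G) ≤ C := fun t ht => by
    rw [Subgroup.mem_centralizer_iff]
    simp only [Set.mem_singleton_iff, forall_eq]
    exact (hc t ht).symm
  obtain ⟨k, -, hk⟩ := (Nat.dvd_prime_pow Nat.prime_two).mp
    (show orderOf z ∣ 2 ^ 3 from (by norm_num : (2 : ℕ) ^ 3 = 8) ▸
      sylow_two_card h T ▸ Subgroup.orderOf_dvd_natCard _ hz)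
  have hk0 : k ≠ 0 := fun hk0 => hz1 (orderOf_eq_one_iff.mp (by rw [hk, hk0, pow_zero]))
  set t := z ^ (orderOf z / 2)
  have ht2 : orderOf t = 2 := orderOf_pow_orderOf_div (orderOf_pos z).ne' (hk ▸ dvd_pow_self 2 hk0)
  have hcz : ∀ g ∈ C, Commute z g := fun g hg => Subgroup.mem_centralizer_iff.mp hg z rfl
  have hd := card_dvd_eight h (C := C) (t := t)
    (pow_mem (Subgroup.mem_centralizer_iff.mpr (by simp)) _) (fun g hg => (hcz g hg).pow_left _) ht2
  refine (Subgroup.eq_of_le_of_card_ge hle ?_).symm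
  rw [sylow_two_card h T]
  exact Nat.le_of_dvd (by norm_num) hd

theorem exists_central (T : Sylow 2 G) :
    ∃ z : G, z ∈ (T : Subgroup G) ∧ orderOf z = 2 ∧ (∀ t ∈ (T : Subgroup G), t * z = z * t) ∧
      ∀ z' ∈ (T : Subgroup G), (∀ t ∈ (T : Subgroup G), t * z' = z' * t) → z' = 1 ∨ z' = z := by
  have := Fact.mk Nat.prime_two
  set Z := Subgroup.center (T : Subgroup G)
  have : Nontrivial (T : Subgroup G) := Finite.one_lt_card_iff_nontrivial.mp (by rw [sylow_two_card h T]; norm_num)
  have hne : Z ≠ ⊥ := bot_lt_iff_ne_bot.mp T.isPGroup'.bot_lt_center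
  have hd : Nat.card Z ∣ 2 ^ 3 := by
    have := Subgroup.card_subgroup_dvd_card Z
    rw [sylow_two_card h T] at this; simpa using this
  obtain ⟨k, hk, hk'⟩ := (Nat.dvd_prime_pow Nat.prime_two).mp hd
  have h2 : Nat.card Z = 2 := by
    rcases (by omega : k = 0 ∨ k = 1 ∨ 2 ≤ k) with rfl | rfl | h2
    · exact absurd (Subgroup.eq_bot_of_card_eq _ (hk'.trans (pow_zero 2))) hne
    · rw [hk', pow_one]
    · exfalso
      apply not_comm_two h T
      have hidx : Z.index ∣ 2 := by
        have h1 := Subgroup.card_mul_index Z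
        rw [hk', sylow_two_card h T] at h1
        rcases (by omega : k = 2 ∨ k = 3) with rfl | rfl
        · exact ⟨1, by omega⟩
        · exact ⟨2, by omega⟩
      have : IsCyclic (↥(T : Subgroup G) ⧸ Z) := by
        rcases (Nat.dvd_prime Nat.prime_two).mp hidx with h' | h' <;> rw [Subgroup.index_eq_card] at h'
        · have : Subsingleton (↥(T : Subgroup G) ⧸ Z) := (Nat.card_eq_one_iff_unique.mp h').1
          exact isCyclic_of_subsingleton
        · exact isCyclic_of_prime_card h'
      exact isMulCommutative_of_isCyclic_quotient_center_self _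
  obtain ⟨⟨z, hzZ⟩, hz⟩ := exists_prime_orderOf_dvd_card' (G := Z) 2 (by rw [h2])
  rw [Subgroup.orderOf_mk, ← Subgroup.orderOf_coe] at hz
  refine ⟨z, z.2, hz, fun t ht => congrArg Subtype.val (Subgroup.mem_center_iff.mp hzZ ⟨t, ht⟩),
    fun z' hz' hc => ?_⟩
  have hz'Z : (⟨z', hz'⟩ : (T : Subgroup G)) ∈ Z :=
    Subgroup.mem_center_iff.mpr fun t => Subtype.ext (hc t t.2)
  by_cases h1 : z' = 1
  · exact Or.inl h1
  · right
    have hgen := zpowers_eq_of_prime_card (p := 2) h2 hzZ (fun he => by
      rw [he, Subgroup.coe_one, orderOf_one] at hz; norm_num at hz)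
    rw [← hgen] at hz'Z
    obtain ⟨i, hi⟩ := Subgroup.mem_zpowers_iff.mp hz'Z
    have hi' : (z : G) ^ i = z' := by
      have := congrArg Subtype.val hi
      simpa using this
    rw [← zpow_mod_orderOf, hz] at hi'
    rcases Int.emod_two_eq i with he | he
    · rw [show (i % (2 : ℕ) : ℤ) = 0 by exact_mod_cast he, zpow_zero] at hi'
      exact absurd hi'.symm h1
    · rw [show (i % (2 : ℕ) : ℤ) = 1 by exact_mod_cast he, zpow_one] at hi'
      exact hi'.symm

/-- All elements of order 4 of a Sylow 2-subgroup square to its central involution. -/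
theorem sq_eq_central (T : Sylow 2 G) {z x : G} (hz : ∀ z' ∈ (T : Subgroup G),
    (∀ t ∈ (T : Subgroup G), t * z' = z' * t) → z' = 1 ∨ z' = z) (hx : x ∈ (T : Subgroup G))
    (hx4 : orderOf x = 4) : x ^ 2 = z := by
  have := Fact.mk Nat.prime_two
  have hsq : orderOf (x ^ 2) = 2 := by rw [orderOf_pow' _ two_ne_zero, hx4]; norm_num
  have hA : ((Subgroup.zpowers x).subgroupOf (T : Subgroup G)).index = 2 := by
    have h1 := Subgroup.card_mul_index ((Subgroup.zpowers x).subgroupOf (T : Subgroup G))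
    rw [Nat.card_congr (Subgroup.subgroupOfEquivOfLe (Subgroup.zpowers_le.mpr hx)).toEquiv,
      Nat.card_zpowers, hx4, sylow_two_card h T] at h1
    omega
  refine (hz _ (pow_mem hx 2) fun t ht => ?_).resolve_left (fun h1 => by
    rw [h1, orderOf_one] at hsq; norm_num at hsq)
  have hn := Subgroup.normal_of_index_eq_two hA
  have hmem : t * x * t⁻¹ ∈ Subgroup.zpowers x :=
    hn.conj_mem ⟨x, hx⟩ (Subgroup.mem_zpowers x) ⟨t, ht⟩
  have hc : t * x ^ 2 * t⁻¹ ∈ Subgroup.zpowers x := by rw [← conj_pow]; exact pow_mem hmem 2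
  have ho : orderOf (t * x ^ 2 * t⁻¹) = 2 := by
    rw [show t * x ^ 2 * t⁻¹ = MulAut.conj t (x ^ 2) from rfl, MulEquiv.orderOf_eq, hsq]
  have := Cfsg.Lib.Invol.eq_of_pow_two_group_cyclic (C := Subgroup.zpowers x) inferInstance hc
    (pow_mem (Subgroup.mem_zpowers x) 2) ho hsq
  exact mul_inv_eq_iff_eq_mul.mp this

omit h in
theorem map_conj_mem (T : Sylow 2 G) (g : G) {t : G} (ht : t ∈ (T : Subgroup G)) :
    g * t * g⁻¹ ∈ ((g • T : Sylow 2 G) : Subgroup G) := ⟨t, ht, rfl⟩

theorem exists_four (T : Sylow 2 G) : ∃ a ∈ (T : Subgroup G), orderOf a = 4 := by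
  have := Fact.mk Nat.prime_two
  by_contra hn
  push Not at hn
  have hsq : ∀ t : (T : Subgroup G), t * t = 1 := by
    intro t
    have hd : orderOf (t : G) ∣ 2 ^ 3 := by
      have := Subgroup.orderOf_dvd_natCard _ t.2
      rw [sylow_two_card h T] at this; simpa using this
    obtain ⟨k, hk, hk'⟩ := (Nat.dvd_prime_pow Nat.prime_two).mp hd
    have hk1 : k ≤ 1 := by
      by_contra hk1
      rcases (by omega : k = 2 ∨ k = 3) with rfl | rfl
      · exact hn t t.2 (by rw [hk']; norm_num)
      · refine hn _ (pow_mem t.2 2) ?_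
        rw [orderOf_pow' _ two_ne_zero, hk']; norm_num
    apply Subtype.ext
    rw [Subgroup.coe_mul, ← pow_two, Subgroup.coe_one, ← orderOf_dvd_iff_pow_eq_one, hk']
    simpa using pow_dvd_pow 2 hk1
  apply not_comm_two h T
  refine ⟨⟨fun a b => ?_⟩⟩
  have hi : ∀ t : (T : Subgroup G), t⁻¹ = t := fun t => inv_eq_of_mul_eq_one_left (hsq t)
  have := hi (a * b)
  rw [mul_inv_rev, hi, hi] at this
  exact this.symm

theorem class_card_le (T : Sylow 2 G) {z : G} (hzT : z ∈ (T : Subgroup G)) :
    Nat.card {g : G // orderOf g = 3} = 56 ∧ Nat.card {g : G // orderOf g = 7} = 48 := by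
  have := Fact.mk Nat.prime_three
  have := Fact.mk (show Nat.Prime 7 by norm_num)
  rw [card_orderOf_eq (sylow_three_card h), card_orderOf_eq (sylow_seven_card h), card_three h,
    card_seven h]
  exact ⟨rfl, rfl⟩

end Cfsg.Lib.Small.Order168
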