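import Cfsg.Agent.S0953
import Cfsg.Agent.S4441
import Cfsg.Agent.Lib.Block.CyclicPrimeApps
import Cfsg.Agent.Lib.Block.CyclicPrimeCount
import Cfsg.Agent.Lib.Block.Vanish
import Cfsg.Agent.Lib.Block.RegInt
import Cfsg.Agent.Lib.Char.Formulas
import Cfsg.Agent.Lib.Char.Orthogonality
import Cfsg.Agent.Lib.Char.Linear
import Cfsg.Agent.Lib.Small.SimpleOrder

/-!
# The principal block of a simple group at a prime dividing the order once

For a finite simple group whose Sylow `p`-subgroup `P` has order `p` the principal block yields a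
signed family `Z` of `e + 1` characters, `e` the order of the automizer of `P`.

* `exists_shape`: the family, with degrees congruences and the linear relation;
* `Shape.small`: a member of degree less than `2 p` forces `P` to be self-centralizing;
* `Shape.formula`: the number of factorizations of a nontrivial element of `P` through two classes;
* `Shape.linBound`: bound for the values at an involution inverting `P`.
-/

set_option autoImplicit false
set_option linter.unusedSectionVars false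
set_option linter.style.haveILetI false

namespace Cfsg.Lib.Small

open Cfsg Cfsg.Lib
open scoped ComplexConjugate

universe u

variable {G : Type u} [Group G] [Fintype G]

/-- The trivial character. -/
noncomputable abbrev one' (G : Type u) [Group G] [Fintype G] : IrrCharacter G := Block.trivChar G

theorem one'_apply (g : G) : ((one' G : IrrCharacter G) : G → ℂ) g = 1 := rfl

theorem charDegree_one' : charDegree ((one' G : IrrCharacter G) : G → ℂ) = 1 :=
  Block.charDegree_eq_of_apply_one (by rw [one'_apply, Nat.cast_one])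

theorem commutator_eq_top [IsSimpleGroup G] (hnc : ¬ IsCyclic G) : commutator G = ⊤ := by
  refine ((inferInstance : (commutator G).Normal).eq_bot_or_eq_top).resolve_left fun h => hnc ?_
  let _ : CommGroup G := { (inferInstance : Group G) with
    mul_comm := fun a b => by
      have : a * b * a⁻¹ * b⁻¹ ∈ commutator G :=
        Subgroup.commutator_mem_commutator (Subgroup.mem_top a) (Subgroup.mem_top b)
      rw [h, Subgroup.mem_bot, mul_inv_eq_one, mul_inv_eq_iff_eq_mul] at this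
      exact this }
  exact IsSimpleGroup.isCyclic

theorem eq_one_of_apply_eq [IsSimpleGroup G] {χ : IrrCharacter G} (hχ : χ ≠ one' G) {g : G}
    (hg : (χ : G → ℂ) g = (χ : G → ℂ) 1) : g = 1 := by
  rcases (Char.charKer_normal χ.2.isCharacter).eq_bot_or_eq_top with h | h
  · have := (Char.mem_charKer χ.2.isCharacter).2 hg
    rwa [h, Subgroup.mem_bot] at this
  · exfalso
    have hall : ∀ x : G, (χ : G → ℂ) x = (χ : G → ℂ) 1 := fun x =>
      (Char.mem_charKer χ.2.isCharacter).1 (h ▸ Subgroup.mem_top x)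
    have h1 := Char.classInner_irr χ.2 (one' G).2
    rw [if_neg (fun e => hχ (Subtype.ext e))] at h1
    simp only [classInner, hall, one'_apply, map_one, mul_one, Finset.sum_const, Finset.card_univ,
      nsmul_eq_mul, mul_eq_zero, inv_eq_zero, Nat.cast_eq_zero] at h1
    rcases h1 with h1 | h1 | h1
    · exact Nat.card_pos.ne' h1
    · exact Fintype.card_ne_zero h1
    · exact χ.2.apply_one_ne_zero h1

/-- The product of the eigenvalues is one in a perfect group. -/
theorem prod_eigen_eq_one (hperf : commutator G = ⊤) {n : ℕ}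
    (ρ : Representation ℂ G (Fin n → ℂ)) (g : G) {ι : Type} [Fintype ι]
    (b : Module.Basis ι ℂ (Fin n → ℂ)) (μ : ι → ℂ) (h : ∀ i, ρ g (b i) = μ i • b i) :
    ∏ i, μ i = 1 := by
  classical
  let ψ : G →* ℂˣ := (LinearMap.det.comp ρ).toHomUnits
  have hker : g ∈ ψ.ker := Abelianization.commutator_subset_ker ψ (hperf ▸ Subgroup.mem_top g)
  have h1 : LinearMap.det (ρ g) = 1 := congrArg Units.val (MonoidHom.mem_ker.1 hker)
  have h2 : LinearMap.toMatrix b b (ρ g) = Matrix.diagonal μ := by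
    ext i j
    rw [LinearMap.toMatrix_apply, h, map_smul, b.repr_self, Finsupp.smul_single, smul_eq_mul,
      mul_one, Finsupp.single_apply, Matrix.diagonal_apply]
    by_cases hij : i = j
    · subst hij; simp
    · rw [if_neg hij, if_neg (Ne.symm hij)]
  rw [← LinearMap.det_toMatrix b, h2, Matrix.det_diagonal] at h1
  exact h1

theorem two_le_charDegree [IsSimpleGroup G] (hnc : ¬ IsCyclic G) {χ : IrrCharacter G}
    (hχ : χ ≠ one' G) : 2 ≤ charDegree (χ : G → ℂ) := by
  have hpos := Block.charDegree_pos χ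
  by_contra hlt
  have h1 : (χ : G → ℂ) 1 = 1 := by
    rw [Block.apply_one_eq_charDegree, show charDegree (χ : G → ℂ) = 1 by omega, Nat.cast_one]
  obtain ⟨φ, hφ⟩ := Char.exists_hom_of_degree_one χ.2.isCharacter h1
  refine hχ (Subtype.ext (funext fun g => ?_))
  have hker : g ∈ φ.ker :=
    Abelianization.commutator_subset_ker φ ((commutator_eq_top hnc) ▸ Subgroup.mem_top g)
  rw [hφ, one'_apply]
  show ((φ g : ℂˣ) : ℂ) = 1
  rw [MonoidHom.mem_ker.1 hker, Units.val_one]

/-- Counting the eigenvalues equal to a given root of unity. -/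
theorem sum_pow_inv_mul {ι : Type*} [Fintype ι] (μ : ι → ℂ) {N : ℕ} (hμ : ∀ j, μ j ^ N = 1)
    {ν : ℂ} (hν : ν ^ N = 1) :
    ∑ i ∈ Finset.range N, (ν⁻¹) ^ i * (∑ j, μ j ^ i) =
      (N : ℂ) * ((Finset.univ.filter fun j => μ j = ν).card : ℂ) := by
  classical
  rcases Nat.eq_zero_or_pos N with rfl | hN
  · simp
  have hν0 : ν ≠ 0 := fun h => by rw [h, zero_pow hN.ne'] at hν; exact zero_ne_one hν
  simp_rw [Finset.mul_sum, ← mul_pow]
  rw [Finset.sum_comm]
  have key : ∀ j, ∑ i ∈ Finset.range N, (ν⁻¹ * μ j) ^ i = if μ j = ν then (N : ℂ) else 0 := by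
    intro j
    split_ifs with h
    · simp [h, hν0]
    · rw [geom_sum_eq (fun e => h (inv_mul_eq_one₀ hν0 |>.1 e).symm), mul_pow, inv_pow, hν, hμ,
        inv_one, one_mul, sub_self, zero_div]
  rw [Finset.sum_congr rfl fun j _ => key j, ← Finset.sum_filter, Finset.sum_const, nsmul_eq_mul,
    mul_comm]

variable {p : ℕ} [Fact p.Prime]

/-- The signed family from the principal block. -/
structure Shape (P : Sylow p G) (e : ℕ) where
  M : Ideal AlgInt
  hM : IsPModular p M
  Z : Finset (IrrCharacter G)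
  X : Finset (IrrCharacter G)
  Y : Finset (IrrCharacter G)
  σ : IrrCharacter G → ℤ
  θ : IrrCharacter G
  card_P : Nat.card (P : Subgroup G) = p
  relIndex_eq : (Subgroup.centralizer ((P : Subgroup G) : Set G)).relIndex
    (Subgroup.normalizer ((P : Subgroup G) : Set G)) = e
  sign : ∀ χ ∈ Z, σ χ = 1 ∨ σ χ = -1
  Z_eq : Z = insert θ X
  θ_mem : θ ∈ Y
  θ_notMem : θ ∉ X
  mem_block : ∀ χ, χ ∈ principalBlock M G ↔ χ ∈ X ∨ χ ∈ Y
  disj : Disjoint X Y
  card_X : X.card = e
  card_Y : Y.card = (p - 1) / e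
  agree : ∀ θ' ∈ Y, ∀ g : G, ¬ p ∣ orderOf g → (θ' : G → ℂ) g = (θ : G → ℂ) g
  one_mem : one' G ∈ Z
  sign_one : σ (one' G) = 1
  cong : ∀ χ ∈ X, σ χ * (charDegree (χ : G → ℂ) : ℤ) ≡ 1 [ZMOD p]
  congθ : σ θ * (charDegree (θ : G → ℂ) : ℤ) ≡ -(e : ℤ) [ZMOD p]
  val : ∀ χ ∈ X, ∀ x ∈ (P : Subgroup G), x ≠ 1 →
    ∀ y ∈ Subgroup.centralizer ((P : Subgroup G) : Set G), ¬ p ∣ orderOf y →
      (χ : G → ℂ) (x * y) = (σ χ : ℂ)
  rel : ∀ g : G, ¬ p ∣ orderOf g → ∑ χ ∈ Z, (σ χ : ℂ) * (χ : G → ℂ) g = 0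

theorem exists_shape (hodd : p ≠ 2) (P : Sylow p G) (hP : Nat.card (P : Subgroup G) = p) {e : ℕ}
    (he : (Subgroup.centralizer ((P : Subgroup G) : Set G)).relIndex
      (Subgroup.normalizer ((P : Subgroup G) : Set G)) = e) (he2 : 2 ≤ e) :
    Nonempty (Shape P e) := by
  classical
  obtain ⟨M, hM⟩ := Block.exists_isPModular (Fact.out : p.Prime)
  obtain ⟨X₀, Y₀, hB, hdis, hXc, hYc, s, ε, hX, hε, hYd, hYa, hrel⟩ :=
    Cfsg.Agent.S4441.result p M hM hodd P hP e he
  have hpp : p.Prime := Fact.out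
  have hp2 := hpp.two_le
  have hed : e ∣ p - 1 := he ▸ Block.relIndex_centralizer_dvd hP
  have he0 : 0 < e := Nat.pos_of_dvd_of_pos hed (by omega)
  set X := X₀.toFinite.toFinset with hXdef
  set Y := Y₀.toFinite.toFinset with hYdef
  have hmX : ∀ χ, χ ∈ X ↔ χ ∈ X₀ := fun χ => Set.Finite.mem_toFinset _
  have hmY : ∀ χ, χ ∈ Y ↔ χ ∈ Y₀ := fun χ => Set.Finite.mem_toFinset _
  have hYcard : Y.card = (p - 1) / e := by
    rw [hYdef, ← Set.ncard_eq_toFinset_card, ← Nat.card_coe_set_eq, hYc]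
  have hXcard : X.card = e := by
    rw [hXdef, ← Set.ncard_eq_toFinset_card, ← Nat.card_coe_set_eq, hXc]
  obtain ⟨θ, hθ⟩ : Y.Nonempty := Finset.card_pos.1 (by
    rw [hYcard]; exact Nat.div_pos (Nat.le_of_dvd (by omega) hed) he0)
  have hθX : θ ∉ X := fun h =>
    Set.disjoint_left.1 hdis ((hmX θ).1 h) ((hmY θ).1 hθ)
  let σ : IrrCharacter G → ℤ := fun χ => if χ ∈ X then s χ else -ε
  have hσX : ∀ χ ∈ X, σ χ = s χ := fun χ h => if_pos h
  have hσθ : σ θ = -ε := if_neg hθX
  have hcong : ∀ χ ∈ X, σ χ * (charDegree (χ : G → ℂ) : ℤ) ≡ 1 [ZMOD p] := fun χ h => by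
    rw [hσX χ h]
    obtain ⟨hs, hd, -⟩ := hX χ ((hmX χ).1 h)
    have h2 := hd.mul_left (s χ)
    rcases hs with h3 | h3 <;> rw [h3] at h2 ⊢ <;> simpa using h2
  have hcθ : σ θ * (charDegree (θ : G → ℂ) : ℤ) ≡ -(e : ℤ) [ZMOD p] := by
    rw [hσθ]
    have h2 := (hYd θ ((hmY θ).1 hθ)).mul_left (-ε)
    rcases hε with h3 | h3 <;> rw [h3] at h2 ⊢ <;> simpa using h2
  have hsign : ∀ χ ∈ insert θ X, σ χ = 1 ∨ σ χ = -1 := by
    intro χ hχ
    rcases Finset.mem_insert.1 hχ with rfl | h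
    · rw [hσθ]; rcases hε with h3 | h3 <;> simp [h3]
    · rw [hσX χ h]; exact (hX χ ((hmX χ).1 h)).1
  have hmem : ∀ χ, χ ∈ principalBlock M G ↔ χ ∈ X ∨ χ ∈ Y := fun χ => by
    rw [hB, Set.mem_union, hmX, hmY]
  have hone : one' G ∈ insert θ X ∧ σ (one' G) = 1 := by
    have h1 : one' G ∈ principalBlock M G := Block.trivChar_mem_principal hM
    have hd1 : (charDegree ((one' G : IrrCharacter G) : G → ℂ) : ℤ) = 1 := by
      rw [charDegree_one']; rfl
    have hpd : ∀ a : ℤ, a ≡ 0 [ZMOD p] → a.natAbs < p → a = 0 := fun a h h' =>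
      Int.eq_zero_of_dvd_of_natAbs_lt_natAbs (Int.modEq_zero_iff_dvd.1 h) (by simpa using h')
    rcases (hmem _).1 h1 with h | h
    · refine ⟨Finset.mem_insert_of_mem h, ?_⟩
      have h2 := hcong _ h
      rw [hd1, mul_one] at h2
      rcases hsign _ (Finset.mem_insert_of_mem h) with h3 | h3
      · exact h3
      · exfalso
        rw [h3] at h2
        have := hpd _ (Int.modEq_zero_iff_dvd.2 ((Int.modEq_iff_dvd).1 h2)) (by simp; omega)
        omega
    · have h2 := hYd _ ((hmY _).1 h)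
      rw [hd1] at h2
      have hep : e ≤ p - 1 := Nat.le_of_dvd (by omega) hed
      have key : (e = p - 1 ∧ ε = -1) ∨ (e = 1 ∧ ε = 1) := by
        rcases hε with h3 | h3 <;> rw [h3] at h2
        · right
          refine ⟨?_, h3⟩
          have := hpd (1 - (e : ℤ)) (Int.modEq_zero_iff_dvd.2 (by
            have := Int.modEq_iff_dvd.1 h2.symm; simpa using this)) (by omega)
          omega
        · left
          refine ⟨?_, h3⟩
          have h4 : (p : ℤ) ∣ 1 + (e : ℤ) := by
            have := Int.modEq_iff_dvd.1 h2.symm; simpa using this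
          have h5 : p ∣ 1 + e := by exact_mod_cast h4
          have := Nat.le_of_dvd (by omega) h5
          omega
      rcases key with ⟨he1, hε1⟩ | ⟨he1, hε1⟩
      · have hcard1 : Y.card = 1 := by rw [hYcard, he1, Nat.div_self (by omega)]
        obtain ⟨w, hw⟩ := Finset.card_eq_one.1 hcard1
        have e1 : one' G = θ := by
          rw [hw, Finset.mem_singleton] at h hθ
          rw [h, hθ]
        refine ⟨e1 ▸ Finset.mem_insert_self _ _, ?_⟩
        rw [e1, hσθ, hε1]; rfl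
      · omega
  refine ⟨⟨M, hM, insert θ X, X, Y, σ, θ, hP, he, hsign, rfl, hθ, hθX, hmem, ?_, hXcard, hYcard,
    fun θ' h' g hg => hYa θ' ((hmY θ').1 h') θ ((hmY θ).1 hθ) g hg, hone.1, hone.2, hcong, hcθ,
    fun χ h x hx hx1 y hy hy' => ?_, fun g hg => ?_⟩⟩
  · exact Finset.disjoint_left.2 fun χ h h' =>
      Set.disjoint_left.1 hdis ((hmX χ).1 h) ((hmY χ).1 h')
  · rw [hσX χ h]
    exact ((hX χ ((hmX χ).1 h)).2.2 x hx hx1 y hy hy')
  · rw [Finset.sum_insert hθX, hσθ, Finset.sum_congr rfl fun χ h => by rw [hσX χ h]]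
    rw [Int.cast_neg, neg_mul, hrel θ ((hmY θ).1 hθ) g hg,
      finsum_mem_eq_finite_toFinset_sum _ X₀.toFinite, ← hXdef, neg_add_cancel]

namespace Shape

variable {P : Sylow p G} {e : ℕ} (S : Shape P e)

theorem mem_Z {χ : IrrCharacter G} : χ ∈ S.Z ↔ χ = S.θ ∨ χ ∈ S.X := by
  classical
  rw [S.Z_eq, Finset.mem_insert]

theorem card_Z : S.Z.card = e + 1 := by
  classical
  rw [S.Z_eq, Finset.card_insert_of_notMem S.θ_notMem, S.card_X]

include S in
theorem e_dvd : e ∣ p - 1 := S.relIndex_eq ▸ Block.relIndex_centralizer_dvd S.card_P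

include S in
theorem e_pos : 0 < e :=
  Nat.pos_of_dvd_of_pos S.e_dvd (by have := (Fact.out : p.Prime).two_le; omega)

include S in
theorem e_lt : e < p := by
  have := Nat.le_of_dvd (by have := (Fact.out : p.Prime).two_le; omega) S.e_dvd
  have := (Fact.out : p.Prime).two_le
  omega

theorem cong_all (he : e + 1 = p) {χ : IrrCharacter G} (h : χ ∈ S.Z) :
    S.σ χ * (charDegree (χ : G → ℂ) : ℤ) ≡ 1 [ZMOD p] := by
  rcases S.mem_Z.1 h with rfl | h
  · refine S.congθ.trans (Int.modEq_iff_dvd.2 ⟨1, ?_⟩)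
    have : (e : ℤ) + 1 = p := by exact_mod_cast he
    omega
  · exact S.cong χ h

theorem rel_deg : ∑ χ ∈ S.Z, S.σ χ * (charDegree (χ : G → ℂ) : ℤ) = 0 := by
  have h := S.rel 1 (by rw [orderOf_one]; exact (Fact.out : p.Prime).not_dvd_one)
  simp only [Block.apply_one_eq_charDegree] at h
  exact_mod_cast h

theorem not_dvd_deg {χ : IrrCharacter G} (h : χ ∈ S.Z) : ¬ p ∣ charDegree (χ : G → ℂ) := by
  intro hd
  have hd' : S.σ χ * (charDegree (χ : G → ℂ) : ℤ) ≡ 0 [ZMOD p] :=
    Int.modEq_zero_iff_dvd.2 (dvd_mul_of_dvd_right (Int.natCast_dvd_natCast.2 hd) _)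
  rcases S.mem_Z.1 h with rfl | h
  · have := Int.modEq_zero_iff_dvd.1 (S.congθ.symm.trans hd')
    rw [Int.dvd_neg, Int.natCast_dvd_natCast] at this
    have := Nat.le_of_dvd S.e_pos this
    have := S.e_lt
    omega
  · have := Int.modEq_zero_iff_dvd.1 ((S.cong χ h).symm.trans hd')
    exact (Fact.out : p.Prime).not_dvd_one (by exact_mod_cast this)

theorem deg_dvd {m : ℕ} (hm : Nat.card G = p * m) {χ : IrrCharacter G} (h : χ ∈ S.Z) :
    charDegree (χ : G → ℂ) ∣ m :=
  (((Fact.out : p.Prime).coprime_iff_not_dvd).2 (S.not_dvd_deg h)).symm.dvd_of_dvd_mul_left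
    (hm ▸ Block.charDegree_dvd_card χ)

theorem sum_sq : ∑ χ ∈ S.X, charDegree (χ : G → ℂ) ^ 2 +
    (p - 1) / e * charDegree (S.θ : G → ℂ) ^ 2 ≤ Nat.card G := by
  classical
  have hY : ∀ θ' ∈ S.Y, charDegree (θ' : G → ℂ) = charDegree (S.θ : G → ℂ) := fun θ' h' => by
    have h := S.agree θ' h' 1 (by rw [orderOf_one]; exact (Fact.out : p.Prime).not_dvd_one)
    rw [Block.apply_one_eq_charDegree, Block.apply_one_eq_charDegree] at h
    exact_mod_cast h
  have hall : ∑ χ : IrrCharacter G, charDegree (χ : G → ℂ) ^ 2 = Nat.card G := by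
    have h := Char.sum_sq_degree (G := G)
    simp only [Block.apply_one_eq_charDegree] at h
    exact_mod_cast h
  have h2 : ∑ χ ∈ S.Y, charDegree (χ : G → ℂ) ^ 2 = (p - 1) / e * charDegree (S.θ : G → ℂ) ^ 2 := by
    rw [Finset.sum_congr rfl fun χ h => by rw [hY χ h], Finset.sum_const, S.card_Y, smul_eq_mul]
  rw [← h2, ← Finset.sum_union S.disj, ← hall]
  exact Finset.sum_le_sum_of_subset (Finset.subset_univ _)

/-- A member of degree less than `2 p` forces the Sylow subgroup to be self-centralizing. -/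
theorem small [IsSimpleGroup G] (hnc : ¬ IsCyclic G) (hsq : ¬ p ^ 2 ∣ Nat.card G)
    {χ : IrrCharacter G} (hχ : χ ∈ S.Z) (hne : χ ≠ one' G)
    (hdeg : charDegree (χ : G → ℂ) < 2 * p) :
    Nat.card (Subgroup.centralizer ((P : Subgroup G) : Set G)) = p := by
  classical
  set C := Subgroup.centralizer ((P : Subgroup G) : Set G) with hC
  have hpp : p.Prime := Fact.out
  have hPC : (P : Subgroup G) ≤ C := Block.le_centralizer_self S.card_P
  obtain ⟨c, hc⟩ : p ∣ Nat.card C := by
    have := Subgroup.card_dvd_of_le hPC; rwa [S.card_P] at this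
  by_contra hne'
  have hc1 : c ≠ 1 := fun h => hne' (by rw [hc, h, mul_one])
  obtain ⟨r, hr, hrc⟩ := Nat.exists_prime_and_dvd hc1
  have hrp : r ≠ p := by
    rintro rfl
    exact hsq ((pow_two r) ▸ (mul_dvd_mul_left r hrc).trans (hc ▸ Subgroup.card_subgroup_dvd_card C))
  haveI := Fact.mk hr
  obtain ⟨⟨y', hy'C⟩, hy'⟩ := exists_prime_orderOf_dvd_card' (G := C) r (hc ▸ dvd_mul_of_dvd_right hrc p)
  rw [Subgroup.orderOf_mk] at hy'
  have hy'1 : y' ≠ 1 := fun h => hr.ne_one (by rw [← hy', h, orderOf_one])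
  have hcop : p.Coprime r := (Nat.coprime_primes hpp hr).2 (Ne.symm hrp)
  obtain ⟨a, ha⟩ := exists_pow_eq_self_of_coprime (x := y') (n := p) (hy'.symm ▸ hcop)
  set y := y' ^ a with hy
  have hyC : y ∈ C := pow_mem hy'C a
  have hyp : y ^ p = y' := by rw [hy, ← pow_mul, mul_comm, pow_mul]; exact ha
  have hyr : y ^ r = 1 := by rw [hy, ← pow_mul, mul_comm, pow_mul, ← hy', pow_orderOf_eq_one, one_pow]
  haveI : Nontrivial (P : Subgroup G) := by
    rw [← Finite.one_lt_card_iff_nontrivial, S.card_P]; exact hpp.one_lt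
  obtain ⟨⟨x, hx⟩, hx1'⟩ := exists_ne (1 : (P : Subgroup G))
  have hx1 : x ≠ 1 := fun h => hx1' (Subtype.ext h)
  have hxo : orderOf x = p := by
    rw [← Nat.card_zpowers, zpowers_eq_of_prime_card S.card_P hx hx1, S.card_P]
  have hxy : Commute x y := (Subgroup.mem_centralizer_iff.1 hyC x hx)
  set g := x * y with hg
  have hgp : g ^ p = y' := by
    rw [hg, hxy.mul_pow, ← hxo, pow_orderOf_eq_one, one_mul, hxo, hyp]
  have hgN : g ^ (p * r) = 1 := by rw [pow_mul, hgp, ← hy', pow_orderOf_eq_one]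
  -- divisibility of the eigenvalue sums by `r p`
  set W : IrrCharacter G → ℂ → ℂ := fun ψ lam =>
    ∑ k ∈ Finset.range r, (lam⁻¹) ^ k * (ψ : G → ℂ) (y' ^ k) with hW
  have hkey : ∀ ψ ∈ S.X, ∀ lam : ℂ, lam ^ r = 1 → lam ≠ 1 →
      ∃ n : ℤ, W ψ lam = ((r * p : ℕ) : ℂ) * (n : ℂ) := by
    intro ψ hψ lam hl hl1
    obtain ⟨n, ρ, -, hρ⟩ := ψ.2
    obtain ⟨b, μ, hb, hμ⟩ := Char.exists_eigenbasis ρ g
    have hμN : ∀ j, μ j ^ (p * r) = 1 := fun j => by
      obtain ⟨k, hk⟩ := orderOf_dvd_of_pow_eq_one hgN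
      rw [hk, pow_mul, hμ, one_pow]
    set ν := lam ^ a with hν
    have hνr : ν ^ r = 1 := by rw [hν, ← pow_mul, mul_comm, pow_mul, hl, one_pow]
    have hap : a * p % r = 1 % r := by
      have h1 : y' ^ (a * p) = y' ^ 1 := by rw [pow_mul, ← hy, hyp, pow_one]
      rw [pow_eq_pow_iff_modEq, hy'] at h1
      exact h1
    have hνp : ν ^ p = lam := by
      rw [hν, ← pow_mul, ← Nat.div_add_mod (a * p) r, pow_add, pow_mul, hl, one_pow, one_mul, hap,
        Nat.one_mod_eq_one.2 hr.ne_one, pow_one]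
    have hν1 : ν ≠ 1 := fun h => hl1 (by rw [← hνp, h, one_pow])
    have hνN : ν ^ (p * r) = 1 := by rw [mul_comm, pow_mul, hνr, one_pow]
    have hcount := sum_pow_inv_mul μ hμN hνN
    have hval : ∀ i : ℕ, (ψ : G → ℂ) (g ^ i) = ∑ j, μ j ^ i := by
      intro i
      have hp' : ∀ (k : ℕ) j, ρ (g ^ k) (b j) = μ j ^ k • b j := by
        intro k j
        induction k with
        | zero => simp
        | succ k ih => rw [pow_succ, map_mul, Module.End.mul_apply, hb, map_smul, ih, smul_smul, pow_succ']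
      rw [← hρ]
      exact Char.trace_eq_sum_of_eigenbasis _ b _ (hp' i)
    simp only [← hval] at hcount
    have hsplit : ∀ i : ℕ, ¬ p ∣ i → (ψ : G → ℂ) (g ^ i) = (S.σ ψ : ℂ) := by
      intro i hi
      rw [hg, hxy.mul_pow]
      refine S.val ψ hψ _ (pow_mem hx i) (fun h => hi (hxo ▸ orderOf_dvd_of_pow_eq_one h)) _
        (pow_mem hyC i) fun h => ?_
      have h1 : orderOf (y ^ i) ∣ r :=
        orderOf_dvd_of_pow_eq_one (by rw [← pow_mul, mul_comm, pow_mul, hyr, one_pow])
      exact hrp ((Nat.prime_dvd_prime_iff_eq hpp hr).1 (h.trans h1)).symm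
    have hzero : ∑ i ∈ Finset.range (p * r), (ν⁻¹) ^ i = (0 : ℂ) := by
      rw [geom_sum_eq (fun h => hν1 (inv_eq_one.1 h)), inv_pow, hνN, inv_one, sub_self, zero_div]
    have hzero' : ∑ k ∈ Finset.range r, (lam⁻¹) ^ k = (0 : ℂ) := by
      rw [geom_sum_eq (fun h => hl1 (inv_eq_one.1 h)), inv_pow, hl, inv_one, sub_self, zero_div]
    have hset : (Finset.range (p * r)).filter (fun i => p ∣ i) =
        (Finset.range r).image (fun k => p * k) := by
      ext i
      simp only [Finset.mem_filter, Finset.mem_range, Finset.mem_image]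
      constructor
      · rintro ⟨hi, k, rfl⟩
        exact ⟨k, Nat.lt_of_mul_lt_mul_left hi, rfl⟩
      · rintro ⟨k, hk, rfl⟩
        exact ⟨Nat.mul_lt_mul_of_pos_left hk hpp.pos, dvd_mul_right _ _⟩
    have hdiff : ∑ i ∈ Finset.range (p * r), (ν⁻¹) ^ i * ((ψ : G → ℂ) (g ^ i) - (S.σ ψ : ℂ)) =
        W ψ lam := by
      rw [← Finset.sum_subset (Finset.filter_subset (fun i => p ∣ i) _) fun i hi hi' => by
        rw [hsplit i (fun h => hi' (Finset.mem_filter.2 ⟨hi, h⟩)), sub_self, mul_zero],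
        hset, Finset.sum_image fun k _ k' _ h => Nat.eq_of_mul_eq_mul_left hpp.pos h]
      simp only [mul_sub, pow_mul, hgp, inv_pow, hνp]
      rw [Finset.sum_sub_distrib, ← Finset.sum_mul]
      simp only [← inv_pow]
      rw [hzero', zero_mul, sub_zero]
    refine ⟨((Finset.univ.filter fun j => μ j = ν).card : ℤ), ?_⟩
    rw [← hdiff]
    simp only [mul_sub, Finset.sum_sub_distrib, ← Finset.sum_mul, hzero, zero_mul, sub_zero, hcount,
      Int.cast_natCast, mul_comm r p]
  have hkey' : ∀ lam : ℂ, lam ^ r = 1 → lam ≠ 1 →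
      ∃ n : ℤ, W χ lam = ((r * p : ℕ) : ℂ) * (n : ℂ) := by
    intro lam hl hl1
    rcases S.mem_Z.1 hχ with rfl | h
    swap
    · exact hkey χ h lam hl hl1
    choose! n hn using fun ψ (h : ψ ∈ S.X) => hkey ψ h lam hl hl1
    have hlin : (S.σ S.θ : ℂ) * W S.θ lam + ∑ ψ ∈ S.X, (S.σ ψ : ℂ) * W ψ lam = 0 := by
      simp only [hW, Finset.mul_sum]
      rw [Finset.sum_comm, ← Finset.sum_add_distrib]
      refine Finset.sum_eq_zero fun k _ => ?_
      have hreg : ¬ p ∣ orderOf (y' ^ k) := fun h => hrp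
        ((Nat.prime_dvd_prime_iff_eq hpp hr).1 (h.trans (hy' ▸ orderOf_pow_dvd k))).symm
      have h2 := S.rel (y' ^ k) hreg
      rw [S.Z_eq, Finset.sum_insert S.θ_notMem] at h2
      calc _ = (lam⁻¹) ^ k * ((S.σ S.θ : ℂ) * (S.θ : G → ℂ) (y' ^ k) +
            ∑ ψ ∈ S.X, (S.σ ψ : ℂ) * (ψ : G → ℂ) (y' ^ k)) := by
            rw [mul_add, Finset.mul_sum]
            congr 1
            · ring
            · exact Finset.sum_congr rfl fun _ _ => by ring
        _ = 0 := by rw [h2, mul_zero]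
    rw [Finset.sum_congr rfl fun ψ h => by rw [hn ψ h]] at hlin
    refine ⟨-(S.σ S.θ) * ∑ ψ ∈ S.X, S.σ ψ * n ψ, ?_⟩
    have hsum : ∑ ψ ∈ S.X, (S.σ ψ : ℂ) * (((r * p : ℕ) : ℂ) * (n ψ : ℂ)) =
        ((r * p : ℕ) : ℂ) * ((∑ ψ ∈ S.X, S.σ ψ * n ψ : ℤ) : ℂ) := by
      push_cast
      rw [Finset.mul_sum]
      exact Finset.sum_congr rfl fun _ _ => by ring
    rw [hsum] at hlin
    have hss : (S.σ S.θ : ℂ) * (S.σ S.θ : ℂ) = 1 := by
      rcases S.sign _ (S.mem_Z.2 (Or.inl rfl)) with h | h <;> simp [h]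
    rw [Int.cast_mul, Int.cast_neg]
    linear_combination (S.σ S.θ : ℂ) * hlin - W S.θ lam * hss
  -- the eigenvalues of `y'`
  obtain ⟨n, ρ, hirr, hρ⟩ := χ.2
  obtain ⟨b, μ, hb, hμ⟩ := Char.exists_eigenbasis ρ y'
  rw [hy'] at hμ
  have hval : ∀ i : ℕ, (χ : G → ℂ) (y' ^ i) = ∑ j, μ j ^ i := by
    intro i
    have hp' : ∀ (k : ℕ) j, ρ (y' ^ k) (b j) = μ j ^ k • b j := by
      intro k j
      induction k with
      | zero => simp
      | succ k ih => rw [pow_succ, map_mul, Module.End.mul_apply, hb, map_smul, ih, smul_smul, pow_succ']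
    rw [← hρ]
    exact Char.trace_eq_sum_of_eigenbasis _ b _ (hp' i)
  have hd : charDegree (χ : G → ℂ) = Fintype.card (Fin (Module.finrank ℂ (Fin n → ℂ))) := by
    have h := hval 0
    simp only [pow_zero, Finset.sum_const, Finset.card_univ, nsmul_one, Block.apply_one_eq_charDegree] at h
    exact_mod_cast h
  have hmult : ∀ lam : ℂ, lam ≠ 1 → lam ^ r = 1 →
      p ∣ (Finset.univ.filter fun j => μ j = lam).card := by
    intro lam hl1 hl
    obtain ⟨k, hk⟩ := hkey' lam hl hl1
    have h1 := sum_pow_inv_mul μ hμ hl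
    simp only [← hval] at h1
    have hk' : ((r : ℂ)) * ((Finset.univ.filter fun j => μ j = lam).card : ℂ) =
        ((r * p : ℕ) : ℂ) * (k : ℂ) := h1.symm.trans hk
    rw [Nat.cast_mul, mul_assoc] at hk'
    have hk'' := mul_left_cancel₀ (Nat.cast_ne_zero.2 hr.ne_zero) hk'
    have : ((Finset.univ.filter fun j => μ j = lam).card : ℤ) = (p : ℤ) * k := by exact_mod_cast hk''
    exact Int.natCast_dvd_natCast.1 ⟨k, this⟩
  by_cases hall : ∀ j, μ j = 1
  · refine hy'1 (eq_one_of_apply_eq hne ?_)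
    have h0 := hval 1
    have h1 := hval 0
    rw [pow_one] at h0
    rw [pow_zero] at h1
    rw [h0, h1]
    simp [hall]
  push Not at hall
  obtain ⟨j, hj⟩ := hall
  set A := Finset.univ.filter fun i => μ i = μ j with hA
  have hApos : 0 < A.card := Finset.card_pos.2 ⟨j, Finset.mem_filter.2 ⟨Finset.mem_univ _, rfl⟩⟩
  have hAp : p ≤ A.card := Nat.le_of_dvd hApos (hmult _ hj (hμ j))
  have hrest : ∀ i, i ∉ A → μ i = 1 := by
    intro i hi
    by_contra h1
    have hi' : μ i ≠ μ j := fun h => hi (Finset.mem_filter.2 ⟨Finset.mem_univ _, h⟩)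
    set B := Finset.univ.filter fun k => μ k = μ i
    have hBpos : 0 < B.card := Finset.card_pos.2 ⟨i, Finset.mem_filter.2 ⟨Finset.mem_univ _, rfl⟩⟩
    have hBp : p ≤ B.card := Nat.le_of_dvd hBpos (hmult _ h1 (hμ i))
    have hAB : Disjoint A B := Finset.disjoint_filter.2 fun k _ h h' => hi' (h'.symm.trans h)
    have := Finset.card_le_card (Finset.subset_univ (A ∪ B))
    rw [Finset.card_union_of_disjoint hAB, Finset.card_univ, ← hd] at this
    omega
  have hAeq : A.card = p := by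
    obtain ⟨q, hq⟩ := hmult _ hj (hμ j)
    have := Finset.card_le_univ A
    rw [← hd] at this
    have hq1 : q = 1 := by
      by_contra hq1
      rcases q with _ | _ | q
      · rw [mul_zero] at hq; rw [← hA] at hq; omega
      · exact hq1 rfl
      · rw [← hA] at hq; nlinarith
    rw [hA, hq, hq1, mul_one]
  have hprod := prod_eigen_eq_one (commutator_eq_top hnc) ρ y' b μ hb
  have hpr : ∏ i, μ i = μ j ^ p := by
    rw [← Finset.prod_subset (Finset.subset_univ A) fun i _ hi => hrest i hi,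
      Finset.prod_congr rfl fun i hi => (Finset.mem_filter.1 hi).2, Finset.prod_const, hAeq]
  rw [hpr] at hprod
  apply hj
  have h1 : orderOf (μ j) ∣ p := orderOf_dvd_of_pow_eq_one hprod
  have h2 : orderOf (μ j) ∣ r := orderOf_dvd_of_pow_eq_one (hμ j)
  exact orderOf_eq_one_iff.1 (Nat.eq_one_of_dvd_coprimes hcop h1 h2)

/-- The class multiplication formula for a self-centralizing Sylow subgroup. -/
theorem formula [DecidableEq G]
    (hC : Nat.card (Subgroup.centralizer ((P : Subgroup G) : Set G)) = p) {a b x : G}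
    (ha : ¬ p ∣ orderOf a) (hb : ¬ p ∣ orderOf b) (hx : x ∈ (P : Subgroup G)) (hx1 : x ≠ 1) :
    (((Char.classFinset a ×ˢ Char.classFinset b).filter fun q => q.1 * q.2 = x).card : ℂ) =
      ((Char.classFinset a).card : ℂ) * (Char.classFinset b).card / (Nat.card G : ℂ) *
        ∑ χ ∈ S.Z, (S.σ χ : ℂ) * ((χ : G → ℂ) a * (χ : G → ℂ) b / (χ : G → ℂ) 1) := by
  classical
  have hpp : p.Prime := Fact.out
  have hCP : Subgroup.centralizer ((P : Subgroup G) : Set G) = (P : Subgroup G) :=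
    (Subgroup.eq_of_le_of_card_ge (Block.le_centralizer_self S.card_P) (by rw [hC, S.card_P])).symm
  have hxo : orderOf x = p := by
    rw [← Nat.card_zpowers, zpowers_eq_of_prime_card S.card_P hx hx1, S.card_P]
  rw [Char.card_class_product]
  congr 1
  have hone : ¬ p ∣ orderOf (1 : G) := by rw [orderOf_one]; exact hpp.not_dvd_one
  have hxdvd : p ∣ orderOf x := hxo ▸ dvd_rfl
  -- outside the principal block the characters vanish at `x`
  have hvan : ∀ χ : IrrCharacter G, χ ∉ principalBlock S.M G → (χ : G → ℂ) x = 0 := by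
    intro χ hχ
    have hB : IsPBlock S.M (blockOf S.M (χ : G → ℂ)) := Block.isPBlock_blockOf χ
    have hd0 : blockDefect p (blockOf S.M (χ : G → ℂ)) = 0 := by
      by_contra hd
      have h1 := Block.isDefectGroup_of_pos S.hM P S.card_P hB hd
      have h2 := Block.isDefectGroup_principal_sylow S.hM P
      have hsub : Subsingleton {C : ConjClasses (Subgroup.normalizer ((P : Subgroup G) : Set G)) //
          ∀ n : Subgroup.normalizer ((P : Subgroup G) : Set G), ConjClasses.mk n = C →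
            ¬ p ∣ orderOf n ∧ (n : G) ∈ Subgroup.centralizer ((P : Subgroup G) : Set G)} := by
        refine ⟨fun C D => Subtype.ext ?_⟩
        have key : ∀ C : {C : ConjClasses (Subgroup.normalizer ((P : Subgroup G) : Set G)) //
          ∀ n : Subgroup.normalizer ((P : Subgroup G) : Set G), ConjClasses.mk n = C →
            ¬ p ∣ orderOf n ∧ (n : G) ∈ Subgroup.centralizer ((P : Subgroup G) : Set G)},
            C.1 = ConjClasses.mk 1 := by
          rintro ⟨C, hC'⟩
          obtain ⟨n, rfl⟩ := ConjClasses.mk_surjective C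
          obtain ⟨h3, h4⟩ := hC' n rfl
          rw [hCP] at h4
          have h5 : orderOf n ∣ p := by
            rw [← Subgroup.orderOf_coe]
            exact (Subgroup.orderOf_dvd_natCard _ h4).trans S.card_P.dvd
          rcases (Nat.dvd_prime hpp).1 h5 with h6 | h6
          · exact congrArg ConjClasses.mk (orderOf_eq_one_iff.1 h6)
          · exact absurd h6.symm.dvd h3
        rw [key C, key D]
      have hle : Nat.card {B : Set (IrrCharacter G) // IsPBlock S.M B ∧
          IsDefectGroup p S.M B (P : Subgroup G)} ≤ 1 := by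
        rw [Cfsg.Agent.S0953.result p S.M S.hM P]
        exact Finite.card_le_one_iff_subsingleton.2 hsub
      have := Finite.card_le_one_iff_subsingleton.1 hle
      have h3 := congrArg Subtype.val (@Subsingleton.elim _ this
        ⟨_, hB, h1⟩ ⟨_, Block.isPBlock_principal, h2⟩)
      have h3' : blockOf S.M (χ : G → ℂ) = principalBlock S.M G := h3
      exact hχ (h3' ▸ Block.self_mem_blockOf S.hM χ)
    obtain ⟨ψ, hψ, -⟩ := (Block.blockDefect_eq_zero_iff S.hM hB).1 hd0
    have h4 := Block.sum_block_mul_conj_eq_zero S.hM (Block.vInt_indVec S.hM hB) (g := 1) (h := x)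
      (Block.not_isConj_pPt_of_dvd hone hxdvd)
    have hψ' : χ = ψ := by
      have := Block.self_mem_blockOf S.hM χ; rw [hψ] at this; exact this
    rw [hψ, finsum_mem_singleton, ← hψ', mul_eq_zero] at h4
    simpa using h4.resolve_left χ.2.apply_one_ne_zero
  set T := S.X ∪ S.Y
  rw [← Finset.sum_subset (Finset.subset_univ T) fun χ _ hχ => by
    rw [hvan χ (fun h => hχ (Finset.mem_union.2 ((S.mem_block χ).1 h))), map_zero, mul_zero,
      zero_div], Finset.sum_union S.disj, S.Z_eq, Finset.sum_insert S.θ_notMem]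
  have hX : ∀ χ ∈ S.X, conj ((χ : G → ℂ) x) = (S.σ χ : ℂ) := fun χ h => by
    have := S.val χ h x hx hx1 1 (Subgroup.one_mem _) hone
    rw [mul_one] at this
    rw [this, map_intCast]
  have hf0 : (S.θ : G → ℂ) 1 ≠ 0 := S.θ.2.apply_one_ne_zero
  have hsumY : ∑ θ' ∈ S.Y, conj ((θ' : G → ℂ) x) = (S.σ S.θ : ℂ) := by
    have h4 := Block.sum_block_mul_conj_eq_zero S.hM (Block.vInt_indVec S.hM Block.isPBlock_principal)
      (g := 1) (h := x) (Block.not_isConj_pPt_of_dvd hone hxdvd)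
    rw [finsum_mem_eq_finite_toFinset_sum _ (principalBlock S.M G).toFinite,
      show (principalBlock S.M G).toFinite.toFinset = T by
        ext χ; rw [Set.Finite.mem_toFinset, Finset.mem_union]; exact S.mem_block χ,
      Finset.sum_union S.disj, Finset.sum_congr rfl fun χ h => by rw [hX χ h],
      Finset.sum_congr (rfl : S.Y = S.Y) fun θ' h => by rw [S.agree θ' h 1 hone], ← Finset.mul_sum] at h4
    have h5 := S.rel 1 hone
    rw [S.Z_eq, Finset.sum_insert S.θ_notMem] at h5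
    have h6 : ∑ χ ∈ S.X, (χ : G → ℂ) 1 * (S.σ χ : ℂ) = ∑ χ ∈ S.X, (S.σ χ : ℂ) * (χ : G → ℂ) 1 :=
      Finset.sum_congr rfl fun _ _ => mul_comm _ _
    rw [h6] at h4
    apply mul_left_cancel₀ hf0
    linear_combination h4 - h5
  rw [Finset.sum_congr (rfl : S.Y = S.Y) fun θ' h => by rw [S.agree θ' h a ha, S.agree θ' h b hb,
    S.agree θ' h 1 hone], ← Finset.sum_div, ← Finset.mul_sum, hsumY,
    Finset.sum_congr rfl fun χ h => by rw [hX χ h], add_comm]
  congr 1
  · ring
  · exact Finset.sum_congr rfl fun _ _ => by ring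

/-- Values at an involution inverting the Sylow subgroup. -/
theorem linBound' (hp2 : p ≠ 2) {t : G} (ht : t ^ 2 = 1)
    (hinv : ∀ x ∈ (P : Subgroup G), t * x * t⁻¹ = x⁻¹) {χ : IrrCharacter G}
    (hval : ∀ x ∈ (P : Subgroup G), x ≠ 1 → (χ : G → ℂ) x = (S.σ χ : ℂ)) :
    ∃ (L : ℕ) (b : ℤ), (χ : G → ℂ) t = (b : ℂ) ∧
      (L : ℤ) * p = charDegree (χ : G → ℂ) + ((p : ℤ) - 1) * S.σ χ ∧
      b.natAbs ≤ L ∧ (2 : ℤ) ∣ (L : ℤ) - b := by
  classical
  have hpp : p.Prime := Fact.out
  obtain ⟨n, ρ, -, hρ⟩ := χ.2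
  have hti : t⁻¹ = t := inv_eq_of_mul_eq_one_right (by rw [← pow_two, ht])
  let E : Module.End ℂ (Fin n → ℂ) := (p : ℂ)⁻¹ • ∑ x : (P : Subgroup G), ρ (x : G)
  have hp0 : (p : ℂ) ≠ 0 := Nat.cast_ne_zero.2 hpp.ne_zero
  have hcard : Fintype.card (P : Subgroup G) = p := by rw [← Nat.card_eq_fintype_card, S.card_P]
  have habs : ∀ x : (P : Subgroup G), ρ (x : G) * (∑ y : (P : Subgroup G), ρ (y : G)) =
      ∑ y : (P : Subgroup G), ρ (y : G) := by
    intro x
    rw [Finset.mul_sum]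
    exact Fintype.sum_equiv (Equiv.mulLeft x) _ _ fun y => by
      rw [← map_mul]; rfl
  have hEE : E * E = E := by
    simp only [E, smul_mul_assoc, mul_smul_comm, Finset.sum_mul, habs, Finset.sum_const,
      Finset.card_univ, hcard]
    rw [← Nat.cast_smul_eq_nsmul ℂ, smul_smul, smul_smul, mul_assoc, inv_mul_cancel₀ hp0, mul_one]
  set T : Module.End ℂ (Fin n → ℂ) := ρ t
  have hTT : T * T = 1 := by rw [← map_mul, ← pow_two, ht, map_one]
  have hTE : T * E = E * T := by
    simp only [E, mul_smul_comm, smul_mul_assoc, Finset.mul_sum, Finset.sum_mul]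
    congr 1
    refine Fintype.sum_equiv (Equiv.inv (P : Subgroup G)) _ _ fun x => ?_
    show ρ t * ρ (x : G) = ρ ((x⁻¹ : (P : Subgroup G)) : G) * ρ t
    rw [← map_mul, ← map_mul, InvMemClass.coe_inv, ← hinv x x.2, inv_mul_cancel_right]
  have htrE : LinearMap.trace ℂ _ E = (p : ℂ)⁻¹ *
      ((charDegree (χ : G → ℂ) : ℂ) + ((p : ℂ) - 1) * (S.σ χ : ℂ)) := by
    simp only [E, map_smul, map_sum, smul_eq_mul]
    congr 1
    rw [Finset.sum_congr rfl (g := fun x : (P : Subgroup G) => (χ : G → ℂ) x)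
      fun x _ => by rw [← hρ]; rfl]
    rw [← Finset.add_sum_erase _ _ (Finset.mem_univ (1 : (P : Subgroup G))), OneMemClass.coe_one,
      Block.apply_one_eq_charDegree]
    congr 1
    rw [Finset.sum_congr rfl (g := fun _ => (S.σ χ : ℂ)) fun x hx => by
      exact hval x x.2 (fun h => (Finset.mem_erase.1 hx).1 (Subtype.ext h)), Finset.sum_const, Finset.card_erase_of_mem (Finset.mem_univ _),
      Finset.card_univ, hcard, nsmul_eq_mul, Nat.cast_sub hpp.one_le, Nat.cast_one]
  have hconj : ∀ x : (P : Subgroup G), (χ : G → ℂ) (t * x) = (χ : G → ℂ) t := by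
    intro x
    obtain ⟨w, hw⟩ : ∃ w : (P : Subgroup G), w ^ 2 = x := by
      obtain ⟨m, hm⟩ := exists_pow_eq_self_of_coprime (x := x) (n := 2)
        ((Nat.Prime.coprime_iff_not_dvd Nat.prime_two).2 fun h => hp2 <|
          ((Nat.prime_dvd_prime_iff_eq Nat.prime_two hpp).1
            (h.trans ((_root_.orderOf_dvd_natCard x).trans S.card_P.dvd))).symm)
      exact ⟨x ^ m, by rw [← pow_mul, mul_comm, pow_mul]; exact hm⟩
    rw [← χ.2.isClassFunction t ((w : G)⁻¹)]
    refine congrArg _ ?_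
    have h1 := hinv w w.2
    rw [← hw, SubmonoidClass.coe_pow, inv_inv]
    calc t * (w : G) ^ 2 = t * (w : G) * t⁻¹ * (t * w) := by simp [pow_two, mul_assoc]
      _ = (w : G)⁻¹ * t * w := by rw [h1, mul_assoc]
  have htrTE : LinearMap.trace ℂ _ (T * E) = (χ : G → ℂ) t := by
    simp only [E, mul_smul_comm, map_smul, smul_eq_mul]
    rw [show T * ∑ x : (P : Subgroup G), ρ (x : G) = ∑ x : (P : Subgroup G), T * ρ (x : G) from
      Finset.mul_sum _ _ _, map_sum]
    rw [Finset.sum_congr rfl (g := fun x : (P : Subgroup G) => (χ : G → ℂ) t) fun x _ => by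
      rw [← hconj x, ← map_mul, ← hρ]; rfl]
    rw [Finset.sum_const, Finset.card_univ, hcard, nsmul_eq_mul, ← mul_assoc,
      inv_mul_cancel₀ hp0, one_mul]
  clear_value E
  have hidem : ∀ η : ℂ, η * η = 1 → ∃ k : ℕ, (k : ℂ) =
      (1 / 2 : ℂ) * (LinearMap.trace ℂ _ E + η * LinearMap.trace ℂ _ (T * E)) := by
    intro η hη
    let Q : Module.End ℂ (Fin n → ℂ) := (1 / 2 : ℂ) • (E + η • (T * E))
    have hQ : Q * Q = Q := by
      have h1 : E * (T * E) = T * E := by rw [← mul_assoc, ← hTE, mul_assoc, hEE]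
      have h2 : (T * E) * E = T * E := by rw [mul_assoc, hEE]
      have h3 : (T * E) * (T * E) = E := by
        rw [mul_assoc, h1, ← mul_assoc, hTT, one_mul]
      have h4 : (E + η • (T * E)) * (E + η • (T * E)) =
          (1 + η * η) • E + (η + η) • (T * E) := by
        rw [add_mul, mul_add, mul_add, smul_mul_assoc, smul_mul_assoc, mul_smul_comm, mul_smul_comm,
          hEE, h1, h2, h3]
        module
      simp only [Q]
      rw [smul_mul_assoc, mul_smul_comm, h4, hη]
      module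
    have hproj : LinearMap.IsProj (LinearMap.range Q) Q :=
      LinearMap.IsProj.mk (fun x => LinearMap.mem_range_self Q x) fun x hx => by
        obtain ⟨y, rfl⟩ := hx
        rw [← Module.End.mul_apply, hQ]
    refine ⟨Module.finrank ℂ (LinearMap.range Q), ?_⟩
    rw [← hproj.trace]
    simp only [Q, map_smul, map_add, smul_eq_mul]
  obtain ⟨k₁, hk₁⟩ := hidem 1 (one_mul 1)
  obtain ⟨k₂, hk₂⟩ := hidem (-1) (by norm_num)
  rw [htrE, htrTE] at hk₁ hk₂
  refine ⟨k₁ + k₂, (k₁ : ℤ) - k₂, ?_, ?_, by omega, ⟨(k₂ : ℤ), by push_cast; ring⟩⟩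
  · push_cast; rw [hk₁, hk₂]; ring
  · have : (((k₁ + k₂ : ℕ) : ℂ)) * (p : ℂ) =
        (charDegree (χ : G → ℂ) : ℂ) + ((p : ℂ) - 1) * (S.σ χ : ℂ) := by
      push_cast; rw [hk₁, hk₂]; field_simp; ring
    exact_mod_cast this

theorem linBound (hp2 : p ≠ 2) {t : G} (ht : t ^ 2 = 1)
    (hinv : ∀ x ∈ (P : Subgroup G), t * x * t⁻¹ = x⁻¹) {χ : IrrCharacter G} (hχ : χ ∈ S.X) :
    ∃ (L : ℕ) (b : ℤ), (χ : G → ℂ) t = (b : ℂ) ∧
      (L : ℤ) * p = charDegree (χ : G → ℂ) + ((p : ℤ) - 1) * S.σ χ ∧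
      b.natAbs ≤ L ∧ (2 : ℤ) ∣ (L : ℤ) - b :=
  S.linBound' hp2 ht hinv fun x hx hx1 => by
    have := S.val χ hχ x hx hx1 1 (Subgroup.one_mem _)
      (by rw [orderOf_one]; exact (Fact.out : p.Prime).not_dvd_one)
    rwa [mul_one] at this

/-- With automizer of order `p - 1` every member takes its sign on the Sylow subgroup. -/
theorem val_all (he : e + 1 = p) {χ : IrrCharacter G} (hχ : χ ∈ S.Z) {x : G}
    (hx : x ∈ (P : Subgroup G)) (hx1 : x ≠ 1) : (χ : G → ℂ) x = (S.σ χ : ℂ) := by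
  classical
  have hpp : p.Prime := Fact.out
  have hone : ¬ p ∣ orderOf (1 : G) := by rw [orderOf_one]; exact hpp.not_dvd_one
  have hX : ∀ χ ∈ S.X, (χ : G → ℂ) x = (S.σ χ : ℂ) := fun χ h => by
    have := S.val χ h x hx hx1 1 (Subgroup.one_mem _) hone
    rwa [mul_one] at this
  rcases S.mem_Z.1 hχ with rfl | h
  swap
  · exact hX χ h
  have hxo : orderOf x = p := by
    rw [← Nat.card_zpowers, zpowers_eq_of_prime_card S.card_P hx hx1, S.card_P]
  have hY : S.Y = {S.θ} := by
    have h1 : S.Y.card = 1 := by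
      rw [S.card_Y, show p - 1 = e by omega, Nat.div_self S.e_pos]
    obtain ⟨w, hw⟩ := Finset.card_eq_one.1 h1
    have := S.θ_mem
    rw [hw, Finset.mem_singleton] at this
    rw [hw, this]
  have h4 := Block.sum_block_mul_conj_eq_zero S.hM (Block.vInt_indVec S.hM Block.isPBlock_principal)
    (g := 1) (h := x) (Block.not_isConj_pPt_of_dvd hone (hxo ▸ dvd_rfl))
  rw [finsum_mem_eq_finite_toFinset_sum _ (principalBlock S.M G).toFinite,
    show (principalBlock S.M G).toFinite.toFinset = S.X ∪ S.Y by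
      ext χ; rw [Set.Finite.mem_toFinset, Finset.mem_union]; exact S.mem_block χ,
    Finset.sum_union S.disj, hY, Finset.sum_singleton,
    Finset.sum_congr rfl fun χ h => by rw [hX χ h, map_intCast, mul_comm]] at h4
  have h5 := S.rel 1 hone
  rw [S.Z_eq, Finset.sum_insert S.θ_notMem] at h5
  have h6 : conj ((S.θ : G → ℂ) x) = (S.σ S.θ : ℂ) := by
    apply mul_left_cancel₀ S.θ.2.apply_one_ne_zero
    linear_combination h4 - h5
  have h7 := congrArg conj h6
  rwa [Complex.conj_conj, map_intCast] at h7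

theorem orth_le (t : G) :
    ∑ χ ∈ S.Z, ‖(χ : G → ℂ) t‖ ^ 2 ≤ (Nat.card (Subgroup.centralizer ({t} : Set G)) : ℝ) := by
  classical
  have h := Char.column_orthogonality t t
  rw [if_pos (IsConj.refl t)] at h
  simp only [Complex.mul_conj, Complex.normSq_eq_norm_sq] at h
  rw [← Complex.ofReal_sum, ← Complex.ofReal_natCast, Complex.ofReal_inj] at h
  rw [← h]
  exact Finset.sum_le_sum_of_subset_of_nonneg (Finset.subset_univ _) fun _ _ _ => by positivity

end Shape

end Cfsg.Lib.Small
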