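import Cfsg.Agent.Lib.Small.SimpleOrder
import Cfsg.Agent.Lib.Char.Formulas
import Cfsg.Agent.S0727

/-!
# Recognition of `PSL(2, q)`, `q` even

A simple group of order `(q + 1) q (q - 1)` with one class of involutions, their centralizers of
order `q`, and no other elements of even order is `PSL(2, q)`.
-/

set_option autoImplicit false

namespace Cfsg.Lib.Small

open Cfsg Cfsg.Lib

universe u

/-- The recognition. -/
theorem iso_psl_even {G : Type u} [Group G] [Finite G] [IsSimpleGroup G] {q : ℕ} (hq : 2 < q)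
    (hG : Nat.card G = (q + 1) * q * (q - 1)) {y : G} (hy : orderOf y = 2)
    (hCy : Nat.card (Subgroup.centralizer ({y} : Set G)) = q)
    (hconj : ∀ u : G, orderOf u = 2 → IsConj y u)
    (hI : ∀ g : G, 2 ∣ orderOf g → orderOf g = 2) :
    ∃ (m : ℕ) (F : Type) (_ : Field F) (_ : Fintype F), Fintype.card F = 2 ^ m ∧ q = 2 ^ m ∧
      Nonempty (G ≃* Matrix.ProjectiveSpecialLinearGroup (Fin 2) F) := by
  classical
  haveI := Fintype.ofFinite G
  haveI : Fact (Nat.Prime 2) := ⟨Nat.prime_two⟩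
  -- centralizers of involutions
  have hCs : ∀ s : G, orderOf s = 2 → Nat.card (Subgroup.centralizer ({s} : Set G)) = q := by
    intro s hs
    obtain ⟨c, hc⟩ := isConj_iff.1 (hconj s hs)
    rw [← hCy, ← hc]
    refine Nat.card_congr ((MulAut.conj c).toEquiv.subtypeEquiv fun x => ?_).symm
    simp only [Subgroup.mem_centralizer_singleton_iff]
    show x * y = y * x ↔ MulAut.conj c x * MulAut.conj c y = MulAut.conj c y * MulAut.conj c x
    rw [← map_mul, ← map_mul]
    exact (MulAut.conj c).injective.eq_iff.symm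
  have hinvC : ∀ x ∈ Subgroup.centralizer ({y} : Set G), x * x = 1 := by
    intro x hx
    rcases Nat.even_or_odd (orderOf x) with h | h
    · rw [← pow_two, ← hI x h.two_dvd, pow_orderOf_eq_one]
    · by_cases h1 : x = 1
      · rw [h1, mul_one]
      · exfalso
        have hcom : Commute x y := Subgroup.mem_centralizer_singleton_iff.1 hx
        have hord := hcom.orderOf_mul_eq_mul_orderOf_of_coprime
          (by rw [hy]; exact Nat.coprime_two_right.2 h)
        rw [hy] at hord
        have := hI (x * y) (hord ▸ dvd_mul_left 2 _)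
        rw [hord] at this
        have h2 : orderOf x = 1 := by omega
        exact h1 (orderOf_eq_one_iff.1 h2)
  have hCp : IsPGroup 2 (Subgroup.centralizer ({y} : Set G)) := fun x =>
    ⟨1, Subtype.ext (by rw [pow_one, SubmonoidClass.coe_pow, pow_two, OneMemClass.coe_one]; exact hinvC x x.2)⟩
  obtain ⟨m, hm⟩ := IsPGroup.iff_card.1 hCp
  rw [hCy] at hm
  have hm0 : m ≠ 0 := by rintro rfl; rw [pow_zero] at hm; omega
  have hqe : 2 ∣ q := hm ▸ dvd_pow_self 2 hm0
  have hG2 : Nat.card G = 2 ^ m * ((q + 1) * (q - 1)) := by rw [hG, ← hm]; ring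
  have hodd : ¬ 2 ∣ (q + 1) * (q - 1) := by
    rw [Nat.prime_two.dvd_mul]; omega
  have hScard : ∀ S : Sylow 2 G, Nat.card (S : Subgroup G) = q := fun S => by
    rw [card_sylow m _ hG2 hodd S, hm]
  have hcs : ∀ (S : Sylow 2 G) (s : G), s ∈ (S : Subgroup G) → s ≠ 1 →
      orderOf s = 2 ∧ Subgroup.centralizer ({s} : Set G) = (S : Subgroup G) := by
    intro S s hs hs1
    have hord : ∀ x ∈ (S : Subgroup G), x ≠ 1 → orderOf x = 2 := fun x hx hx1 => by
      obtain ⟨k, hk⟩ := S.isPGroup' ⟨x, hx⟩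
      obtain ⟨j, -, hj⟩ := (Nat.dvd_prime_pow Nat.prime_two).1
        (orderOf_dvd_of_pow_eq_one (x := x) (n := 2 ^ k) (congrArg Subtype.val hk))
      refine hI x (hj ▸ dvd_pow_self 2 ?_)
      rintro rfl
      exact hx1 (orderOf_eq_one_iff.1 hj)
    have hinv : ∀ x ∈ (S : Subgroup G), x⁻¹ = x := fun x hx => by
      by_cases hx1 : x = 1
      · rw [hx1, inv_one]
      · exact inv_eq_of_mul_eq_one_right (by rw [← pow_two, ← hord x hx hx1, pow_orderOf_eq_one])
    refine ⟨hord s hs hs1, (Subgroup.eq_of_le_of_card_ge (fun x hx => ?_) ?_).symm⟩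
    · refine Subgroup.mem_centralizer_singleton_iff.2 ?_
      calc x * s = (x * s)⁻¹ := (hinv _ ((S : Subgroup G).mul_mem hx hs)).symm
        _ = s * x := by rw [mul_inv_rev, hinv x hx, hinv s hs]
    · rw [hCs s (hord s hs hs1), hScard S]
  let Ω := Sylow 2 G
  haveI : Fintype Ω := Fintype.ofFinite _
  have hΩ : Nat.card Ω = q + 1 := by
    have hcount : (Char.classFinset y).card = (q + 1) * (q - 1) := by
      rw [Char.card_classFinset]
      have h := Subgroup.card_mul_index (Subgroup.centralizer ({y} : Set G))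
      rw [hCy, hG] at h
      exact Nat.eq_of_mul_eq_mul_left (show 0 < q by omega) (h.trans (by ring))
    have hbU : Char.classFinset y =
        Finset.univ.biUnion fun S : Ω => Finset.univ.filter fun g : G => g ∈ (S : Subgroup G) ∧ g ≠ 1 := by
      ext g
      simp only [Char.mem_classFinset, Finset.mem_filter, Finset.mem_univ, true_and, Finset.mem_biUnion]
      refine ⟨fun hg => ?_, fun ⟨S, hg, hg1⟩ => hconj g (hcs S g hg hg1).1⟩
      obtain ⟨c, rfl⟩ := isConj_iff.1 hg
      have ho : orderOf (c * y * c⁻¹) = 2 := by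
        rw [show c * y * c⁻¹ = MulAut.conj c y from rfl, MulEquiv.orderOf_eq, hy]
      obtain ⟨S, hS⟩ := (IsPGroup.of_card (n := 1) (by rw [Nat.card_zpowers, ho, pow_one]) :
        IsPGroup 2 (Subgroup.zpowers (c * y * c⁻¹))).exists_le_sylow
      exact ⟨S, hS (Subgroup.mem_zpowers _), fun e => by rw [e, orderOf_one] at ho; omega⟩
    rw [hbU, Finset.card_biUnion (fun S _ T _ hne => Finset.disjoint_left.2 fun g hg hg' => by
      simp only [Finset.mem_filter, Finset.mem_univ, true_and] at hg hg'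
      exact hne (Sylow.ext ((hcs S g hg.1 hg.2).2.symm.trans (hcs T g hg'.1 hg'.2).2)))] at hcount
    have hq1 : ∀ S : Ω, (Finset.univ.filter fun g : G => g ∈ (S : Subgroup G) ∧ g ≠ 1).card = q - 1 := by
      intro S
      rw [← Finset.filter_filter, Finset.filter_ne', Finset.card_erase_of_mem (by simp),
        ← Fintype.card_subtype, ← Nat.card_eq_fintype_card]
      rw [show Nat.card {x // x ∈ (S : Subgroup G)} = q from hScard S]
    rw [Finset.sum_congr rfl fun S _ => hq1 S, Finset.sum_const, Finset.card_univ, smul_eq_mul,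
      ← Nat.card_eq_fintype_card] at hcount
    exact Nat.eq_of_mul_eq_mul_right (show 0 < q - 1 by omega) hcount
  let φ : G →* Equiv.Perm Ω := MulAction.toPermHom G Ω
  have hφi : Function.Injective φ := by
    rw [← MonoidHom.ker_eq_bot_iff]
    refine (φ.normal_ker.eq_bot_or_eq_top).resolve_right fun ht => ?_
    haveI : Subsingleton Ω := ⟨fun P Q => by
      obtain ⟨g, hg⟩ := MulAction.exists_smul_eq G P Q
      have h1 : φ g = 1 := MonoidHom.mem_ker.mp (ht ▸ Subgroup.mem_top g)
      exact (congrFun (congrArg DFunLike.coe h1) P).symm.trans hg⟩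
    have := Finite.card_le_one_iff_subsingleton.mpr (inferInstance : Subsingleton Ω)
    omega
  have hfree : ∀ P Q : Ω, P ≠ Q → ∀ s ∈ (P : Subgroup G), s • Q = Q → s = 1 := by
    intro P Q hPQ s hs hsQ
    by_contra hs1
    have hsN : s ∈ Subgroup.normalizer ((Q : Subgroup G) : Set G) := Sylow.smul_eq_iff_mem_normalizer.1 hsQ
    have hP2 : IsPGroup 2 (Subgroup.zpowers s) := P.isPGroup'.to_le (Subgroup.zpowers_le.2 hs)
    have hsup : IsPGroup 2 ((Subgroup.zpowers s) ⊔ (Q : Subgroup G) : Subgroup G) :=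
      hP2.to_sup_of_normal_right' Q.isPGroup' (Subgroup.zpowers_le.2 hsN)
    have hsQ' : s ∈ (Q : Subgroup G) :=
      (Q.is_maximal' hsup le_sup_right) ▸ (le_sup_left : Subgroup.zpowers s ≤ _) (Subgroup.mem_zpowers s)
    exact hPQ (Sylow.ext ((hcs P s hs hs1).2.symm.trans (hcs Q s hsQ' hs1).2))
  have hsmul : ∀ P : Ω, ∀ s ∈ (P : Subgroup G), s • P = P := fun P s hs =>
    Sylow.smul_eq_iff_mem_normalizer.2 (Subgroup.le_normalizer hs)
  have hreg : ∀ P Q R : Ω, P ≠ Q → R ≠ P → ∃ s ∈ (P : Subgroup G), s • Q = R := by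
    intro P Q R hPQ hR
    let f : ↥(P : Subgroup G) → {X : Ω // X ≠ P} := fun s => ⟨(s : G) • Q, fun e => hPQ (by
      have := congrArg (fun X => (s : G)⁻¹ • X) e
      simp only [inv_smul_smul] at this
      rw [this, hsmul P _ ((P : Subgroup G).inv_mem s.2)])⟩
    have hf : Function.Injective f := fun a b hab => by
      have h1 : ((b : G)⁻¹ * (a : G)) • Q = Q := by
        rw [mul_smul, inv_smul_eq_iff]; exact congrArg Subtype.val hab
      exact Subtype.ext (inv_mul_eq_one.1 (hfree P Q hPQ _ ((P : Subgroup G).mul_mem ((P : Subgroup G).inv_mem b.2) a.2) h1)).symm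
    have hbij := (Nat.bijective_iff_injective_and_card f).2 ⟨hf, by
      rw [hScard P, Nat.card_eq_fintype_card (α := {X : Ω // X ≠ P}),
        Fintype.card_subtype_compl, Fintype.card_subtype_eq, ← Nat.card_eq_fintype_card (α := Ω), hΩ]
      omega⟩
    obtain ⟨s, hs⟩ := hbij.2 ⟨R, hR⟩
    exact ⟨s, s.2, congrArg Subtype.val hs⟩
  set Γ := φ.range
  have hsharp : ∀ e : Fin 3 ↪ Ω, MulAction.stabilizer Γ e = ⊥ := by
    intro e
    rw [eq_bot_iff]
    rintro ⟨_, g, rfl⟩ hg
    have hg' : ∀ i, g • e i = e i := fun i => congrFun (congrArg DFunLike.coe (MulAction.mem_stabilizer_iff.mp hg)) i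
    rw [Subgroup.mem_bot]
    apply Subtype.ext
    show φ g = 1
    have hne : ∀ i j : Fin 3, i ≠ j → e i ≠ e j := fun i j hij he => hij (e.injective he)
    obtain ⟨s, hs, hsQ⟩ := hreg (e 0) (e 1) (e 2) (hne 0 1 (by decide)) (hne 2 0 (by decide))
    have hgN : g ∈ Subgroup.normalizer ((e 0 : Subgroup G) : Set G) := Sylow.smul_eq_iff_mem_normalizer.1 (hg' 0)
    have hcj : g * s * g⁻¹ ∈ (e 0 : Subgroup G) := (Subgroup.mem_normalizer_iff.1 hgN s).1 hs
    have hmove : (g * s * g⁻¹) • e 1 = e 2 := by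
      rw [mul_smul, mul_smul, inv_smul_eq_iff.2 (hg' 1).symm, hsQ, hg' 2]
    have h1 : s⁻¹ * (g * s * g⁻¹) = 1 := hfree (e 0) (e 1) (hne 0 1 (by decide)) _
      ((e 0 : Subgroup G).mul_mem ((e 0 : Subgroup G).inv_mem hs) hcj)
      (by rw [mul_smul, hmove, inv_smul_eq_iff, hsQ])
    have hs1 : s ≠ 1 := fun e' => hne 1 2 (by decide) (by rw [← hsQ, e', one_smul])
    have hgC : g ∈ Subgroup.centralizer ({s} : Set G) := by
      refine Subgroup.mem_centralizer_singleton_iff.2 ?_
      exact mul_inv_eq_iff_eq_mul.1 (inv_mul_eq_one.1 h1).symm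
    rw [(hcs (e 0) s hs hs1).2] at hgC
    rw [hfree (e 0) (e 1) (hne 0 1 (by decide)) g hgC (hg' 1), map_one]
  have h3 : MulAction.IsMultiplyPretransitive Γ Ω 3 := by
    rw [MulAction.isMultiplyPretransitive_iff]
    intro e e'
    have ho : (MulAction.orbit Γ e).ncard = (q + 1) * q * (q - 1) := by
      have h1 := MulAction.index_stabilizer Γ e
      rw [hsharp e, Subgroup.index_bot, ← Nat.card_congr (MonoidHom.ofInjective hφi).toEquiv, hG] at h1
      exact h1.symm
    have hall : MulAction.orbit Γ e = Set.univ := by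
      refine Set.eq_of_subset_of_ncard_le (Set.subset_univ _) ?_ (Set.toFinite _)
      rw [ho, Set.ncard_univ, Nat.card_eq_fintype_card, Fintype.card_embedding_eq, Fintype.card_fin,
        ← Nat.card_eq_fintype_card (α := Ω), hΩ]
      simp only [Nat.descFactorial_succ, Nat.descFactorial_zero, mul_one, Nat.sub_zero,
        Nat.add_sub_cancel, show q + 1 - 2 = q - 1 by omega]
      exact le_of_eq (by ring)
    have : e' ∈ MulAction.orbit Γ e := hall ▸ Set.mem_univ _
    exact this
  obtain ⟨F0, iF, iFF, hF0, ⟨ψ⟩⟩ := Cfsg.Agent.S0727.result (f := m) (Nat.pos_of_ne_zero hm0)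
    (by rw [← Nat.card_eq_fintype_card, hΩ, hm]) Γ h3 hsharp
  have hroots : ∀ r : F0ˣ, ∃ k : F0ˣ, k ^ Fintype.card (Fin 2) = r := fun r => ⟨r ^ (q / 2), by
    have h1 : r ^ (q - 1) = 1 := by
      have : Fintype.card F0ˣ = q - 1 := by rw [Fintype.card_units, hF0, hm]
      rw [← this]; exact pow_card_eq_one
    rw [Fintype.card_fin, ← pow_mul, show q / 2 * 2 = (q - 1) + 1 by omega, pow_succ, h1, one_mul]⟩
  let τ := MulEquiv.ofBijective (Matrix.ProjectiveSpecialLinearGroup.toPGL (n := Fin 2) (R := F0))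
    ⟨Matrix.ProjectiveSpecialLinearGroup.toPGL_injective, Matrix.ProjectiveSpecialLinearGroup.toPGL_surj_of_roots hroots⟩
  exact ⟨m, F0, iF, iFF, hF0, hm, ⟨((MonoidHom.ofInjective hφi).trans ψ).trans τ.symm⟩⟩

end Cfsg.Lib.Small
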