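import Cfsg.Agent.Lib.Small.CentralizerGL23

/-!
# The order of a simple group with an involution centralizer `GL(2, 3)`
-/

set_option autoImplicit false
set_option linter.style.haveILetI false
set_option linter.unusedSectionVars false
set_option maxRecDepth 4000

namespace Cfsg.Lib.Small.CentralizerGL23

open Subgroup Cfsg Cfsg.Lib.Char
open scoped ComplexConjugate commutatorElement

universe u

variable {G : Type u} [Group G] {t : G} (e : centralizer ({t} : Set G) ≃* GL23)
include e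

theorem val_conj_pairs [Finite G] [IsSimpleGroup G] (ht : orderOf t = 2) [Fintype G] [DecidableEq G]
    (i : Fin 5) :
    ((involFinset G).filter fun x => emb e (repU (dk i)) * x ∈ involFinset G).card =
      (Finset.univ.filter fun x : GL23 =>
        x * x = 1 ∧ x ≠ 1 ∧ repU (dk i) * x * (repU (dk i) * x) = 1 ∧ repU (dk i) * x ≠ 1).card := by
  set g := emb e (repU (dk i)) with hg
  have heq : ((involFinset G).filter fun x => g * x ∈ involFinset G) =
      (Finset.univ.filter fun x : GL23 =>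
        x * x = 1 ∧ x ≠ 1 ∧ repU (dk i) * x * (repU (dk i) * x) = 1 ∧ repU (dk i) * x ≠ 1).map
        ⟨emb e, emb_injective e⟩ := by
    ext x
    simp only [Finset.mem_filter, Finset.mem_map, Finset.mem_univ, true_and, Function.Embedding.coeFn_mk,
      mem_involFinset]
    constructor
    · rintro ⟨⟨hx1, hx2⟩, hx3, hx4⟩
      have hxi : x⁻¹ = x := inv_eq_of_mul_eq_one_right hx2
      have hinv : x * g * x⁻¹ = g⁻¹ := by
        rw [hxi, ← eq_inv_of_mul_eq_one_right (show g * (x * g * x) = 1 by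
          rw [← mul_assoc, ← mul_assoc, mul_assoc (g * x)]; exact hx4)]
      obtain ⟨m, hm⟩ := dk_pow i
      have hgm : g ^ (m : ℕ) = t := by rw [hg, ← map_pow, hm, emb_neg_one e ht]
      have hxt : x * t * x⁻¹ = t := by
        rw [← hgm, ← conj_pow, hinv, inv_pow, hgm]
        exact inv_eq_of_mul_eq_one_right (t_mul_t e ht)
      obtain ⟨d, rfl⟩ := exists_emb e (mul_inv_eq_iff_eq_mul.mp hxt)
      have hi := emb_injective e
      exact ⟨d, ⟨hi (by rw [map_mul, map_one]; exact hx2), fun h => hx1 (by rw [h, map_one]),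
        hi (by rw [map_mul, map_mul, map_one]; exact hx4),
        fun h => hx3 (by rw [hg, ← map_mul, h, map_one])⟩, rfl⟩
    · rintro ⟨d, ⟨h1, h2, h3, h4⟩, rfl⟩
      refine ⟨⟨fun h => h2 (emb_injective e (h.trans (map_one _).symm)), by rw [← map_mul, h1, map_one]⟩,
        ?_, ?_⟩
      · rw [hg, ← map_mul]
        exact fun h => h4 (emb_injective e (h.trans (map_one _).symm))
      · rw [hg, ← map_mul, ← map_mul, h3, map_one]
  rw [heq, Finset.card_map]

set_option maxHeartbeats 2000000 in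
/-- A simple group with such an involution has order 5616 or 7920. -/
theorem card_eq [Finite G] [IsSimpleGroup G] (ht : orderOf t = 2) :
    Nat.card G = 5616 ∨ Nat.card G = 7920 := by
  classical
  haveI := Fintype.ofFinite G
  have hperf := perfect e
  have hcl : ∀ x : G, orderOf x = 2 → IsConj x t := fun x hx => one_class e ht hx
  obtain ⟨ζ, hζ⟩ := IsAlgClosed.exists_pow_nat_eq (-1 : ℂ) (n := 4) (by norm_num)
  have hζc : conj ζ = -ζ ^ 3 := by
    have h8 : ζ ^ 8 = 1 := by rw [show ζ ^ 8 = (ζ ^ 4) ^ 2 by ring, hζ]; norm_num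
    have hn : ‖ζ‖ = 1 := Complex.norm_eq_one_of_pow_eq_one h8 (by norm_num)
    rw [← Complex.inv_eq_conj hn]
    refine inv_eq_of_mul_eq_one_right ?_
    linear_combination -hζ
  set s := ζ + ζ ^ 3 with hs
  have hsq : s * s = -2 := by rw [hs]; linear_combination (ζ ^ 2 + 2) * hζ
  have hsc : conj s = -s := by
    rw [hs, map_add, map_pow, hζc]; linear_combination (-ζ ^ 5 + ζ) * hζ
  choose D n hD0 hD hn hT hU hP h8 using fun χ : IrrCharacter G => coeffs e χ.2 hζ hζc
  set v : IrrCharacter G → Fin 5 → ℂ := fun χ k => val e (χ : G → ℂ) (dk k) with hv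
  -- column orthogonality
  have hcol : ∀ k l, ∑ χ : IrrCharacter G, v χ k * conj (v χ l) =
      if k = l then ((![48, 6, 8, 8, 8] k : ℕ) : ℂ) else 0 := by
    intro k l
    simp only [hv, val]
    rw [column_orthogonality]
    by_cases h : k = l
    · rw [if_pos h, if_pos ((isConj_iff_eq e ht k l).mpr h), card_centralizer e ht]
    · rw [if_neg h, if_neg (fun h' => h ((isConj_iff_eq e ht k l).mp h'))]
  have hgram : ∀ i j, ((∑ χ, n χ i * n χ j : ℤ) : ℂ) =
      ∑ k, cf s i k * conj (cf s j k) * ((![48, 6, 8, 8, 8] k : ℕ) : ℂ) := by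
    intro i j
    push_cast
    calc ∑ χ, (n χ i : ℂ) * (n χ j : ℂ)
        = ∑ χ : IrrCharacter G, (∑ k, cf s i k * v χ k) * conj (∑ l, cf s j l * v χ l) := by
          refine Finset.sum_congr rfl fun χ _ => ?_
          rw [← hn χ i, ← hn χ j, map_intCast]
      _ = ∑ k, ∑ l, cf s i k * conj (cf s j l) * ∑ χ : IrrCharacter G, v χ k * conj (v χ l) := by
          simp only [map_sum, map_mul]
          simp_rw [Finset.sum_mul_sum]
          rw [Finset.sum_comm]
          refine Finset.sum_congr rfl fun k _ => ?_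
          rw [Finset.sum_comm]
          refine Finset.sum_congr rfl fun l _ => ?_
          rw [Finset.mul_sum]
          exact Finset.sum_congr rfl fun χ _ => by ring
      _ = _ := by
          refine Finset.sum_congr rfl fun k _ => ?_
          simp only [hcol, mul_ite, mul_zero, Finset.sum_ite_eq, Finset.mem_univ, if_true]
  have gram : ∀ (i j : Fin 5) (c : ℤ),
      ∑ k, cf s i k * conj (cf s j k) * ((![48, 6, 8, 8, 8] k : ℕ) : ℂ) = (c : ℂ) →
        ∑ χ, n χ i * n χ j = c := by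
    intro i j c h
    exact_mod_cast (hgram i j).trans h
  have hzero : ∀ i, ∑ χ, n χ i * D χ = 0 := by
    intro i
    have h : ((∑ χ, n χ i * D χ : ℤ) : ℂ) = 0 := by
      push_cast
      calc ∑ χ, (n χ i : ℂ) * (D χ : ℂ)
          = ∑ χ : IrrCharacter G, (∑ k, cf s i k * v χ k) * conj ((χ : G → ℂ) 1) := by
            refine Finset.sum_congr rfl fun χ _ => ?_
            rw [← hn χ i, hD, map_intCast]
        _ = ∑ k, cf s i k * ∑ χ : IrrCharacter G, v χ k * conj ((χ : G → ℂ) 1) := by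
            simp only [Finset.sum_mul, Finset.mul_sum]
            rw [Finset.sum_comm]
            exact Finset.sum_congr rfl fun k _ => Finset.sum_congr rfl fun χ _ => by ring
        _ = 0 := by
            refine Finset.sum_eq_zero fun k _ => ?_
            simp only [hv, val]
            rw [column_orthogonality, if_neg (not_isConj_one e k), mul_zero]
    exact_mod_cast h
  set one : IrrCharacter G := ⟨fun _ => 1, isIrrCharacter_one⟩ with hone
  have hD1 : D one = 1 := by
    have := (hD one).symm; simp only [hone] at this; exact_mod_cast this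
  have hn1 : ∀ i, n one i = ![0, 1, 0, 0, 0] i := by
    intro i
    have h := hn one i
    simp only [show ∀ k, val e (one : G → ℂ) (dk k) = 1 from fun k => rfl, mul_one] at h
    fin_cases i <;>
      simp only [cf, Fin.sum_univ_five, Fin.zero_eta, Fin.mk_one, Fin.reduceFinMk, Matrix.cons_val] at h ⊢ <;>
      ring_nf at h <;> exact_mod_cast h
  obtain ⟨A, B, P, E, p, q, r, α, β, δ, ε, ω, hα, hβ, hδ, hε, hω, hDq, hDr, hnod, vA, vB, vP, vE, vp, vq, vr,
    hv0⟩ := decomposition one D hD0 (fun χ => n χ 0) (fun χ => n χ 1) (fun χ => n χ 2) (fun χ => n χ 3)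
      (fun χ => n χ 4)
      (gram 0 0 2 (by
        simp [cf, Fin.sum_univ_five, hsc, Complex.conj_ofNat]; linear_combination (-1 : ℂ) * hsq))
      (gram 3 3 2 (by
        simp [cf, Fin.sum_univ_five, hsc, Complex.conj_ofNat]; linear_combination (-1 / 4 : ℂ) * hsq))
      (gram 0 3 (-1) (by
        simp [cf, Fin.sum_univ_five, hsc, Complex.conj_ofNat]; linear_combination (1 / 2 : ℂ) * hsq))
      (gram 1 1 3 (by simp [cf, Fin.sum_univ_five, Complex.conj_ofNat]; norm_num))
      (gram 2 2 3 (by simp [cf, Fin.sum_univ_five, Complex.conj_ofNat]; norm_num))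
      (gram 4 4 4 (by simp [cf, Fin.sum_univ_five, Complex.conj_ofNat]; norm_num))
      (gram 0 1 0 (by simp [cf, Fin.sum_univ_five, Complex.conj_ofNat]; ring))
      (gram 3 1 0 (by simp [cf, Fin.sum_univ_five, Complex.conj_ofNat]; ring))
      (gram 0 2 0 (by simp [cf, Fin.sum_univ_five, Complex.conj_ofNat]; ring))
      (gram 3 2 0 (by simp [cf, Fin.sum_univ_five, Complex.conj_ofNat]; ring))
      (gram 0 4 0 (by simp [cf, Fin.sum_univ_five, Complex.conj_ofNat]))
      (gram 3 4 1 (by simp [cf, Fin.sum_univ_five, Complex.conj_ofNat]; norm_num))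
      (gram 1 2 1 (by simp [cf, Fin.sum_univ_five, Complex.conj_ofNat]; norm_num))
      (gram 1 4 (-2) (by simp [cf, Fin.sum_univ_five, Complex.conj_ofNat]; norm_num))
      (gram 2 4 (-2) (by simp [cf, Fin.sum_univ_five, Complex.conj_ofNat]; norm_num))
      (hzero 0) (hzero 3) (hzero 2) (by simp [vec, hn1])
  simp only [vec, Prod.mk.injEq] at vA vB vP vE vp vq vr hv0
  obtain ⟨hA0, hA1, hA2, hA3, hA4⟩ := vA
  obtain ⟨hB0, hB1, hB2, hB3, hB4⟩ := vB
  obtain ⟨hP0, hP1, hP2, hP3, hP4⟩ := vP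
  obtain ⟨hE0, hE1, hE2, hE3, hE4⟩ := vE
  obtain ⟨hp0, hp1, hp2, hp3, hp4⟩ := vp
  obtain ⟨hq0, hq1, hq2, hq3, hq4⟩ := vq
  obtain ⟨hr0, hr1, hr2, hr3, hr4⟩ := vr
  set S : Finset (IrrCharacter G) := [one, A, B, P, E, p, q, r].toFinset with hS
  have hout : ∀ χ ∉ S, ∀ i, n χ i = 0 := by
    intro χ hχ i
    obtain ⟨h0, h1, h2, h3, h4⟩ := hv0 χ (by simpa [hS] using hχ)
    fin_cases i <;> assumption
  have hsum : ∀ F : IrrCharacter G → ℚ, (∀ χ, (∀ i, n χ i = 0) → F χ = 0) →
      ∑ χ, F χ = F one + F A + F B + F P + F E + F p + F q + F r := by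
    intro F hF
    rw [← Finset.sum_subset (Finset.subset_univ S) fun χ _ hχ => hF χ (hout χ hχ), hS,
      List.sum_toFinset _ hnod]
    simp only [List.map_cons, List.map_nil, List.sum_cons, List.sum_nil]
    ring
  set a := α * D A with haE
  set b := β * D B with hbE
  set d := δ * D P with hdE
  set e' := ε * D E with heE
  set x := ω * D p with hxE
  -- degree relations
  have hz : ∀ i, (n one i + n A i * D A + n B i * D B + n P i * D P + n E i * D E + n p i * D p +
      n q i * D q + n r i * D r) = 0 := by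
    intro i
    have h := hsum (fun χ => ((n χ i * D χ : ℤ) : ℚ)) (fun χ h => by simp [h i])
    rw [← Int.cast_sum, hzero i, hD1, mul_one] at h
    have h' : (0 : ℤ) = n one i + n A i * D A + n B i * D B + n P i * D P + n E i * D E + n p i * D p +
        n q i * D q + n r i * D r := by exact_mod_cast h
    omega
  have r1 : 1 + a + b = 0 := by
    have h := hz 1
    rw [hn1, hA1, hB1, hP1, hE1, hp1, hq1, hr1] at h
    simp only [Matrix.cons_val, zero_mul, add_zero] at h
    rw [haE, hbE]; linarith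
  have r2 : a + d + e' = 0 := by
    have h := hz 2
    rw [hn1, hA2, hB2, hP2, hE2, hp2, hq2, hr2] at h
    simp only [Matrix.cons_val, zero_mul, add_zero, zero_add] at h
    rw [haE, hdE, heE]; linarith
  have r3 : x = a + b + d := by
    have h := hz 4
    rw [hn1, hA4, hB4, hP4, hE4, hp4, hq4, hr4, hDr] at h
    simp only [Matrix.cons_val, zero_mul, add_zero, zero_add] at h
    rw [haE, hbE, hdE, hxE]; linarith
  -- congruences
  have ca : a % 8 = 4 := by
    have h := h8 A
    simp only [tv, wv, hA0, hA1, hA2, hA3, hA4] at h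
    rw [haE]; rcases hα with h' | h' <;> rw [h'] at h ⊢ <;> omega
  have cd : d % 8 = 3 := by
    have h := h8 P
    simp only [tv, wv, hP0, hP1, hP2, hP3, hP4] at h
    rw [hdE]; rcases hδ with h' | h' <;> rw [h'] at h ⊢ <;> omega
  -- the count of pairs of involutions
  set I := involFinset G with hIdef
  have hmemI : ∀ z, z ∈ I ↔ orderOf z = 2 := fun z => by
    rw [mem_involFinset, orderOf_eq_prime_iff (p := 2), sq, and_comm]
  have hIcard : I.card * 48 = Nat.card G := by
    have hset : (I : Set G) = MulAction.orbit (ConjAct G) t := by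
      ext z
      rw [Finset.mem_coe, hmemI, ConjAct.mem_orbit_conjAct]
      exact ⟨fun h => hcl z h, fun h => by
        obtain ⟨c, hc⟩ := isConj_iff.mp h
        rw [← MulEquiv.orderOf_eq (MulAut.conj c), MulAut.conj_apply, hc, ht]⟩
    have hst : Nat.card (MulAction.stabilizer (ConjAct G) t) = 48 := by
      rw [ConjAct.stabilizer_eq_centralizer, ← card_centralizer_t e]
      exact Nat.card_congr (Equiv.subtypeEquiv (ConjAct.ofConjAct).toEquiv fun z => by
        simp only [Subgroup.mem_centralizer_iff, Set.mem_singleton_iff, forall_eq,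
          MulEquiv.toEquiv_eq_coe, EquivLike.coe_coe]
        exact ⟨fun h => congrArg ConjAct.ofConjAct h, fun h => congrArg ConjAct.toConjAct h⟩)
    rw [← hst, ← Nat.card_coe_set_eq (I : Set G) |>.trans (Set.ncard_coe_finset I), hset, ← Nat.card_prod,
      Nat.card_congr (MulAction.orbitProdStabilizerEquivGroup (ConjAct G) t),
      Nat.card_congr (ConjAct.ofConjAct).toEquiv]
  set f : G → ℂ := fun g => if g ∈ I then 1 else 0 with hf
  have hfc : IsClassFunction G f := by
    intro g k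
    have : k * g * k⁻¹ ∈ I ↔ g ∈ I := by
      rw [hmemI, hmemI, ← MulAut.conj_apply, MulEquiv.orderOf_eq]
    exact if_congr this rfl rfl
  have hXt : ∀ χ : IrrCharacter G, (χ : G → ℂ) t = (tv (n χ) : ℂ) := fun χ => by
    rw [← hT χ, val, show repU 1 = -1 from rfl, emb_neg_one e ht]
  have hconst : ∀ χ : IrrCharacter G, ∀ z ∈ I, (χ : G → ℂ) z = tv (n χ) := fun χ z hz => by
    obtain ⟨c, hc⟩ := isConj_iff.mp (hcl z ((hmemI z).mp hz))
    rw [← hXt χ, ← hc, χ.2.isClassFunction]
  have hsumI : ∀ χ : IrrCharacter G, ∑ z ∈ I, (χ : G → ℂ) z = (I.card : ℂ) * tv (n χ) := fun χ => by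
    rw [Finset.sum_congr rfl (hconst χ), Finset.sum_const, nsmul_eq_mul]
  have hinner : ∀ χ : IrrCharacter G,
      classInner f (χ : G → ℂ) = (Nat.card G : ℂ)⁻¹ * ((I.card : ℂ) * tv (n χ)) := by
    intro χ
    simp only [classInner, hf, ite_mul, one_mul, zero_mul, Finset.sum_ite_mem, Finset.univ_inter]
    congr 1
    rw [Finset.sum_congr rfl (fun z hz => by rw [hconst χ z hz, map_intCast]), Finset.sum_const,
      nsmul_eq_mul]
  have hmain : ∀ k, ((Finset.univ.filter fun z : GL23 =>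
        z * z = 1 ∧ z ≠ 1 ∧ repU (dk k) * z * (repU (dk k) * z) = 1 ∧ repU (dk k) * z ≠ 1).card : ℂ) * 2304 =
      (Nat.card G : ℂ) * ∑ χ : IrrCharacter G, v χ k * (tv (n χ) : ℂ) * tv (n χ) / (D χ : ℂ) := by
    intro k
    rw [← val_conj_pairs e ht k]
    have h1 : ∑ z ∈ I, f (emb e (repU (dk k)) * z) =
        ((I.filter fun z => emb e (repU (dk k)) * z ∈ I).card : ℂ) := by
      simp only [hf]; rw [Finset.sum_boole]
    have h2 : ∀ z, f (emb e (repU (dk k)) * z) = ∑ χ : IrrCharacter G,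
        classInner f (χ : G → ℂ) * (χ : G → ℂ) (emb e (repU (dk k)) * z) := fun z => by
      conv_lhs => rw [eq_sum_classInner hfc]
      simp
    rw [← h1, Finset.sum_congr rfl fun z _ => h2 z, Finset.sum_comm, Finset.sum_mul, Finset.mul_sum]
    refine Finset.sum_congr rfl fun χ _ => ?_
    rw [← Finset.mul_sum, sum_involFinset_char χ.2, hsumI, hinner, hD]
    have hG0 : (Nat.card G : ℂ) ≠ 0 := card_cast_ne_zero
    have hI : (I.card : ℂ) * 48 = (Nat.card G : ℂ) := by exact_mod_cast hIcard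
    simp only [hv, val]
    rw [← hI]
    have h0 : (I.card : ℂ) ≠ 0 := fun h => hG0 (by rw [← hI, h, zero_mul])
    have hD' : (D χ : ℂ) ≠ 0 := Int.cast_ne_zero.mpr (hD0 χ).ne'
    field_simp
    ring
  obtain ⟨c1, c3, c6, c7⟩ := card_pairs
  have k0 := hmain 0; have k1 := hmain 1; have k3 := hmain 3; have k4 := hmain 4
  rw [show dk 0 = 1 from rfl, c1] at k0
  rw [show dk 1 = 3 from rfl, c3] at k1
  rw [show dk 3 = 6 from rfl, c6] at k3
  rw [show dk 4 = 7 from rfl, c7] at k4
  have hvT : ∀ χ, v χ 0 = (tv (n χ) : ℂ) := fun χ => hT χ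
  have hvU : ∀ χ, v χ 1 = (uv (n χ) : ℂ) := fun χ => hU χ
  have hvP : ∀ χ, v χ 3 + v χ 4 = ((2 * (n χ 1 - n χ 2) : ℤ) : ℂ) := fun χ => hP χ
  simp only [hvT] at k0
  simp only [hvU] at k1
  have K0 : (27648 : ℚ) = (Nat.card G : ℚ) *
      ∑ χ, (tv (n χ) : ℚ) * tv (n χ) * tv (n χ) / (D χ : ℚ) := by
    have h : ((27648 : ℚ) : ℂ) = (((Nat.card G : ℚ) *
      ∑ χ, (tv (n χ) : ℚ) * tv (n χ) * tv (n χ) / (D χ : ℚ) : ℚ) : ℂ) := by
      push_cast; rw [← k0]; norm_num
    exact_mod_cast h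
  have K1 : (13824 : ℚ) = (Nat.card G : ℚ) *
      ∑ χ, (uv (n χ) : ℚ) * tv (n χ) * tv (n χ) / (D χ : ℚ) := by
    have h : ((13824 : ℚ) : ℂ) = (((Nat.card G : ℚ) *
      ∑ χ, (uv (n χ) : ℚ) * tv (n χ) * tv (n χ) / (D χ : ℚ) : ℚ) : ℂ) := by
      push_cast; rw [← k1]; norm_num
    exact_mod_cast h
  have K2 : (0 : ℚ) = (Nat.card G : ℚ) *
      ∑ χ, ((2 * (n χ 1 - n χ 2) : ℤ) : ℚ) * tv (n χ) * tv (n χ) / (D χ : ℚ) := by
    have h : ((0 : ℚ) : ℂ) = (((Nat.card G : ℚ) *
      ∑ χ, ((2 * (n χ 1 - n χ 2) : ℤ) : ℚ) * tv (n χ) * tv (n χ) / (D χ : ℚ) : ℚ) : ℂ) := by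
      rw [Rat.cast_mul, Rat.cast_sum, Rat.cast_zero]
      simp only [Rat.cast_div, Rat.cast_mul, Rat.cast_intCast, Rat.cast_natCast, ← hvP, add_mul, add_div,
        Finset.sum_add_distrib, mul_add]
      rw [← k3, ← k4]; simp
    exact_mod_cast h
  rw [hsum _ (fun χ h => by simp [tv, h])] at K0 K1 K2
  simp only [tv, uv, hn1, Matrix.cons_val, hD1, hA0, hA1, hA2, hA3, hA4, hB0, hB1, hB2, hB3, hB4, hP0, hP1,
    hP2, hP3, hP4, hE0, hE1, hE2, hE3, hE4, hp0, hp1, hp2, hp3, hp4, hq0, hq1, hq2, hq3, hq4, hr0, hr1, hr2,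
    hr3, hr4, hDq, hDr] at K0 K1 K2
  have hdiv : ∀ {σ : ℤ} (k : ℚ) (z : ℤ), (σ = 1 ∨ σ = -1) →
      k * (σ : ℚ) / (z : ℚ) = k / ((σ * z : ℤ) : ℚ) := by
    rintro σ k z (rfl | rfl) <;> push_cast <;> simp [div_neg, neg_div]
  have K0' : (27648 : ℚ) = (Nat.card G : ℚ) *
      (1 + 64 / (a : ℚ) + 27 / (b : ℚ) + 27 / (d : ℚ) + 1 / (e' : ℚ) - 8 / (x : ℚ)) := by
    rw [haE, hbE, hdE, heE, hxE, ← hdiv 64 _ hα, ← hdiv 27 _ hβ, ← hdiv 27 _ hδ, ← hdiv 1 _ hε,
      ← hdiv 8 _ hω, K0]
    congr 1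
    rcases hα with h | h <;> rcases hβ with h' | h' <;> rw [h, h'] <;>
      rcases hδ with h | h <;> rcases hε with h' | h' <;> rw [h, h'] <;>
      rcases hω with h | h <;> rw [h] <;> push_cast <;> ring
  have K1' : (13824 : ℚ) = (Nat.card G : ℚ) * (1 + 16 / (a : ℚ) + 1 / (e' : ℚ) + 4 / (x : ℚ)) := by
    rw [haE, heE, hxE, ← hdiv 16 _ hα, ← hdiv 1 _ hε, ← hdiv 4 _ hω, K1]
    congr 1
    rcases hα with h | h <;> rcases hβ with h' | h' <;> rw [h, h'] <;>
      rcases hδ with h | h <;> rcases hε with h' | h' <;> rw [h, h'] <;>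
      rcases hω with h | h <;> rw [h] <;> push_cast <;> ring
  have K2' : (1 : ℚ) + 9 / (b : ℚ) - 9 / (d : ℚ) - 1 / (e' : ℚ) = 0 := by
    rcases mul_eq_zero.mp K2.symm with h | h
    · exact absurd h (Nat.cast_ne_zero.mpr Nat.card_pos.ne')
    rw [hbE, hdE, heE, ← hdiv 9 _ hβ, ← hdiv 9 _ hδ, ← hdiv 1 _ hε]
    refine mul_left_cancel₀ (two_ne_zero (α := ℚ)) ?_
    rw [mul_zero, ← h]
    rcases hα with h | h <;> rcases hβ with h' | h' <;> rw [h, h'] <;>
      rcases hδ with h | h <;> rcases hε with h' | h' <;> rw [h, h'] <;>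
      rcases hω with h | h <;> rw [h] <;> push_cast <;> ring
  -- a nontrivial linear character is impossible
  have hEne : E ≠ one := by
    simp only [List.nodup_cons, List.mem_cons, List.not_mem_nil, not_or] at hnod
    exact fun h => hnod.1.2.2.2.1 h.symm
  have he1 : e' ≠ 1 := by
    intro h
    have hDE : D E = 1 := by
      have := hD0 E
      rw [heE] at h
      rcases hε with h' | h' <;> rw [h'] at h <;> omega
    obtain ⟨φ, hφ⟩ := exists_hom_of_degree_one E.2.isCharacter (by rw [hD, hDE, Int.cast_one])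
    refine hEne (Subtype.ext (funext fun g => ?_))
    have hk : commutator G ≤ φ.ker := by
      rw [commutator_eq_closure, closure_le]
      rintro _ ⟨a, b, rfl⟩
      rw [SetLike.mem_coe, MonoidHom.mem_ker, map_commutatorElement, commutatorElement_eq_one_iff_commute]
      exact Commute.all _ _
    rw [hperf] at hk
    show (E : G → ℂ) g = 1
    rw [hφ]
    simp [MonoidHom.mem_ker.mp (hk (mem_top g))]
  -- solve
  have hne : ∀ {σ z : ℤ}, (σ = 1 ∨ σ = -1) → 0 < z → σ * z ≠ 0 := fun {σ z} h hz => by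
    rcases h with rfl | rfl <;> omega
  have na : a ≠ 0 := hne hα (hD0 A)
  have nd : d ≠ 0 := hne hδ (hD0 P)
  have ne' : e' ≠ 0 := hne hε (hD0 E)
  obtain hb : b = -1 - a := by omega
  obtain he : e' = -a - d := by omega
  obtain hx : x = d - 1 := by omega
  have qa : (a : ℚ) ≠ 0 := Int.cast_ne_zero.mpr na
  have qd : (d : ℚ) ≠ 0 := Int.cast_ne_zero.mpr nd
  have qb : (b : ℚ) ≠ 0 := Int.cast_ne_zero.mpr (by omega)
  have qe : (e' : ℚ) ≠ 0 := Int.cast_ne_zero.mpr ne'
  have qx : (x : ℚ) ≠ 0 := Int.cast_ne_zero.mpr (by omega)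
  have E1 : b * d * e' + 9 * d * e' - 9 * b * e' - b * d = 0 := by
    have h : ((b * d * e' + 9 * d * e' - 9 * b * e' - b * d : ℤ) : ℚ) = 0 := by
      rw [← mul_zero ((b : ℚ) * d * e'), ← K2']
      push_cast
      field_simp
    exact_mod_cast h
  have K3 : 16 / (a : ℚ) + 9 / (b : ℚ) + 18 / (d : ℚ) - 8 / (x : ℚ) = 1 := by
    have hN : (Nat.card G : ℚ) ≠ 0 := Nat.cast_ne_zero.mpr Nat.card_pos.ne'
    apply mul_left_cancel₀ hN
    linear_combination (-1 / 2 : ℚ) * K0' + K1' + (-(Nat.card G : ℚ) / 2) * K2'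
  have E2 : 16 * b * d * x + 9 * a * d * x + 18 * a * b * x - 8 * a * b * d = a * b * d * x := by
    have h : ((16 * b * d * x + 9 * a * d * x + 18 * a * b * x - 8 * a * b * d : ℤ) : ℚ) =
        ((a * b * d * x : ℤ) : ℚ) := by
      push_cast
      rw [← mul_one ((a : ℚ) * b * d * x), ← K3]
      field_simp
    exact_mod_cast h
  rw [hb, he] at E1
  rw [hb, hx] at E2
  rw [he, hx] at K1'
  rcases dioph ca cd E1 E2 with ⟨h1, h2⟩ | ⟨h1, h2⟩ | ⟨h1, h2⟩
  · left
    rw [h1, h2] at K1'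
    have : (Nat.card G : ℚ) = (5616 : ℕ) := by norm_num at K1' ⊢; linarith
    exact_mod_cast this
  · right
    rw [h1, h2] at K1'
    have : (Nat.card G : ℚ) = (7920 : ℕ) := by norm_num at K1' ⊢; linarith
    exact_mod_cast this
  · exact absurd (by rw [he, h1, h2]; norm_num : e' = 1) he1

end Cfsg.Lib.Small.CentralizerGL23
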