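import Cfsg.Agent.Lib.Small.CentralizerGL23
import Cfsg.Prelude.Def_Transfer
import Mathlib.GroupTheory.FixedPointFree

/-!
# A group equal to its 2-residual with involution centralizer `GL(2, 3)` is simple
-/

set_option autoImplicit false
set_option linter.style.haveILetI false
set_option linter.unusedSectionVars false
set_option synthInstance.maxHeartbeats 200000
set_option synthInstance.maxSize 2048

namespace Cfsg.Lib.Small.CentralizerGL23

open Subgroup

universe u

theorem exists_conj_prod_even : ∀ x : GL23, x ≠ 1 → x * x * x = 1 →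
    ∃ c : GL23, (x * (c * x * c⁻¹)) * (x * (c * x * c⁻¹)) * (x * (c * x * c⁻¹)) ≠ 1 := by decide +kernel

theorem odd_pow_eq_one : ∀ x : GL23, ∀ k : Fin 24, x ^ (2 * (k : ℕ) + 1) = 1 → x * x * x = 1 := by decide +kernel

theorem gen_invol : ∀ x : GL23, ∃ a b c : GL23, a * a = 1 ∧ b * b = 1 ∧ c * c = 1 ∧ x = a * b * c := by
  decide +kernel

theorem five_ne : repU 5 * repU 5 = 1 ∧ repU 5 ≠ 1 ∧ -1 * repU 5 ≠ 1 := by decide +kernel

variable {G : Type u} [Group G] {t : G} (e : centralizer ({t} : Set G) ≃* GL23)
include e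

theorem no_index_two [Finite G] (hO : Cfsg.pResidual 2 G = ⊤) (M : Subgroup G) (hM : M.Normal) : M.index ≠ 2 := by
  intro hi
  have hle : Cfsg.pResidual 2 G ≤ M := by
    rw [Cfsg.pResidual, closure_le]
    intro g hg
    obtain ⟨k, hk⟩ : ∃ k, orderOf g = 2 * k + 1 := (Nat.coprime_two_right.mp hg)
    have hsq := Subgroup.sq_mem_of_index_two hi g
    have : g = (g ^ 2) ^ (k + 1) := by
      rw [← pow_mul, show 2 * (k + 1) = orderOf g + 1 by omega, pow_succ, pow_orderOf_eq_one, one_mul]
    show g ∈ M
    rw [this]; exact pow_mem hsq _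
  rw [hO, top_le_iff] at hle
  rw [hle, index_top] at hi
  omega

/-- The group is simple. -/
theorem isSimpleGroup [Finite G] (ht : orderOf t = 2) (hO : Cfsg.pResidual 2 G = ⊤) : IsSimpleGroup G := by
  classical
  haveI : Fact (Nat.Prime 2) := ⟨Nat.prime_two⟩
  have h1c : ∀ x : G, orderOf x = 2 → IsConj x t := fun x hx =>
    one_class_of_no_index_two e ht (no_index_two e hO) hx
  have htne : t ≠ 1 := fun h => by rw [h, orderOf_one] at ht; omega
  haveI : Nontrivial G := ⟨⟨t, 1, htne⟩⟩
  refine ⟨fun N hN => ?_⟩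
  by_cases h2 : 2 ∣ Nat.card N
  · -- even order
    right
    obtain ⟨i, hi⟩ := exists_prime_orderOf_dvd_card' (G := N) 2 h2
    have hconj : ∀ y : G, orderOf y = 2 → y ∈ N := by
      intro y hy
      obtain ⟨c, hc⟩ := isConj_iff.mp ((h1c (i : G) (by rw [orderOf_coe, hi])).trans (h1c y hy).symm)
      rw [← hc]; exact hN.conj_mem _ i.2 c
    have hinv : ∀ a : GL23, a * a = 1 → emb e a ∈ N := by
      intro a ha
      by_cases h : a = 1
      · rw [h, map_one]; exact one_mem _
      · exact hconj _ (orderOf_eq_prime (by rw [sq, ← map_mul, ha, map_one])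
          fun h' => h (emb_injective e (h'.trans (map_one _).symm)))
    have hC : centralizer ({t} : Set G) ≤ N := by
      intro g hg
      obtain ⟨a, rfl⟩ := exists_emb e (mem_centralizer_singleton_iff.mp hg)
      obtain ⟨x, y, z, hx, hy, hz, rfl⟩ := gen_invol a
      rw [map_mul, map_mul]
      exact mul_mem (mul_mem (hinv x hx) (hinv y hy)) (hinv z hz)
    obtain ⟨P, S, -, hQP, hKS⟩ := exists_sylow_image e ht
    have hSC : (S : Subgroup G) ≤ centralizer ({t} : Set G) := by
      rw [hKS]
      rintro _ ⟨a, -, rfl⟩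
      exact mem_centralizer_singleton_iff.mpr (emb_commute e a)
    have hNS : normalizer ((S : Subgroup G) : Set G) ≤ centralizer ({t} : Set G) := by
      intro n hn
      have htS : t ∈ (S : Subgroup G) := by
        rw [hKS]; exact ⟨-1, hQP (Or.inr (Or.inl (by decide +kernel))), emb_neg_one e ht⟩
      have hm := (mem_normalizer_iff.mp hn t).mp htS
      obtain ⟨d, hd⟩ := exists_emb e (x := n * t * n⁻¹) (mem_centralizer_singleton_iff.mp (hSC hm))
      have hd1 : d ≠ 1 := fun h => htne (by
        rw [h, map_one] at hd; exact conj_eq_one_iff.mp hd.symm)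
      have hcen : ∀ a ∈ quat, a * d = d * a := fun a ha => emb_injective e (by
        rw [map_mul, map_mul, hd]
        have haS : emb e a ∈ (S : Subgroup G) := by rw [hKS]; exact ⟨a, hQP ha, rfl⟩
        have h' : n⁻¹ * emb e a * n ∈ (S : Subgroup G) := by
          have := (mem_normalizer_iff.mp (inv_mem hn) (emb e a)).mp haS
          rwa [inv_inv] at this
        have h'' := mem_centralizer_singleton_iff.mp (hSC h')
        calc emb e a * (n * t * n⁻¹) = n * (n⁻¹ * emb e a * n * t) * n⁻¹ := by group
          _ = n * (t * (n⁻¹ * emb e a * n)) * n⁻¹ := by rw [h'']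
          _ = n * t * n⁻¹ * emb e a := by group)
      rw [eq_neg_one_of_centralizes_quat hcen hd1, emb_neg_one e ht] at hd
      exact mem_centralizer_singleton_iff.mpr (mul_inv_eq_iff_eq_mul.mp hd.symm)
    haveI := hN
    have htop := Sylow.normalizer_sup_eq_top' S (hSC.trans hC)
    exact top_le_iff.mp (htop ▸ sup_le (hNS.trans hC) le_rfl)
  · -- odd order
    left
    have hodd : ¬ 2 ∣ Nat.card N := h2
    have hCt : ∀ g ∈ N, g * t = t * g → g = 1 := by
      intro g hg hgt
      by_contra hg1
      obtain ⟨a, rfl⟩ := exists_emb e hgt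
      have ha1 : a ≠ 1 := fun h => hg1 (by rw [h, map_one])
      have key : ∀ y : GL23, emb e y ∈ N → y * y * y = 1 := by
        intro y hy
        have hd := orderOf_dvd_natCard (⟨_, hy⟩ : N)
        rw [← orderOf_coe] at hd
        change orderOf (emb e y) ∣ _ at hd
        rw [orderOf_injective _ (emb_injective e)] at hd
        have ho : ¬ 2 ∣ orderOf y := fun h => hodd (h.trans hd)
        have hle : orderOf y ≤ 48 := by
          refine (orderOf_le_card_univ).trans ?_
          rw [card_gl]
        refine odd_pow_eq_one y ⟨orderOf y / 2, by omega⟩ ?_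
        show y ^ (2 * (orderOf y / 2) + 1) = 1
        rw [show 2 * (orderOf y / 2) + 1 = orderOf y by omega, pow_orderOf_eq_one]
      obtain ⟨c, hc⟩ := exists_conj_prod_even a ha1 (key a hg)
      exact hc (key _ (by
        rw [map_mul, map_mul, map_mul, map_inv]
        exact mul_mem hg (hN.conj_mem _ hg _)))
    have hCi : ∀ i : G, orderOf i = 2 → ∀ g ∈ N, g * i = i * g → g = 1 := by
      intro i hi g hg hgi
      obtain ⟨c, hc⟩ := isConj_iff.mp (h1c i hi)
      have h := hCt _ (hN.conj_mem g hg c) (by
        rw [← hc, show c * g * c⁻¹ * (c * i * c⁻¹) = c * (g * i) * c⁻¹ by group, hgi]; group)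
      exact conj_eq_one_iff.mp h
    have hinv : ∀ i : G, orderOf i = 2 → ∀ g ∈ N, i * g * i⁻¹ = g⁻¹ := by
      intro i hi g hg
      let φ : N →* N :=
        { toFun := fun g => ⟨i * g * i⁻¹, hN.conj_mem g g.2 i⟩
          map_one' := Subtype.ext (by simp)
          map_mul' := fun a b => Subtype.ext (by simp [mul_assoc]) }
      have hi2 : i * i = 1 := by rw [← sq, ← hi, pow_orderOf_eq_one]
      have hinvol : Function.Involutive φ := fun g => Subtype.ext (by
        show i * (i * g * i⁻¹) * i⁻¹ = (g : G)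
        rw [show i * (i * g * i⁻¹) * i⁻¹ = (i * i) * g * (i * i)⁻¹ by group, hi2]; simp)
      have hfpf : MonoidHom.FixedPointFree φ := fun g hg' => Subtype.ext
        (hCi i hi g g.2 (mul_inv_eq_iff_eq_mul.mp (congrArg Subtype.val hg')).symm)
      exact congrArg Subtype.val (congrFun (hfpf.coe_eq_inv_of_involutive hinvol) ⟨g, hg⟩)
    set s := emb e (repU 5) with hs
    obtain ⟨h5, h5', h5t⟩ := five_ne
    have hso : orderOf s = 2 := orderOf_eq_prime (by rw [sq, hs, ← map_mul, h5, map_one])
      fun h => h5' (emb_injective e (h.trans (map_one _).symm))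
    have hts : orderOf (t * s) = 2 := by
      refine orderOf_eq_prime ?_ fun h => h5t (emb_injective e (by rw [map_mul, emb_neg_one e ht, ← hs, h, map_one]))
      rw [(show Commute t s from (emb_commute e _).symm).mul_pow, (by rw [← ht, pow_orderOf_eq_one] : t ^ 2 = 1), sq, hs, ← map_mul, h5,
        map_one, one_mul]
    refine (Subgroup.eq_bot_iff_forall N).mpr fun g hg => ?_
    refine hCi _ hts g hg ?_
    have h : (t * s) * g * (t * s)⁻¹ = g := by
      rw [show (t * s) * g * (t * s)⁻¹ = t * (s * g * s⁻¹) * t⁻¹ by group, hinv s hso g hg,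
        hinv t ht _ (inv_mem hg), inv_inv]
    exact (mul_inv_eq_iff_eq_mul.mp h).symm

end Cfsg.Lib.Small.CentralizerGL23
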