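import Cfsg.Agent.Lib.Small.FewSylowMain
import Cfsg.Agent.Lib.Small.PSLTwoEvenRecog
import Cfsg.Agent.Lib.Spec.SLTwo
import Cfsg.Agent.Lib.Core.Cores

/-!
# Brauer's theorem on the number of Sylow subgroups of prime order in a perfect group

The degrees of the characters in the principal block divide `(p - 1) N`, `N` the number of Sylow
`p`-subgroups, so a degree different from `1`, `p - 1`, `N` yields a divisor `d ≡ 1` of `(p - 1) N`
with `1 < d < N`, and such a divisor expresses `N` by Brauer's parameters `h`, `u`.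
-/

set_option autoImplicit false
set_option linter.unusedSectionVars false
set_option linter.style.haveILetI false

namespace Cfsg.Lib.Small

open Cfsg Cfsg.Lib
open scoped ComplexConjugate commutatorElement

universe u

/-- Brauer's parametrization of the number of Sylow subgroups. -/
def HasParam (p N : ℕ) : Prop :=
  ∃ h u : ℕ, 0 < h ∧ 0 < u ∧ (u + 1) * N = (u * p + 1) * (h * p + u + 1)

theorem hasParam_of_dvd {p N d : ℕ} (hp : p.Prime) (hN : N % p = 1) (hd : d % p = 1) (h1 : 1 < d)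
    (hlt : d < N) (hdvd : d ∣ (p - 1) * N) : HasParam p N := by
  set u := d / p with hu
  have hdu : d = u * p + 1 := by
    have := Nat.div_add_mod d p
    rw [hd, ← hu, mul_comm] at this
    exact this.symm
  have hu0 : 0 < u := by
    rcases Nat.eq_zero_or_pos u with h | h
    · rw [h, zero_mul] at hdu; omega
    · exact h
  obtain ⟨w, hw⟩ : d ∣ (u + 1) * N := by
    have hcop : Nat.Coprime d p := by
      refine ((hp.coprime_iff_not_dvd).2 fun h => ?_).symm
      rw [Nat.mod_eq_zero_of_dvd h] at hd; omega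
    refine hcop.dvd_of_dvd_mul_left ?_
    obtain ⟨v, hv⟩ := hdvd
    refine ⟨N + v, ?_⟩
    have hp1 : p - 1 + 1 = p := by have := hp.one_lt; omega
    rw [mul_add, ← hv, hdu]
    calc p * ((u + 1) * N) = (u * p + (p - 1 + 1)) * N := by rw [hp1]; ring
      _ = (u * p + 1) * N + (p - 1) * N := by ring
  have hwlt : u + 1 < w := by
    by_contra hcon
    push Not at hcon
    have h2 : d * w ≤ d * (u + 1) := Nat.mul_le_mul_left d hcon
    rw [← hw, mul_comm d (u + 1)] at h2
    have := Nat.le_of_mul_le_mul_left h2 (by omega)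
    omega
  have hmod : (u + 1) % p = w % p := by
    have h2 : ((u + 1) * N) % p = (d * w) % p := by rw [hw]
    rwa [Nat.mul_mod, hN, mul_one, Nat.mod_mod, Nat.mul_mod d, hd, one_mul, Nat.mod_mod] at h2
  obtain ⟨h, hh⟩ := (Nat.modEq_iff_dvd' hwlt.le).1 hmod
  refine ⟨h, u, Nat.pos_of_ne_zero fun h0 => ?_, hu0, ?_⟩
  · rw [h0, mul_zero] at hh; omega
  · rw [hw, hdu]
    congr 1
    rw [mul_comm h p, ← hh]
    omega

/-- A signed degree in the principal block is `N`, `p - 1` or `(p - 1) N`, or the parameters exist. -/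
theorem row_degree {p N D : ℕ} {σ : ℤ} (hp : p.Prime) (hN : N % p = 1) (hpN : p < N) (hD : 1 < D)
    (hdvd : D ∣ (p - 1) * N) (hσ : σ = 1 ∨ σ = -1) (hc : σ * (D : ℤ) ≡ 1 [ZMOD p])
    (hF : ¬ HasParam p N) :
    (σ = 1 ∧ D = N) ∨ (σ = -1 ∧ (D = p - 1 ∨ D = (p - 1) * N)) := by
  have hp1 := hp.one_lt
  obtain ⟨w, hw⟩ := hdvd
  have hw0 : 0 < w := by
    rcases Nat.eq_zero_or_pos w with h | h
    · rw [h, mul_zero] at hw
      rcases Nat.mul_eq_zero.1 hw with h' | h' <;> omega
    · exact h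
  have hwz : (p : ℤ) ∣ (D : ℤ) * w + 1 := by
    have h1 : (D : ℤ) * w = ((p : ℤ) - 1) * N := by
      rw [← Nat.cast_one, ← Nat.cast_sub hp1.le]; exact_mod_cast hw.symm
    obtain ⟨j, hj⟩ : ∃ j, N = j * p + 1 :=
      ⟨N / p, by have := Nat.div_add_mod N p; rw [hN, mul_comm] at this; exact this.symm⟩
    refine ⟨(j : ℤ) * p - j + 1, ?_⟩
    rw [h1, hj]
    push_cast
    ring
  have hne : 0 < (p - 1) * N := Nat.mul_pos (by omega) (by omega)
  rcases hσ with h | h <;> subst h
  · left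
    refine ⟨rfl, ?_⟩
    rw [one_mul] at hc
    have hD1 : D % p = 1 := by
      have h := hc
      rw [← Nat.cast_one, Int.natCast_modEq_iff, Nat.ModEq, Nat.one_mod_eq_one.2 hp.ne_one] at h
      exact h
    by_contra hne'
    rcases lt_or_gt_of_ne hne' with hlt | hgt
    · exact hF (hasParam_of_dvd hp hN hD1 hD hlt ⟨w, hw⟩)
    · have h2 : (p : ℤ) ∣ (w : ℤ) + 1 := by
        have h3 : (p : ℤ) ∣ ((D : ℤ) - 1) * w := dvd_mul_of_dvd_left (Int.ModEq.dvd hc.symm) _
        have h4 := dvd_sub hwz h3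
        rwa [show (D : ℤ) * w + 1 - ((D : ℤ) - 1) * w = (w : ℤ) + 1 by ring] at h4
      have h5 : p ∣ w + 1 := by exact_mod_cast h2
      have h6 := Nat.le_of_dvd (by omega) h5
      have h7 : (p - 1) * D ≤ (p - 1) * N := by
        rw [hw, mul_comm D w]; exact Nat.mul_le_mul_right D (by omega)
      have := Nat.le_of_mul_le_mul_left h7 (by omega)
      omega
  · right
    refine ⟨rfl, ?_⟩
    have hD1 : (p : ℤ) ∣ (D : ℤ) + 1 := by
      have h := Int.ModEq.dvd hc
      rwa [show (1 : ℤ) - -1 * (D : ℤ) = (D : ℤ) + 1 by ring] at h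
    by_contra hcon
    push Not at hcon
    obtain ⟨hne1, hne2⟩ := hcon
    have hw1 : w % p = 1 := by
      have h4 := dvd_sub (dvd_mul_of_dvd_left hD1 (w : ℤ)) hwz
      rw [show ((D : ℤ) + 1) * w - ((D : ℤ) * w + 1) = (w : ℤ) - 1 by ring] at h4
      have h : (w : ℤ) ≡ ((1 : ℕ) : ℤ) [ZMOD p] := by
        rw [Nat.cast_one]; exact (Int.modEq_iff_dvd.2 h4).symm
      rw [Int.natCast_modEq_iff, Nat.ModEq, Nat.one_mod_eq_one.2 hp.ne_one] at h
      exact h
    have hwne : w ≠ 1 := fun h1 => hne2 (by rw [hw, h1, mul_one])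
    rcases Nat.lt_or_ge w N with hlt | hge
    · exact hF (hasParam_of_dvd hp hN hw1 (by omega) hlt ⟨D, by rw [hw, mul_comm]⟩)
    · have h7 : D * N ≤ (p - 1) * N := by rw [hw]; exact Nat.mul_le_mul_left D hge
      have h8 := Nat.le_of_mul_le_mul_right h7 (by omega)
      have h9 : p ∣ D + 1 := by exact_mod_cast hD1
      have := Nat.le_of_dvd (by omega) h9
      omega

variable {G : Type u} [Group G] [Fintype G] {p : ℕ} [hp : Fact p.Prime]

noncomputable local instance (priority := high) fintypeSubgroupSylowCount {A : Type u}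
    [Group A] [Fintype A] (H : Subgroup A) : Fintype H := Fintype.ofFinite H

theorem two_le_relIndex (hperf : commutator G = ⊤) (P : Sylow p G)
    (hP : Nat.card (P : Subgroup G) = p) :
    2 ≤ (Subgroup.centralizer ((P : Subgroup G) : Set G)).relIndex
      (Subgroup.normalizer ((P : Subgroup G) : Set G)) := by
  haveI : IsCyclic (P : Subgroup G) := isCyclic_of_prime_card hP
  by_contra hlt
  have hne : (Subgroup.centralizer ((P : Subgroup G) : Set G)).relIndex
      (Subgroup.normalizer ((P : Subgroup G) : Set G)) ≠ 0 := Subgroup.index_ne_zero_of_finite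
  have hle := Subgroup.relIndex_eq_one.1 (show (Subgroup.centralizer ((P : Subgroup G) : Set G)).relIndex
      (Subgroup.normalizer ((P : Subgroup G) : Set G)) = 1 by omega)
  have hcompl := MonoidHom.ker_transferSylow_isComplement' P hle
  have hker : (MonoidHom.transferSylow P hle).ker = ⊤ := by
    letI := IsCyclic.commGroup (α := (P : Subgroup G))
    rw [eq_top_iff, ← hperf]
    exact Abelianization.commutator_subset_ker _
  rw [hker] at hcompl
  have := Subgroup.isComplement'_top_left.1 hcompl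
  rw [this, Subgroup.card_bot] at hP
  exact hp.out.ne_one hP.symm

theorem one_lt_card_sylow (hperf : commutator G = ⊤) (P : Sylow p G)
    (hP : Nat.card (P : Subgroup G) = p) : p < Nat.card (Sylow p G) := by
  haveI : IsCyclic (P : Subgroup G) := isCyclic_of_prime_card hP
  have hmod : Nat.card (Sylow p G) % p = 1 := by
    have h := card_sylow_modEq_one p G
    rwa [Nat.ModEq, Nat.one_mod_eq_one.2 hp.out.ne_one] at h
  by_contra hle
  have h1 : Nat.card (Sylow p G) = 1 := by
    rcases Nat.lt_or_ge (Nat.card (Sylow p G)) p with h | h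
    · rwa [Nat.mod_eq_of_lt h] at hmod
    · rw [show Nat.card (Sylow p G) = p by omega, Nat.mod_self] at hmod; omega
  haveI : Subsingleton (Sylow p G) := (Nat.card_eq_one_iff_unique.1 h1).1
  haveI := Sylow.normal_of_subsingleton P
  have h2 := two_le_relIndex hperf P hP
  have hN : Subgroup.normalizer ((P : Subgroup G) : Set G) = ⊤ := Subgroup.normalizer_eq_top _
  have hC : Subgroup.centralizer ((P : Subgroup G) : Set G) = ⊤ := by
    rw [eq_top_iff, ← hperf, commutator_def, Subgroup.commutator_le]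
    intro a _ b _
    let φ := (P : Subgroup G).normalizerMonoidHom
    have h3 : φ (⁅(⟨a, hN ▸ Subgroup.mem_top a⟩ :
        Subgroup.normalizer ((P : Subgroup G) : Set G)), ⟨b, hN ▸ Subgroup.mem_top b⟩⁆) = 1 := by
      rw [map_commutatorElement, commutatorElement_eq_one_iff_mul_comm, mulAut_comm]
    have h4 := MonoidHom.mem_ker.2 h3
    rw [Subgroup.normalizerMonoidHom_ker, Subgroup.mem_subgroupOf] at h4
    simpa [commutatorElement_def] using h4
  rw [hC, hN, Subgroup.relIndex_self] at h2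
  omega

/-- The degree of characters with a rational unit value sum at an element divides its class size. -/
theorem degree_dvd_class (s : Finset (IrrCharacter G)) {f : ℕ}
    (hf : ∀ χ ∈ s, charDegree (χ : G → ℂ) = f) (hf0 : f ≠ 0) {x : G} {σ : ℤ}
    (hσ : σ = 1 ∨ σ = -1) (hsum : ∑ χ ∈ s, (χ : G → ℂ) x = (σ : ℂ)) :
    f ∣ (Char.classFinset x).card := by
  refine Char.natCast_dvd_of_isIntegral hf0 ?_
  have h : IsIntegral ℤ (∑ χ ∈ s,
      ((Char.classFinset x).card : ℂ) * (χ : G → ℂ) x / (χ : G → ℂ) 1) :=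
    IsIntegral.sum _ fun χ _ => χ.2.isIntegral_class x
  rw [Finset.sum_congr rfl (g := fun χ : IrrCharacter G =>
      ((Char.classFinset x).card : ℂ) * (χ : G → ℂ) x / (f : ℂ)) fun χ hχ => by
    rw [Block.apply_one_eq_charDegree, hf χ hχ], ← Finset.sum_div, ← Finset.mul_sum, hsum] at h
  rcases hσ with e | e <;> rw [e] at h
  · simpa using h
  · have h' := h.neg
    simpa [neg_div] using h'

theorem two_le_charDegree_of_perfect (hperf : commutator G = ⊤) {χ : IrrCharacter G}
    (hχ : χ ≠ one' G) : 2 ≤ charDegree (χ : G → ℂ) := by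
  have hpos := Block.charDegree_pos χ
  by_contra hlt
  have h1 : (χ : G → ℂ) 1 = 1 := by
    rw [Block.apply_one_eq_charDegree, show charDegree (χ : G → ℂ) = 1 by omega, Nat.cast_one]
  obtain ⟨φ, hφ⟩ := Char.exists_hom_of_degree_one χ.2.isCharacter h1
  refine hχ (Subtype.ext (funext fun g => ?_))
  have hker : g ∈ φ.ker := Abelianization.commutator_subset_ker φ (hperf ▸ Subgroup.mem_top g)
  rw [hφ, one'_apply]
  show ((φ g : ℂˣ) : ℂ) = 1
  rw [MonoidHom.mem_ker.1 hker, Units.val_one]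

theorem le_of_normal_of_dvd (P : Sylow p G) (hP : Nat.card (P : Subgroup G) = p) {M : Subgroup G}
    (hM : M.Normal) (h : p ∣ Nat.card M) : (P : Subgroup G) ≤ M := by
  obtain ⟨⟨x, hxM⟩, hxo⟩ := exists_prime_orderOf_dvd_card' (G := M) p h
  rw [Subgroup.orderOf_mk] at hxo
  obtain ⟨Q, hQ⟩ := exists_sylow_eq_zpowers (G := G) (fun Q => by
    rw [Q.card_eq_multiplicity, ← P.card_eq_multiplicity, hP]) hxo
  obtain ⟨g, hg⟩ := MulAction.exists_smul_eq G Q P
  rw [← hg, Sylow.coe_subgroup_smul]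
  rintro _ ⟨y, hy, rfl⟩
  exact hM.conj_mem y (Subgroup.zpowers_le.2 hxM (hQ ▸ hy)) g

/-- A projection of trace zero vanishes. -/
theorem sum_mul_eq_zero_of_sum_eq_zero (Q : Subgroup G) (χ : IrrCharacter G)
    (h : ∑ x : Q, (χ : G → ℂ) x = 0) (v : G) : ∑ x : Q, (χ : G → ℂ) (v * x) = 0 := by
  classical
  obtain ⟨n, ρ, -, hρ⟩ := χ.2
  have hq : (Fintype.card Q : ℂ) ≠ 0 := Nat.cast_ne_zero.2 Fintype.card_ne_zero
  set E : Module.End ℂ (Fin n → ℂ) := (Fintype.card Q : ℂ)⁻¹ • ∑ x : Q, ρ (x : G) with hE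
  have habs : ∀ x : Q, ρ (x : G) * (∑ y : Q, ρ (y : G)) = ∑ y : Q, ρ (y : G) := by
    intro x
    rw [Finset.mul_sum]
    exact Fintype.sum_equiv (Equiv.mulLeft x) _ _ fun y => by rw [← map_mul]; rfl
  have hEE : E * E = E := by
    simp only [hE, smul_mul_assoc, mul_smul_comm, Finset.sum_mul, habs, Finset.sum_const,
      Finset.card_univ]
    rw [← Nat.cast_smul_eq_nsmul ℂ, smul_smul, smul_smul, mul_assoc, inv_mul_cancel₀ hq, mul_one]
  have hproj : LinearMap.IsProj (LinearMap.range E) E := by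
    refine ⟨fun x => LinearMap.mem_range_self E x, ?_⟩
    rintro _ ⟨y, rfl⟩
    rw [← Module.End.mul_apply, hEE]
  have htr : LinearMap.trace ℂ _ E = 0 := by
    simp only [hE, map_smul, map_sum, smul_eq_mul]
    rw [Finset.sum_congr rfl (g := fun x : Q => (χ : G → ℂ) x) fun x _ => by rw [← hρ]; rfl, h,
      mul_zero]
  rw [hproj.trace, Nat.cast_eq_zero, Submodule.finrank_eq_zero, LinearMap.range_eq_bot] at htr
  have h2 : (∑ x : Q, ρ (x : G)) = 0 := (smul_eq_zero.1 htr).resolve_left (inv_ne_zero hq)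
  have h3 := congrArg (fun f => LinearMap.trace ℂ (Fin n → ℂ) (ρ v * f)) h2
  simp only [mul_zero, map_zero, Finset.mul_sum, map_sum] at h3
  rw [← h3]
  exact Finset.sum_congr rfl fun x _ => by rw [← map_mul, ← hρ]; rfl

/-- With the Sylow subgroup self-centralizing and trivial `p'`-core a perfect group is simple. -/
theorem isSimpleGroup_of_core (hperf : commutator G = ⊤) (P : Sylow p G)
    (hP : Nat.card (P : Subgroup G) = p)
    (hCP : Subgroup.centralizer ((P : Subgroup G) : Set G) = (P : Subgroup G))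
    (hO : ∀ N : Subgroup G, N.Normal → ¬ p ∣ Nat.card N → N = ⊥) : IsSimpleGroup G := by
  haveI : Nontrivial G := by
    rw [← Finite.one_lt_card_iff_nontrivial]
    calc 1 < p := hp.out.one_lt
      _ ≤ Nat.card G := Nat.le_of_dvd Nat.card_pos (hP ▸ Subgroup.card_subgroup_dvd_card _)
  haveI : IsCyclic (P : Subgroup G) := isCyclic_of_prime_card hP
  refine { eq_bot_or_eq_top_of_normal := fun M hM => ?_ }
  by_cases hdvd : p ∣ Nat.card M
  swap
  · exact Or.inl (hO M hM hdvd)
  right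
  have hPM := le_of_normal_of_dvd P hP hM hdvd
  haveI := hM
  have hF : Subgroup.normalizer ((P : Subgroup G) : Set G) ⊔ M = ⊤ := by
    have h := Sylow.normalizer_sup_eq_top (P.subtype hPM)
    rwa [Sylow.coe_subtype, Subgroup.map_subgroupOf_eq_of_le hPM] at h
  rw [eq_top_iff, ← hperf, commutator_def, Subgroup.commutator_le]
  have key : ∀ a : G, ∃ u ∈ Subgroup.normalizer ((P : Subgroup G) : Set G), (a : G ⧸ M) = u := by
    intro a
    have : a ∈ M ⊔ Subgroup.normalizer ((P : Subgroup G) : Set G) := by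
      rw [sup_comm, hF]; exact Subgroup.mem_top a
    rw [Subgroup.mem_sup_of_normal_left] at this
    obtain ⟨y, hy, z, hz, rfl⟩ := this
    refine ⟨z, hz, ?_⟩
    rw [QuotientGroup.mk_mul, (QuotientGroup.eq_one_iff y).2 hy, one_mul]
  intro a _ b _
  obtain ⟨u, hu, hau⟩ := key a
  obtain ⟨v, hv, hbv⟩ := key b
  let φ := (P : Subgroup G).normalizerMonoidHom
  have h3 : φ (⁅(⟨u, hu⟩ : Subgroup.normalizer ((P : Subgroup G) : Set G)), ⟨v, hv⟩⁆) = 1 := by
    rw [map_commutatorElement, commutatorElement_eq_one_iff_mul_comm, mulAut_comm]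
  have h4 := MonoidHom.mem_ker.2 h3
  rw [Subgroup.normalizerMonoidHom_ker, Subgroup.mem_subgroupOf, hCP] at h4
  have h5 : u * v * u⁻¹ * v⁻¹ ∈ M := hPM (by simpa [commutatorElement_def] using h4)
  rw [← QuotientGroup.eq_one_iff, commutatorElement_def]
  simp only [QuotientGroup.mk_mul, QuotientGroup.mk_inv, hau, hbv]
  rw [← QuotientGroup.mk_inv, ← QuotientGroup.mk_inv, ← QuotientGroup.mk_mul, ← QuotientGroup.mk_mul,
    ← QuotientGroup.mk_mul]
  exact (QuotientGroup.eq_one_iff _).2 h5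

/-- The known groups, with the trivial core. -/
theorem iso_of_outcome [IsSimpleGroup G]
    (h : (5 ≤ p ∧ 2 * Nat.card G = p * (p ^ 2 - 1) ∧ Nat.card (Sylow p G) = p + 1) ∨
      Nonempty (LargeData G p)) :
    (∃ (F : Type) (_ : Field F) (_ : Fintype F), Fintype.card F = p ∧ 3 < p ∧
      Nonempty (G ≃* Matrix.ProjectiveSpecialLinearGroup (Fin 2) F)) ∨
    ∃ (m : ℕ) (F : Type) (_ : Field F) (_ : Fintype F), Fintype.card F = 2 ^ m ∧ p = 2 ^ m + 1 ∧
      3 < p ∧ Nonempty (G ≃* Matrix.SpecialLinearGroup (Fin 2) F) := by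
  classical
  rcases h with ⟨hp5, hcard, hn'⟩ | ⟨⟨D⟩⟩
  · exact Or.inl ⟨ZMod p, inferInstance, inferInstance, ZMod.card p, by omega,
      PSLTwoRecog.iso_psl hp5 hcard hn' (ZMod.card p)⟩
  · obtain ⟨hq, hcard, y, hy, hCy, hconj, hI⟩ := D.structure_two
    have hp1 : p - 1 + 1 = p := by omega
    obtain ⟨m, F, iF, iFF, hF, hqm, ⟨i⟩⟩ := iso_psl_even hq
      (hcard.trans (by rw [hp1, show p - 1 - 1 = p - 2 by omega])) hy hCy hconj hI
    haveI : CharP F 2 := by
      obtain ⟨q, hq'⟩ := CharP.exists F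
      haveI := Fact.mk (CharP.char_is_prime F q)
      obtain ⟨j, -, hj⟩ := FiniteField.card F q
      rw [hF] at hj
      exact ((Nat.prime_dvd_prime_iff_eq (CharP.char_is_prime F q) Nat.prime_two).1
        ((CharP.char_is_prime F q).dvd_of_dvd_pow (hj ▸ dvd_pow_self q j.ne_zero))) ▸ hq'
    exact Or.inr ⟨m, F, iF, iFF, hF, by omega, by omega, ⟨i.trans Cfsg.Lib.Spec.pslEquivOfCharTwo⟩⟩

set_option maxHeartbeats 1000000 in
/-- A perfect group with trivial `p'`-core, without parameters, is a known one. -/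
theorem outcome_of_core (hperf : commutator G = ⊤) (P : Sylow p G)
    (hP : Nat.card (P : Subgroup G) = p)
    (hO : ∀ N : Subgroup G, N.Normal → ¬ p ∣ Nat.card N → N = ⊥) {n : ℕ}
    (hn : Nat.card (Sylow p G) = n * p + 1) (hF : ¬ HasParam p (n * p + 1)) :
    (∃ (F : Type) (_ : Field F) (_ : Fintype F), Fintype.card F = p ∧ 3 < p ∧
      Nonempty (G ≃* Matrix.ProjectiveSpecialLinearGroup (Fin 2) F)) ∨
    ∃ (m : ℕ) (F : Type) (_ : Field F) (_ : Fintype F), Fintype.card F = 2 ^ m ∧ p = 2 ^ m + 1 ∧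
      3 < p ∧ Nonempty (G ≃* Matrix.SpecialLinearGroup (Fin 2) F) := by
  classical
  have hpp : p.Prime := hp.out
  set C := Subgroup.centralizer ((P : Subgroup G) : Set G) with hC
  set e := C.relIndex (Subgroup.normalizer ((P : Subgroup G) : Set G)) with he
  have he2 : 2 ≤ e := two_le_relIndex hperf P hP
  have hed : e ∣ p - 1 := Block.relIndex_centralizer_dvd hP
  have hep : e ≤ p - 1 := Nat.le_of_dvd (by have := hpp.one_lt; omega) hed
  have hodd : p ≠ 2 := by omega
  obtain ⟨t, ht⟩ := hed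
  have het : p = e * t + 1 := by omega
  have ht1 : 1 ≤ t := by
    rcases Nat.eq_zero_or_pos t with h | h
    · rw [h, mul_zero] at het; omega
    · exact h
  set N := n * p + 1 with hNdef
  have hpN : p < N := hn ▸ one_lt_card_sylow hperf P hP
  have hNmod : N % p = 1 := by
    rw [hNdef, Nat.mul_add_mod_self_right, Nat.one_mod_eq_one.2 hpp.ne_one]
  have hn1 : 1 ≤ n := by
    rcases Nat.eq_zero_or_pos n with h | h
    · rw [hNdef, h, zero_mul] at hpN; have := hpp.one_lt; omega
    · exact h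
  obtain ⟨S⟩ := exists_shape hodd P hP he.symm he2
  have hone : ¬ p ∣ orderOf (1 : G) := by rw [orderOf_one]; exact hpp.not_dvd_one
  haveI : Nontrivial (P : Subgroup G) := by
    rw [← Finite.one_lt_card_iff_nontrivial, hP]; exact hpp.one_lt
  obtain ⟨⟨x, hx⟩, hx'⟩ := exists_ne (1 : (P : Subgroup G))
  have hx1 : x ≠ 1 := fun h => hx' (Subtype.ext h)
  have hzx : (P : Subgroup G) = Subgroup.zpowers x := (zpowers_eq_of_prime_card hP hx hx1).symm
  have hCi : C.index = e * N := by
    rw [← hn, P.card_eq_index_normalizer, he]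
    exact (Subgroup.relIndex_mul_index (Subgroup.centralizer_le_normalizer _)).symm
  have hclass : (Char.classFinset x).card = e * N := by
    rw [Char.card_classFinset, ← centralizer_zpowers, ← hzx, ← hC, hCi]
  -- the degrees
  have hXdvd : ∀ χ ∈ S.X, charDegree (χ : G → ℂ) ∣ e * N := fun χ hχ => by
    rw [← hclass]
    refine degree_dvd_class {χ} (fun ψ hψ => by rw [Finset.mem_singleton.1 hψ])
      (Block.charDegree_pos χ).ne' (S.sign χ (S.mem_Z.2 (Or.inr hχ))) ?_
    have h := S.val χ hχ x hx hx1 1 (Subgroup.one_mem _) hone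
    rwa [Finset.sum_singleton, ← mul_one x]
  have hYdeg : ∀ θ' ∈ S.Y, charDegree (θ' : G → ℂ) = charDegree (S.θ : G → ℂ) := fun θ' h => by
    have h' := S.agree θ' h 1 hone
    rw [Block.apply_one_eq_charDegree, Block.apply_one_eq_charDegree] at h'
    exact_mod_cast h'
  have hθdvd : t * charDegree (S.θ : G → ℂ) ∣ (p - 1) * N := by
    rw [ht, mul_comm e t, mul_assoc]
    refine Nat.mul_dvd_mul_left t ?_
    rw [← hclass]
    exact degree_dvd_class S.Y hYdeg (Block.charDegree_pos S.θ).ne'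
      (S.sign _ (S.mem_Z.2 (Or.inl rfl))) (S.sum_Y_apply hx hx1)
  have hθcong : S.σ S.θ * ((t * charDegree (S.θ : G → ℂ) : ℕ) : ℤ) ≡ 1 [ZMOD p] := by
    have h := S.congθ.mul_left (t : ℤ)
    have hpz : (p : ℤ) = e * t + 1 := by exact_mod_cast het
    refine (show S.σ S.θ * ((t * charDegree (S.θ : G → ℂ) : ℕ) : ℤ) =
      (t : ℤ) * (S.σ S.θ * (charDegree (S.θ : G → ℂ) : ℤ)) by push_cast; ring) ▸ h.trans ?_
    exact Int.modEq_iff_dvd.2 ⟨1, by rw [hpz]; ring⟩
  have hrowX : ∀ χ ∈ S.X, χ ≠ one' G →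
      (S.σ χ = 1 ∧ charDegree (χ : G → ℂ) = N) ∨
        (S.σ χ = -1 ∧ (charDegree (χ : G → ℂ) = p - 1 ∨ charDegree (χ : G → ℂ) = (p - 1) * N)) :=
    fun χ hχ hne => row_degree hpp hNmod hpN (two_le_charDegree_of_perfect hperf hne)
      ((hXdvd χ hχ).trans (Nat.mul_dvd_mul_right ⟨t, ht⟩ N)) (S.sign χ (S.mem_Z.2 (Or.inr hχ)))
      (S.cong χ hχ) hF
  have hrowθ : S.θ ≠ one' G →
      (S.σ S.θ = 1 ∧ t * charDegree (S.θ : G → ℂ) = N) ∨ (S.σ S.θ = -1 ∧
        (t * charDegree (S.θ : G → ℂ) = p - 1 ∨ t * charDegree (S.θ : G → ℂ) = (p - 1) * N)) :=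
    fun hne => row_degree hpp hNmod hpN
      (lt_of_lt_of_le (two_le_charDegree_of_perfect hperf hne) (Nat.le_mul_of_pos_left _ ht1))
      hθdvd (S.sign _ (S.mem_Z.2 (Or.inl rfl))) hθcong hF
  -- a member of degree `p - 1`
  obtain ⟨ψ, hψX, hψσ, hψd⟩ : ∃ ψ ∈ S.X, S.σ ψ = -1 ∧ charDegree (ψ : G → ℂ) = p - 1 := by
    by_contra hcon
    push Not at hcon
    have hXN : ∀ χ ∈ S.X, χ ≠ one' G → (N : ℤ) ∣ S.σ χ * (charDegree (χ : G → ℂ) : ℤ) := by
      intro χ hχ hne
      rcases hrowX χ hχ hne with ⟨-, h⟩ | ⟨h1, h | h⟩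
      · rw [h]; exact dvd_mul_left _ _
      · exact absurd h (hcon χ hχ h1)
      · rw [h]; push_cast; exact dvd_mul_of_dvd_right (dvd_mul_left _ _) _
    have hrel := S.rel_deg
    rw [S.Z_eq, Finset.sum_insert S.θ_notMem] at hrel
    rcases S.mem_Z.1 S.one_mem with h1 | h1
    · rw [← h1, S.sign_one, charDegree_one', Nat.cast_one, mul_one] at hrel
      have h2 : (N : ℤ) ∣ 1 := by
        have h3 : (N : ℤ) ∣ ∑ χ ∈ S.X, S.σ χ * (charDegree (χ : G → ℂ) : ℤ) :=
          Finset.dvd_sum fun χ hχ => hXN χ hχ fun hh => S.θ_notMem (by rw [← h1, ← hh]; exact hχ)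
        have h4 := dvd_sub (dvd_zero (N : ℤ)) h3
        rwa [zero_sub, show -(∑ χ ∈ S.X, S.σ χ * (charDegree (χ : G → ℂ) : ℤ)) = 1 by linarith]
          at h4
      have h2' : N ∣ 1 := by exact_mod_cast h2
      have := Nat.le_of_dvd one_pos h2'
      have := hpp.one_lt
      omega
    · rw [← Finset.add_sum_erase _ _ h1, S.sign_one, charDegree_one', Nat.cast_one, mul_one] at hrel
      have hθne : S.θ ≠ one' G := fun hh => S.θ_notMem (hh ▸ h1)
      have h3 : (N : ℤ) ∣ 1 + S.σ S.θ * (charDegree (S.θ : G → ℂ) : ℤ) := by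
        have h4 : (N : ℤ) ∣ ∑ χ ∈ S.X.erase (one' G), S.σ χ * (charDegree (χ : G → ℂ) : ℤ) :=
          Finset.dvd_sum fun χ hχ =>
            hXN χ (Finset.mem_of_mem_erase hχ) (Finset.ne_of_mem_erase hχ)
        have h5 := dvd_sub (dvd_zero (N : ℤ)) h4
        rwa [zero_sub, show -(∑ χ ∈ S.X.erase (one' G), S.σ χ * (charDegree (χ : G → ℂ) : ℤ)) =
          1 + S.σ S.θ * (charDegree (S.θ : G → ℂ) : ℤ) by linarith] at h5
      rcases hrowθ hθne with ⟨hσ, hd⟩ | ⟨hσ, hd | hd⟩ <;> rw [hσ] at h3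
      · have h4 : N ∣ t * (1 + charDegree (S.θ : G → ℂ)) :=
          dvd_mul_of_dvd_right (by rw [one_mul] at h3; exact_mod_cast h3) t
        rw [mul_add, mul_one, hd] at h4
        have := Nat.le_of_dvd ht1 ((Nat.dvd_add_left dvd_rfl).1 h4)
        have := Nat.le_mul_of_pos_left t (show 0 < e by omega)
        omega
      · have hm : charDegree (S.θ : G → ℂ) = e :=
          Nat.eq_of_mul_eq_mul_left ht1 (by rw [hd, ht, mul_comm])
        rw [hm] at h3
        have h4 : (N : ℤ) ∣ ((e - 1 : ℕ) : ℤ) := by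
          rw [Nat.cast_sub (by omega), Nat.cast_one,
            show (e : ℤ) - 1 = -(1 + -1 * (e : ℤ)) by ring]
          exact dvd_neg.2 h3
        have := Nat.le_of_dvd (by omega) (Int.natCast_dvd_natCast.1 h4)
        omega
      · have hm : charDegree (S.θ : G → ℂ) = e * N :=
          Nat.eq_of_mul_eq_mul_left ht1 (by rw [hd, ht]; ring)
        rw [hm] at h3
        have h4 : (N : ℤ) ∣ 1 := by
          have h5 := dvd_add h3 (dvd_mul_left (N : ℤ) (e : ℤ))
          rwa [show 1 + -1 * ((e * N : ℕ) : ℤ) + (e : ℤ) * (N : ℤ) = 1 by push_cast; ring] at h5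
        have h4' : N ∣ 1 := by exact_mod_cast h4
        have := Nat.le_of_dvd one_pos h4'
        have := hpp.one_lt
        omega
  -- the Sylow subgroup is self-centralizing
  have hψx : ∀ v ∈ C, ¬ p ∣ orderOf v → ∀ y ∈ (P : Subgroup G), y ≠ 1 →
      (ψ : G → ℂ) (v * y) = -1 := by
    intro v hv hvr y hy hy1
    rw [← Subgroup.mem_centralizer_iff.1 hv y hy, S.val ψ hψX y hy hy1 v hv hvr, hψσ]
    simp
  have hψ1 : (ψ : G → ℂ) 1 = ((p - 1 : ℕ) : ℂ) := by rw [Block.apply_one_eq_charDegree, hψd]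
  have hψker : ∀ g : G, (ψ : G → ℂ) g = (ψ : G → ℂ) 1 → g = 1 := by
    intro g hg
    have hb : Char.charKer ψ.2.isCharacter = ⊥ := by
      refine hO _ (Char.charKer_normal _) fun hd => ?_
      have h1 := (Char.mem_charKer ψ.2.isCharacter).1
        (le_of_normal_of_dvd P hP (Char.charKer_normal _) hd hx)
      rw [← one_mul x, hψx 1 (Subgroup.one_mem _) hone x hx hx1, hψ1] at h1
      have h2 : ((-1 : ℤ) : ℂ) = (((p - 1 : ℕ) : ℤ) : ℂ) := by simpa using h1
      have := Int.cast_injective h2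
      omega
    have := (Char.mem_charKer ψ.2.isCharacter).2 hg
    rwa [hb, Subgroup.mem_bot] at this
  have hreg : ∀ v ∈ C, ¬ p ∣ orderOf v → v = 1 := by
    intro v hv hvr
    have hsum : ∀ w ∈ C, ¬ p ∣ orderOf w →
        ∑ y : (P : Subgroup G), (ψ : G → ℂ) (w * y) = (ψ : G → ℂ) w + ((p : ℂ) - 1) * (-1) := by
      intro w hw hwr
      have h := sum_sylow_const P hP (fun y => (ψ : G → ℂ) (w * y)) (c := -1) (hψx w hw hwr)
      rwa [mul_one] at h
    refine hψker v ?_
    have h0 : ∑ y : (P : Subgroup G), (ψ : G → ℂ) y = 0 := by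
      have h := hsum 1 (Subgroup.one_mem _) hone
      simp only [one_mul] at h
      rw [h, hψ1, Nat.cast_sub hpp.one_le]
      push_cast
      ring
    have h1 := hsum v hv hvr
    rw [sum_mul_eq_zero_of_sum_eq_zero _ ψ h0 v] at h1
    rw [hψ1, Nat.cast_sub hpp.one_le]
    push_cast
    linear_combination -h1
  have hfac : (Nat.card G).factorization p = 1 :=
    Nat.pow_right_injective hpp.two_le (by
      show p ^ _ = p ^ 1
      rw [← P.card_eq_multiplicity, hP, pow_one])
  have hCP : C = (P : Subgroup G) := by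
    have hPC : (P : Subgroup G) ≤ C := Block.le_centralizer_self hP
    refine (Subgroup.eq_of_le_of_card_ge hPC ?_).symm
    rw [hP]
    obtain ⟨c, hc⟩ : p ∣ Nat.card C := hP ▸ Subgroup.card_dvd_of_le hPC
    by_contra hlt
    have hc1 : c ≠ 1 := fun h => hlt (by rw [hc, h, mul_one])
    obtain ⟨r, hr, hrc⟩ := Nat.exists_prime_and_dvd hc1
    have hrp : r ≠ p := by
      rintro rfl
      have h2 : r ^ 2 ∣ Nat.card G := (pow_two r) ▸
        ((mul_dvd_mul_left r hrc).trans (hc ▸ Subgroup.card_subgroup_dvd_card C))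
      have := (hpp.pow_dvd_iff_le_factorization Nat.card_pos.ne').1 h2
      omega
    haveI := Fact.mk hr
    obtain ⟨⟨v, hvC⟩, hv⟩ :=
      exists_prime_orderOf_dvd_card' (G := C) r (hc ▸ dvd_mul_of_dvd_right hrc p)
    rw [Subgroup.orderOf_mk] at hv
    have := hreg v hvC (by
      rw [hv]; exact fun h => hrp ((Nat.prime_dvd_prime_iff_eq hpp hr).1 h).symm)
    rw [this, orderOf_one] at hv
    exact hr.ne_one hv.symm
  haveI := isSimpleGroup_of_core hperf P hP hCP hO
  haveI : Nontrivial G := IsSimpleGroup.toNontrivial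
  have hnc : ¬ IsCyclic G := fun h => by
    letI := h.commGroup
    have h1 : commutator G = ⊥ := by
      rw [commutator_def, Subgroup.commutator_eq_bot_iff_le_centralizer]
      exact fun a _ => Subgroup.mem_centralizer_iff.2 fun b _ => mul_comm b a
    rw [hperf] at h1
    exact bot_ne_top h1.symm
  have hG : Nat.card G = p * (e * (n * p + 1)) := by
    rw [← C.card_mul_index, hCi]
    nth_rewrite 1 [hCP]
    rw [hP]
  have hbig : ∀ χ : IrrCharacter G, charDegree (χ : G → ℂ) ≠ e * N := by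
    intro χ hd
    have h := Char.sum_sq_degree (G := G)
    simp only [Block.apply_one_eq_charDegree] at h
    have h' : ∑ χ : IrrCharacter G, charDegree (χ : G → ℂ) ^ 2 = Nat.card G := by exact_mod_cast h
    have h2 : charDegree (χ : G → ℂ) ^ 2 ≤ Nat.card G := h' ▸ Finset.single_le_sum
      (f := fun χ : IrrCharacter G => charDegree (χ : G → ℂ) ^ 2)
      (fun _ _ => Nat.zero_le _) (Finset.mem_univ χ)
    rw [hd, hG, ← hNdef, pow_two] at h2
    have h3 := Nat.le_of_mul_le_mul_right h2 (Nat.mul_pos (by omega) (by omega))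
    have := Nat.le_mul_of_pos_left N (show 0 < e by omega)
    omega
  have hbigX : ∀ χ ∈ S.X, charDegree (χ : G → ℂ) ≠ (p - 1) * N := by
    intro χ hχ hd
    have h1 := Nat.le_of_dvd (Nat.mul_pos (by omega) (by omega)) (hd ▸ hXdvd χ hχ)
    have h2 : e * N = (p - 1) * N := le_antisymm (Nat.mul_le_mul_right N hep) h1
    exact hbig χ (hd.trans h2.symm)
  refine iso_of_outcome (cases_of_degrees hnc hP hCP he.symm he2 het hG hn1 hn S
    (fun χ hχZ hne hor => ?_) fun ht2 => ?_)
  · rcases S.mem_Z.1 hχZ with rfl | hχ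
    · obtain rfl : t = 1 := hor.resolve_left S.θ_notMem
      have h := hrowθ hne
      rw [one_mul] at h
      rcases h with ⟨h1, h2⟩ | ⟨h1, h2 | h2⟩
      · exact Or.inl ⟨h1, h2⟩
      · exact Or.inr ⟨h1, h2⟩
      · exact absurd h2 (by rw [ht, mul_one]; exact hbig _)
    · rcases hrowX χ hχ hne with ⟨h1, h2⟩ | ⟨h1, h2 | h2⟩
      · exact Or.inl ⟨h1, h2⟩
      · exact Or.inr ⟨h1, h2⟩
      · exact absurd h2 (hbigX χ hχ)
  · have hθne : S.θ ≠ one' G := S.θ_ne_one (by
      have := Nat.mul_le_mul_left e ht2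
      omega)
    rcases hrowθ hθne with ⟨h1, h2⟩ | ⟨h1, h2 | h2⟩
    · exact Or.inr ⟨h1, h2⟩
    · exact Or.inl ⟨h1, Nat.eq_of_mul_eq_mul_left ht1 (by rw [h2, ht, mul_comm])⟩
    · exact absurd (Nat.eq_of_mul_eq_mul_left ht1 (show t * charDegree (S.θ : G → ℂ) = t * (e * N) by
        rw [h2, ht]; ring)) (hbig _)

set_option maxHeartbeats 1000000 in
omit [Fintype G] in
/-- Brauer's theorem, for a normal subgroup which is the largest of order prime to `p`. -/
theorem sylow_count_aux [Finite G] (hperf : commutator G = ⊤) (P : Sylow p G)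
    (hP : Nat.card (P : Subgroup G) = p) (K : Subgroup G) [K.Normal]
    (hKcop : (Nat.card K).Coprime p)
    (hmax : ∀ M : Subgroup G, M.Normal → (Nat.card M).Coprime p → M ≤ K) :
    (∃ (F : Type) (_ : Field F) (_ : Fintype F), Fintype.card F = p ∧ 3 < p ∧
      Nonempty (G ⧸ K ≃* Matrix.ProjectiveSpecialLinearGroup (Fin 2) F)) ∨
    (∃ (m : ℕ) (F : Type) (_ : Field F) (_ : Fintype F), Fintype.card F = 2 ^ m ∧ p = 2 ^ m + 1 ∧
      3 < p ∧ Nonempty (G ⧸ K ≃* Matrix.SpecialLinearGroup (Fin 2) F)) ∨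
    HasParam p (Nat.card (Sylow p G)) := by
  classical
  haveI := Fintype.ofFinite G
  have hpp : p.Prime := hp.out
  set f := QuotientGroup.mk' K with hf
  have hfs : Function.Surjective f := QuotientGroup.mk'_surjective K
  haveI : Fintype (G ⧸ K) := Fintype.ofFinite _
  have hperf' : commutator (G ⧸ K) = ⊤ := by
    rw [← Subgroup.map_top_of_surjective f hfs, ← hperf, commutator_def, commutator_def,
      Subgroup.map_commutator, Subgroup.map_top_of_surjective f hfs]
  obtain ⟨P', hP'⟩ : ∃ Q : Sylow p (G ⧸ K), (Q : Subgroup (G ⧸ K)) = (P : Subgroup G).map f :=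
    ⟨P.mapSurjective hfs, Sylow.coe_mapSurjective hfs P⟩
  have hmod : ∀ (A : Type u) [Group A] [Finite A], Nat.card (Sylow p A) % p = 1 := fun A _ _ => by
    have h := card_sylow_modEq_one p A
    rwa [Nat.ModEq, Nat.one_mod_eq_one.2 hpp.ne_one] at h
  have hP'c : Nat.card (P' : Subgroup (G ⧸ K)) = p := by
    have h1 : Nat.card (P' : Subgroup (G ⧸ K)) ∣ p := by
      rw [hP']
      exact (Subgroup.card_map_dvd _ f).trans hP.dvd
    refine ((Nat.dvd_prime hpp).1 h1).resolve_left fun h => ?_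
    rw [hP'] at h
    have h2 : (P : Subgroup G) ≤ f.ker := (Subgroup.map_eq_bot_iff _).1 (Subgroup.card_eq_one.1 h)
    rw [hf, QuotientGroup.ker_mk'] at h2
    have h3 := Nat.eq_one_of_dvd_coprimes hKcop (hP.symm.dvd.trans (Subgroup.card_dvd_of_le h2)) dvd_rfl
    exact hpp.ne_one h3
  have hO : ∀ M : Subgroup (G ⧸ K), M.Normal → ¬ p ∣ Nat.card M → M = ⊥ := by
    intro M hM hMp
    have h1 : (M.comap f).Normal := hM.comap f
    have h2 : (Nat.card (M.comap f)).Coprime p := by
      refine Nat.Coprime.symm ((hpp.coprime_iff_not_dvd).2 fun hd => ?_)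
      have h4 := le_of_normal_of_dvd P hP h1 hd
      refine hMp ?_
      rw [← hP'c, hP']
      refine Subgroup.card_dvd_of_le ?_
      rintro _ ⟨y, hy, rfl⟩
      exact h4 hy
    have h5 : M.comap f ≤ K := hmax _ h1 h2
    rw [eq_bot_iff]
    intro y hy
    obtain ⟨g, rfl⟩ := hfs y
    rw [Subgroup.mem_bot]
    exact (QuotientGroup.eq_one_iff g).2 (h5 hy)
  have hdvd : Nat.card (Sylow p (G ⧸ K)) ∣ Nat.card (Sylow p G) := by
    rw [P.card_eq_index_normalizer, P'.card_eq_index_normalizer,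
      ← Subgroup.index_comap_of_surjective _ hfs]
    refine Subgroup.index_dvd_of_le (Subgroup.map_le_iff_le_comap.1 ?_)
    show _ ≤ Subgroup.normalizer ((P' : Subgroup (G ⧸ K)) : Set (G ⧸ K))
    rw [hP']
    exact Subgroup.le_normalizer_map f
  have hgt := one_lt_card_sylow hperf' P' hP'c
  have hle := Nat.le_of_dvd Nat.card_pos hdvd
  rcases lt_or_eq_of_le hle with hlt | heq
  · refine Or.inr (Or.inr (hasParam_of_dvd hpp (hmod G) (hmod (G ⧸ K)) ?_ hlt
      (dvd_mul_of_dvd_right hdvd _)))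
    have := hpp.one_lt
    omega
  by_cases hF : HasParam p (Nat.card (Sylow p G))
  · exact Or.inr (Or.inr hF)
  have hn : Nat.card (Sylow p (G ⧸ K)) = Nat.card (Sylow p (G ⧸ K)) / p * p + 1 := by
    have := Nat.div_add_mod (Nat.card (Sylow p (G ⧸ K))) p
    rw [hmod (G ⧸ K), mul_comm] at this
    exact this.symm
  rcases outcome_of_core hperf' P' hP'c hO hn (by rw [← hn, heq]; exact hF) with
    h | h
  · exact Or.inl h
  · exact Or.inr (Or.inl h)

omit [Fintype G] in
/-- Brauer's theorem. -/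
theorem sylow_count_cases [Finite G] (hperf : commutator G = ⊤) (P : Sylow p G)
    (hP : Nat.card (P : Subgroup G) = p) :
    (∃ (F : Type) (_ : Field F) (_ : Fintype F), Fintype.card F = p ∧ 3 < p ∧
      Nonempty (G ⧸ pPrimeCore p G ≃* Matrix.ProjectiveSpecialLinearGroup (Fin 2) F)) ∨
    (∃ (m : ℕ) (F : Type) (_ : Field F) (_ : Fintype F), Fintype.card F = 2 ^ m ∧ p = 2 ^ m + 1 ∧
      3 < p ∧ Nonempty (G ⧸ pPrimeCore p G ≃* Matrix.SpecialLinearGroup (Fin 2) F)) ∨
    HasParam p (Nat.card (Sylow p G)) :=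
  sylow_count_aux hperf P hP (pPrimeCore p G) (Cfsg.Lib.Core.pPrimeCore_coprime p G)
    fun _ h1 h2 => le_sSup ⟨h1, h2⟩

end Cfsg.Lib.Small
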