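import Mathlib.LinearAlgebra.Matrix.SpecialLinearGroup
import Mathlib.LinearAlgebra.Matrix.ToLin
import Mathlib.Data.ZMod.Basic
import Mathlib.Tactic
import Cfsg.Agent.Lib.Linear.SLBasic

/-!
# The projective plane of order three
-/

set_option autoImplicit false
set_option synthInstance.maxSize 2048

namespace Cfsg.Lib.Small.PlaneThree

open Matrix

/-- Coordinate triples. -/
abbrev V3 := Fin 3 → ZMod 3

/-- Normalised representatives of the thirteen points. -/
def vec : Fin 13 → V3 :=
  ![![0, 0, 1], ![0, 1, 1], ![0, 2, 1], ![1, 0, 1], ![1, 1, 1], ![1, 2, 1], ![2, 0, 1], ![2, 1, 1], ![2, 2, 1],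
    ![1, 0, 0], ![0, 1, 0], ![1, 1, 0], ![1, 2, 0]]

/-- The point of a triple. -/
def code (v : V3) : Fin 13 :=
  match (List.finRange 13).find? (fun p => decide (vec p = v ∨ vec p = -v)) with
  | some p => p
  | none => 0

theorem vec_code : ∀ a b c : ZMod 3, ![a, b, c] ≠ (0 : V3) →
    vec (code ![a, b, c]) = ![a, b, c] ∨ vec (code ![a, b, c]) = -![a, b, c] := by decide +kernel

theorem code_neg : ∀ a b c : ZMod 3, code (-![a, b, c]) = code ![a, b, c] := by decide +kernel

theorem code_vec : ∀ p, code (vec p) = p ∧ vec p ≠ 0 := by decide +kernel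

theorem eq_triple (v : V3) : v = ![v 0, v 1, v 2] := by
  funext i; fin_cases i <;> rfl

theorem vec_code' {v : V3} (h : v ≠ 0) : vec (code v) = v ∨ vec (code v) = -v := by
  rw [eq_triple v] at h ⊢; exact vec_code _ _ _ h

theorem code_neg' (v : V3) : code (-v) = code v := by
  rw [eq_triple v]; exact code_neg _ _ _

/-- Lines, indexed by their dual points. -/
def line (i : Fin 13) : Finset (Fin 13) := Finset.univ.filter fun p => dotProduct (vec i) (vec p) = 0

/-- Special linear matrices over the field with three elements. -/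
abbrev SL33 := SpecialLinearGroup (Fin 3) (ZMod 3)

theorem coe_mul' (g h : SL33) :
    ((g * h : SL33) : Matrix (Fin 3) (Fin 3) (ZMod 3)) = (g : Matrix (Fin 3) (Fin 3) (ZMod 3)) * (h : Matrix _ _ _) :=
  rfl

theorem inv_mul' (g : SL33) :
    ((g⁻¹ : SL33) : Matrix (Fin 3) (Fin 3) (ZMod 3)) * (g : Matrix (Fin 3) (Fin 3) (ZMod 3)) = 1 :=
  congrArg Subtype.val (inv_mul_cancel g)

theorem mulVec_ne (g : SL33) {v : V3} (h : v ≠ 0) : (g : Matrix (Fin 3) (Fin 3) (ZMod 3)) *ᵥ v ≠ 0 := by
  intro hv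
  have := congrArg (fun w => ((g⁻¹ : SL33) : Matrix (Fin 3) (Fin 3) (ZMod 3)) *ᵥ w) hv
  simp only [mulVec_mulVec, mulVec_zero, inv_mul', one_mulVec] at this
  exact h this

/-- The action on points. -/
def act (g : SL33) (p : Fin 13) : Fin 13 := code ((g : Matrix (Fin 3) (Fin 3) (ZMod 3)) *ᵥ vec p)

theorem act_mul (g h : SL33) (p : Fin 13) : act (g * h) p = act g (act h p) := by
  simp only [act, coe_mul', ← mulVec_mulVec]
  rcases vec_code' (mulVec_ne h (code_vec p).2) with e | e
  · rw [e]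
  · rw [e, mulVec_neg, code_neg']

theorem act_one (p : Fin 13) : act 1 p = p := by
  simp [act, (code_vec p).1]

/-- The permutation representation. -/
def toPerm : SL33 →* Equiv.Perm (Fin 13) where
  toFun g := ⟨act g, act g⁻¹, fun p => by rw [← act_mul, inv_mul_cancel, act_one],
    fun p => by rw [← act_mul, mul_inv_cancel, act_one]⟩
  map_one' := Equiv.ext act_one
  map_mul' g h := Equiv.ext (act_mul g h)

theorem toPerm_apply (g : SL33) (p : Fin 13) : toPerm g p = act g p := rfl

/-- Collineations. -/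
def IsColl (σ : Equiv.Perm (Fin 13)) : Prop := ∀ i, ∃ j, (line i).image σ = line j

theorem isColl_toPerm (g : SL33) : IsColl (toPerm g) := by
  intro i
  set d : V3 := vecMul (vec i) ((g⁻¹ : SL33) : Matrix (Fin 3) (Fin 3) (ZMod 3)) with hd
  have hd0 : d ≠ 0 := by
    intro h
    have := congrArg (fun w => vecMul w (g : Matrix (Fin 3) (Fin 3) (ZMod 3))) h
    simp only [hd, vecMul_vecMul, zero_vecMul, inv_mul', vecMul_one] at this
    exact (code_vec i).2 this
  refine ⟨code d, ?_⟩
  have key : ∀ p, (toPerm g p ∈ line (code d) ↔ p ∈ line i) := by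
    intro p
    simp only [line, Finset.mem_filter, Finset.mem_univ, true_and, toPerm_apply, act]
    have h1 : dotProduct d ((g : Matrix (Fin 3) (Fin 3) (ZMod 3)) *ᵥ vec p) = dotProduct (vec i) (vec p) := by
      rw [hd, ← dotProduct_mulVec, mulVec_mulVec, inv_mul', one_mulVec]
    rcases vec_code' hd0 with e | e <;> rcases vec_code' (mulVec_ne g (code_vec p).2) with e' | e' <;>
      rw [e, e'] <;> simp [h1]
  ext q
  simp only [Finset.mem_image]
  constructor
  · rintro ⟨p, hp, rfl⟩; exact (key p).mpr hp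
  · intro hq
    refine ⟨(toPerm g).symm q, (key _).mp (by simpa using hq), by simp⟩

theorem frame_scalar : ∀ a b c : Bool,
    (fun a b c : ZMod 3 => (code ![a, b, c] = code ![1, 1, 1] → a * b * c = 1 → a = 1 ∧ b = 1 ∧ c = 1))
      (if a then 1 else -1) (if b then 1 else -1) (if c then 1 else -1) := by decide +kernel

theorem toPerm_injective : Function.Injective toPerm := by
  refine (injective_iff_map_eq_one toPerm).mpr fun g hg => ?_
  have hp : ∀ p, code ((g : Matrix (Fin 3) (Fin 3) (ZMod 3)) *ᵥ vec p) = p := fun p => by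
    have := congrArg (fun σ : Equiv.Perm (Fin 13) => σ p) hg
    exact this
  have hcol : ∀ p, (g : Matrix (Fin 3) (Fin 3) (ZMod 3)) *ᵥ vec p = vec p ∨
      (g : Matrix (Fin 3) (Fin 3) (ZMod 3)) *ᵥ vec p = -vec p := fun p => by
    rcases vec_code' (mulVec_ne g (code_vec p).2) with e | e <;> rw [hp] at e
    · exact Or.inl e.symm
    · exact Or.inr (neg_eq_iff_eq_neg.mp e.symm)
  have hv : vec 9 = Pi.single 0 1 ∧ vec 10 = Pi.single 1 1 ∧ vec 0 = Pi.single 2 1 := by decide +kernel
  obtain ⟨b0, hb0⟩ : ∃ b : Bool, ∀ i, (g : Matrix (Fin 3) (Fin 3) (ZMod 3)) i 0 = (if b then 1 else -1) * (vec 9 i) := by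
    rcases hcol 9 with h | h
    · exact ⟨true, fun i => by have := congrFun h i; rw [hv.1, mulVec_single_one] at this; simpa [hv.1] using this⟩
    · exact ⟨false, fun i => by have := congrFun h i; rw [hv.1, mulVec_single_one] at this; simpa [hv.1] using this⟩
  obtain ⟨b1, hb1⟩ : ∃ b : Bool, ∀ i, (g : Matrix (Fin 3) (Fin 3) (ZMod 3)) i 1 = (if b then 1 else -1) * (vec 10 i) := by
    rcases hcol 10 with h | h
    · exact ⟨true, fun i => by have := congrFun h i; rw [hv.2.1, mulVec_single_one] at this; simpa [hv.2.1] using this⟩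
    · exact ⟨false, fun i => by have := congrFun h i; rw [hv.2.1, mulVec_single_one] at this; simpa [hv.2.1] using this⟩
  obtain ⟨b2, hb2⟩ : ∃ b : Bool, ∀ i, (g : Matrix (Fin 3) (Fin 3) (ZMod 3)) i 2 = (if b then 1 else -1) * (vec 0 i) := by
    rcases hcol 0 with h | h
    · exact ⟨true, fun i => by have := congrFun h i; rw [hv.2.2, mulVec_single_one] at this; simpa [hv.2.2] using this⟩
    · exact ⟨false, fun i => by have := congrFun h i; rw [hv.2.2, mulVec_single_one] at this; simpa [hv.2.2] using this⟩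
  have hM : (g : Matrix (Fin 3) (Fin 3) (ZMod 3)) =
      diagonal ![if b0 then 1 else -1, if b1 then 1 else -1, if b2 then 1 else -1] := by
    ext i j
    fin_cases j <;> fin_cases i <;> simp [hb0, hb1, hb2, vec, diagonal]
  have h4 := hp 4
  rw [show vec 4 = (fun _ => (1 : ZMod 3)) by decide +kernel, hM] at h4
  have h5 : code ![if b0 then (1 : ZMod 3) else -1, if b1 then 1 else -1, if b2 then 1 else -1] = code ![1, 1, 1] := by
    rw [show code ![(1 : ZMod 3), 1, 1] = 4 by decide +kernel]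
    convert h4 using 2
    funext i; rw [mulVec_diagonal, mul_one]
  have hdet := g.2
  rw [hM, det_diagonal, Fin.prod_univ_three] at hdet
  obtain ⟨e0, e1, e2⟩ := frame_scalar b0 b1 b2 h5 hdet
  refine Subtype.ext ?_
  rw [hM]
  show _ = (1 : Matrix (Fin 3) (Fin 3) (ZMod 3))
  rw [e0, e1, e2]
  decide +kernel

/-- The incidence table, one bit mask for each line. -/
def onL (i p : Fin 13) : Bool :=
  Nat.testBit ([7680, 804, 658, 1472, 4180, 2146, 1080, 2188, 4362, 1031, 585, 4257, 2321].getD (i : ℕ) 0) (p : ℕ)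

theorem mem_line_iff : ∀ i p, p ∈ line i ↔ onL i p = true := by decide +kernel

theorem meet_le_one : ∀ i j, i ≠ j → (Finset.univ.filter fun p => onL i p && onL j p).card ≤ 1 := by
  decide +kernel

/-- A collineation maps the line through two points to the line through their images. -/
theorem line_unique (a b : Fin 13) (hab : a ≠ b) (i j : Fin 13) (h1 : a ∈ line i) (h2 : b ∈ line i)
    (h3 : a ∈ line j) (h4 : b ∈ line j) : i = j := by
  by_contra hne
  exact hab (Finset.card_le_one.mp (meet_le_one i j hne) a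
    (by simp [(mem_line_iff i a).mp h1, (mem_line_iff j a).mp h3]) b
    (by simp [(mem_line_iff i b).mp h2, (mem_line_iff j b).mp h4]))

theorem inj_frame : ∀ i, (line i).card = 4 := by decide +kernel

/-- The steps generating all points from a quadrangle. -/
def steps : List (Fin 13 × Fin 13 × Fin 13 × Fin 13 × Fin 13) :=
  [(9, 0, 3, 1, 4), (10, 0, 1, 3, 4), (8, 0, 4, 3, 1), (11, 0, 4, 9, 10), (12, 3, 1, 9, 10), (6, 0, 3, 8, 10),
    (2, 0, 1, 8, 9), (5, 3, 4, 8, 9), (7, 1, 4, 8, 10)]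

/-- The line through two points. -/
def join (a b : Fin 13) : Fin 13 := ((List.finRange 13).find? fun i => onL i a && onL i b).getD 0

theorem steps_check : (steps.all fun x =>
    decide (join x.2.1 x.2.2.1 ≠ join x.2.2.2.1 x.2.2.2.2) && onL (join x.2.1 x.2.2.1) x.1 &&
      onL (join x.2.2.2.1 x.2.2.2.2) x.1 && decide (x.2.1 ≠ x.2.2.1) && onL (join x.2.1 x.2.2.1) x.2.1 &&
      onL (join x.2.1 x.2.2.1) x.2.2.1 && decide (x.2.2.2.1 ≠ x.2.2.2.2) &&
      onL (join x.2.2.2.1 x.2.2.2.2) x.2.2.2.1 && onL (join x.2.2.2.1 x.2.2.2.2) x.2.2.2.2) = true := by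
  decide +kernel

theorem steps_ok : ∀ x ∈ steps, ∃ i j : Fin 13, i ≠ j ∧ x.1 ∈ line i ∧ x.1 ∈ line j ∧
    x.2.1 ≠ x.2.2.1 ∧ x.2.1 ∈ line i ∧ x.2.2.1 ∈ line i ∧
    x.2.2.2.1 ≠ x.2.2.2.2 ∧ x.2.2.2.1 ∈ line j ∧ x.2.2.2.2 ∈ line j := by
  intro x hx
  refine ⟨join x.2.1 x.2.2.1, join x.2.2.2.1 x.2.2.2.2, ?_⟩
  simp only [mem_line_iff]
  have h := List.all_eq_true.mp steps_check x hx
  simpa [Bool.and_eq_true, and_assoc] using h

theorem fixed_of_meet {σ : Equiv.Perm (Fin 13)} (hσ : IsColl σ) {x : Fin 13 × Fin 13 × Fin 13 × Fin 13 × Fin 13}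
    (hx : x ∈ steps) (ha : σ x.2.1 = x.2.1) (hb : σ x.2.2.1 = x.2.2.1) (hc : σ x.2.2.2.1 = x.2.2.2.1)
    (hd : σ x.2.2.2.2 = x.2.2.2.2) : σ x.1 = x.1 := by
  obtain ⟨i, j, hij, hpi, hpj, hab, hai, hbi, hcd, hcj, hdj⟩ := steps_ok x hx
  have key : ∀ {a b k : Fin 13}, a ≠ b → a ∈ line k → b ∈ line k → σ a = a → σ b = b →
      ∀ p ∈ line k, σ p ∈ line k := by
    intro a b k hne hak hbk hfa hfb p hp
    obtain ⟨k', hk'⟩ := hσ k
    have h1 : ∀ q ∈ line k, σ q ∈ line k' := fun q hq => hk' ▸ Finset.mem_image_of_mem σ hq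
    rw [line_unique a b hne k k' hak hbk (hfa ▸ h1 a hak) (hfb ▸ h1 b hbk)]
    exact h1 p hp
  by_contra hne
  exact hij (line_unique _ _ hne i j (key hab hai hbi ha hb _ hpi) hpi (key hcd hcj hdj hc hd _ hpj) hpj)

theorem eq_one_of_fix_frame {σ : Equiv.Perm (Fin 13)} (hσ : IsColl σ) (h0 : σ 0 = 0) (h1 : σ 1 = 1)
    (h3 : σ 3 = 3) (h4 : σ 4 = 4) : σ = 1 := by
  have m := fun x hx ha hb hc hd => fixed_of_meet hσ (x := x) hx ha hb hc hd
  have h9 := m (9, 0, 3, 1, 4) (by decide) h0 h3 h1 h4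
  have h10 := m (10, 0, 1, 3, 4) (by decide) h0 h1 h3 h4
  have h8 := m (8, 0, 4, 3, 1) (by decide) h0 h4 h3 h1
  have h11 := m (11, 0, 4, 9, 10) (by decide) h0 h4 h9 h10
  have h12 := m (12, 3, 1, 9, 10) (by decide) h3 h1 h9 h10
  have h6 := m (6, 0, 3, 8, 10) (by decide) h0 h3 h8 h10
  have h2 := m (2, 0, 1, 8, 9) (by decide) h0 h1 h8 h9
  have h5 := m (5, 3, 4, 8, 9) (by decide) h3 h4 h8 h9
  have h7 := m (7, 1, 4, 8, 10) (by decide) h1 h4 h8 h10
  refine Equiv.ext fun p => ?_
  fin_cases p <;> assumption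

/-- Collinearity. -/
def coll3 (a b c : Fin 13) : Bool := (List.finRange 13).any fun i => onL i a && onL i b && onL i c

theorem coll3_iff (a b c : Fin 13) : coll3 a b c = true ↔ ∃ i, a ∈ line i ∧ b ∈ line i ∧ c ∈ line i := by
  simp [coll3, mem_line_iff, and_assoc]

/-- Ordered quadrangles. -/
def quadList : List (Fin 13 × Fin 13 × Fin 13 × Fin 13) :=
  (List.finRange 13).flatMap fun a => ((List.finRange 13).filter fun b => decide (a ≠ b)).flatMap fun b =>
    ((List.finRange 13).filter fun c => !coll3 a b c).flatMap fun c =>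
      ((List.finRange 13).filter fun d => !coll3 a b d && !coll3 a c d && !coll3 b c d).map fun d => (a, b, c, d)

/-- Ordered quadrangles as a finset. -/
def quads : Finset (Fin 13 × Fin 13 × Fin 13 × Fin 13) := quadList.toFinset

theorem card_quads_le : quads.card ≤ 5616 :=
  (List.toFinset_card_le _).trans (show quadList.length ≤ 5616 by decide +kernel)

theorem mem_quads (a b c d : Fin 13) : (a, b, c, d) ∈ quads ↔
    a ≠ b ∧ coll3 a b c = false ∧ coll3 a b d = false ∧ coll3 a c d = false ∧ coll3 b c d = false := by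
  simp [quads, quadList, and_assoc]

theorem base_quad : ((0, 1, 3, 4) : Fin 13 × Fin 13 × Fin 13 × Fin 13) ∈ quads := by
  rw [mem_quads]; decide +kernel

theorem map_quad {σ : Equiv.Perm (Fin 13)} (hσ : IsColl σ) {q : Fin 13 × Fin 13 × Fin 13 × Fin 13}
    (hq : q ∈ quads) : (σ q.1, σ q.2.1, σ q.2.2.1, σ q.2.2.2) ∈ quads := by
  have hsurj : ∀ i, ∃ j, (line j).image σ = line i := by
    intro i
    have hinj : Function.Injective fun j => Classical.choose (hσ j) := by
      intro a b hab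
      have ha := Classical.choose_spec (hσ a)
      have hb := Classical.choose_spec (hσ b)
      simp only at hab
      rw [hab] at ha
      have h := Finset.image_injective σ.injective (ha.trans hb.symm)
      obtain ⟨x, hx, y, hy, hxy⟩ := Finset.one_lt_card.mp (show 1 < (line a).card by rw [inj_frame]; norm_num)
      exact line_unique x y hxy a b hx hy (h ▸ hx) (h ▸ hy)
    obtain ⟨j, hj⟩ := (Finite.injective_iff_surjective.mp hinj) i
    exact ⟨j, hj ▸ Classical.choose_spec (hσ j)⟩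
  obtain ⟨a, b, c, d⟩ := q
  have hiff : ∀ x y z, coll3 (σ x) (σ y) (σ z) = true ↔ coll3 x y z = true := by
    intro x y z
    simp only [coll3_iff]
    have hmem : ∀ {i j : Fin 13}, (line j).image σ = line i → ∀ p, σ p ∈ line i ↔ p ∈ line j := fun hj p => by
      rw [← hj, Finset.mem_image]
      exact ⟨fun ⟨a, ha, hap⟩ => σ.injective hap ▸ ha, fun h => ⟨p, h, rfl⟩⟩
    constructor
    · rintro ⟨i, hi⟩
      obtain ⟨j, hj⟩ := hsurj i
      exact ⟨j, by simpa only [hmem hj] using hi⟩
    · rintro ⟨j, hj'⟩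
      obtain ⟨i, hj⟩ := hσ j
      exact ⟨i, by simpa only [hmem hj] using hj'⟩
  have hf : ∀ x y z, coll3 x y z = false → coll3 (σ x) (σ y) (σ z) = false := fun x y z h => by
    rw [← Bool.not_eq_true] at h ⊢
    rwa [hiff]
  rw [mem_quads] at hq ⊢
  exact ⟨σ.injective.ne hq.1, hf _ _ _ hq.2.1, hf _ _ _ hq.2.2.1, hf _ _ _ hq.2.2.2.1, hf _ _ _ hq.2.2.2.2⟩

/-- The collineation group. -/
def Coll : Subgroup (Equiv.Perm (Fin 13)) where
  carrier := {σ | IsColl σ}
  one_mem' := fun i => ⟨i, by simp⟩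
  mul_mem' := fun {σ τ} hσ hτ i => by
    obtain ⟨j, hj⟩ := hτ i
    obtain ⟨k, hk⟩ := hσ j
    exact ⟨k, by rw [← hk, ← hj, Finset.image_image]; rfl⟩
  inv_mem' := fun {σ} hσ => by
    have hpow : ∀ n : ℕ, IsColl (σ ^ n) := by
      intro n
      induction n with
      | zero => exact fun i => ⟨i, by simp⟩
      | succ n ih =>
        intro i
        obtain ⟨j, hj⟩ := hσ i
        obtain ⟨k, hk⟩ := ih j
        exact ⟨k, by rw [← hk, ← hj, Finset.image_image, pow_succ]; rfl⟩
    have h1 : σ⁻¹ = σ ^ (orderOf σ - 1) := by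
      refine inv_eq_of_mul_eq_one_right ?_
      rw [← pow_succ', Nat.sub_add_cancel (orderOf_pos σ), pow_orderOf_eq_one]
    exact h1 ▸ hpow _

theorem card_Coll_le : Nat.card Coll ≤ 5616 := by
  refine le_trans ?_ card_quads_le
  rw [← Nat.card_eq_finsetCard]
  refine Nat.card_le_card_of_injective
    (fun σ : Coll => (⟨_, map_quad σ.2 base_quad⟩ : quads)) fun σ τ h => ?_
  have h' := congrArg Subtype.val h
  simp only [Prod.mk.injEq] at h'
  obtain ⟨a0, a1, a3, a4⟩ := h'
  have hmem : IsColl (((τ⁻¹ * σ : Coll) : Equiv.Perm (Fin 13))) := (τ⁻¹ * σ).2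
  have he := eq_one_of_fix_frame hmem (by simp [a0]) (by simp [a1]) (by simp [a3]) (by simp [a4])
  have he' : τ⁻¹ * σ = 1 := Subtype.ext he
  exact (inv_mul_eq_one.mp he').symm

theorem card_SL33 : Nat.card SL33 = 5616 := by
  haveI : Fact (Nat.Prime 3) := ⟨Nat.prime_three⟩
  have h := Cfsg.Lib.Linear.card_SL_mul (F := ZMod 3) 3 (by norm_num)
  rw [ZMod.card, Fin.prod_univ_three] at h
  norm_num at h
  show Nat.card (SpecialLinearGroup (Fin 3) (ZMod 3)) = 5616
  rw [Nat.card_eq_fintype_card]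
  omega

/-- The special linear group is the full collineation group. -/
theorem nonempty_equiv_coll : Nonempty (SL33 ≃* Coll) := by
  let f : SL33 →* Coll := toPerm.codRestrict Coll isColl_toPerm
  have hf : Function.Injective f := fun a b h => toPerm_injective (congrArg Subtype.val h)
  refine ⟨MulEquiv.ofBijective f ((Nat.bijective_iff_injective_and_card f).mpr ⟨hf, ?_⟩)⟩
  exact le_antisymm (Nat.card_le_card_of_injective f hf) (card_Coll_le.trans card_SL33.ge)

/-- A group of that order acting faithfully by collineations is the special linear group. -/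
theorem nonempty_equiv_of_hom {G : Type*} [Group G] [Finite G] (f : G →* Equiv.Perm (Fin 13))
    (hf : Function.Injective f) (hc : ∀ g, IsColl (f g)) (hN : Nat.card G = 5616) : Nonempty (G ≃* SL33) := by
  let f' : G →* Coll := f.codRestrict Coll hc
  have hf' : Function.Injective f' := fun a b h => hf (congrArg Subtype.val h)
  have e : Nonempty (G ≃* Coll) := ⟨MulEquiv.ofBijective f' ((Nat.bijective_iff_injective_and_card f').mpr
    ⟨hf', le_antisymm (Nat.card_le_card_of_injective f' hf') (by rw [hN]; exact card_Coll_le)⟩)⟩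
  obtain ⟨e⟩ := e
  obtain ⟨e'⟩ := nonempty_equiv_coll
  exact ⟨e.trans e'.symm⟩

theorem center_eq_bot : Subgroup.center SL33 = ⊥ := by
  haveI : Fact (Nat.Prime 3) := ⟨Nat.prime_three⟩
  refine Subgroup.eq_bot_of_card_eq _ ?_
  rw [Cfsg.Lib.Linear.card_center_SL, ZMod.card, Fintype.card_fin]
  rfl

end Cfsg.Lib.Small.PlaneThree
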