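import Cfsg.Agent.Lib.Small.Order2520Local
import Cfsg.Agent.S3335
import Mathlib.GroupTheory.SpecificGroups.Alternating.Simple

/-!
# The simple group of order 2520 is the alternating group of degree seven

Every involution `u` centralizes a unique subgroup of order three, and each of these subgroups is
centralized by exactly three commuting involutions. Two commuting such subgroups `⟨x⟩`, `⟨y⟩`
inverted by an involution `t` give generators `x, b, a t, y t, t` satisfying Moore's presentation.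
-/

set_option autoImplicit false
set_option linter.unusedSectionVars false
set_option linter.style.haveILetI false
set_option maxHeartbeats 400000

namespace Cfsg.Lib.Small.Order2520

open Subgroup Cfsg Cfsg.Lib Cfsg.Lib.Small

universe u

variable {G : Type u} [Group G] [Finite G]

theorem conj_mem_conj {g v w : G} (h : Commute v w) : Commute (g * v * g⁻¹) (g * w * g⁻¹) := by
  show _ = _
  rw [conj_mul, conj_mul, h.eq]

theorem orderOf_conj' (g v : G) : orderOf (g * v * g⁻¹) = orderOf v := (MulAut.conj g).orderOf_eq v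

theorem mul_self_of_orderOf_two {u : G} (hu : orderOf u = 2) : u * u = 1 := by
  rw [← pow_two, ← hu, pow_orderOf_eq_one]

theorem inv_of_orderOf_two {u : G} (hu : orderOf u = 2) : u⁻¹ = u :=
  inv_eq_of_mul_eq_one_right (mul_self_of_orderOf_two hu)

theorem ne_one_of_orderOf {u : G} {n : ℕ} (hu : orderOf u = n) (hn : n ≠ 1) : u ≠ 1 :=
  fun e => hn (by rw [← hu, e, orderOf_one])

/-- The fibre: involutions centralizing `x`. -/
def fib (x : G) : Set G := {u | orderOf u = 2 ∧ Commute x u}

theorem zpowers_eq_of_three {x g : G} (hx : orderOf x = 3) (hg : g ∈ zpowers x) (hg1 : g ≠ 1) :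
    zpowers g = zpowers x := by
  haveI : Fact (Nat.Prime 3) := ⟨Nat.prime_three⟩
  exact zpowers_eq_of_prime_card (p := 3) (by rw [Nat.card_zpowers, hx]) hg hg1

theorem mem_three {x g : G} (hx : orderOf x = 3) (hg : g ∈ zpowers x) : g = 1 ∨ g = x ∨ g = x⁻¹ := by
  obtain ⟨k, rfl⟩ := hg
  have e : x ^ k = x ^ (k % 3) := by
    rw [show (3 : ℤ) = ((orderOf x : ℕ) : ℤ) by rw [hx]; rfl, zpow_mod_orderOf]
  show x ^ k = 1 ∨ x ^ k = x ∨ x ^ k = x⁻¹
  rw [e]
  rcases (show k % 3 = 0 ∨ k % 3 = 1 ∨ k % 3 = 2 by omega) with h | h | h <;> rw [h]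
  · left; exact zpow_zero x
  · right; left; exact zpow_one x
  · right; right
    refine eq_inv_of_mul_eq_one_left ?_
    rw [← zpow_add_one, show ((2 : ℤ) + 1) = ((orderOf x : ℕ) : ℤ) by rw [hx]; rfl, zpow_natCast,
      pow_orderOf_eq_one]

theorem mem_normalizer_zpowers {x g : G} (hx : orderOf x = 3) (hg : g * x * g⁻¹ ∈ zpowers x) :
    g ∈ normalizer ((zpowers x : Subgroup G) : Set G) := by
  have hne : g * x * g⁻¹ ≠ 1 := fun e => ne_one_of_orderOf hx (by norm_num) (conj_eq_one_iff.1 e)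
  have hmap : (zpowers x).map (MulAut.conj g).toMonoidHom = zpowers x := by
    rw [MonoidHom.map_zpowers]
    exact zpowers_eq_of_three hx hg hne
  refine mem_normalizer_iff.2 fun v => ⟨fun hv => ?_, fun hv => ?_⟩
  · rw [← hmap]; exact ⟨v, hv, rfl⟩
  · rw [← hmap] at hv
    obtain ⟨w, hw, e⟩ := hv
    have e' : g * w * g⁻¹ = g * v * g⁻¹ := e
    rwa [← mul_left_cancel (mul_right_cancel e')]

variable [IsSimpleGroup G]

/-- The subgroup of order three centralized by a given involution. -/
def Zof (u z : G) : Prop :=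
  orderOf z = 3 ∧ Commute z u ∧ ∀ w : G, w ^ 3 = 1 → Commute w u → w ∈ zpowers z

theorem Zof.zpowers_eq {u z z' : G} (h : Zof u z) (h3 : orderOf z' = 3) (hc : Commute z' u) :
    zpowers z' = zpowers z :=
  zpowers_eq_of_three h.1 (h.2.2 z' (by rw [← h3, pow_orderOf_eq_one]) hc)
    (ne_one_of_orderOf h3 (by norm_num))

theorem Zof.of_commute {u z z' : G} (h : Zof u z) (h3 : orderOf z' = 3) (hc : Commute z' u) : Zof u z' :=
  ⟨h3, hc, fun w hw hw' => (h.zpowers_eq h3 hc) ▸ h.2.2 w hw hw'⟩

theorem dihedral_four_order_four : ∀ d : DihedralGroup 4, d * d ≠ 1 →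
    d = DihedralGroup.r 1 ∨ d = DihedralGroup.r 3 := by decide

theorem dihedral_four_central : ∀ d : DihedralGroup 4, d * DihedralGroup.r 1 = DihedralGroup.r 1 * d →
    d * DihedralGroup.sr 0 = DihedralGroup.sr 0 * d → d = 1 ∨ d = DihedralGroup.r 2 := by decide

theorem exists_Zof_base {r a : G} (hr : orderOf r = 4) (ha : orderOf a = 2) (hinv : a * r * a⁻¹ = r⁻¹)
    (hC : Nat.card (centralizer ({r * r} : Set G)) = 24) : ∃ z, Zof (r * r) z := by
  classical
  haveI : Fact (Nat.Prime 3) := ⟨Nat.prime_three⟩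
  haveI : Fact (Nat.Prime 2) := ⟨Nat.prime_two⟩
  set t := r * r with ht
  set C := centralizer ({t} : Set G) with hCdef
  have ha2 := mul_self_of_orderOf_two ha
  have har : a ∉ zpowers r := fun hm => by
    rcases eq_of_sq_eq_one_of_mem_zpowers hr hm ha2 with e | e
    · exact ne_one_of_orderOf ha (by norm_num) e
    · have h1 : a * r * a⁻¹ = r := by rw [e]; group
      have h2 : r * r = 1 := by nth_rewrite 1 [← h1]; rw [hinv, inv_mul_cancel]
      have := orderOf_dvd_of_pow_eq_one (show r ^ 2 = 1 by rw [pow_two, h2])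
      rw [hr] at this
      norm_num at this
  have hrt : Commute r t := (Commute.refl r).mul_right (Commute.refl r)
  have hr' : r⁻¹ * r⁻¹ = t := by
    have : r ^ 4 = 1 := by rw [← hr, pow_orderOf_eq_one]
    rw [← mul_inv_rev]
    refine inv_eq_of_mul_eq_one_left ?_
    rw [← this]; simp [ht, pow_succ, mul_assoc]
  have hat : Commute a t := by
    refine mul_inv_eq_iff_eq_mul.1 ?_
    rw [ht, ← conj_mul, hinv, hr']
  set φ := Cfsg.Lib.Invol.dihedralHom (orderOf r) (pow_orderOf_eq_one r) ha2 hinv with hφ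
  have hinj : Function.Injective φ := Cfsg.Lib.Invol.dihedralHom_injective ha2 hinv har
  have hmem : ∀ d, φ d ∈ C := by
    rintro (i | i) <;> rw [hCdef, mem_centralizer_singleton_iff]
    · rw [hφ, Cfsg.Lib.Invol.dihedralHom_r]; exact (hrt.zpow_left _).eq
    · rw [hφ, Cfsg.Lib.Invol.dihedralHom_sr]; exact (hat.mul_left (hrt.zpow_left _)).eq
  obtain ⟨ψ, hψinj, hψr, hψa⟩ : ∃ ψ : DihedralGroup 4 →* C, Function.Injective ψ ∧
      ((ψ (DihedralGroup.r 1) : G) = r) ∧ ((ψ (DihedralGroup.sr 0) : G) = a) := by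
    have key : ∀ (n : ℕ) (hn : n = orderOf r) (f : DihedralGroup n →* C), Function.Injective f →
        ((f (DihedralGroup.r 1) : G) = r) → ((f (DihedralGroup.sr 0) : G) = a) → n = 4 →
        ∃ ψ : DihedralGroup 4 →* C, Function.Injective ψ ∧
          ((ψ (DihedralGroup.r 1) : G) = r) ∧ ((ψ (DihedralGroup.sr 0) : G) = a) := by
      intro n _ f h1 h2 h3 h4
      subst h4
      exact ⟨f, h1, h2, h3⟩
    refine key _ rfl (φ.codRestrict C hmem) (fun d d' e => hinj (congrArg Subtype.val e)) ?_ ?_ hr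
    · show φ _ = r
      rw [hφ, Cfsg.Lib.Invol.dihedralHom_r]
      calc r ^ (((1 : ZMod (orderOf r))).cast : ℤ) = r ^ (1 : ℤ) := by
            rw [zpow_eq_zpow_iff_modEq, ← ZMod.intCast_eq_intCast_iff]; simp
        _ = r := zpow_one r
    · show φ _ = a
      rw [hφ, Cfsg.Lib.Invol.dihedralHom_sr, ZMod.cast_zero, zpow_zero, mul_one]
  set S' : Subgroup C := ψ.range with hS'
  have hψt : (ψ (DihedralGroup.r 2) : G) = t := by
    rw [show (DihedralGroup.r 2 : DihedralGroup 4) = DihedralGroup.r 1 * DihedralGroup.r 1 by decide,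
      map_mul, Subgroup.coe_mul, hψr]
  have hS'8 : Nat.card S' = 8 := by
    rw [hS', ← Nat.card_congr (MonoidHom.ofInjective hψinj).toEquiv, DihedralGroup.nat_card]
  set tC : C := ψ (DihedralGroup.r 2) with htC
  have htc : ∀ c : C, c * tC = tC * c := fun c => Subtype.ext (by
    rw [Subgroup.coe_mul, Subgroup.coe_mul, hψt]
    exact mem_centralizer_singleton_iff.1 c.2)
  have htC1 : tC ≠ 1 := fun e => by
    have := hψinj (e.trans (map_one ψ).symm)
    exact absurd this (by decide)
  have hrC2 : ψ (DihedralGroup.r 1) * ψ (DihedralGroup.r 1) = tC := by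
    rw [htC, ← map_mul]; rfl
  have hidx : S'.index = 3 := by
    have := card_mul_index S'
    rw [hS'8, hC] at this
    omega
  -- a normal subgroup of order four
  obtain ⟨K, hKn, hK4, htK, hKS⟩ : ∃ K : Subgroup C, K.Normal ∧ Nat.card K = 4 ∧ tC ∈ K ∧ K ≤ S' := by
    have h6 : S'.normalCore.index ∣ 6 := by
      rw [normalCore_eq_ker, index_ker]
      have h := Subgroup.card_subgroup_dvd_card (MulAction.toPermHom C (C ⧸ S')).range
      rw [Nat.card_perm, ← index, hidx] at h
      exact h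
    have h1 := card_mul_index S'.normalCore
    have h2 : Nat.card S'.normalCore ∣ 8 := hS'8 ▸ card_dvd_of_le S'.normalCore_le
    rw [hC] at h1
    have htcore : tC ∈ S'.normalCore := fun c => by
      rw [htc c, mul_inv_cancel_right]; exact ⟨_, rfl⟩
    have hle := Nat.le_of_dvd (by norm_num) h6
    have hcases : Nat.card S'.normalCore = 4 ∨ Nat.card S'.normalCore = 8 := by
      have := Nat.le_of_dvd (by norm_num) h2
      obtain ⟨k, hk, hk2⟩ := (Nat.dvd_prime_pow Nat.prime_two).1 (show Nat.card S'.normalCore ∣ 2 ^ 3 from h2)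
      interval_cases k <;> simp only [hk2] at h1 ⊢
      · omega
      · omega
      · left; rfl
      · right; rfl
    rcases hcases with hc | hc
    · exact ⟨_, inferInstance, hc, htcore, normalCore_le S'⟩
    · have hS'n : S'.Normal := by
        have : S'.normalCore = S' :=
          eq_of_le_of_card_ge (normalCore_le S') (by rw [hc, hS'8])
        rw [← this]; infer_instance
      refine ⟨(zpowers (DihedralGroup.r 1 : DihedralGroup 4)).map ψ, ⟨?_⟩, ?_, ?_, ?_⟩
      · intro k hk c
        rw [MonoidHom.map_zpowers] at hk ⊢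
        obtain ⟨i, rfl⟩ := hk
        show c * (ψ (DihedralGroup.r 1)) ^ i * c⁻¹ ∈ _
        rw [← conj_zpow]
        refine zpow_mem ?_ i
        obtain ⟨d, hd⟩ := hS'n.conj_mem (ψ (DihedralGroup.r 1)) ⟨_, rfl⟩ c
        rw [← hd]
        rcases dihedral_four_order_four d (fun e => by
          have h3 : ψ d * ψ d = 1 := by rw [← map_mul, e, map_one]
          rw [hd, conj_mul, hrC2, htc c, mul_inv_cancel_right] at h3
          exact htC1 h3) with e | e <;> rw [e]
        · exact mem_zpowers _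
        · exact ⟨3, by
            show ψ (DihedralGroup.r 1) ^ (3 : ℤ) = _
            rw [← map_zpow]; rfl⟩
      · rw [card_map_of_injective hψinj, Nat.card_zpowers, DihedralGroup.orderOf_r_one]
      · exact ⟨_, ⟨2, rfl⟩, rfl⟩
      · exact map_le_range ψ _
  -- elements of order dividing three centralize it
  have hcent : ∀ w : C, w ^ 3 = 1 → ∀ k ∈ K, w * k * w⁻¹ = k := by
    intro w hw k hk
    by_cases hk' : k ∈ ({1, tC} : Set C)
    · rcases hk' with rfl | rfl
      · group
      · rw [htc w, mul_inv_cancel_right]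
    set D : Set C := (K : Set C) \ {1, tC} with hD
    have hsub : ({1, tC} : Set C) ⊆ (K : Set C) := by
      rintro v (rfl | rfl); exacts [one_mem _, htK]
    have hD2 : D.ncard = 2 := by
      rw [hD, Set.ncard_diff hsub, Set.ncard_pair htC1.symm, ← Nat.card_coe_set_eq]
      show Nat.card K - 2 = 2
      rw [hK4]
    obtain ⟨p, q, hpq, hDpq⟩ := Set.ncard_eq_two.1 hD2
    have hmap : ∀ v ∈ D, w * v * w⁻¹ ∈ D := by
      intro v hv
      refine ⟨hKn.conj_mem v hv.1 w, ?_⟩
      rintro (e | e)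
      · exact hv.2 (Or.inl (conj_eq_one_iff.1 e))
      · refine hv.2 (Or.inr ?_)
        change v = tC
        calc v = w⁻¹ * (w * v * w⁻¹) * w := by group
          _ = w⁻¹ * tC * w := by rw [show w * v * w⁻¹ = tC from e]
          _ = tC := by rw [mul_assoc, ← htc w, inv_mul_cancel_left]
    have hkD : k ∈ D := ⟨hk, hk'⟩
    have hcycle : ∀ v v' : C, v ≠ v' → D = {v, v'} → w * v * w⁻¹ = v := by
      intro v v' hne hDv
      have h1 := hmap v (by rw [hDv]; exact Or.inl rfl)
      rw [hDv] at h1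
      rcases h1 with h1 | h1
      · exact h1
      exfalso
      have h1 : w * v * w⁻¹ = v' := h1
      have h2 := hmap v' (by rw [hDv]; exact Or.inr rfl)
      rw [hDv] at h2
      rcases h2 with h2 | h2
      · have h2 : w * v' * w⁻¹ = v := h2
        refine hne ?_
        calc v = w ^ 3 * v * (w ^ 3)⁻¹ := by rw [hw]; group
          _ = w * (w * (w * v * w⁻¹) * w⁻¹) * w⁻¹ := by simp [pow_succ, mul_assoc]
          _ = v' := by rw [h1, h2, h1]
      · have h2 : w * v' * w⁻¹ = v' := h2
        exact hne (mul_left_cancel (mul_right_cancel (h1.trans h2.symm)))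
    rw [hDpq] at hkD
    rcases hkD with rfl | rfl
    · exact hcycle _ _ hpq hDpq
    · exact hcycle _ _ hpq.symm (by rw [hDpq, Set.pair_comm])
  set H := centralizer ((K : Subgroup C) : Set C) with hH
  have hKH : K ≤ H := by
    haveI : IsMulCommutative K := IsPGroup.isMulCommutative_of_card_eq_prime_sq (p := 2) (by rw [hK4]; norm_num)
    exact le_centralizer K
  have hwH : ∀ w : C, w ^ 3 = 1 → w ∈ H := fun w hw => mem_centralizer_iff.2 fun k hk =>
    (mul_inv_eq_iff_eq_mul.1 (hcent w hw k hk)).symm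
  have hHne : H ≠ ⊤ := by
    intro e
    have hle : (K : Set C) ⊆ {1, tC} := by
      intro k hk
      obtain ⟨d, rfl⟩ := hKS hk
      have hc : ∀ d' : DihedralGroup 4, d * d' = d' * d := fun d' => hψinj (by
        rw [map_mul, map_mul]
        exact mem_centralizer_iff.1 (e ▸ mem_top (ψ d') : ψ d' ∈ H) _ hk)
      rcases dihedral_four_central d (hc _) (hc _) with rfl | rfl
      · exact Or.inl (map_one ψ)
      · exact Or.inr rfl
    have := Set.ncard_le_ncard hle (Set.toFinite _)
    rw [Set.ncard_pair htC1.symm, ← Nat.card_coe_set_eq] at this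
    change Nat.card K ≤ 2 at this
    omega
  obtain ⟨z, hz⟩ := exists_prime_orderOf_dvd_card' (G := C) 3 (by rw [hC]; norm_num)
  have hz3 : z ^ 3 = 1 := by rw [← hz, pow_orderOf_eq_one]
  have hH12 : Nat.card H = 12 := by
    have h1 : 4 ∣ Nat.card H := hK4 ▸ card_dvd_of_le hKH
    have h2 : 3 ∣ Nat.card H := hz ▸ orderOf_dvd_natCard H (hwH z hz3)
    have h12 : 12 ∣ Nat.card H := Nat.Coprime.mul_dvd_of_dvd_of_dvd (by norm_num) h1 h2
    have h24 : Nat.card H ∣ 24 := hC ▸ Subgroup.card_subgroup_dvd_card H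
    have := Nat.le_of_dvd (by norm_num) h24
    obtain ⟨i, hi⟩ := h12
    have hne : Nat.card H ≠ 24 := fun e => hHne (eq_top_of_card_eq _ (by rw [e, hC]))
    have : 0 < Nat.card H := Nat.card_pos
    omega
  have hsurj : ∀ w ∈ H, ∃ k ∈ K, ∃ i : ℤ, w = k * z ^ i := by
    have hinj : Function.Injective (fun p : K × zpowers z =>
        (⟨(p.1 : C) * p.2, mul_mem (hKH p.1.2) (zpowers_le.2 (hwH z hz3) p.2.2)⟩ : H)) := by
      rintro ⟨k, q⟩ ⟨k', q'⟩ e
      have e : (k : C) * q = k' * q' := congrArg Subtype.val e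
      have h1 : (k' : C)⁻¹ * k = q' * (q : C)⁻¹ := by
        rw [eq_mul_inv_iff_mul_eq, mul_assoc, e, inv_mul_cancel_left]
      have h4 : (k' : C)⁻¹ * k = 1 := by
        have ha4 := Subgroup.orderOf_dvd_natCard K (mul_mem (inv_mem k'.2) k.2)
        have hb3 := Subgroup.orderOf_dvd_natCard (zpowers z) (mul_mem q'.2 (inv_mem q.2))
        rw [hK4] at ha4
        rw [Nat.card_zpowers, hz, ← h1] at hb3
        have := Nat.dvd_gcd ha4 hb3
        norm_num at this
        exact this
      have hk : k = k' := Subtype.ext (inv_mul_eq_one.1 h4).symm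
      subst hk
      exact Prod.ext rfl (Subtype.ext (mul_left_cancel e))
    have hbij := (Nat.bijective_iff_injective_and_card _).2 ⟨hinj, by
      rw [Nat.card_prod, hK4, Nat.card_zpowers, hz, hH12]⟩
    intro w hw
    obtain ⟨⟨k, q⟩, e⟩ := hbij.2 ⟨w, hw⟩
    obtain ⟨i, hi⟩ := q.2
    exact ⟨k, k.2, i, by rw [show z ^ i = (q : C) from hi]; exact (congrArg Subtype.val e).symm⟩
  refine ⟨(z : G), by rw [Subgroup.orderOf_coe, hz], mem_centralizer_singleton_iff.1 z.2, fun w hw hwt => ?_⟩
  have hwC : w ∈ C := mem_centralizer_singleton_iff.2 hwt.eq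
  have hw3 : (⟨w, hwC⟩ : C) ^ 3 = 1 := Subtype.ext hw
  obtain ⟨k, hk, i, e⟩ := hsurj _ (hwH _ hw3)
  have hkz : Commute k z := (mul_inv_eq_iff_eq_mul.1 (hcent z hz3 k hk)).symm
  rw [e, (hkz.zpow_right i).mul_pow, ← zpow_natCast (z ^ i), ← zpow_mul, mul_comm i, zpow_mul,
    zpow_natCast, hz3, one_zpow, mul_one] at hw3
  have hk1 : k = 1 := by
    have := Nat.dvd_gcd (orderOf_dvd_of_pow_eq_one hw3) (Subgroup.orderOf_dvd_natCard K hk)
    rw [hK4] at this
    norm_num at this
    exact this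
  rw [hk1, one_mul] at e
  have : w = (z : G) ^ i := by
    have := congrArg Subtype.val e
    simpa using this
  rw [this]
  exact zpow_mem (mem_zpowers _) i

theorem exists_Zof (h : Nat.card G = 2520) {u : G} (hu : orderOf u = 2) :
    (∃ z, Zof u z) ∧ Nat.card (centralizer ({u} : Set G)) = 24 := by
  obtain ⟨r, a, hr, ha, hinv, hcl, hC, -⟩ := involutions h
  obtain ⟨g, hg⟩ := isConj_iff.1 (hcl u hu)
  obtain ⟨z, hz3, hzt, huniq⟩ := exists_Zof_base hr ha hinv hC
  refine ⟨⟨g * z * g⁻¹, by rw [orderOf_conj', hz3], hg ▸ conj_mem_conj hzt, fun w hw hwu => ?_⟩, ?_⟩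
  · have h1 : g⁻¹ * w * g⁻¹⁻¹ ∈ zpowers z := huniq _ (by rw [conj_pow, hw]; group) (by
      have := conj_mem_conj (g := g⁻¹) hwu
      rwa [show g⁻¹ * u * g⁻¹⁻¹ = r * r by rw [← hg]; group] at this)
    obtain ⟨i, hi⟩ := h1
    refine ⟨i, ?_⟩
    show (g * z * g⁻¹) ^ i = w
    rw [conj_zpow, show z ^ i = g⁻¹ * w * g⁻¹⁻¹ from hi]
    group
  · rw [← hC, ← hg]
    refine (Nat.card_congr ((MulAut.conj g).toEquiv.subtypeEquiv fun v => ?_)).symm
    show v ∈ centralizer ({r * r} : Set G) ↔ g * v * g⁻¹ ∈ centralizer ({g * (r * r) * g⁻¹} : Set G)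
    rw [mem_centralizer_singleton_iff, mem_centralizer_singleton_iff, conj_mul, conj_mul]
    simp

/-- Four distinct involutions commute with any given involution. -/
theorem four_involutions (h : Nat.card G = 2520) {u : G} (hu : orderOf u = 2) :
    ∃ S : Set G, 4 ≤ S.ncard ∧ ∀ v ∈ S, orderOf v = 2 ∧ Commute v u := by
  obtain ⟨r, a, hr, ha, hinv, hcl, -, -⟩ := involutions h
  obtain ⟨g, hg⟩ := isConj_iff.1 (hcl u hu)
  have ha2 := mul_self_of_orderOf_two ha
  have hr4 : r * r * (r * r) = 1 := by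
    have : r ^ 4 = 1 := by rw [← hr, pow_orderOf_eq_one]
    rw [← this]; simp [pow_succ, mul_assoc]
  have hrr1 : r * r ≠ 1 := fun e => by
    have := orderOf_dvd_of_pow_eq_one (show r ^ 2 = 1 by rw [pow_two, e])
    rw [hr] at this; norm_num at this
  have hr1 : r ≠ 1 := ne_one_of_orderOf hr (by norm_num)
  have hai := inv_of_orderOf_two ha
  have hra : r * a = a * r⁻¹ := by
    rw [← hinv, ← mul_assoc, ← mul_assoc, ha2, one_mul, hai]
  have hr' : r⁻¹ * r⁻¹ = r * r := by
    rw [← mul_inv_rev]; exact inv_eq_of_mul_eq_one_left hr4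
  have hat : Commute a (r * r) := mul_inv_eq_iff_eq_mul.1 (by rw [← conj_mul, hinv, hr'])
  have hrt : Commute r (r * r) := (Commute.refl r).mul_right (Commute.refl r)
  have hnar : a ≠ r * r := fun e => by
    have h1 : a * r * a⁻¹ = r := by rw [e]; group
    exact hrr1 (by nth_rewrite 1 [← h1]; rw [hinv, inv_mul_cancel])
  have har1 : a ≠ r⁻¹ := fun e => by
    rw [e, ← mul_inv_rev, inv_eq_one] at ha2; exact hrr1 ha2
  have hT : ∀ v ∈ ({r * r, a, a * (r * r), a * r} : Set G), orderOf v = 2 ∧ Commute v (r * r) := by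
    intro v hv
    rcases hv with rfl | rfl | rfl | rfl
    · exact ⟨orderOf_eq_prime (by rw [pow_two, hr4]) hrr1, Commute.refl _⟩
    · exact ⟨ha, hat⟩
    · refine ⟨orderOf_eq_prime ?_ ?_, hat.mul_left (Commute.refl _)⟩
      · rw [pow_two, hat.symm.mul_mul_mul_comm, ha2, hr4, one_mul]
      · intro e
        exact hnar (by rw [eq_inv_of_mul_eq_one_left e, inv_eq_of_mul_eq_one_right hr4])
    · refine ⟨orderOf_eq_prime ?_ ?_, hat.mul_left hrt⟩
      · rw [pow_two, show a * r * (a * r) = a * (r * a) * r by group, hra,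
          show a * (a * r⁻¹) * r = (a * a) by group, ha2]
      · intro e; exact har1 (eq_inv_of_mul_eq_one_left e)
  refine ⟨(fun v => g * v * g⁻¹) '' {r * r, a, a * (r * r), a * r}, ?_, ?_⟩
  · rw [Set.ncard_image_of_injective _ (fun v w e => mul_left_cancel (mul_right_cancel e))]
    rw [Set.ncard_insert_of_notMem, Set.ncard_insert_of_notMem, Set.ncard_pair]
    · intro e; exact hr1 (by simpa using mul_left_cancel e)
    · rintro (e | e)
      · exact hrr1 (by simpa using e)
      · exact hr1 (by simpa using e)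
    · rintro (e | e | e)
      · exact hnar e.symm
      · exact ne_one_of_orderOf ha (by norm_num) (by simpa using e.symm)
      · exact har1 (by
          have h1 : a * r = r * r := e.symm
          have h2 : a = r := mul_right_cancel h1
          rw [h2] at ha2; exact absurd ha2 hrr1)
  · rintro _ ⟨v, hv, rfl⟩
    exact ⟨by rw [orderOf_conj']; exact (hT v hv).1, hg ▸ conj_mem_conj (hT v hv).2⟩

section Fibre

variable (h : Nat.card G = 2520) {x : G} (hx : orderOf x = 3) (hF : (fib x).Nonempty)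
include h hx hF

theorem fib_zof {u : G} (hu : u ∈ fib x) : Zof u x := by
  obtain ⟨⟨z, hz⟩, -⟩ := exists_Zof h hu.1
  exact hz.of_commute hx hu.2

theorem cent_le {u : G} (hu : u ∈ fib x) :
    centralizer ({u} : Set G) ≤ normalizer ((zpowers x : Subgroup G) : Set G) := by
  intro g hg
  refine mem_normalizer_zpowers hx ((fib_zof h hx hF hu).2.2 _ ?_ ?_)
  · rw [conj_pow, ← hx, pow_orderOf_eq_one, mul_one, mul_inv_cancel]
  · have e : g * u * g⁻¹ = u := by rw [mem_centralizer_singleton_iff.1 hg, mul_inv_cancel_right]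
    have := conj_mem_conj (g := g) hu.2
    rwa [e] at this

theorem sylow_le_centralizer {P : Sylow 3 G} (hxP : x ∈ (P : Subgroup G)) :
    (P : Subgroup G) ≤ centralizer ({x} : Set G) := by
  haveI : Fact (Nat.Prime 3) := ⟨Nat.prime_three⟩
  have hc := IsPGroup.commutative_of_card_eq_prime_sq (p := 3) (G := (P : Subgroup G))
    (card_sylow 2 280 (by rw [h]; norm_num) (by norm_num) P)
  exact fun w hw => mem_centralizer_singleton_iff.2 (congrArg Subtype.val (hc ⟨w, hw⟩ ⟨x, hxP⟩))

theorem card_norm : Nat.card (normalizer ((zpowers x : Subgroup G) : Set G)) = 72 := by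
  haveI : Fact (Nat.Prime 3) := ⟨Nat.prime_three⟩
  obtain ⟨u, hu⟩ := hF
  set N := normalizer ((zpowers x : Subgroup G) : Set G) with hN
  have h24 : 24 ∣ Nat.card N := (exists_Zof h hu.1).2 ▸ card_dvd_of_le (cent_le h hx ⟨u, hu⟩ hu)
  obtain ⟨P, hP⟩ := (IsPGroup.of_card (p := 3) (n := 1) (G := zpowers x)
    (by rw [Nat.card_zpowers, hx, pow_one])).exists_le_sylow
  have hP9 : Nat.card (P : Subgroup G) = 9 := by
    rw [card_sylow 2 280 (by rw [h]; norm_num) (by norm_num) P]; norm_num
  have hPN : (P : Subgroup G) ≤ N := by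
    refine (sylow_le_centralizer h hx ⟨u, hu⟩ (hP (mem_zpowers x))).trans fun g hg => ?_
    refine mem_normalizer_zpowers hx ?_
    rw [mem_centralizer_singleton_iff.1 hg, mul_inv_cancel_right]
    exact mem_zpowers x
  have h72 : 72 ∣ Nat.card N := by
    have h9 : 9 ∣ Nat.card N := hP9 ▸ card_dvd_of_le hPN
    omega
  have hdec : ∀ n ∈ Nat.divisors 2520, 72 ∣ n → n = 72 ∨ n = 360 ∨ n = 504 ∨ n = 2520 := by
    decide +kernel
  have htop : N ≠ ⊤ := fun e => by
    haveI : (zpowers x).Normal := normalizer_eq_top_iff.1 e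
    rcases (inferInstance : (zpowers x).Normal).eq_bot_or_eq_top with e' | e'
    · exact ne_one_of_orderOf hx (by norm_num) (zpowers_eq_bot.1 e')
    · have := congrArg (fun H : Subgroup G => Nat.card H) e'
      simp only [Nat.card_zpowers, card_top] at this
      omega
  have hi := index_ge h htop
  have hm := card_mul_index N
  rw [h] at hm
  rcases hdec _ (Nat.mem_divisors.2 ⟨h ▸ card_subgroup_dvd_card _, by norm_num⟩) h72 with e | e | e | e
  · exact e
  · exfalso
    haveI : Fact (Nat.Prime 5) := ⟨by norm_num⟩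
    obtain ⟨⟨f, hf⟩, hfo⟩ := exists_prime_orderOf_dvd_card' (G := N) 5 (by rw [e]; norm_num)
    rw [Subgroup.orderOf_mk] at hfo
    have hfx := (mem_normalizer_iff.1 hf x).1 (mem_zpowers x)
    have hcomm : Commute x f := by
      rcases mem_three hx hfx with e' | e' | e'
      · exact absurd (conj_eq_one_iff.1 e') (ne_one_of_orderOf hx (by norm_num))
      · exact (mul_inv_eq_iff_eq_mul.1 e').symm
      · exfalso
        have h5 : f ^ 5 = 1 := hfo ▸ pow_orderOf_eq_one f
        have h2 : f ^ 2 * x * (f ^ 2)⁻¹ = x := by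
          rw [show f ^ 2 * x * (f ^ 2)⁻¹ = f * (f * x * f⁻¹) * f⁻¹ by simp [pow_two, mul_assoc], e',
            ← conj_inv, e', inv_inv]
        have h2' : Commute (f ^ 2) x := mul_inv_eq_iff_eq_mul.1 h2
        have hf1 : Commute f x := by
          have := h2'.pow_left 3
          rw [← pow_mul, show 2 * 3 = 5 + 1 from rfl, pow_succ, h5, one_mul] at this
          exact this
        rw [mul_inv_eq_iff_eq_mul.2 hf1.eq] at e'
        have : x * x = 1 := eq_inv_iff_mul_eq_one.1 e'
        have := orderOf_dvd_of_pow_eq_one (show x ^ 2 = 1 by rw [pow_two, this])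
        rw [hx] at this
        norm_num at this
    have := Subgroup.orderOf_dvd_natCard _ (five_centralizer h hfo hcomm)
    rw [hx, Nat.card_zpowers, hfo] at this
    norm_num at this
  · rw [e] at hm; omega
  · rw [e] at hm; omega

theorem card_fib : (fib x).ncard = 3 := by
  classical
  haveI : Fintype G := Fintype.ofFinite G
  obtain ⟨u, hu⟩ := hF
  set N := normalizer ((zpowers x : Subgroup G) : Set G) with hN
  have huN : u ∈ N := cent_le h hx ⟨u, hu⟩ hu (mem_centralizer_singleton_iff.2 rfl)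
  obtain ⟨r, a, hr, ha, hinv, hcl, -, -⟩ := involutions h
  have himg : fib x = Subtype.val '' ((Char.classFinset (⟨u, huN⟩ : N) : Finset N) : Set N) := by
    ext v
    constructor
    · intro hv
      obtain ⟨g, hg⟩ := isConj_iff.1 ((hcl u hu.1).symm.trans (hcl v hv.1))
      have hgx : g * x * g⁻¹ ∈ zpowers x := by
        refine (fib_zof h hx ⟨u, hu⟩ hv).2.2 _ ?_ ?_
        · rw [conj_pow, ← hx, pow_orderOf_eq_one, mul_one, mul_inv_cancel]
        · exact hg ▸ conj_mem_conj hu.2
      have hgN := mem_normalizer_zpowers hx hgx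
      refine ⟨⟨g, hgN⟩ * ⟨u, huN⟩ * ⟨g, hgN⟩⁻¹, ?_, hg⟩
      rw [Finset.mem_coe, Char.mem_classFinset]
      exact isConj_iff.2 ⟨⟨g, hgN⟩, rfl⟩
    · rintro ⟨w, hw, rfl⟩
      rw [Finset.mem_coe, Char.mem_classFinset] at hw
      obtain ⟨⟨g, hg⟩, rfl⟩ := isConj_iff.1 hw
      show g * u * g⁻¹ ∈ fib x
      refine ⟨by rw [orderOf_conj', hu.1], ?_⟩
      have hc := conj_mem_conj (g := g) hu.2
      rcases mem_three hx ((mem_normalizer_iff.1 hg x).1 (mem_zpowers x)) with e | e | e
      · exact absurd (conj_eq_one_iff.1 e) (ne_one_of_orderOf hx (by norm_num))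
      · rwa [e] at hc
      · rw [e] at hc; simpa using hc.inv_left
  rw [himg, Set.ncard_image_of_injective _ Subtype.val_injective, Set.ncard_coe_finset,
    Char.card_classFinset]
  have hcent : centralizer ({(⟨u, huN⟩ : N)} : Set N) = (centralizer ({u} : Set G)).subgroupOf N := by
    ext ⟨g, hg⟩
    rw [mem_subgroupOf, mem_centralizer_singleton_iff, mem_centralizer_singleton_iff, Subtype.ext_iff]
    rfl
  rw [hcent]
  have := card_mul_index ((centralizer ({u} : Set G)).subgroupOf N)
  rw [Nat.card_congr (subgroupOfEquivOfLe (cent_le h hx ⟨u, hu⟩ hu)).toEquiv,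
    (exists_Zof h hu.1).2, card_norm h hx ⟨u, hu⟩] at this
  omega

theorem card_cent_inf {u : G} (hu : u ∈ fib x) :
    Nat.card (centralizer ({x} : Set G) ⊓ centralizer ({u} : Set G) : Subgroup G) = 12 := by
  haveI : Fact (Nat.Prime 3) := ⟨Nat.prime_three⟩
  set C := centralizer ({x} : Set G) with hC
  set U := centralizer ({u} : Set G) with hU
  have h2 : C.relIndex U ≤ 2 := by
    have hd := relIndex_centralizer_dvd (p := 3) (zpowers x) (by rw [Nat.card_zpowers, hx])
    rw [centralizer_zpowers] at hd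
    refine (relIndex_le_of_le_right (cent_le h hx hF hu) fun e => ?_).trans (Nat.le_of_dvd (by norm_num) hd)
    rw [hC] at e
    rw [e] at hd
    norm_num at hd
  have h1 : C.relIndex U ≠ 1 := fun e => by
    obtain ⟨S, hS4, hS⟩ := four_involutions h hu.1
    have hsub : S ⊆ fib x := fun v hv => ⟨(hS v hv).1,
      (mem_centralizer_singleton_iff.1 ((relIndex_eq_one.1 e)
        (mem_centralizer_singleton_iff.2 (hS v hv).2.eq))).symm⟩
    have := Set.ncard_le_ncard hsub (Set.toFinite _)
    rw [card_fib h hx hF] at this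
    omega
  have := card_mul_index (C.subgroupOf U)
  rw [show (C.subgroupOf U).index = C.relIndex U from rfl] at this
  have e : Nat.card (C.subgroupOf U) = Nat.card (C ⊓ U : Subgroup G) := by
    rw [← inf_subgroupOf_right]
    exact Nat.card_congr (subgroupOfEquivOfLe inf_le_right).toEquiv
  rw [e, (exists_Zof h hu.1).2] at this
  have h0 : C.relIndex U ≠ 0 := fun e0 => by rw [e0] at this; omega
  have : C.relIndex U = 2 := by omega
  rename_i heq
  rw [this] at heq
  omega

theorem fib_triple {p q : G} (hp : p ∈ fib x) (hq : q ∈ fib x) (hpq : p ≠ q) :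
    Commute p q ∧ p * q ∈ fib x ∧ fib x = {p, q, p * q} := by
  haveI : Fact (Nat.Prime 2) := ⟨Nat.prime_two⟩
  obtain ⟨u, hu⟩ := hF
  -- two commuting members
  obtain ⟨v, hv, hvu, hc⟩ : ∃ v ∈ fib x, v ≠ u ∧ Commute u v := by
    set U := (centralizer ({x} : Set G) ⊓ centralizer ({u} : Set G) : Subgroup G) with hU
    have h12 := card_cent_inf h hx ⟨u, hu⟩ hu
    rw [← hU] at h12
    have huU : u ∈ U := ⟨mem_centralizer_singleton_iff.2 hu.2.symm.eq, mem_centralizer_singleton_iff.2 rfl⟩
    obtain ⟨T, hT⟩ := (IsPGroup.of_card (p := 2) (n := 1) (G := zpowers (⟨u, huU⟩ : U))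
      (by rw [Nat.card_zpowers, Subgroup.orderOf_mk, hu.1, pow_one])).exists_le_sylow
    have hT4 : Nat.card (T : Subgroup U) = 4 := by
      rw [card_sylow 2 3 (by rw [h12]; norm_num) (by norm_num) T]; norm_num
    obtain ⟨s, hs, hs1, hsu⟩ : ∃ s ∈ (T : Subgroup U), s ≠ 1 ∧ s ≠ ⟨u, huU⟩ := by
      by_contra hcon
      push Not at hcon
      have hsub : ((T : Subgroup U) : Set U) ⊆ {1, ⟨u, huU⟩} := fun s hs => by
        by_cases h1 : s = 1
        · exact Or.inl h1
        · exact Or.inr (hcon s hs h1)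
      have := (Set.ncard_le_ncard hsub (Set.toFinite _)).trans (Set.ncard_insert_le _ _)
      rw [Set.ncard_singleton, ← Nat.card_coe_set_eq] at this
      change Nat.card (T : Subgroup U) ≤ 2 at this
      omega
    have hs4 : (s : G) ^ 4 = 1 := by
      rw [← SubmonoidClass.coe_pow, orderOf_dvd_iff_pow_eq_one.1 (hT4 ▸ Subgroup.orderOf_dvd_natCard _ hs),
        OneMemClass.coe_one]
    have hsx : Commute x (s : G) := (mem_centralizer_singleton_iff.1 s.2.1).symm
    have hsU : Commute u (s : G) := (mem_centralizer_singleton_iff.1 s.2.2).symm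
    have hs1' : (s : G) ≠ 1 := fun e => hs1 (Subtype.ext e)
    have hsu' : (s : G) ≠ u := fun e => hsu (Subtype.ext e)
    by_cases hs2 : (s : G) * s = 1
    · exact ⟨s, ⟨orderOf_eq_prime (by rw [pow_two, hs2]) hs1', hsx⟩, hsu', hsU⟩
    have hss : (s : G) * s ∈ fib x := ⟨orderOf_eq_prime (by rw [← hs4]; simp [pow_succ, mul_assoc]) hs2,
      hsx.mul_right hsx⟩
    by_cases hsu2 : (s : G) * s = u
    swap
    · exact ⟨_, hss, hsu2, hsU.mul_right hsU⟩
    -- `s` permutes the other two members, so its square fixes them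
    obtain ⟨v, hv, hvu⟩ : ∃ v ∈ fib x, v ≠ u := by
      by_contra hcon
      push Not at hcon
      have hs' : fib x ⊆ ({u} : Set G) := fun v hv => hcon v hv
      have := Set.ncard_le_ncard hs' (Set.toFinite _)
      rw [card_fib h hx ⟨u, hu⟩, Set.ncard_singleton] at this
      omega
    refine ⟨v, hv, hvu, ?_⟩
    have hD : (fib x \ {u}).ncard = 2 := by
      rw [Set.ncard_diff_singleton_of_mem hu, card_fib h hx ⟨u, hu⟩]
    obtain ⟨p', q', hpq', hD'⟩ := Set.ncard_eq_two.1 hD
    have hmap : ∀ w ∈ fib x \ {u}, (s : G) * w * (s : G)⁻¹ ∈ fib x \ {u} := by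
      rintro w ⟨hw, hwu⟩
      refine ⟨⟨by rw [orderOf_conj', hw.1], ?_⟩, fun e => hwu ?_⟩
      · have hc := conj_mem_conj (g := (s : G)) hw.2
        rwa [mul_inv_eq_iff_eq_mul.2 hsx.symm.eq] at hc
      · show w = u
        calc w = (s : G)⁻¹ * ((s : G) * w * (s : G)⁻¹) * s := by group
          _ = (s : G)⁻¹ * u * s := by rw [show (s : G) * w * (s : G)⁻¹ = u from e]
          _ = u := by rw [mul_assoc, hsU.eq, inv_mul_cancel_left]
    have hfix : (s : G) * ((s : G) * v * (s : G)⁻¹) * (s : G)⁻¹ = v := by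
      have hvD : v ∈ fib x \ {u} := ⟨hv, hvu⟩
      have h1 := hmap v hvD
      have h2 := hmap _ h1
      rw [hD'] at hvD h1 h2
      rcases hvD with rfl | rfl <;> rcases h1 with e1 | e1 <;> rcases h2 with e2 | e2 <;>
        first
        | exact e2
        | (rw [e1] at e2 ⊢; exact e1)
        | (exfalso; rw [e1] at e2; exact hpq' (e1.symm.trans e2))
        | (exfalso; rw [e1] at e2; exact hpq' (e2.symm.trans e1))
        | (exfalso; rw [e1] at e2; exact hpq' (mul_left_cancel (mul_right_cancel (e1.trans e2.symm))))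
        | (exfalso; rw [e1] at e2; exact hpq' (mul_left_cancel (mul_right_cancel (e2.trans e1.symm))))
    have e : u * v * u⁻¹ = v := by
      rw [← hsu2, mul_inv_rev]
      simpa [mul_assoc] using hfix
    exact mul_inv_eq_iff_eq_mul.1 e
  have huv : u * v ∈ fib x := by
    refine ⟨orderOf_eq_prime ?_ fun e => hvu ?_, hu.2.mul_right hv.2⟩
    · rw [pow_two, hc.symm.mul_mul_mul_comm, mul_self_of_orderOf_two hu.1, mul_self_of_orderOf_two hv.1, one_mul]
    · rw [eq_inv_of_mul_eq_one_left e, inv_of_orderOf_two hv.1]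
  have hne1 : u * v ≠ u := fun e => ne_one_of_orderOf hv.1 (by norm_num) (by simpa using e)
  have hne2 : u * v ≠ v := fun e => ne_one_of_orderOf hu.1 (by norm_num) (by simpa using e)
  have hset : fib x = {u, v, u * v} := by
    refine (Set.eq_of_subset_of_ncard_le ?_ ?_ (Set.toFinite _)).symm
    · rintro w (rfl | rfl | rfl); exacts [hu, hv, huv]
    · rw [card_fib h hx ⟨u, hu⟩, Set.ncard_eq_three.2 ⟨u, v, u * v, hvu.symm, hne1.symm, hne2.symm, rfl⟩]
  have hu2 := mul_self_of_orderOf_two hu.1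
  have hv2 := mul_self_of_orderOf_two hv.1
  have hprod : p * q ∈ fib x ∧ Commute p q := by
    rw [hset] at hp hq
    have hcu : Commute u (u * v) := (Commute.refl u).mul_right hc
    have hcv : Commute v (u * v) := hc.symm.mul_right (Commute.refl v)
    rcases hp with rfl | rfl | rfl <;> rcases hq with rfl | rfl | rfl <;>
      first
      | exact absurd rfl hpq
      | exact ⟨huv, hc⟩
      | exact ⟨hc.eq ▸ huv, hc.symm⟩
      | (refine ⟨?_, hcu⟩; rwa [← mul_assoc, hu2, one_mul])
      | (refine ⟨?_, hcu.symm⟩; rwa [hcu.symm.eq, ← mul_assoc, hu2, one_mul])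
      | (refine ⟨?_, hcv⟩; rwa [hcv.eq, mul_assoc, hv2, mul_one])
      | (refine ⟨?_, hcv.symm⟩; rwa [mul_assoc, hv2, mul_one])
  refine ⟨hprod.2, hprod.1, (Set.eq_of_subset_of_ncard_le ?_ ?_ (Set.toFinite _)).symm⟩
  · rintro w (rfl | rfl | rfl); exacts [hp, hq, hprod.1]
  · rw [card_fib h hx ⟨u, hu⟩, Set.ncard_eq_three.2 ⟨p, q, p * q, hpq, ?_, ?_, rfl⟩]
    · exact fun e => ne_one_of_orderOf hq.1 (by norm_num) (by simpa using e.symm)
    · exact fun e => ne_one_of_orderOf hp.1 (by norm_num) (by simpa using e.symm)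

theorem cube_one {b w : G} (hb : b ∈ fib x) (hw3 : w ^ 3 = 1) (hwx : Commute w x) (hw : w ∉ zpowers x) :
    (b * w) ^ 3 = 1 := by
  have hmem : ∀ g : G, Commute g x → g * b * g⁻¹ ∈ fib x := fun g hg => by
    refine ⟨by rw [orderOf_conj', hb.1], ?_⟩
    have := conj_mem_conj (g := g) hb.2
    rwa [mul_inv_eq_iff_eq_mul.2 hg.eq] at this
  have hnc : ¬ Commute w b := fun e => hw ((fib_zof h hx hF hb).2.2 w hw3 e)
  set b1 := w * b * w⁻¹ with hb1
  set b2 := w * b1 * w⁻¹ with hb2
  have h1 : b1 ∈ fib x := hmem w hwx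
  have h2 : b2 ∈ fib x := by
    rw [hb2, hb1, show w * (w * b * w⁻¹) * w⁻¹ = w * w * b * (w * w)⁻¹ by group]
    exact hmem _ (hwx.mul_left hwx)
  have hne1 : b ≠ b1 := fun e => hnc (mul_inv_eq_iff_eq_mul.1 e.symm)
  have hne2 : b1 ≠ b2 := fun e => hne1 (mul_left_cancel (mul_right_cancel
    (show w * b * w⁻¹ = w * b1 * w⁻¹ from e)))
  have hne3 : b ≠ b2 := fun e => by
    apply hnc
    have h4 : w * w * (w * w) = w := by
      calc w * w * (w * w) = w ^ 3 * w := by simp [pow_succ, mul_assoc]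
        _ = w := by rw [hw3, one_mul]
    rw [hb2, hb1, show w * (w * b * w⁻¹) * w⁻¹ = w * w * b * (w * w)⁻¹ by group] at e
    have hc : Commute (w * w) b := mul_inv_eq_iff_eq_mul.1 e.symm
    exact h4 ▸ hc.mul_left hc
  have hset := (fib_triple h hx hF hb h1 hne1).2.2
  have h2' := h2
  rw [hset] at h2'
  have hb2eq : b2 = b * b1 := by
    rcases h2' with e | e | e
    · exact absurd e.symm hne3
    · exact absurd e.symm hne2
    · exact e
  calc (b * w) ^ 3 = b * b1 * b2 * w ^ 3 := by rw [hb2, hb1]; simp [pow_succ, mul_assoc]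
    _ = b2 * b2 * w ^ 3 := by rw [← hb2eq]
    _ = 1 := by rw [mul_self_of_orderOf_two h2.1, hw3, one_mul]

theorem fixed_member {g : G} (hg : g * x * g⁻¹ ∈ zpowers x) (hg2 : g * g = 1) :
    ∃ b ∈ fib x, Commute b g := by
  have hmem : ∀ v ∈ fib x, g * v * g⁻¹ ∈ fib x := fun v hv => by
    refine ⟨by rw [orderOf_conj', hv.1], ?_⟩
    have hc := conj_mem_conj (g := g) hv.2
    rcases mem_three hx hg with e | e | e
    · exact absurd (conj_eq_one_iff.1 e) (ne_one_of_orderOf hx (by norm_num))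
    · rwa [e] at hc
    · rw [e] at hc; simpa using hc.inv_left
  have hgg : ∀ v, g * (g * v * g⁻¹) * g⁻¹ = v := fun v => by
    rw [show g * (g * v * g⁻¹) * g⁻¹ = (g * g) * v * (g * g)⁻¹ by group, hg2]; group
  obtain ⟨p, q, r, hpq, hpr, hqr, hset⟩ := Set.ncard_eq_three.1 (card_fib h hx hF)
  by_contra hcon
  push Not at hcon
  have hne : ∀ v ∈ fib x, g * v * g⁻¹ ≠ v := fun v hv e => hcon v hv (mul_inv_eq_iff_eq_mul.1 e).symm
  have hp := hmem p (by rw [hset]; simp)
  have hq := hmem q (by rw [hset]; simp)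
  have hr := hmem r (by rw [hset]; simp)
  have np := hne p (by rw [hset]; simp)
  have nq := hne q (by rw [hset]; simp)
  have nr := hne r (by rw [hset]; simp)
  have gp := hgg p
  have gq := hgg q
  have gr := hgg r
  rw [hset] at hp hq hr
  rcases hp with e | e | e
  · exact np e
  · have e : g * p * g⁻¹ = q := e
    rw [e] at gp
    rcases hr with e' | e' | e'
    · rw [show g * r * g⁻¹ = p from e', e] at gr; exact hqr gr
    · rw [show g * r * g⁻¹ = q from e', gp] at gr; exact hpr gr
    · exact nr e'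
  · have e : g * p * g⁻¹ = r := e
    rw [e] at gp
    rcases hq with e' | e' | e'
    · rw [show g * q * g⁻¹ = p from e', e] at gq; exact hqr gq.symm
    · exact nq e'
    · rw [show g * q * g⁻¹ = r from e', gp] at gq; exact hpq gq

end Fibre

theorem relator_sq {x s : G} (hs : s * s = 1) (hinv : s * x * s⁻¹ = x⁻¹) : (x * s) ^ 2 = 1 := by
  have e : s * x * s = x⁻¹ := by rw [← hinv, inv_eq_of_mul_eq_one_right hs]
  calc (x * s) ^ 2 = x * (s * x * s) := by simp [pow_two, mul_assoc]
    _ = 1 := by rw [e, mul_inv_cancel]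

/-- The configuration: `x`, `y` inverted by the involution `t`, with involutions `a`, `b`. -/
theorem exists_config (h : Nat.card G = 2520) :
    ∃ x y t a b : G, ∃ P : Sylow 3 G, orderOf x = 3 ∧ orderOf y = 3 ∧ orderOf t = 2 ∧ a ∈ fib x ∧ b ∈ fib y ∧
      Commute a t ∧ Commute b t ∧ Commute x y ∧ y ∉ zpowers x ∧
      x ∈ (P : Subgroup G) ∧ y ∈ (P : Subgroup G) ∧ (∀ w ∈ (P : Subgroup G), t * w * t⁻¹ = w⁻¹) := by
  classical
  haveI : Fact (Nat.Prime 3) := ⟨Nat.prime_three⟩
  haveI : Fact (Nat.Prime 2) := ⟨Nat.prime_two⟩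
  obtain ⟨r, a₀, hr, -, -, hcl, hC, -⟩ := involutions h
  have hrr : orderOf (r * r) = 2 := by
    refine orderOf_eq_prime ?_ fun e => ?_
    · rw [← pow_two, ← pow_mul, show 2 * 2 = orderOf r by rw [hr]]; exact pow_orderOf_eq_one r
    · have := orderOf_dvd_of_pow_eq_one (show r ^ 2 = 1 by rw [pow_two, e])
      rw [hr] at this; norm_num at this
  obtain ⟨⟨x, hZ⟩, -⟩ := exists_Zof h hrr
  have hx : orderOf x = 3 := hZ.1
  have hF : (fib x).Nonempty := ⟨r * r, hrr, hZ.2.1⟩
  set N := normalizer ((zpowers x : Subgroup G) : Set G) with hN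
  have hN72 : Nat.card N = 72 := card_norm h hx hF
  obtain ⟨P, hP⟩ := (IsPGroup.of_card (p := 3) (n := 1) (G := zpowers x)
    (by rw [Nat.card_zpowers, hx, pow_one])).exists_le_sylow
  have hxP : x ∈ (P : Subgroup G) := hP (mem_zpowers x)
  have hP9 : Nat.card (P : Subgroup G) = 9 := by
    rw [card_sylow 2 280 (by rw [h]; norm_num) (by norm_num) P]; norm_num
  have hcomm : ∀ v ∈ (P : Subgroup G), ∀ w ∈ (P : Subgroup G), v * w = w * v := fun v hv w hw =>
    congrArg Subtype.val (IsPGroup.commutative_of_card_eq_prime_sq (p := 3) (G := (P : Subgroup G))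
      (by rw [hP9]; norm_num) ⟨v, hv⟩ ⟨w, hw⟩)
  have hPN : (P : Subgroup G) ≤ N := fun g hg => mem_normalizer_zpowers hx (by
    rw [hcomm g hg x hxP, mul_inv_cancel_right]; exact mem_zpowers x)
  set M := normalizer ((P : Subgroup G) : Set G) with hM
  have hsub : M.relIndex N % 3 = 1 ∧ M.relIndex N ∣ 8 := by
    have hidx : M.relIndex N = Nat.card (Sylow 3 N) := by
      rw [(P.subtype hPN).card_eq_index_normalizer]
      show M.relIndex N =
        (normalizer (((P : Subgroup G).subgroupOf N : Subgroup N) : Set N)).index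
      rw [← subgroupOf_normalizer_eq hPN]
      rfl
    rw [hidx]
    exact (sylow_facts (G := N) 2 8 (by rw [hN72]; norm_num) (by norm_num)).symm
  have hNM : ¬ M ≤ N := by
    intro hle
    have h1 := relIndex_mul_index hle
    have hNi : N.index = 35 := by
      have := card_mul_index N
      rw [hN72, h] at this; omega
    have h2 : M.index % 3 = 1 := by
      rw [show M.index = Nat.card (Sylow 3 G) from P.card_eq_index_normalizer.symm]
      exact (sylow_facts (G := G) 2 280 (by rw [h]; norm_num) (by norm_num)).2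
    rw [hNi] at h1
    omega
  obtain ⟨g, hgM, hgN⟩ : ∃ g ∈ M, g ∉ N := SetLike.not_le_iff_exists.1 hNM
  -- an involution normalizing both
  have heven : 2 ∣ Nat.card (M.subgroupOf N) := by
    have h1 := card_mul_index (M.subgroupOf N)
    rw [show (M.subgroupOf N).index = M.relIndex N from rfl, hN72] at h1
    have h3 := Nat.le_of_dvd (by norm_num) hsub.2
    have h4 := hsub.1
    have : M.relIndex N = 1 ∨ M.relIndex N = 4 ∨ M.relIndex N = 7 := by omega
    rcases this with e | e | e <;> rw [e] at h1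
    · omega
    · omega
    · omega
  obtain ⟨t₀, ht₀⟩ := exists_prime_orderOf_dvd_card' (G := M.subgroupOf N) 2 heven
  rw [← Subgroup.orderOf_coe, ← Subgroup.orderOf_coe] at ht₀
  set t : G := ((t₀ : N) : G) with htdef
  have htN : t ∈ N := (t₀ : N).2
  have htM : t ∈ M := t₀.2
  have ht : orderOf t = 2 := ht₀
  have ht2 := mul_self_of_orderOf_two ht
  have hti := inv_of_orderOf_two ht
  have htx : t * x * t⁻¹ = x⁻¹ := by
    rcases mem_three hx ((mem_normalizer_iff.1 htN x).1 (mem_zpowers x)) with e | e | e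
    · exact absurd (conj_eq_one_iff.1 e) (ne_one_of_orderOf hx (by norm_num))
    · exfalso
      have htF : t ∈ fib x := ⟨ht, (mul_inv_eq_iff_eq_mul.1 e).symm⟩
      have hle : (P : Subgroup G) ≤ centralizer ({t} : Set G) := by
        intro w hw
        rw [mem_centralizer_singleton_iff]
        by_contra hne
        have hwF : w * t * w⁻¹ ∈ fib x := ⟨by rw [orderOf_conj', ht], by
          have := conj_mem_conj (g := w) htF.2
          rwa [hcomm w hw x hxP, mul_inv_cancel_right] at this⟩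
        have hne' : w * t * w⁻¹ ≠ t := fun e => hne (mul_inv_eq_iff_eq_mul.1 e)
        have hinF := (fib_triple h hx hF hwF htF hne').2.1
        have hinP : w * t * w⁻¹ * t ∈ (P : Subgroup G) := by
          have := (mem_normalizer_iff.1 htM _).1 (inv_mem hw)
          rw [hti] at this
          rw [show w * t * w⁻¹ * t = w * (t * w⁻¹ * t) by group]
          exact mul_mem hw this
        have := Subgroup.orderOf_dvd_natCard _ hinP
        rw [hinF.1, hP9] at this
        norm_num at this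
      have := card_dvd_of_le hle
      rw [hP9, (exists_Zof h ht).2] at this
      norm_num at this
    · exact e
  have hinvP : ∀ w ∈ (P : Subgroup G), t * w * t⁻¹ = w⁻¹ := by
    intro w hw
    have hwt : t * w * t⁻¹ ∈ (P : Subgroup G) := (mem_normalizer_iff.1 htM w).1 hw
    set c := w * (t * w * t⁻¹) with hc
    have hcP : c ∈ (P : Subgroup G) := mul_mem hw hwt
    have hct : Commute c t := by
      have e : t * c * t⁻¹ = c := by
        rw [hc, show t * (w * (t * w * t⁻¹)) * t⁻¹ = (t * w * t⁻¹) * ((t * t) * w * (t * t)⁻¹) by group,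
          ht2, one_mul, inv_one, mul_one]
        exact hcomm _ hwt _ hw
      exact (mul_inv_eq_iff_eq_mul.1 e).symm
    by_contra hne
    have hc1 : c ≠ 1 := fun e => hne (eq_inv_of_mul_eq_one_right e)
    -- an element of order three in `⟨c⟩`
    obtain ⟨⟨d, hd⟩, hdo⟩ := exists_prime_orderOf_dvd_card' (G := zpowers c) 3 (by
      rw [Nat.card_zpowers]
      have h9 := Subgroup.orderOf_dvd_natCard _ hcP
      rw [hP9] at h9
      obtain ⟨k, hk, hk2⟩ := (Nat.dvd_prime_pow Nat.prime_three).1 (show orderOf c ∣ 3 ^ 2 from h9)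
      rw [hk2]
      interval_cases k
      · exact absurd (orderOf_eq_one_iff.1 (by simpa using hk2)) hc1
      all_goals norm_num)
    rw [Subgroup.orderOf_mk] at hdo
    obtain ⟨i, rfl⟩ := hd
    set d := c ^ i
    have hdF : t ∈ fib d := ⟨ht, hct.zpow_left i⟩
    have hdx : Commute x d := hcomm x hxP _ (zpow_mem hcP i)
    have hxF : x * t * x⁻¹ ∈ fib d := ⟨by rw [orderOf_conj', ht], by
      have := conj_mem_conj (g := x) hdF.2
      rwa [mul_inv_eq_iff_eq_mul.2 hdx.eq] at this⟩
    have hne' : x * t * x⁻¹ ≠ t := fun e => by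
      rw [mul_inv_eq_iff_eq_mul.1 e |> mul_inv_eq_iff_eq_mul.2 ∘ Eq.symm] at htx
      have h2 : x * x = 1 := eq_inv_iff_mul_eq_one.1 htx
      have := orderOf_dvd_of_pow_eq_one (show x ^ 2 = 1 by rw [pow_two, h2])
      rw [hx] at this; norm_num at this
    have hinF := (fib_triple h hdo ⟨t, hdF⟩ hxF hdF hne').2.1
    have e2 : x * t * x⁻¹ * t = x * x := by
      have : t * x⁻¹ * t = x := by
        nth_rewrite 2 [← hti]
        rw [← conj_inv, htx, inv_inv]
      rw [show x * t * x⁻¹ * t = x * (t * x⁻¹ * t) by group, this]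
    have h4 := mul_self_of_orderOf_two hinF.1
    rw [e2] at h4
    have := orderOf_dvd_of_pow_eq_one (show x ^ 4 = 1 by rw [← h4]; simp [pow_succ, mul_assoc])
    rw [hx] at this; norm_num at this
  set y := g * x * g⁻¹ with hy
  have hyo : orderOf y = 3 := by rw [hy, orderOf_conj', hx]
  have hyP : y ∈ (P : Subgroup G) := (mem_normalizer_iff.1 hgM x).1 hxP
  have hFy : (fib y).Nonempty := ⟨g * (r * r) * g⁻¹, by rw [orderOf_conj', hrr], conj_mem_conj hZ.2.1⟩
  obtain ⟨a, ha, hat⟩ := fixed_member h hx hF (g := t) (by rw [htx]; exact inv_mem (mem_zpowers x)) ht2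
  obtain ⟨b, hb, hbt⟩ := fixed_member h hyo hFy (g := t)
    (by rw [hinvP y hyP]; exact inv_mem (mem_zpowers y)) ht2
  exact ⟨x, y, t, a, b, P, hx, hyo, ht, ha, hb, hat, hbt, hcomm x hxP y hyP,
    fun e => hgN (mem_normalizer_zpowers hx e), hxP, hyP, hinvP⟩

theorem conj_zpow_three {a z : G} (hz : orderOf z = 3) (haz : a * z * a⁻¹ = z⁻¹) (i : ℤ) :
    a * z ^ i = z ^ i * a * (z ^ i)⁻¹ := by
  have h1 : a * (z ^ i)⁻¹ * a⁻¹ = z ^ i := by rw [← conj_inv, ← conj_zpow, haz, inv_zpow, inv_inv]
  have h3 : z ^ i * z ^ i = (z ^ i)⁻¹ := by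
    rw [← zpow_neg, ← zpow_add, zpow_eq_zpow_iff_modEq, hz, Int.modEq_iff_dvd]
    exact ⟨-i, by push_cast; ring⟩
  calc a * z ^ i = a * ((z ^ i)⁻¹ * (z ^ i)⁻¹) := by rw [← mul_inv_rev, h3, inv_inv]
    _ = (a * (z ^ i)⁻¹ * a⁻¹) * a * (z ^ i)⁻¹ := by group
    _ = z ^ i * a * (z ^ i)⁻¹ := by rw [h1]

/-- The key relation. -/
theorem key_relation (h : Nat.card G = 2520) {x y t a b : G} {P : Sylow 3 G} (hx : orderOf x = 3)
    (hy : orderOf y = 3) (ht : orderOf t = 2) (ha : a ∈ fib x) (hb : b ∈ fib y)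
    (hat : Commute a t) (hbt : Commute b t) (hxy : Commute x y) (hyx : y ∉ zpowers x)
    (hxP : x ∈ (P : Subgroup G)) (hyP : y ∈ (P : Subgroup G))
    (hinvP : ∀ w ∈ (P : Subgroup G), t * w * t⁻¹ = w⁻¹) :
    (b * (a * t)) ^ 3 = 1 := by
  classical
  haveI : Fact (Nat.Prime 3) := ⟨Nat.prime_three⟩
  haveI : Fact (Nat.Prime 2) := ⟨Nat.prime_two⟩
  obtain ⟨⟨z, hz, hzt, hzu⟩, -⟩ := exists_Zof h ht
  have hFz : (fib z).Nonempty := ⟨t, ht, hzt⟩
  have htFz : t ∈ fib z := ⟨ht, hzt⟩
  -- `a` and `b` invert `z`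
  have hinvz : ∀ {v w : G}, orderOf w = 3 → v ∈ fib w → Commute v t → t * w * t⁻¹ = w⁻¹ →
      v * z * v⁻¹ = z⁻¹ := by
    intro v w hw hv hvt htw
    have hmem : v * z * v⁻¹ ∈ zpowers z := by
      refine hzu _ (by rw [conj_pow, ← hz, pow_orderOf_eq_one, mul_one, mul_inv_cancel]) ?_
      have := conj_mem_conj (g := v) hzt
      rwa [mul_inv_eq_iff_eq_mul.2 hvt.eq] at this
    rcases mem_three hz hmem with e | e | e
    · exact absurd (conj_eq_one_iff.1 e) (ne_one_of_orderOf hz (by norm_num))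
    · exfalso
      have hzv : Commute z v := (mul_inv_eq_iff_eq_mul.1 e).symm
      have e2 := (fib_zof h hw ⟨v, hv⟩ hv).zpowers_eq hz hzv
      have hwz : w ∈ zpowers z := e2 ▸ mem_zpowers w
      obtain ⟨i, rfl⟩ := hwz
      have hc := mul_inv_eq_iff_eq_mul.2 (hzt.zpow_left i).symm.eq
      rw [hc] at htw
      have h2 : z ^ i * z ^ i = 1 := eq_inv_iff_mul_eq_one.1 htw
      have := orderOf_dvd_of_pow_eq_one (show (z ^ i) ^ 2 = 1 by rw [pow_two, h2])
      rw [hw] at this; norm_num at this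
    · exact e
  have haz := hinvz hx ha hat (hinvP x hxP)
  have hbz := hinvz hy hb hbt (hinvP y hyP)
  have ha2 := mul_self_of_orderOf_two ha.1
  have hb2 := mul_self_of_orderOf_two hb.1
  have ht2 := mul_self_of_orderOf_two ht
  have hai := inv_of_orderOf_two ha.1
  set K := (centralizer ({z} : Set G) ⊓ centralizer ({t} : Set G) : Subgroup G) with hK
  have hkK : a * b ∈ K := by
    refine ⟨mem_centralizer_singleton_iff.2 ?_, mem_centralizer_singleton_iff.2 (hat.mul_left hbt).eq⟩
    refine mul_inv_eq_iff_eq_mul.1 ?_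
    rw [show a * b * z * (a * b)⁻¹ = a * (b * z * b⁻¹) * a⁻¹ by group, hbz, ← conj_inv, haz, inv_inv]
  obtain ⟨v₁, hv₁, hv₁t⟩ : ∃ v ∈ fib z, v ≠ t := by
    by_contra hcon
    push Not at hcon
    have hs' : fib z ⊆ ({t} : Set G) := fun v hv => hcon v hv
    have := Set.ncard_le_ncard hs' (Set.toFinite _)
    rw [card_fib h hz hFz, Set.ncard_singleton] at this
    omega
  obtain ⟨hc₁, hpr, hset⟩ := fib_triple h hz hFz hv₁ htFz hv₁t
  have hv12 := mul_self_of_orderOf_two hv₁.1
  -- the four-group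
  let V : Subgroup G :=
    { carrier := {1, v₁, t, v₁ * t}
      one_mem' := Or.inl rfl
      mul_mem' := by
        intro p q hp hq
        have e1 : v₁ * (v₁ * t) = t := by rw [← mul_assoc, hv12, one_mul]
        have e2 : t * (v₁ * t) = v₁ := by rw [hc₁.eq, ← mul_assoc, ht2, one_mul]
        have e3 : v₁ * t * v₁ = t := by rw [hc₁.eq, mul_assoc, hv12, mul_one]
        have e4 : v₁ * t * t = v₁ := by rw [mul_assoc, ht2, mul_one]
        have e5 : t * v₁ = v₁ * t := hc₁.eq.symm
        have e6 : v₁ * t * (v₁ * t) = 1 := by rw [← mul_assoc, e3, ht2]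
        rcases hp with rfl | rfl | rfl | rfl <;> rcases hq with rfl | rfl | rfl | rfl <;>
          simp [one_mul, mul_one, hv12, ht2, e1, e2, e3, e4, e5, e6]
      inv_mem' := by
        rintro p (rfl | rfl | rfl | rfl)
        · simp
        · rw [inv_of_orderOf_two hv₁.1]; simp
        · rw [inv_of_orderOf_two ht]; simp
        · rw [inv_of_orderOf_two hpr.1]; simp }
  have hVfib : ∀ v ∈ V, v = 1 ∨ v ∈ fib z := by
    rintro v (rfl | rfl | rfl | rfl)
    exacts [Or.inl rfl, Or.inr hv₁, Or.inr htFz, Or.inr hpr]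
  have hV4 : Nat.card V = 4 := by
    show Nat.card ({1, v₁, t, v₁ * t} : Set G) = 4
    have h1 : (1 : G) ∉ fib z := fun e => ne_one_of_orderOf e.1 (by norm_num) rfl
    rw [hset] at h1
    rw [Nat.card_coe_set_eq, Set.ncard_insert_of_notMem h1, ← hset, card_fib h hz hFz]
  have hVcomm : ∀ v ∈ V, Commute z v := fun v hv => by
    rcases hVfib v hv with rfl | hv'
    exacts [Commute.one_right z, hv'.2]
  have hVt : ∀ v ∈ V, Commute v t := by
    rintro v (e | e | e | e) <;> rw [show v = _ from e]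
    all_goals first | exact Commute.one_left t | exact hc₁ | exact Commute.refl t | exact hc₁.mul_left (Commute.refl t)
  have hmemK : ∀ p : V × zpowers z, (p.1 : G) * p.2 ∈ K := by
    rintro ⟨⟨v, hv⟩, ⟨q, hq⟩⟩
    obtain ⟨i, rfl⟩ := hq
    exact ⟨mem_centralizer_singleton_iff.2 ((hVcomm v hv).symm.mul_left (Commute.zpow_self z i)).eq,
      mem_centralizer_singleton_iff.2 ((hVt v hv).mul_left (hzt.zpow_left i)).eq⟩
  have hinj : Function.Injective (fun p : V × zpowers z => (⟨_, hmemK p⟩ : K)) := by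
    rintro ⟨k, q⟩ ⟨k', q'⟩ e
    have e : (k : G) * q = k' * q' := congrArg Subtype.val e
    have h1 : (k' : G)⁻¹ * k = q' * (q : G)⁻¹ := by
      rw [eq_mul_inv_iff_mul_eq, mul_assoc, e, inv_mul_cancel_left]
    have h4 : (k' : G)⁻¹ * k = 1 := by
      have ha4 := Subgroup.orderOf_dvd_natCard V (mul_mem (inv_mem k'.2) k.2)
      have hb3 := Subgroup.orderOf_dvd_natCard (zpowers z) (mul_mem q'.2 (inv_mem q.2))
      rw [hV4] at ha4
      rw [Nat.card_zpowers, hz, ← h1] at hb3
      have := Nat.dvd_gcd ha4 hb3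
      norm_num at this
      exact this
    have hk : k = k' := Subtype.ext (inv_mul_eq_one.1 h4).symm
    subst hk
    exact Prod.ext rfl (Subtype.ext (mul_left_cancel e))
  have hbij := (Nat.bijective_iff_injective_and_card _).2 ⟨hinj, by
    rw [Nat.card_prod, hV4, Nat.card_zpowers, hz, hK, card_cent_inf h hz hFz htFz]⟩
  obtain ⟨⟨⟨v, hv⟩, ⟨q, hq⟩⟩, e⟩ := hbij.2 ⟨a * b, hkK⟩
  obtain ⟨i, rfl⟩ := hq
  have hab : v * z ^ i = a * b := congrArg Subtype.val e
  have hbe : b = a * v * z ^ i := by rw [mul_assoc, hab, ← mul_assoc, ha2, one_mul]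
  have haq : a * z ^ i * a⁻¹ = (z ^ i)⁻¹ := by rw [← conj_zpow, haz, inv_zpow]
  have hvq : Commute (z ^ i) v := (hVcomm v hv).zpow_left i
  -- `a` commutes with `v`
  have hva : Commute a v := by
    have h1 : a * v * z ^ i * (a * v * z ^ i) = 1 := hbe ▸ hb2
    have h2 : a * v * a⁻¹ * v = 1 := by
      calc a * v * a⁻¹ * v = a * v * a⁻¹ * ((a * z ^ i * a⁻¹) * z ^ i * v) := by
            rw [haq, inv_mul_cancel, one_mul]
        _ = a * v * a⁻¹ * ((a * z ^ i * a⁻¹) * (v * z ^ i)) := by rw [mul_assoc _ (z ^ i) v, hvq.eq]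
        _ = a * v * z ^ i * (a⁻¹ * v * z ^ i) := by group
        _ = 1 := by rw [hai]; exact h1
    rcases hVfib v hv with rfl | hv'
    · exact Commute.one_right a
    · exact mul_inv_eq_iff_eq_mul.1 ((eq_inv_of_mul_eq_one_left h2).trans (inv_of_orderOf_two hv'.1))
  have hv1t : v = 1 ∨ v = t := by
    by_contra hcon
    push Not at hcon
    obtain ⟨r, a', hr, -, -, -, -, hS⟩ := involutions h
    -- an abelian subgroup of order eight
    have hvF : v ∈ fib z := (hVfib v hv).resolve_left hcon.1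
    have hset' := (fib_triple h hz hFz hvF htFz hcon.2).2.2
    have hcV : ∀ w ∈ V, Commute a w := by
      intro w hw
      rcases hVfib w hw with rfl | hw'
      · exact Commute.one_right a
      · rw [hset'] at hw'
        rcases hw' with rfl | rfl | rfl
        exacts [hva, hat, hva.mul_right hat]
    have haV : a ∉ V := fun hm => by
      have := mul_inv_eq_iff_eq_mul.2 (hVcomm a hm).symm.eq
      rw [this] at haz
      have h2 : z * z = 1 := eq_inv_iff_mul_eq_one.1 haz
      have := orderOf_dvd_of_pow_eq_one (show z ^ 2 = 1 by rw [pow_two, h2])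
      rw [hz] at this; norm_num at this
    haveI hVc : IsMulCommutative V := IsPGroup.isMulCommutative_of_card_eq_prime_sq (p := 2) (by rw [hV4]; norm_num)
    set W := V ⊔ zpowers a with hW
    have hnorm : zpowers a ≤ normalizer (V : Set G) := by
      rw [zpowers_le]
      refine mem_normalizer_iff.2 fun w => ⟨fun hw => ?_, fun hw => ?_⟩
      · rw [(hcV w hw).eq, mul_inv_cancel_right]; exact hw
      · have := hcV _ hw
        rw [show w = a⁻¹ * (a * w * a⁻¹) * a by group, mul_assoc, ← this.eq, inv_mul_cancel_left]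
        exact hw
    have hW2 : IsPGroup 2 W :=
      IsPGroup.to_sup_of_normal_left' (IsPGroup.of_card (n := 2) (by rw [hV4]; norm_num))
        (IsPGroup.of_card (n := 1) (by rw [Nat.card_zpowers, ha.1, pow_one])) hnorm
    obtain ⟨S, hWS⟩ := hW2.exists_le_sylow
    obtain ⟨hS8, p, hp, q, hq, hpq⟩ := hS S
    have hWeq : W = (S : Subgroup G) := by
      refine eq_of_le_of_card_ge hWS ?_
      have h4 : 4 ∣ Nat.card W := hV4 ▸ card_dvd_of_le le_sup_left
      have hne : Nat.card W ≠ 4 := fun e => haV (by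
        have : V = W := eq_of_le_of_card_ge le_sup_left (by rw [e, hV4])
        rw [this]; exact mem_sup_right (mem_zpowers a))
      have := hS8 ▸ card_dvd_of_le hWS
      rw [hS8]
      have := Nat.le_of_dvd (by norm_num) this
      have : 0 < Nat.card W := Nat.card_pos
      omega
    have hcl : W = closure ((V : Set G) ∪ {a}) := by
      rw [Subgroup.closure_union, closure_eq, ← zpowers_eq_closure]
    have hWc : ∀ p ∈ W, ∀ q ∈ W, Commute p q := by
      rw [hcl]
      intro p hp q hq
      have hgen : ∀ s ∈ (V : Set G) ∪ {a}, ∀ s' ∈ (V : Set G) ∪ {a}, s * s' = s' * s := by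
        rintro s (hs | rfl) s' (hs' | rfl)
        · exact congrArg Subtype.val (hVc.is_comm.comm ⟨s, hs⟩ ⟨s', hs'⟩)
        · exact (hcV s hs).eq.symm
        · exact (hcV s' hs').eq
        · rfl
      haveI := Subgroup.isMulCommutative_closure hgen
      exact congrArg Subtype.val ((inferInstance : IsMulCommutative (closure ((V : Set G) ∪ {a}))).is_comm.comm
        ⟨p, hp⟩ ⟨q, hq⟩)
    exact hpq (hWc p (hWeq ▸ hp) q (hWeq ▸ hq)).eq
  rcases hv1t with rfl | rfl
  · -- the excluded case
    exfalso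
    rw [mul_one] at hbe
    set g := z ^ i with hg
    have hbg : b = g * a * g⁻¹ := by rw [hbe, hg]; exact conj_zpow_three hz haz i
    set x' := g * x * g⁻¹ with hx'
    have hx'o : orderOf x' = 3 := by rw [hx', orderOf_conj', hx]
    have hx'b : Commute x' b := hbg ▸ conj_mem_conj ha.2
    have heq := (fib_zof h hy ⟨b, hb⟩ hb).zpowers_eq hx'o hx'b
    have hx'P : x' ∈ (P : Subgroup G) := (zpowers_le.2 hyP : zpowers y ≤ _) (heq ▸ mem_zpowers x')
    have hx'x : x' ∉ zpowers x := fun e => hyx (by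
      have hle : zpowers y ≤ zpowers x := by rw [← heq]; exact zpowers_le.2 e
      exact hle (mem_zpowers y))
    have hP9 : Nat.card (P : Subgroup G) = 9 := by
      rw [card_sylow 2 280 (by rw [h]; norm_num) (by norm_num) P]; norm_num
    have hcomm : ∀ v ∈ (P : Subgroup G), ∀ w ∈ (P : Subgroup G), Commute v w := fun v hv w hw =>
      congrArg Subtype.val (IsPGroup.commutative_of_card_eq_prime_sq (p := 3) (G := (P : Subgroup G))
        (by rw [hP9]; norm_num) ⟨v, hv⟩ ⟨w, hw⟩)
    have hcl : closure ({x, x'} : Set G) = (P : Subgroup G) := by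
      have hle : closure ({x, x'} : Set G) ≤ (P : Subgroup G) :=
        (closure_le _).2 (by rintro w (rfl | rfl); exacts [hxP, hx'P])
      refine eq_of_le_of_card_ge hle ?_
      have hxle : zpowers x ≤ closure ({x, x'} : Set G) := zpowers_le.2 (subset_closure (Or.inl rfl))
      have hd := card_dvd_of_le hle
      rw [hP9] at hd ⊢
      obtain ⟨k, hk, hk2⟩ := (Nat.dvd_prime_pow Nat.prime_three).1 (show _ ∣ 3 ^ 2 from hd)
      have h3 := card_dvd_of_le hxle
      rw [Nat.card_zpowers, hx, hk2] at h3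
      interval_cases k
      · norm_num at h3
      · exfalso
        refine hx'x ?_
        rw [eq_of_le_of_card_ge hxle (by rw [hk2, Nat.card_zpowers, hx]; norm_num)]
        exact subset_closure (Or.inr rfl)
      · rw [hk2]; norm_num
    set x'' := g * x' * g⁻¹ with hx''
    have hg3 : g ^ 3 = 1 := by
      rw [hg, ← zpow_natCast, ← zpow_mul, mul_comm, zpow_mul, zpow_natCast, ← hz, pow_orderOf_eq_one, one_zpow]
    have hg3x : g * x'' * g⁻¹ = x := by
      calc g * x'' * g⁻¹ = g ^ 3 * x * (g ^ 3)⁻¹ := by rw [hx'', hx']; simp [pow_succ, mul_assoc]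
        _ = x := by rw [hg3]; group
    have hc1 : Commute x'' x' := conj_mem_conj (hcomm _ hx'P _ hxP)
    have hc2 : Commute x x'' := by
      have := conj_mem_conj (g := g) hc1
      rwa [hg3x, ← hx''] at this
    have hx''P : x'' ∈ (P : Subgroup G) := by
      have hle : (P : Subgroup G) ≤ centralizer ({x''} : Set G) := by
        rw [← hcl, closure_le]
        rintro w (rfl | rfl)
        · exact mem_centralizer_singleton_iff.2 hc2.eq
        · exact mem_centralizer_singleton_iff.2 hc1.symm.eq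
      have hn : zpowers x'' ≤ normalizer ((P : Subgroup G) : Set G) := zpowers_le.2
        (Subgroup.centralizer_le_normalizer _ (mem_centralizer_iff.2 fun w hw =>
          mem_centralizer_singleton_iff.1 (hle hw)))
      have hp3 := IsPGroup.to_sup_of_normal_left' P.isPGroup'
        (IsPGroup.of_card (n := 1) (by rw [Nat.card_zpowers, hx'', orderOf_conj', hx'o, pow_one])) hn
      exact (P.is_maximal' hp3 le_sup_left) ▸ mem_sup_right (mem_zpowers x'')
    have hgN : g ∈ normalizer ((P : Subgroup G) : Set G) := by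
      have hmap : (P : Subgroup G).map (MulAut.conj g).toMonoidHom = (P : Subgroup G) := by
        refine eq_of_le_of_card_ge ?_ (by rw [card_map_of_injective (MulAut.conj g).injective])
        conv_lhs => rw [← hcl]
        rw [MonoidHom.map_closure, closure_le]
        rintro _ ⟨w, (rfl | rfl), rfl⟩
        exacts [hx'P, hx''P]
      refine mem_normalizer_iff.2 fun w => ⟨fun hw => ?_, fun hw => ?_⟩
      · rw [← hmap]; exact ⟨w, hw, rfl⟩
      · rw [← hmap] at hw
        obtain ⟨w', hw', e⟩ := hw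
        have e' : g * w' * g⁻¹ = g * w * g⁻¹ := e
        rwa [← mul_left_cancel (mul_right_cancel e')]
    have hgP : g ∈ (P : Subgroup G) := by
      have hp3 := IsPGroup.to_sup_of_normal_left' P.isPGroup'
        ((IsPGroup.of_card (p := 3) (n := 1) (G := zpowers z) (by rw [Nat.card_zpowers, hz, pow_one])).to_le
          (zpowers_le.2 ⟨i, rfl⟩ : zpowers g ≤ zpowers z)) (zpowers_le.2 hgN)
      exact (P.is_maximal' hp3 le_sup_left) ▸ mem_sup_right (mem_zpowers g)
    have hgt : t * g * t⁻¹ = g := mul_inv_eq_iff_eq_mul.2 (hzt.zpow_left i).symm.eq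
    rw [hinvP g hgP] at hgt
    have hg2 : g * g = 1 := by nth_rewrite 1 [← hgt]; exact inv_mul_cancel g
    have hg1 : g = 1 := by
      rw [pow_succ, pow_two, hg2, one_mul] at hg3; exact hg3
    exact hx'x (by rw [hx', hg1]; simp)
  · -- the generic case
    have e : b * (a * v) = (z ^ i)⁻¹ := by
      calc b * (a * v) = a * v * z ^ i * (a * v) := by rw [hbe]
        _ = a * (v * z ^ i) * (a * v) := by group
        _ = a * (v * z ^ i) * (v * a) := by rw [show a * v = v * a from hat.eq]
        _ = a * (z ^ i * (v * v)) * a := by rw [← hvq.eq]; group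
        _ = (z ^ i)⁻¹ := by rw [ht2, mul_one]; nth_rewrite 2 [← hai]; exact haq
    rw [e, inv_pow, ← zpow_natCast, ← zpow_mul, mul_comm, zpow_mul, zpow_natCast, ← hz, pow_orderOf_eq_one,
      one_zpow, inv_one]

theorem iso_alternating (h : Nat.card G = 2520) : Nonempty (G ≃* alternatingGroup (Fin 7)) := by
  classical
  obtain ⟨x, y, t, a, b, P, hx, hy, ht, ha, hb, hat, hbt, hxy, hyx, hxP, hyP, hinvP⟩ := exists_config h
  have key := key_relation h hx hy ht ha hb hat hbt hxy hyx hxP hyP hinvP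
  have ha2 := mul_self_of_orderOf_two ha.1
  have hb2 := mul_self_of_orderOf_two hb.1
  have ht2 := mul_self_of_orderOf_two ht
  have hti := inv_of_orderOf_two ht
  have hai := inv_of_orderOf_two ha.1
  have htx : t * x * t⁻¹ = x⁻¹ := hinvP x hxP
  have hty : t * y * t⁻¹ = y⁻¹ := hinvP y hyP
  have hty' : t * y * t = y⁻¹ := by rw [← hty, hti]
  have hy3 : y ^ 3 = 1 := by rw [← hy, pow_orderOf_eq_one]
  have hx3 : x ^ 3 = 1 := by rw [← hx, pow_orderOf_eq_one]
  have hxy' : x ∉ zpowers y := fun e => hyx (by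
    rw [zpowers_eq_of_three hy e (ne_one_of_orderOf hx (by norm_num))]; exact mem_zpowers y)
  have hyi : y⁻¹ ∉ zpowers x := fun e => hyx (by simpa using inv_mem e)
  have hat2 : a * t * (a * t) = 1 := by rw [hat.symm.mul_mul_mul_comm, ha2, ht2, one_mul]
  have hyt2 : y * t * (y * t) = 1 := by
    rw [show y * t * (y * t) = y * (t * y * t) by group, hty', mul_inv_cancel]
  have hinv_at : a * t * x * (a * t)⁻¹ = x⁻¹ := by
    rw [show a * t * x * (a * t)⁻¹ = a * (t * x * t⁻¹) * a⁻¹ by group, htx, ← ha.2.inv_left.eq,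
      mul_inv_cancel_right]
  have hinv_yt : y * t * x * (y * t)⁻¹ = x⁻¹ := by
    rw [show y * t * x * (y * t)⁻¹ = y * (t * x * t⁻¹) * y⁻¹ by group, htx, hxy.symm.inv_right.eq,
      mul_inv_cancel_right]
  let f : Fin (7 - 2) → G := ![x, b, a * t, y * t, t]
  have f01 : (x * b) ^ 3 = 1 := by
    have hc := cube_one h hy ⟨b, hb⟩ hb hx3 hxy hxy'
    rw [show x * b = x * (b * x) * x⁻¹ by group, conj_pow, hc, mul_one, mul_inv_cancel]
  have f23 : (a * t * (y * t)) ^ 3 = 1 := by
    rw [show a * t * (y * t) = a * (t * y * t) by group, hty']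
    exact cube_one h hx ⟨a, ha⟩ ha (by rw [inv_pow, hy3, inv_one]) hxy.symm.inv_left hyi
  have f34 : (y * t * t) ^ 3 = 1 := by rw [mul_assoc, ht2, mul_one, hy3]
  have f02 : (x * (a * t)) ^ 2 = 1 := relator_sq hat2 hinv_at
  have f03 : (x * (y * t)) ^ 2 = 1 := relator_sq hyt2 hinv_yt
  have f04 : (x * t) ^ 2 = 1 := relator_sq ht2 htx
  have f13 : (b * (y * t)) ^ 2 = 1 := by
    rw [((hb.2.symm).mul_right hbt).mul_pow, pow_two, pow_two, hb2, hyt2, one_mul]
  have f14 : (b * t) ^ 2 = 1 := by rw [hbt.mul_pow, pow_two, pow_two, hb2, ht2, one_mul]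
  have f24 : (a * t * t) ^ 2 = 1 := by rw [mul_assoc, ht2, mul_one, pow_two, ha2]
  obtain ⟨e⟩ := Cfsg.Agent.S3335.result 7 (by norm_num)
  refine ⟨?_⟩
  have hrel : ∀ r ∈ ({g : FreeGroup (Fin (7 - 2)) | ∃ i : Fin (7 - 2), i.val = 0 ∧ g = FreeGroup.of i ^ 3} ∪
       {g | ∃ i : Fin (7 - 2), 1 ≤ i.val ∧ g = FreeGroup.of i ^ 2} ∪
       {g | ∃ i j : Fin (7 - 2), j.val = i.val + 1 ∧ g = (FreeGroup.of i * FreeGroup.of j) ^ 3} ∪
       {g | ∃ i j : Fin (7 - 2), i.val + 1 < j.val ∧ g = (FreeGroup.of i * FreeGroup.of j) ^ 2}),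
      FreeGroup.lift f r = 1 := by
    rintro r (((⟨i, hi, rfl⟩ | ⟨i, hi, rfl⟩) | ⟨i, j, hij, rfl⟩) | ⟨i, j, hij, rfl⟩) <;>
      simp only [map_pow, map_mul, FreeGroup.lift_apply_of]
    · fin_cases i <;> simp_all [f]
    · fin_cases i <;> simp_all [f, pow_two]
    · fin_cases i <;> fin_cases j <;> simp_all [f]
    · fin_cases i <;> fin_cases j <;> simp_all [f]
  let φ : alternatingGroup (Fin 7) →* G := (PresentedGroup.toGroup hrel).comp e.symm.toMonoidHom
  have hφ : φ.ker = ⊥ := by
    haveI : IsSimpleGroup (alternatingGroup (Fin 7)) := alternatingGroup.isSimpleGroup (by simp)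
    refine (MonoidHom.normal_ker φ).eq_bot_or_eq_top.resolve_right fun htop => ?_
    have := MonoidHom.mem_ker.1 (htop ▸ mem_top (e (PresentedGroup.of ⟨4, by norm_num⟩)) :
      e (PresentedGroup.of ⟨4, by norm_num⟩) ∈ φ.ker)
    simp [φ, f] at this
    exact ne_one_of_orderOf ht (by norm_num) this
  refine (MulEquiv.ofBijective φ ((Nat.bijective_iff_injective_and_card φ).2
    ⟨(MonoidHom.ker_eq_bot_iff φ).1 hφ, ?_⟩)).symm
  haveI : Nontrivial (Fin 7) := inferInstance
  rw [h, nat_card_alternatingGroup, Nat.card_eq_fintype_card, Fintype.card_fin]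
  norm_num [Nat.factorial]

end Cfsg.Lib.Small.Order2520
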