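import Cfsg.Agent.Lib.Small.ThreePrimeTools

/-!
# Tools for the theorem of Brauer and Tuan

* `intersection_congr`: the intersection of a `p`-block and the principal `q`-block;
* `sum_orderOf_eq_prime`: sums of class functions over the elements of order `p`;
* `apply_eq_zero_of_outside`: characters outside the principal block vanish on a self-centralizing
  element of order `p`;
* `half_values`: an irreducible character whose degree is the order of the automizer of a
  self-centralizing subgroup `P` of order `p` restricts to one orbit of characters of `P`.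
-/

set_option autoImplicit false
set_option linter.unusedSectionVars false
set_option linter.style.haveILetI false

namespace Cfsg.Lib.Small.BrauerTuan

open Cfsg Cfsg.Lib
open scoped ComplexConjugate

universe u

noncomputable local instance (priority := high) fintypeSubgroupBrauerTuanTools {A : Type u}
    [Group A] [Fintype A] (H : Subgroup A) : Fintype H := Fintype.ofFinite H

variable {G : Type u} [Group G] [Fintype G]

open Classical in
/-- A combination of characters vanishing on the `q`-singular elements has a part in the principal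
`q`-block whose degree is divisible by the `q`-part of the group order. -/
theorem intersection_congr {q : ℕ} [Fact q.Prime] {M : Ideal AlgInt} (hM : IsPModular q M)
    (T : Finset (IrrCharacter G)) (c : IrrCharacter G → ℂ) (hc : ∀ χ ∈ T, IsIntegral ℤ (c χ))
    (hvan : ∀ g : G, q ∣ orderOf g → ∑ χ ∈ T, c χ * (χ : G → ℂ) g = 0) (Q : Sylow q G) :
    ∃ α : ℂ, IsIntegral ℤ α ∧
      ∑ χ ∈ T.filter (fun χ => χ ∈ principalBlock M G), c χ * (χ : G → ℂ) 1 =
        (Nat.card (Q : Subgroup G) : ℂ) * α := by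
  set B := principalBlock M G
  have hB : IsPBlock M B := Block.isPBlock_principal
  have hI := Block.vInt_indVec hM hB
  let c' : IrrCharacter G → ℂ := fun χ => if χ ∈ T then c χ else 0
  have hcT : ∀ f : IrrCharacter G → ℂ, ∑ χ, c' χ * f χ = ∑ χ ∈ T, c χ * f χ := fun f => by
    rw [← Finset.sum_subset (Finset.subset_univ T) fun χ _ h => by simp [c', h]]
    exact Finset.sum_congr rfl fun χ h => by simp [c', h]
  -- the combination equals its regular part
  have hreg : ∀ g, ∑ χ, c' χ * (χ : G → ℂ) g = ∑ χ, c' χ * pRegularPart q (χ : G → ℂ) g := by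
    intro g
    by_cases hg : IsPRegular q g
    · exact Finset.sum_congr rfl fun χ _ => by rw [Block.pRegularPart_of_reg hg]
    · rw [Finset.sum_eq_zero (f := fun χ : IrrCharacter G => c' χ * pRegularPart q (χ : G → ℂ) g)
        fun χ _ => by simp only [Block.pRegularPart_of_sing hg, mul_zero]]
      rw [hcT (fun χ => (χ : G → ℂ) g)]
      exact hvan g (not_not.1 hg)
  -- hence its coefficients are those of its regular part
  have hcoef : ∀ ψ : IrrCharacter G,
      c' ψ = ∑ χ, c' χ * Block.regInner q (χ : G → ℂ) (ψ : G → ℂ) := by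
    intro ψ
    have h1 : classInner (∑ χ : IrrCharacter G, c' χ • (χ : G → ℂ)) (ψ : G → ℂ) = c' ψ := by
      rw [Char.classInner_sum_left, Finset.sum_eq_single ψ]
      · rw [Char.classInner_smul_left, Char.classInner_irr_self ψ.2, mul_one]
      · intro χ _ hne
        rw [Char.classInner_smul_left, Char.classInner_irr_ne χ.2 ψ.2 (fun h => hne (Subtype.ext h)),
          mul_zero]
      · simp
    have h2 : (∑ χ : IrrCharacter G, c' χ • (χ : G → ℂ)) =
        ∑ χ : IrrCharacter G, c' χ • pRegularPart q (χ : G → ℂ) := by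
      funext g
      simp only [Finset.sum_apply, Pi.smul_apply, smul_eq_mul]
      exact hreg g
    rw [h2, Char.classInner_sum_left] at h1
    rw [← h1]
    exact Finset.sum_congr rfl fun χ _ => by rw [Char.classInner_smul_left]; rfl
  -- so the part in the block vanishes on the singular elements
  have hpart : ∀ g, q ∣ orderOf g → ∑ ψ ∈ B.toFinset, c' ψ * (ψ : G → ℂ) g = 0 := by
    intro g hg
    have hsing : ¬ IsPRegular q g := not_not.2 hg
    have hexp : ∀ χ ∈ B.toFinset,
        ∑ ψ ∈ B.toFinset, Block.regInner q (χ : G → ℂ) (ψ : G → ℂ) * (ψ : G → ℂ) g = 0 := by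
      intro χ hχ
      have h := congrFun (Block.regPart_expand hM hI (Set.mem_toFinset.1 hχ)) g
      rw [Block.pRegularPart_of_sing hsing] at h
      simp only [Finset.sum_apply, Pi.smul_apply, smul_eq_mul] at h
      exact h.symm
    have hrestr : ∀ ψ ∈ B.toFinset,
        c' ψ = ∑ χ ∈ B.toFinset, c' χ * Block.regInner q (χ : G → ℂ) (ψ : G → ℂ) := by
      intro ψ hψ
      rw [hcoef ψ]
      refine (Finset.sum_subset (Finset.subset_univ _) fun χ _ hχ => ?_).symm
      rw [Block.regInner_symm, Block.regInner_eq_zero hM hI (Set.mem_toFinset.1 hψ)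
        (fun h => hχ (Set.mem_toFinset.2 h)), mul_zero]
    rw [Finset.sum_congr rfl fun ψ hψ => by rw [hrestr ψ hψ, Finset.sum_mul], Finset.sum_comm]
    refine Finset.sum_eq_zero fun χ hχ => ?_
    rw [Finset.sum_congr rfl fun ψ _ => mul_assoc (c' χ) _ _, ← Finset.mul_sum, hexp χ hχ, mul_zero]
  choose m hm using fun χ : IrrCharacter G => (χ.2.isCharacter.comp (Q : Subgroup G).subtype).exists_nat_classInner
    (Char.isIrrCharacter_one (G := (Q : Subgroup G))).isCharacter
  have hmQ : ∀ χ : IrrCharacter G, ∑ u : (Q : Subgroup G), (χ : G → ℂ) u =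
      (Nat.card (Q : Subgroup G) : ℂ) * (m χ : ℂ) := by
    intro χ
    have h : classInner (fun u : (Q : Subgroup G) => (χ : G → ℂ) u) (fun _ => 1) = (m χ : ℂ) := hm χ
    rw [Char.classInner_one_right] at h
    rw [← h, ← mul_assoc, mul_inv_cancel₀ (Nat.cast_ne_zero.2 Nat.card_pos.ne'), one_mul]
  refine ⟨∑ χ ∈ B.toFinset, c' χ * (m χ : ℂ),
    IsIntegral.sum _ fun χ _ => IsIntegral.mul ?_ (isIntegral_algebraMap (R := ℤ) (x := (m χ : ℤ))), ?_⟩
  · simp only [c']
    split_ifs with h
    · exact hc χ h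
    · exact isIntegral_zero
  have hsum : ∑ u : (Q : Subgroup G), ∑ ψ ∈ B.toFinset, c' ψ * (ψ : G → ℂ) u =
      ∑ ψ ∈ B.toFinset, c' ψ * (ψ : G → ℂ) 1 := by
    rw [Finset.sum_eq_single (1 : (Q : Subgroup G)) (fun u _ hu => ?_) (by simp)]
    · rfl
    · refine hpart _ ?_
      obtain ⟨k, hk⟩ := IsPGroup.iff_orderOf.1 Q.2 u
      rw [Subgroup.orderOf_coe, hk]
      refine dvd_pow_self q fun h0 => hu ?_
      rw [h0, pow_zero, orderOf_eq_one_iff] at hk
      exact hk
  rw [Finset.sum_comm, Finset.sum_congr rfl fun ψ _ => by rw [← Finset.mul_sum, hmQ]] at hsum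
  have hl : ∑ χ ∈ T.filter (fun χ => χ ∈ B), c χ * (χ : G → ℂ) 1 =
      ∑ ψ ∈ B.toFinset, c' ψ * (ψ : G → ℂ) 1 := by
    refine Finset.sum_bij_ne_zero (fun χ _ _ => χ) (fun χ h _ => Set.mem_toFinset.2 (Finset.mem_filter.1 h).2)
      (fun a _ _ b _ _ h => h) (fun ψ h hne => ?_) (fun χ h _ => by simp [c', (Finset.mem_filter.1 h).1])
    have hT : ψ ∈ T := by
      by_contra hT
      exact hne (by simp [c', hT])
    refine ⟨ψ, Finset.mem_filter.2 ⟨hT, Set.mem_toFinset.1 h⟩, ?_, rfl⟩
    simpa [c', hT] using hne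
  rw [hl, ← hsum, Finset.mul_sum]
  exact Finset.sum_congr rfl fun χ _ => by ring

/-- The sum of a class function over the elements of order `p`, the order of a Sylow subgroup. -/
theorem sum_orderOf_eq_prime {p : ℕ} [hp : Fact p.Prime] (P : Sylow p G)
    (hP : Nat.card (P : Subgroup G) = p) [DecidableEq G] {f : G → ℂ} (hf : IsClassFunction G f) :
    ∑ g ∈ Finset.univ.filter (fun g : G => orderOf g = p), f g =
      (Nat.card (Sylow p G) : ℂ) * ((∑ u : (P : Subgroup G), f u) - f 1) := by
  classical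
  haveI := Fintype.ofFinite (Sylow p G)
  have hall : ∀ Q : Sylow p G, Nat.card (Q : Subgroup G) = p := fun Q => by
    rw [Q.card_eq_multiplicity, ← P.card_eq_multiplicity, hP]
  have hdis : ((Finset.univ : Finset (Sylow p G)) : Set (Sylow p G)).PairwiseDisjoint
      (fun Q => Finset.univ.filter (fun g : G => g ∈ (Q : Subgroup G) ∧ g ≠ 1)) := by
    intro Q _ R _ hne
    rw [Function.onFun, Finset.disjoint_left]
    intro g hgQ hgR
    simp only [Finset.mem_filter, Finset.mem_univ, true_and] at hgQ hgR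
    exact hne (Sylow.ext (by
      rw [← zpowers_eq_of_prime_card (hall Q) hgQ.1 hgQ.2,
        ← zpowers_eq_of_prime_card (hall R) hgR.1 hgR.2]))
  have hunion : Finset.univ.filter (fun g : G => orderOf g = p) =
      Finset.univ.biUnion
        (fun Q : Sylow p G => Finset.univ.filter (fun g : G => g ∈ (Q : Subgroup G) ∧ g ≠ 1)) := by
    ext g
    simp only [Finset.mem_filter, Finset.mem_univ, true_and, Finset.mem_biUnion]
    constructor
    · intro hg
      obtain ⟨Q, hQ⟩ := exists_sylow_eq_zpowers hall hg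
      exact ⟨Q, hQ ▸ Subgroup.mem_zpowers g, fun h => hp.out.ne_one (by rw [← hg, h, orderOf_one])⟩
    · rintro ⟨Q, hgQ, hg1⟩
      rw [← Nat.card_zpowers, zpowers_eq_of_prime_card (hall Q) hgQ hg1, hall Q]
  rw [hunion, Finset.sum_biUnion hdis]
  have hone : ∀ Q : Sylow p G,
      ∑ g ∈ Finset.univ.filter (fun g : G => g ∈ (Q : Subgroup G) ∧ g ≠ 1), f g =
        (∑ u : (P : Subgroup G), f u) - f 1 := by
    intro Q
    obtain ⟨c, hc⟩ := MulAction.exists_smul_eq G P Q
    have hmem : ∀ g, g ∈ (Q : Subgroup G) ↔ c⁻¹ * g * c ∈ (P : Subgroup G) := by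
      intro g
      rw [← hc, Sylow.coe_subgroup_smul, Subgroup.mem_pointwise_smul_iff_inv_smul_mem]
      simp [MulAut.smul_def]
    have h1 : ∑ g ∈ Finset.univ.filter (fun g : G => g ∈ (Q : Subgroup G)), f g =
        ∑ u : (P : Subgroup G), f u := by
      refine Finset.sum_bij' (fun g hg => (⟨c⁻¹ * g * c, (hmem g).1 (Finset.mem_filter.1 hg).2⟩ :
          (P : Subgroup G))) (fun u _ => c * (u : G) * c⁻¹) (fun _ _ => Finset.mem_univ _) ?_ ?_ ?_ ?_
      · intro u _
        simp only [Finset.mem_filter, Finset.mem_univ, true_and, hmem]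
        rw [show c⁻¹ * (c * (u : G) * c⁻¹) * c = u by group]
        exact u.2
      · intro g _
        simp only
        group
      · intro u _
        apply Subtype.ext
        simp only
        group
      · intro g _
        simp only
        have := hf g c⁻¹
        rwa [inv_inv, eq_comm] at this
    have h2 : Finset.univ.filter (fun g : G => g ∈ (Q : Subgroup G) ∧ g ≠ 1) =
        (Finset.univ.filter (fun g : G => g ∈ (Q : Subgroup G))).erase 1 := by
      ext g
      simp [and_comm]
    rw [h2, Finset.sum_erase_eq_sub (by simp [Subgroup.one_mem]), h1]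
  rw [Finset.sum_congr rfl fun Q _ => hone Q, Finset.sum_const, Finset.card_univ, nsmul_eq_mul,
    Nat.card_eq_fintype_card]

/-- Outside the principal block the characters vanish on a self-centralizing element of order
`p`. -/
theorem apply_eq_zero_of_outside {p : ℕ} [Fact p.Prime] {P : Sylow p G} {e : ℕ} (S : Shape P e)
    (hC : Nat.card (Subgroup.centralizer ((P : Subgroup G) : Set G)) = p) {x : G}
    (hx : x ∈ (P : Subgroup G)) (hx1 : x ≠ 1) {χ : IrrCharacter G}
    (hχ : χ ∉ principalBlock S.M G) : (χ : G → ℂ) x = 0 := by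
  classical
  have hpp : p.Prime := Fact.out
  have hCP : Subgroup.centralizer ((P : Subgroup G) : Set G) = (P : Subgroup G) :=
    (Subgroup.eq_of_le_of_card_ge (Block.le_centralizer_self S.card_P) (by rw [hC, S.card_P])).symm
  have hxdvd : p ∣ orderOf x := by
    rw [← Nat.card_zpowers, zpowers_eq_of_prime_card S.card_P hx hx1, S.card_P]
  have hB : IsPBlock S.M (blockOf S.M (χ : G → ℂ)) := Block.isPBlock_blockOf χ
  have hd0 : blockDefect p (blockOf S.M (χ : G → ℂ)) = 0 := by
    by_contra hd
    have h1 := Block.isDefectGroup_of_pos S.hM P S.card_P hB hd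
    have h2 := Block.isDefectGroup_principal_sylow S.hM P
    have hsub : Subsingleton {C : ConjClasses (Subgroup.normalizer ((P : Subgroup G) : Set G)) //
        ∀ n : Subgroup.normalizer ((P : Subgroup G) : Set G), ConjClasses.mk n = C →
          ¬ p ∣ orderOf n ∧ (n : G) ∈ Subgroup.centralizer ((P : Subgroup G) : Set G)} := by
      refine ⟨fun C D => Subtype.ext ?_⟩
      have key : ∀ C : {C : ConjClasses (Subgroup.normalizer ((P : Subgroup G) : Set G)) //
        ∀ n : Subgroup.normalizer ((P : Subgroup G) : Set G), ConjClasses.mk n = C →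
          ¬ p ∣ orderOf n ∧ (n : G) ∈ Subgroup.centralizer ((P : Subgroup G) : Set G)},
          C.1 = ConjClasses.mk 1 := by
        rintro ⟨C, hC'⟩
        obtain ⟨n, rfl⟩ := ConjClasses.mk_surjective C
        obtain ⟨h3, h4⟩ := hC' n rfl
        rw [hCP] at h4
        have h5 : orderOf n ∣ p := by
          rw [← Subgroup.orderOf_coe]
          exact (Subgroup.orderOf_dvd_natCard _ h4).trans S.card_P.dvd
        rcases (Nat.dvd_prime hpp).1 h5 with h6 | h6
        · exact congrArg ConjClasses.mk (orderOf_eq_one_iff.1 h6)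
        · exact absurd h6.symm.dvd h3
      rw [key C, key D]
    have hle : Nat.card {B : Set (IrrCharacter G) // IsPBlock S.M B ∧
        IsDefectGroup p S.M B (P : Subgroup G)} ≤ 1 := by
      rw [Cfsg.Agent.S0953.result p S.M S.hM P]
      exact Finite.card_le_one_iff_subsingleton.2 hsub
    have := Finite.card_le_one_iff_subsingleton.1 hle
    have h3 := congrArg Subtype.val (@Subsingleton.elim _ this
      ⟨_, hB, h1⟩ ⟨_, Block.isPBlock_principal, h2⟩)
    have h3' : blockOf S.M (χ : G → ℂ) = principalBlock S.M G := h3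
    exact hχ (h3' ▸ Block.self_mem_blockOf S.hM χ)
  obtain ⟨ψ, hψ, -⟩ := (Block.blockDefect_eq_zero_iff S.hM hB).1 hd0
  have h4 := Block.sum_block_mul_conj_eq_zero S.hM (Block.vInt_indVec S.hM hB) (g := 1) (h := x)
    (Block.not_isConj_pPt_of_dvd (by rw [orderOf_one]; exact hpp.not_dvd_one) hxdvd)
  have hψ' : χ = ψ := by
    have := Block.self_mem_blockOf S.hM χ; rw [hψ] at this; exact this
  rw [hψ, finsum_mem_singleton, ← hψ', mul_eq_zero] at h4
  simpa using h4.resolve_left χ.2.apply_one_ne_zero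

/-- A character whose degree is the order of the automizer: its eigenvalues on the Sylow subgroup
are distinct and different from one. -/
theorem half_values [IsSimpleGroup G] {p : ℕ} [Fact p.Prime] {P : Sylow p G} {e : ℕ}
    (S : Shape P e) {χ : IrrCharacter G} (hχ : χ ≠ one' G) (hd : charDegree (χ : G → ℂ) = e) :
    ∑ u : (P : Subgroup G), (χ : G → ℂ) u = 0 ∧
      ∑ u : (P : Subgroup G), (χ : G → ℂ) u * conj ((χ : G → ℂ) u) = (p : ℂ) * e := by
  classical
  have hpp : p.Prime := Fact.out
  set N := Subgroup.normalizer ((P : Subgroup G) : Set G)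
  set C := Subgroup.centralizer ((P : Subgroup G) : Set G)
  obtain ⟨⟨x, hxP⟩, hx⟩ := exists_prime_orderOf_dvd_card' (G := (P : Subgroup G)) p S.card_P.symm.dvd
  rw [Subgroup.orderOf_mk] at hx
  have hx1 : x ≠ 1 := fun h => hpp.ne_one (by rw [← hx, h, orderOf_one])
  have hzp : Subgroup.zpowers x = (P : Subgroup G) := zpowers_eq_of_prime_card S.card_P hxP hx1
  obtain ⟨n, ρ, hirr, hρ⟩ := χ.2
  obtain ⟨μ, hμ, -, -, hpow, -, -⟩ := Char.character_eq_sum_roots ρ x
  rw [hx] at hμ
  have hdim : Module.finrank ℂ (Fin n → ℂ) = e := by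
    have h := congrFun hρ 1
    rw [Representation.char_one, Block.apply_one_eq_charDegree, hd] at h
    exact_mod_cast h
  have hval : ∀ i, (χ : G → ℂ) (x ^ i) = ∑ j, μ j ^ i := fun i => by rw [← hpow i, hρ]
  -- some eigenvalue is not one
  obtain ⟨j₀, hj₀⟩ : ∃ j, μ j ≠ 1 := by
    by_contra hall
    push Not at hall
    refine hx1 (eq_one_of_apply_eq hχ ?_)
    have h1 := hval 1
    rw [pow_one] at h1
    rw [h1, Finset.sum_congr rfl fun j _ => by rw [hall j, one_pow], Finset.sum_const,
      Finset.card_univ, Fintype.card_fin, hdim, Block.apply_one_eq_charDegree, hd, nsmul_eq_mul,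
      mul_one]
  have hprim : IsPrimitiveRoot (μ j₀) p := by
    refine IsPrimitiveRoot.iff_orderOf.2 ?_
    rcases (Nat.dvd_prime hpp).1 (orderOf_dvd_of_pow_eq_one (hμ j₀)) with h | h
    · exact absurd (orderOf_eq_one_iff.1 h) hj₀
    · exact h
  -- the conjugates of `x` under the normalizer
  let F : N → G := fun g => (g : G) * x * (g : G)⁻¹
  set O := Finset.univ.image F with hO
  have hFeq : ∀ g h : N, F g = F h ↔ (g⁻¹ * h : N) ∈ C.subgroupOf N := by
    intro g h
    rw [Subgroup.mem_subgroupOf, Subgroup.coe_mul, InvMemClass.coe_inv]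
    simp only [C]
    rw [← hzp, centralizer_zpowers]
    simp only [F, Subgroup.mem_centralizer_singleton_iff]
    constructor <;> intro hh
    · calc (g : G)⁻¹ * h * x = (g : G)⁻¹ * ((h : G) * x * (h : G)⁻¹) * h := by group
        _ = (g : G)⁻¹ * ((g : G) * x * (g : G)⁻¹) * h := by rw [hh]
        _ = x * ((g : G)⁻¹ * h) := by group
    · calc (g : G) * x * (g : G)⁻¹ = g * (x * ((g : G)⁻¹ * h)) * (h : G)⁻¹ := by group
        _ = g * ((g : G)⁻¹ * h * x) * (h : G)⁻¹ := by rw [hh]
        _ = (h : G) * x * (h : G)⁻¹ := by group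
  have hOcard : O.card = e := by
    have hinj : Function.Injective (fun c : N ⧸ C.subgroupOf N => F c.out) := by
      intro a b h
      have h' := (hFeq _ _).1 h
      have := (QuotientGroup.eq).2 h'
      rwa [QuotientGroup.out_eq', QuotientGroup.out_eq'] at this
    haveI := Fintype.ofFinite (N ⧸ C.subgroupOf N)
    have himg : O = Finset.univ.image (fun c : N ⧸ C.subgroupOf N => F c.out) := by
      ext y
      simp only [hO, Finset.mem_image, Finset.mem_univ, true_and]
      constructor
      · rintro ⟨g, rfl⟩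
        refine ⟨(g : N ⧸ C.subgroupOf N), (hFeq _ _).2 ?_⟩
        exact QuotientGroup.eq.1 (QuotientGroup.out_eq' _)
      · rintro ⟨c, rfl⟩
        exact ⟨c.out, rfl⟩
    rw [himg, Finset.card_image_of_injective _ hinj, Finset.card_univ, ← Nat.card_eq_fintype_card,
      ← Subgroup.index_eq_card, ← S.relIndex_eq]
    rfl
  have hexp : ∀ y ∈ O, ∃ a : ℕ, a < p ∧ x ^ a = y ∧ ∀ i : ℕ, (χ : G → ℂ) (y ^ i) = (χ : G → ℂ) (x ^ i) := by
    intro y hy
    obtain ⟨g, -, rfl⟩ := Finset.mem_image.1 hy
    have hmem : F g ∈ (P : Subgroup G) := (Subgroup.mem_normalizer_iff.1 g.2 x).1 hxP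
    rw [← hzp] at hmem
    obtain ⟨a, ha⟩ := (mem_powers_iff_mem_zpowers (x := x)).2 hmem
    refine ⟨a % p, Nat.mod_lt _ hpp.pos, ?_, fun i => ?_⟩
    · rw [← hx, pow_mod_orderOf]; exact ha
    · simp only [F]
      rw [conj_pow]
      exact χ.2.isClassFunction _ _
  choose! a ha using hexp
  -- the eigenvalues run over an orbit
  have hsurj : ∀ y ∈ O, ∃ j, μ j = μ j₀ ^ a y := by
    intro y hy
    obtain ⟨-, hay, hyc⟩ := ha y hy
    have hν : (μ j₀ ^ a y) ^ p = 1 := by rw [← pow_mul, mul_comm, pow_mul, hμ, one_pow]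
    have h1 := sum_pow_inv_mul μ hμ hν
    have h2 := sum_pow_inv_mul (fun j => μ j ^ a y)
      (fun j => by rw [← pow_mul, mul_comm, pow_mul, hμ, one_pow]) hν
    have h3 : ∀ i : ℕ, (∑ j, (μ j ^ a y) ^ i) = ∑ j, μ j ^ i := fun i => by
      have hyi : x ^ (a y * i) = y ^ i := by rw [pow_mul, hay]
      calc (∑ j, (μ j ^ a y) ^ i) = ∑ j, μ j ^ (a y * i) :=
            Finset.sum_congr rfl fun j _ => by rw [← pow_mul]
        _ = (χ : G → ℂ) (x ^ i) := by rw [← hval, hyi, hyc]
        _ = _ := hval i
    simp only [h3] at h2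
    rw [h1] at h2
    have h4 : (Finset.univ.filter fun j => μ j = μ j₀ ^ a y).card =
        (Finset.univ.filter fun j => μ j ^ a y = μ j₀ ^ a y).card := by
      exact_mod_cast mul_left_cancel₀ (Nat.cast_ne_zero.2 hpp.ne_zero) h2
    obtain ⟨j, hj⟩ : (Finset.univ.filter fun j => μ j = μ j₀ ^ a y).Nonempty := by
      rw [← Finset.card_pos, h4, Finset.card_pos]
      exact ⟨j₀, by simp⟩
    exact ⟨j, (Finset.mem_filter.1 hj).2⟩
  choose g hg using hsurj
  have hginj : Function.Injective (fun y : O => g y.1 y.2) := by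
    intro y z h
    have h' : μ (g y.1 y.2) = μ (g z.1 z.2) := congrArg μ h
    rw [hg, hg] at h'
    have h2 := hprim.pow_inj (ha y.1 y.2).1 (ha z.1 z.2).1 h'
    exact Subtype.ext (by rw [← (ha y.1 y.2).2.1, ← (ha z.1 z.2).2.1, h2])
  have hbij : Function.Bijective (fun y : O => g y.1 y.2) :=
    (Fintype.bijective_iff_injective_and_card _).2 ⟨hginj, by
      rw [Fintype.card_coe, hOcard, Fintype.card_fin, hdim]⟩
  have hne1 : ∀ j, μ j ≠ 1 := by
    intro j h1
    obtain ⟨⟨y, hy⟩, rfl⟩ := hbij.2 j
    simp only [hg] at h1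
    have := hprim.dvd_of_pow_eq_one _ h1
    obtain ⟨hlt, hay, -⟩ := ha y hy
    have ha0 : a y = 0 := Nat.eq_zero_of_dvd_of_lt this hlt
    obtain ⟨g', -, hg'⟩ := Finset.mem_image.1 hy
    rw [ha0, pow_zero] at hay
    apply hx1
    rw [← hay] at hg'
    exact conj_eq_one_iff.1 hg'
  have hμinj : Function.Injective μ := by
    intro i j h
    obtain ⟨⟨y, hy⟩, rfl⟩ := hbij.2 i
    obtain ⟨⟨z, hz⟩, rfl⟩ := hbij.2 j
    simp only [hg] at h
    have h2 := hprim.pow_inj (ha y hy).1 (ha z hz).1 h
    have hyz : y = z := by rw [← (ha y hy).2.1, ← (ha z hz).2.1, h2]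
    subst hyz
    rfl
  -- sums over `P`
  have hsumP : ∀ f : G → ℂ, ∑ u : (P : Subgroup G), f u = ∑ i ∈ Finset.range p, f (x ^ i) := by
    intro f
    symm
    refine Finset.sum_bij (fun i _ => (⟨x ^ i, pow_mem hxP i⟩ : (P : Subgroup G)))
      (fun _ _ => Finset.mem_univ _) (fun i hi j hj h => ?_) (fun u _ => ?_) (fun _ _ => rfl)
    · rw [Finset.mem_range] at hi hj
      exact pow_injOn_Iio_orderOf (by simpa [hx] using hi) (by simpa [hx] using hj)
        (congrArg Subtype.val h)
    · have hu : (u : G) ∈ Subgroup.zpowers x := by rw [hzp]; exact u.2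
      obtain ⟨k, hk⟩ := (mem_powers_iff_mem_zpowers (x := x)).2 hu
      refine ⟨k % p, Finset.mem_range.2 (Nat.mod_lt _ hpp.pos), Subtype.ext ?_⟩
      show x ^ (k % p) = (u : G)
      rw [show k % p = k % orderOf x by rw [hx], pow_mod_orderOf]
      exact hk
  constructor
  · rw [hsumP, Finset.sum_congr rfl fun i _ => hval i, Finset.sum_comm]
    refine Finset.sum_eq_zero fun j _ => ?_
    rw [geom_sum_eq (hne1 j), hμ, sub_self, zero_div]
  · rw [hsumP (fun u => (χ : G → ℂ) u * conj ((χ : G → ℂ) u))]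
    have hc : ∀ i, conj ((χ : G → ℂ) (x ^ i)) = ∑ j, ((μ j)⁻¹) ^ i := fun i => by
      rw [hval, map_sum]
      refine Finset.sum_congr rfl fun j _ => ?_
      rw [map_pow, Complex.inv_eq_conj (Complex.norm_eq_one_of_pow_eq_one (hμ j) hpp.ne_zero)]
    simp only [hc]
    simp only [hval, Finset.sum_mul_sum, ← mul_pow]
    rw [Finset.sum_comm]
    have hkey : ∀ j k, ∑ i ∈ Finset.range p, (μ j * (μ k)⁻¹) ^ i = if j = k then (p : ℂ) else 0 := by
      intro j k
      have hk0 : μ k ≠ 0 := fun h => by
        have := hμ k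
        rw [h, zero_pow hpp.ne_zero] at this
        exact zero_ne_one this
      split_ifs with h
      · subst h; simp [hk0]
      · rw [geom_sum_eq (fun e1 => h (hμinj (by
          rwa [mul_inv_eq_one₀ hk0] at e1))), mul_pow, inv_pow, hμ, hμ, inv_one, mul_one, sub_self,
          zero_div]
    rw [Finset.sum_congr rfl fun j _ => by
      rw [Finset.sum_comm, Finset.sum_congr rfl fun k _ => hkey j k, Finset.sum_ite_eq,
        if_pos (Finset.mem_univ j)], Finset.sum_const, Finset.card_univ, Fintype.card_fin, hdim,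
      nsmul_eq_mul, mul_comm]

end Cfsg.Lib.Small.BrauerTuan
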