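import Cfsg.Agent.S3742
import Mathlib

/-!
# Groups of order 48 with a self-centralizing normal quaternion subgroup of order 8

If such a group has an involution outside the quaternion subgroup, it is `GL(2,3)`.
-/

set_option autoImplicit false

namespace Cfsg.Lib.Small.RepSymFour

open Subgroup
open scoped Pointwise

/-- The automorphism group of the quaternion group as a permutation group. -/
noncomputable def autFour : MulAut (QuaternionGroup 2) ≃* Equiv.Perm (Fin 4) :=
  Classical.choice Cfsg.Agent.S3742.result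

/-- A point stabilizer in the automorphism group of the quaternion group. -/
noncomputable def pointAut : Subgroup (MulAut (QuaternionGroup 2)) :=
  (MulAction.stabilizer (Equiv.Perm (Fin 4)) (0 : Fin 4)).comap autFour.toMonoidHom

/-- The split extension of the quaternion group by the symmetric group of degree three. -/
abbrev Model := QuaternionGroup 2 ⋊[pointAut.subtype] pointAut

theorem perm_move : ∀ v : Equiv.Perm (Fin 4), v ≠ 1 → v * v = 1 → (∃ i, v i = i) →
    ∃ g : Equiv.Perm (Fin 4), v * (g * v * g⁻¹) * (v * (g * v * g⁻¹)) ≠ 1 := by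
  decide +kernel

theorem perm_three : ∀ u v w : Equiv.Perm (Fin 4), u * u = 1 → v * v = 1 → w * w = 1 →
    (∀ i, u i ≠ i) → (∀ i, v i ≠ i) → (∀ i, w i ≠ i) → v ≠ w → u = v ∨ u = w ∨ u = v * w := by
  decide +kernel

theorem perm_invert : ∀ u w : Equiv.Perm (Fin 4), u 0 = 0 → w 0 = 0 → u * u * u = 1 → u ≠ 1 →
    w * w = 1 → w ≠ 1 → w * u * w⁻¹ = u⁻¹ := by
  decide +kernel

/-- The point stabilizer of automorphisms is the point stabilizer of permutations. -/
noncomputable def pointEquiv : pointAut ≃* MulAction.stabilizer (Equiv.Perm (Fin 4)) (0 : Fin 4) :=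
  (autFour.subgroupMap pointAut).trans
    (MulEquiv.subgroupCongr (map_comap_eq_self_of_surjective autFour.surjective _))

theorem card_pointAut : Nat.card pointAut = 6 := by
  rw [Nat.card_congr pointEquiv.toEquiv, Nat.card_eq_fintype_card]
  decide +kernel

theorem card_model : Nat.card Model = 48 := by
  rw [SemidirectProduct.card, card_pointAut, Nat.card_eq_fintype_card, QuaternionGroup.card]

theorem card_center_quat : Nat.card (center (QuaternionGroup 2)) = 2 := by
  rw [Nat.card_eq_fintype_card]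
  decide +kernel

variable {G : Type*} [Group G]

/-- The action of `G` on a normal quaternion subgroup, as permutations of four points. -/
noncomputable def act (Q : Subgroup G) [Q.Normal] (e : Q ≃* QuaternionGroup 2) : G →* Equiv.Perm (Fin 4) :=
  (autFour.toMonoidHom.comp (MulAut.congr e).toMonoidHom).comp MulAut.conjNormal

theorem act_eq_one {Q : Subgroup G} [Q.Normal] {e : Q ≃* QuaternionGroup 2} {g : G} :
    act Q e g = 1 ↔ g ∈ centralizer (Q : Set G) := by
  have h : act Q e g = 1 ↔ (MulAut.conjNormal g : MulAut Q) = 1 := by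
    rw [act, MonoidHom.comp_apply, MonoidHom.comp_apply]
    exact (map_eq_one_iff _ autFour.injective).trans (map_eq_one_iff _ (MulAut.congr e).injective)
  rw [h, mem_centralizer_iff]
  constructor
  · intro h y hy
    have h2 := congrArg (fun f : MulAut Q => ((f ⟨y, hy⟩ : Q) : G)) h
    simp only [MulAut.conjNormal_apply, MulAut.one_apply] at h2
    exact (mul_inv_eq_iff_eq_mul.mp h2).symm
  · intro h
    refine MulEquiv.ext fun y => Subtype.ext ?_
    rw [MulAut.conjNormal_apply, MulAut.one_apply, ← h y y.2, mul_inv_cancel_right]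

section facts

variable [Finite G] {Q : Subgroup G} [Q.Normal] {e : Q ≃* QuaternionGroup 2}
variable (hC : centralizer (Q : Set G) ≤ Q)

include hC

theorem card_ker : Nat.card (act Q e).ker = 2 := by
  have hk : (act Q e).ker = (center Q).map Q.subtype := by
    ext g
    rw [MonoidHom.mem_ker, act_eq_one]
    constructor
    · intro hg
      refine ⟨⟨g, hC hg⟩, mem_center_iff.mpr fun y => Subtype.ext ?_, rfl⟩
      exact mem_centralizer_iff.mp hg y y.2
    · rintro ⟨x, hx, rfl⟩
      exact mem_centralizer_iff.mpr fun y hy => congrArg Subtype.val (mem_center_iff.mp hx ⟨y, hy⟩)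
  rw [hk, card_map_of_injective Q.subtype_injective, Nat.card_congr (centerCongr e).toEquiv, card_center_quat]

theorem act_surjective (h48 : Nat.card G = 48) : Function.Surjective (act Q e) := by
  rw [← MonoidHom.range_eq_top]
  refine eq_top_of_card_eq _ ?_
  have h1 := (act Q e).ker.card_mul_index
  rw [index_ker, card_ker hC, h48] at h1
  rw [Nat.card_perm, Nat.card_fin]
  show _ = 24
  omega

theorem act_sq (q : G) (hq : q ∈ Q) : act Q e q * act Q e q = 1 := by
  rw [← map_mul, act_eq_one]
  refine mem_centralizer_iff.mpr fun y hy => ?_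
  have key : ∀ a b : QuaternionGroup 2, b * (a * a) = a * a * b := by decide
  exact congrArg Subtype.val (e.injective (a₁ := ⟨y, hy⟩ * (⟨q, hq⟩ * ⟨q, hq⟩))
    (a₂ := ⟨q, hq⟩ * ⟨q, hq⟩ * ⟨y, hy⟩) (by simp only [map_mul]; exact key _ _))

theorem act_fpf (h48 : Nat.card G = 48) (q : G) (hq : q ∈ Q) (h1 : act Q e q ≠ 1) (i : Fin 4) :
    act Q e q i ≠ i := by
  intro hi
  obtain ⟨g, hg⟩ := perm_move _ h1 (act_sq hC q hq) ⟨i, hi⟩
  obtain ⟨g', rfl⟩ := act_surjective (e := e) hC h48 g
  refine hg ?_
  rw [← map_inv, ← map_mul, ← map_mul, ← map_mul]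
  exact act_sq hC _ (Q.mul_mem hq (Subgroup.Normal.conj_mem inferInstance q hq g'))

theorem exists_two : ∃ q ∈ Q, ∃ q' ∈ Q, act Q e q ≠ 1 ∧ act Q e q' ≠ 1 ∧ act Q e q ≠ act Q e q' := by
  have key : ∀ a b : QuaternionGroup 2, a = QuaternionGroup.a 1 → b = QuaternionGroup.xa 0 →
      a ∉ center (QuaternionGroup 2) ∧ b ∉ center (QuaternionGroup 2) ∧ b⁻¹ * a ∉ center (QuaternionGroup 2) := by
    intro a b ha hb
    subst ha hb
    simp only [mem_center_iff]
    decide
  obtain ⟨h1, h2, h3⟩ := key _ _ rfl rfl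
  have main : ∀ x : QuaternionGroup 2, act Q e (e.symm x) = 1 → x ∈ center (QuaternionGroup 2) := by
    intro x hx
    rw [mem_center_iff]
    intro y
    have h4 : ((e.symm y : Q) : G) * (e.symm x : Q) = (e.symm x : Q) * (e.symm y : Q) :=
      mem_centralizer_iff.mp (act_eq_one.mp hx) _ (e.symm y).2
    apply e.symm.injective
    rw [map_mul, map_mul]
    exact Subtype.ext h4
  refine ⟨e.symm (QuaternionGroup.a 1), SetLike.coe_mem _, e.symm (QuaternionGroup.xa 0), SetLike.coe_mem _,
    fun h => h1 (main _ h), fun h => h2 (main _ h), fun h => h3 (main _ ?_)⟩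
  rw [map_mul, map_inv, coe_mul, coe_inv, map_mul, map_inv, h, inv_mul_cancel]

end facts

/-- **Uniqueness.** -/
theorem iso_model [Finite G] (h48 : Nat.card G = 48) (Q : Subgroup G) [Q.Normal] (e : Q ≃* QuaternionGroup 2)
    (hC : centralizer (Q : Set G) ≤ Q) (t : G) (ht : t * t = 1) (htQ : t ∉ Q) :
    Nonempty (G ≃* Model) := by
  classical
  haveI : Fact (Nat.Prime 3) := ⟨Nat.prime_three⟩
  set ψ := act Q e with hψ
  have hsurj : Function.Surjective ψ := act_surjective hC h48
  -- the kernel is central of order two and lies in `Q`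
  have hkQ : ψ.ker ≤ Q := fun g hg => hC (act_eq_one.mp hg)
  have hkc : ∀ z ∈ ψ.ker, ∀ g : G, g * z * g⁻¹ = z := by
    intro z hz g
    by_cases hz1 : z = 1
    · subst hz1; simp
    · have hmem : g * z * g⁻¹ ∈ ψ.ker := (inferInstance : ψ.ker.Normal).conj_mem z hz g
      have hne : g * z * g⁻¹ ≠ 1 := fun h => hz1 (by simpa using h)
      by_contra hcon
      have h3 : Nat.card ψ.ker ≠ 2 := by
        intro h2
        obtain ⟨a, b, -, hab⟩ := Nat.card_eq_two_iff.mp h2
        have hall : ∀ y : ψ.ker, y = a ∨ y = b := fun y => by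
          have h5 : y ∈ ({a, b} : Set ψ.ker) := by rw [hab]; exact Set.mem_univ y
          simpa using h5
        rcases hall 1 with h | h <;> rcases hall ⟨z, hz⟩ with h' | h' <;>
          rcases hall ⟨g * z * g⁻¹, hmem⟩ with h'' | h'' <;>
          first
            | exact hz1 (congrArg Subtype.val (h'.trans h.symm))
            | exact hne (congrArg Subtype.val (h''.trans h.symm))
            | exact hcon (congrArg Subtype.val (h''.trans h'.symm))
      exact h3 (card_ker hC)
  -- move `t` into the stabilizer of `0`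
  have htfix : ∃ i, ψ t i = i := by
    by_contra hno
    push Not at hno
    obtain ⟨q, hq, q', hq', h1, h2, h12⟩ := exists_two (e := e) hC
    have htt : ψ t * ψ t = 1 := by rw [← map_mul, ht, map_one]
    have hbad : ∀ x ∈ Q, ψ t = ψ x → False := by
      intro x hx hxe
      have h3 : t * x⁻¹ ∈ ψ.ker := by rw [MonoidHom.mem_ker, map_mul, map_inv, hxe, mul_inv_cancel]
      have h4 := Q.mul_mem (hkQ h3) hx
      rw [inv_mul_cancel_right] at h4
      exact htQ h4
    rcases perm_three _ _ _ htt (act_sq hC q hq) (act_sq hC q' hq') hno (act_fpf hC h48 q hq h1)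
      (act_fpf hC h48 q' hq' h2) h12 with h | h | h
    · exact hbad q hq h
    · exact hbad q' hq' h
    · exact hbad _ (Q.mul_mem hq hq') (h.trans (map_mul ψ q q').symm)
  obtain ⟨i, hi⟩ := htfix
  obtain ⟨g, hg⟩ := hsurj (Equiv.swap 0 i)
  obtain ⟨s, hs, hsQ, hs0⟩ : ∃ s : G, s * s = 1 ∧ s ∉ Q ∧ ψ s 0 = 0 := by
    refine ⟨g * t * g⁻¹, ?_, fun h => htQ ?_, ?_⟩
    · rw [show g * t * g⁻¹ * (g * t * g⁻¹) = g * (t * t) * g⁻¹ by group, ht, mul_one, mul_inv_cancel]
    · have h6 := (inferInstance : Q.Normal).conj_mem _ h g⁻¹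
      rwa [show g⁻¹ * (g * t * g⁻¹) * g⁻¹⁻¹ = t by group] at h6
    · rw [map_mul, map_mul, map_inv, hg, Equiv.swap_inv, Equiv.Perm.mul_apply, Equiv.Perm.mul_apply,
        Equiv.swap_apply_left, hi, Equiv.swap_apply_right]
  have hs1 : ψ s ≠ 1 := fun h => hsQ (hkQ h)
  -- an element of order three fixing `0`
  let M : Subgroup G := (MulAction.stabilizer (Equiv.Perm (Fin 4)) (0 : Fin 4)).comap ψ
  have hM : 3 ∣ Nat.card M := by
    have h1 := M.card_mul_index
    rw [index_comap_of_surjective _ hsurj, h48] at h1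
    have h2 : (MulAction.stabilizer (Equiv.Perm (Fin 4)) (0 : Fin 4)).index = 4 := by
      rw [MulAction.index_stabilizer]
      rw [show MulAction.orbit (Equiv.Perm (Fin 4)) (0 : Fin 4) = Set.univ from
        Set.eq_univ_of_forall fun j => ⟨Equiv.swap 0 j, by simp⟩, Set.ncard_univ, Nat.card_fin]
    rw [h2] at h1
    exact ⟨4, by omega⟩
  obtain ⟨c, hc⟩ := exists_prime_orderOf_dvd_card' (G := M) 3 hM
  have hc3 : orderOf (c : G) = 3 := by rw [orderOf_coe, hc]
  have hcQ : (c : G) ∉ Q := by
    intro h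
    have h1 := Subgroup.orderOf_dvd_natCard Q h
    rw [hc3, Nat.card_congr e.toEquiv, Nat.card_eq_fintype_card, QuaternionGroup.card] at h1
    omega
  have hc0 : ψ c 0 = 0 := c.2
  have hcc : (c : G) * c * c = 1 := by
    have := pow_orderOf_eq_one (c : G)
    rwa [hc3, pow_succ, pow_two] at this
  have hc1 : ψ c ≠ 1 := fun h => hcQ (hkQ h)
  -- `s` inverts `c`
  have hinv : s * c * s⁻¹ = (c : G)⁻¹ := by
    have h1 := perm_invert _ _ hc0 hs0 (by rw [← map_mul, ← map_mul, hcc, map_one]) hc1
      (by rw [← map_mul, hs, map_one]) hs1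
    set z := s * c * s⁻¹ * c with hz
    have hzk : z ∈ ψ.ker := by
      rw [MonoidHom.mem_ker, hz, map_mul, map_mul, map_mul, map_inv, h1, inv_mul_cancel]
    have hzz : z * z = 1 := by
      have h2 : Nat.card ψ.ker = 2 := card_ker hC
      have h3 : (⟨z, hzk⟩ : ψ.ker) ^ Nat.card ψ.ker = 1 := pow_card_eq_one'
      rw [h2, pow_two] at h3
      exact congrArg Subtype.val h3
    have hzc : Commute z c := by
      have := hkc z hzk c
      rw [mul_inv_eq_iff_eq_mul] at this
      exact this.symm
    have h4 : (z * (c : G)⁻¹) * (z * (c : G)⁻¹) * (z * (c : G)⁻¹) = 1 := by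
      rw [hz, mul_inv_cancel_right]
      rw [show s * c * s⁻¹ * (s * c * s⁻¹) * (s * c * s⁻¹) = s * ((c : G) * c * c) * s⁻¹ by group, hcc, mul_one,
        mul_inv_cancel]
    have h5 : z = 1 := by
      have h6 : (z * (c : G)⁻¹) ^ 3 = 1 := by rw [pow_succ, pow_succ, pow_one, h4]
      rw [hzc.inv_right.mul_pow, inv_pow, pow_succ, pow_two, hzz, one_mul] at h6
      rw [← hc3, pow_orderOf_eq_one, inv_one, mul_one] at h6
      exact h6
    rw [hz, mul_eq_one_iff_eq_inv] at h5
    exact h5
  -- the complement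
  let H : Subgroup G := zpowers (c : G) ⊔ zpowers s
  have hn : zpowers s ≤ normalizer (zpowers (c : G) : Set G) := by
    rw [zpowers_le, mem_normalizer_iff]
    intro x
    constructor
    · rintro ⟨k, rfl⟩
      refine ⟨-k, ?_⟩
      show (c : G) ^ (-k) = s * (c : G) ^ k * s⁻¹
      rw [← conj_zpow, hinv, inv_zpow, zpow_neg]
    · rintro ⟨k, hk⟩
      refine ⟨-k, ?_⟩
      show (c : G) ^ (-k) = x
      have h7 : x = s⁻¹ * (c : G) ^ k * s := by
        rw [show (c : G) ^ k = s * x * s⁻¹ from hk]; group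
      have h8 : s⁻¹ * c * s = (c : G)⁻¹ := by
        have hsi : s⁻¹ = s := inv_eq_of_mul_eq_one_left hs
        rw [hsi] at hinv ⊢
        exact hinv
      rw [h7, zpow_neg, ← inv_zpow, ← h8]
      have := conj_zpow (a := s⁻¹) (b := (c : G)) (i := k)
      rw [inv_inv] at this
      exact this
  have hH6 : Nat.card H ≤ 6 := by
    have h1 : (H : Set G) = (zpowers (c : G) : Set G) * (zpowers s : Set G) :=
      coe_mul_of_right_le_normalizer_left _ _ hn
    rw [← SetLike.coe_sort_coe, h1]
    refine le_trans Set.natCard_mul_le ?_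
    rw [SetLike.coe_sort_coe, SetLike.coe_sort_coe, Nat.card_zpowers, Nat.card_zpowers, hc3]
    have hs2 : orderOf s ≤ 2 := Nat.le_of_dvd (by norm_num) (orderOf_dvd_of_pow_eq_one (by rw [pow_two, hs]))
    omega
  let η₀ : H →* MulAction.stabilizer (Equiv.Perm (Fin 4)) (0 : Fin 4) := (ψ.comp H.subtype).codRestrict _ (by
    intro x
    have hHM : H ≤ M := sup_le (zpowers_le.mpr c.2) (zpowers_le.mpr hs0)
    exact hHM x.2)
  have hst : Nat.card (MulAction.stabilizer (Equiv.Perm (Fin 4)) (0 : Fin 4)) = 6 := by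
    rw [Nat.card_eq_fintype_card]; decide +kernel
  have hη : Function.Bijective η₀ := by
    have hs' : Function.Surjective η₀ := by
      rw [← MonoidHom.range_eq_top]
      refine eq_top_of_card_eq _ ?_
      rw [hst]
      have h2 : 2 ∣ Nat.card η₀.range := by
        have hx : η₀ ⟨s, mem_sup_right (mem_zpowers s)⟩ ∈ η₀.range := ⟨_, rfl⟩
        refine (dvd_of_eq ?_).trans (Subgroup.orderOf_dvd_natCard _ hx)
        rw [← orderOf_coe]
        exact (orderOf_eq_prime (show (ψ s) ^ 2 = 1 by rw [pow_two, ← map_mul, hs, map_one]) hs1).symm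
      have h3 : 3 ∣ Nat.card η₀.range := by
        have hx : η₀ ⟨c, mem_sup_left (mem_zpowers _)⟩ ∈ η₀.range := ⟨_, rfl⟩
        refine (dvd_of_eq ?_).trans (Subgroup.orderOf_dvd_natCard _ hx)
        rw [← orderOf_coe]
        exact (orderOf_eq_prime (show (ψ c) ^ 3 = 1 by rw [← map_pow, ← hc3, pow_orderOf_eq_one, map_one]) hc1).symm
      have h4 := Nat.Coprime.mul_dvd_of_dvd_of_dvd (by norm_num) h2 h3
      have h5 := card_le_card_group η₀.range
      rw [hst] at h5
      have := Nat.le_of_dvd Nat.card_pos h4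
      omega
    refine (Nat.bijective_iff_surjective_and_card η₀).mpr ⟨hs', ?_⟩
    have := Nat.card_le_card_of_surjective _ hs'
    omega
  let E₀ : H ≃* MulAction.stabilizer (Equiv.Perm (Fin 4)) (0 : Fin 4) := MulEquiv.ofBijective η₀ hη
  let η : pointAut →* G :=
    H.subtype.comp (E₀.symm.toMonoidHom.comp pointEquiv.toMonoidHom)
  have hηψ : ∀ r : pointAut, ψ (η r) = autFour (r : MulAut (QuaternionGroup 2)) := by
    intro r
    exact congrArg Subtype.val (E₀.apply_symm_apply (pointEquiv r))
  let ι : QuaternionGroup 2 →* G := Q.subtype.comp e.symm.toMonoidHom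
  have hcompat : ∀ r : pointAut, ι.comp (pointAut.subtype r : MulAut (QuaternionGroup 2)).toMonoidHom =
      (MulAut.conj (η r)).toMonoidHom.comp ι := by
    intro r
    refine MonoidHom.ext fun q => ?_
    have h1 : MulAut.congr e (MulAut.conjNormal (η r)) = (r : MulAut (QuaternionGroup 2)) :=
      autFour.injective (hηψ r)
    show ((e.symm ((r : MulAut (QuaternionGroup 2)) q) : Q) : G) = η r * (e.symm q : Q) * (η r)⁻¹
    rw [← h1, MulAut.congr_apply]
    simp
  let μ : Model →* G := SemidirectProduct.lift ι η hcompat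
  have hμ : Function.Injective μ := by
    refine (injective_iff_map_eq_one μ).mpr fun x hx => ?_
    have h1 : ι x.left * η x.right = 1 := hx
    have hr : x.right = 1 := by
      by_contra hr
      have h2 : ψ (η x.right) ≠ 1 := by
        rw [hηψ]
        intro h
        exact hr (Subtype.ext (autFour.injective (h.trans (map_one _).symm)))
      have h3 : η x.right ∈ Q := by
        have h7 : η x.right = (ι x.left)⁻¹ := eq_inv_of_mul_eq_one_right h1
        rw [h7]
        exact Q.inv_mem (SetLike.coe_mem _)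
      exact act_fpf hC h48 _ h3 h2 0 (by rw [hηψ]; exact x.right.2)
    refine SemidirectProduct.ext ?_ hr
    rw [hr, map_one, mul_one] at h1
    have h8 : e.symm x.left = 1 := Subtype.ext h1
    simpa using h8
  exact ⟨(MulEquiv.ofBijective μ ((Nat.bijective_iff_injective_and_card μ).mpr
    ⟨hμ, by rw [card_model, h48]⟩)).symm⟩

/-! ## The general linear group -/

/-- A quaternion group of matrices over the field with three elements. -/
def quatMat : QuaternionGroup 2 → Matrix (Fin 2) (Fin 2) (ZMod 3)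
  | .a k => !![0, -1; 1, 0] ^ k.val
  | .xa k => !![1, 1; 1, -1] * !![0, -1; 1, 0] ^ k.val

theorem quatMat_mul : ∀ x y, quatMat (x * y) = quatMat x * quatMat y := by decide +kernel

theorem quatMat_injective : ∀ x, quatMat x = 1 → x = 1 := by decide +kernel

theorem quatMat_det : ∀ x, (quatMat x).det = 1 ∧ quatMat x ^ 4 = 1 := by
  simp only [Matrix.det_fin_two]
  decide +kernel

theorem quatMat_range : ∀ M : Matrix (Fin 2) (Fin 2) (ZMod 3),
    M 0 0 * M 1 1 - M 0 1 * M 1 0 = 1 → M ^ 4 = 1 → ∃ x, quatMat x = M := by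
  decide +kernel

theorem quatMat_commutant : ∀ M : Matrix (Fin 2) (Fin 2) (ZMod 3),
    M * !![0, -1; 1, 0] = !![0, -1; 1, 0] * M → M * !![1, 1; 1, -1] = !![1, 1; 1, -1] * M →
      M 0 0 * M 1 1 - M 0 1 * M 1 0 ≠ 0 → ∃ x, quatMat x = M := by
  decide +kernel

/-- The quaternion subgroup of `GL(2,3)`. -/
def quatHom : QuaternionGroup 2 →* GL (Fin 2) (ZMod 3) :=
  MonoidHom.toHomUnits { toFun := quatMat, map_one' := by decide +kernel, map_mul' := quatMat_mul }

theorem quatHom_coe (x : QuaternionGroup 2) :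
    (quatHom x : Matrix (Fin 2) (Fin 2) (ZMod 3)) = quatMat x := rfl

theorem mem_quat_range {g : GL (Fin 2) (ZMod 3)} :
    g ∈ quatHom.range ↔ Matrix.GeneralLinearGroup.det g = 1 ∧ g ^ 4 = 1 := by
  constructor
  · rintro ⟨x, rfl⟩
    exact ⟨Units.ext (quatMat_det x).1, Units.ext (by simpa [quatHom_coe] using (quatMat_det x).2)⟩
  · rintro ⟨h1, h2⟩
    obtain ⟨x, hx⟩ := quatMat_range g
      (by rw [← Matrix.det_fin_two]; exact congrArg Units.val h1) (by simpa using congrArg Units.val h2)
    exact ⟨x, Units.ext hx⟩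

theorem mat_sq : !![1, 0; 0, -1] * !![1, 0; 0, -1] = (1 : Matrix (Fin 2) (Fin 2) (ZMod 3)) := by decide +kernel

theorem neg_one_ne : ¬ ((-1 : ZMod 3) = 1) := by decide

theorem quatMat_gens : quatMat (QuaternionGroup.a 1) = !![0, -1; 1, 0] ∧
    quatMat (QuaternionGroup.xa 0) = !![1, 1; 1, -1] := by decide +kernel

/-- `GL(2,3)` is the model. -/
theorem gl_iso_model : Nonempty (GL (Fin 2) (ZMod 3) ≃* Model) := by
  haveI : Fact (Nat.Prime 3) := ⟨Nat.prime_three⟩
  haveI : (quatHom.range).Normal := ⟨fun x hx g => by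
    rw [mem_quat_range] at hx ⊢
    refine ⟨?_, by rw [conj_pow, hx.2, mul_one, mul_inv_cancel]⟩
    rw [map_mul, map_mul, hx.1, mul_one, map_inv, mul_inv_cancel]⟩
  have hinj : Function.Injective quatHom := (injective_iff_map_eq_one _).mpr fun x hx =>
    quatMat_injective x (congrArg Units.val hx)
  let t : GL (Fin 2) (ZMod 3) :=
    ⟨!![1, 0; 0, -1], !![1, 0; 0, -1], mat_sq, mat_sq⟩
  refine iso_model ?_ quatHom.range (MonoidHom.ofInjective hinj).symm ?_ t (Units.ext mat_sq) ?_
  · rw [Matrix.card_GL_field, Fin.prod_univ_two]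
    simp
  · intro g hg
    rw [mem_centralizer_iff] at hg
    have hA := congrArg Units.val (hg _ ⟨QuaternionGroup.a 1, rfl⟩)
    have hB := congrArg Units.val (hg _ ⟨QuaternionGroup.xa 0, rfl⟩)
    simp only [Units.val_mul, quatHom_coe] at hA hB
    obtain ⟨x, hx⟩ := quatMat_commutant g
      (by rw [quatMat_gens.1] at hA; exact hA.symm)
      (by rw [quatMat_gens.2] at hB; exact hB.symm)
      (by rw [← Matrix.det_fin_two]; exact (Matrix.GeneralLinearGroup.det g).ne_zero)
    exact ⟨x, Units.ext hx⟩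
  · intro h
    have h9 := congrArg Units.val (mem_quat_range.mp h).1
    simp [Matrix.det_fin_two, t] at h9
    exact absurd h9 neg_one_ne

/-- A group of order 48 with such data is `GL(2,3)`. -/
theorem iso_gl [Finite G] (h48 : Nat.card G = 48) (Q : Subgroup G) [Q.Normal] (e : Q ≃* QuaternionGroup 2)
    (hC : centralizer (Q : Set G) ≤ Q) (t : G) (ht : t * t = 1) (htQ : t ∉ Q) :
    Nonempty (G ≃* GL (Fin 2) (ZMod 3)) := by
  obtain ⟨a⟩ := iso_model h48 Q e hC t ht htQ
  obtain ⟨b⟩ := gl_iso_model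
  exact ⟨a.trans b.symm⟩

end Cfsg.Lib.Small.RepSymFour
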