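import Cfsg.Agent.Lib.Small.GL23Core.Equations
import Cfsg.Agent.Lib.Small.GL23Core.Bound
import Cfsg.Agent.Lib.Small.GL23Core.Prime
import Cfsg.Agent.Lib.Small.GL23Core.Case151632

/-!
# An involution centralizer that is `GL(2, 3)` modulo its core has trivial core

If a simple group has an involution `t` whose centralizer maps onto `GL(2, 3)` with a kernel of
odd order, then the kernel is trivial, and the group has order `5616` or `7920`.
-/

set_option autoImplicit false
set_option linter.style.haveILetI false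
set_option linter.unusedSectionVars false

namespace Cfsg.Lib.Small.GL23Core

open Subgroup Cfsg Cfsg.Lib.Char Cfsg.Lib.Small.CentralizerGL23

universe u

variable {G : Type u} [Group G] [Fintype G] {t : G} {π : Cen t →* GL23}

namespace Hyp

variable (h : Hyp t π)
include h

/-- The involutions over a class five element in the case of a core of order three. -/
theorem nInv_cases (hker : Nat.card π.ker = 3) :
    nInv π (repU 5) = 1 ∨ (nInv π (repU 5) = 3 ∧
      ∃ s₀ : Cen t, ∀ o : Cen t, π o = 1 → s₀ * o * s₀⁻¹ = o⁻¹) := by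
  classical
  have h0 := h.nInv_pos
  have h3 := h.nInv_le
  rw [hker] at h3
  by_cases h1 : nInv π (repU 5) = 1
  · exact Or.inl h1
  right
  obtain ⟨a, ha, b, hb, hab⟩ := Finset.one_lt_card.mp (show 1 < nInv π (repU 5) by omega)
  simp only [Finset.mem_filter, mem_fib] at ha hb
  haveI : Fact (Nat.Prime 3) := ⟨Nat.prime_three⟩
  have hai : a⁻¹ = a := inv_eq_of_mul_eq_one_right ha.2
  have hk : a * b ∈ π.ker := by rw [π.mem_ker, map_mul, ha.1, hb.1, repU_five.1]
  have hk1 : a * b ≠ 1 := fun e => hab (hai ▸ inv_eq_of_mul_eq_one_right e)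
  have hz : zpowers (⟨a * b, hk⟩ : π.ker) = ⊤ := zpowers_eq_top_of_prime_card hker fun e =>
    hk1 (congrArg Subtype.val e)
  have hinv : ∀ o : Cen t, π o = 1 → a * o * a⁻¹ = o⁻¹ := by
    intro o ho
    obtain ⟨i, hi⟩ : (⟨o, π.mem_ker.mpr ho⟩ : π.ker) ∈ zpowers (⟨a * b, hk⟩ : π.ker) := hz ▸ mem_top _
    have hi' : (a * b) ^ i = o := congrArg Subtype.val hi
    rw [← hi', ← conj_zpow, ← inv_zpow, show a * (a * b) * a⁻¹ = (a * b)⁻¹ by
      rw [mul_inv_rev, hai, inv_eq_of_mul_eq_one_right hb.2, ← mul_assoc a a b, ha.2, one_mul]]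
  refine ⟨le_antisymm h3 ?_, a, hinv⟩
  rw [← hker, ← card_fib h.surj (repU 5), nInv, Finset.filter_true_of_mem fun y hy => ?_]
  have hy' : π (a * y) = 1 := by rw [map_mul, ha.1, mem_fib.mp hy, repU_five.1]
  have e := hinv _ hy'
  have e2 : a * (a * y) * a⁻¹ = y * a := by rw [← mul_assoc a a y, ha.2, one_mul, hai]
  rw [e2, mul_inv_rev, hai] at e
  have e3 : y = y⁻¹ := mul_right_cancel e
  nth_rw 2 [e3]
  exact mul_inv_cancel y

theorem centralizer_eq [IsSimpleGroup G] {q : ℕ} (hq : q.Prime) (hq2 : q ≠ 2)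
    (hqc : ¬ q ∣ 48 * Nat.card π.ker) (hq2' : ¬ q ^ 2 ∣ Nat.card G) {χ : G → ℂ} (hχ : IsCharacter G χ)
    (hrat : ∀ k : ℕ, k.Coprime (Nat.card G) → ∀ x, χ (x ^ k) = χ x)
    (hfaith : ∀ g, χ g = χ 1 → g = 1) (hD : χ 1 = ((q - 1 : ℕ) : ℂ)) {x : G} (hx : orderOf x = q) :
    centralizer ({x} : Set G) = zpowers x := by
  classical
  set C := centralizer ({x} : Set G) with hC
  have hle : zpowers x ≤ C := zpowers_le.mpr (mem_centralizer_singleton_iff.mpr rfl)
  have hall : ∀ r : ℕ, r.Prime → r ∣ Nat.card C → r = q := by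
    intro r hr hrd
    by_contra hne
    haveI := Fact.mk hr
    obtain ⟨y, hy⟩ := exists_prime_orderOf_dvd_card' (G := C) r hrd
    have hy' : orderOf (y : G) = r := by rw [orderOf_coe, hy]
    have hcy : Commute x (y : G) := (mem_centralizer_singleton_iff.mp y.2).symm
    by_cases hr2 : r = 2
    · subst hr2
      obtain ⟨c, hc⟩ := isConj_iff.mp (h.one_class hy')
      have hmem : c * x * c⁻¹ ∈ centralizer ({t} : Set G) := mem_centralizer_singleton_iff.mpr (by
        rw [← hc, show c * x * c⁻¹ * (c * y * c⁻¹) = c * (x * y) * c⁻¹ by group, hcy.eq]; group)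
      have := orderOf_dvd_natCard (⟨_, hmem⟩ : centralizer ({t} : Set G))
      rw [orderOf_mk, ← MulAut.conj_apply, MulEquiv.orderOf_eq, hx, h.card_cen] at this
      exact hqc this
    · refine no_product_order hq hr (Ne.symm hne) hr2 hχ hrat hfaith hD (x * y) ?_
      rw [hcy.orderOf_mul_eq_mul_orderOf_of_coprime (by
        rw [hx, hy']; exact (Nat.coprime_primes hq hr).mpr (Ne.symm hne)), hx, hy']
  obtain ⟨k, hk⟩ : ∃ k, Nat.card C = q ^ k :=
    ⟨(Nat.card C).primeFactorsList.length, Nat.eq_prime_pow_of_unique_prime_dvd Nat.card_pos.ne'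
      fun {r} hr hrd => hall r hr hrd⟩
  have hk1 : k ≤ 1 := by
    by_contra hc
    exact hq2' (((pow_dvd_pow q (show 2 ≤ k by omega)).trans (dvd_of_eq hk.symm)).trans (card_subgroup_dvd_card C))
  refine (eq_of_le_of_card_ge hle ?_).symm
  rw [Nat.card_zpowers, hx, hk]
  calc q ^ k ≤ q ^ 1 := Nat.pow_le_pow_right hq.pos hk1
    _ = q := pow_one q

theorem no_congr {q N : ℕ} [Fact q.Prime] (hN : Nat.card G = q * N) (hqN : ¬ q ∣ N)
    (hcent : ∀ x : G, orderOf x = q → centralizer ({x} : Set G) = zpowers x)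
    (hno : ∀ e ∈ (q - 1).divisors, e % q ≠ N % q) : False := by
  obtain ⟨e, he, hm⟩ := exists_congruence hN hqN hcent
  exact hno e (Nat.mem_divisors.mpr ⟨he, by have := (Fact.out : q.Prime).two_le; omega⟩) hm.symm

/-- The core is trivial. -/
theorem ker_card_eq_one [IsSimpleGroup G] : Nat.card π.ker = 1 := by
  classical
  obtain ⟨χ, hrat, hneg, hcase⟩ := h.data
  have hfaith : ∀ g, (χ : G → ℂ) g = (χ : G → ℂ) 1 → g = 1 := by
    intro g hg
    rcases IsSimpleGroup.eq_bot_or_eq_top_of_normal _ (charKer_normal χ.2.isCharacter) with e | e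
    · rw [← mem_bot, ← e]; exact hg
    · exfalso
      have ht : (χ : G → ℂ) t = (χ : G → ℂ) 1 := (mem_charKer χ.2.isCharacter).mp (e ▸ mem_top t)
      rcases hcase with ⟨-, h1, h2, -⟩ | ⟨-, h1, h2⟩ <;> rw [h1, h2] at ht <;> norm_num at ht
  have hodd := h.odd
  by_contra hne
  obtain ⟨T, hT, hD⟩ : ∃ T : ℕ, (χ : G → ℂ) t = T ∧ (χ : G → ℂ) 1 = ((T + 8 : ℕ) : ℂ) := by
    rcases hcase with ⟨-, h1, h2, -⟩ | ⟨-, h1, h2⟩
    · exact ⟨4, by rw [h2]; norm_num, by rw [h1]; norm_num⟩
    · exact ⟨2, by rw [h2]; norm_num, by rw [h1]; norm_num⟩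
  obtain ⟨hle, hval⟩ := h.core_bound χ.2.isCharacter hrat hneg hfaith hT hD
  have hm : Nat.card π.ker = 3 := by
    obtain ⟨c, hc⟩ := hodd
    omega
  rcases hcase with ⟨hG, h1, h2, -⟩ | ⟨hG, h1, -⟩
  · haveI : Fact (Nat.Prime 13) := ⟨by norm_num⟩
    rcases h.nInv_cases hm with hI | ⟨hI, s₀, hs₀⟩
    · rw [hm, hI] at hG
      have hcent : ∀ x : G, orderOf x = 13 → centralizer ({x} : Set G) = zpowers x := fun x hx =>
        h.centralizer_eq (by norm_num) (by norm_num) (by rw [hm]; norm_num) (by rw [hG]; norm_num)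
          χ.2.isCharacter hrat hfaith (by rw [h1]; norm_num) hx
      exact h.no_congr (q := 13) (N := 1296) (by rw [hG]; norm_num) (by norm_num) hcent (by decide +kernel)
    · rw [hm, hI] at hG
      have hcent : ∀ x : G, orderOf x = 13 → centralizer ({x} : Set G) = zpowers x := fun x hx =>
        h.centralizer_eq (by norm_num) (by norm_num) (by rw [hm]; norm_num) (by rw [hG]; norm_num)
          χ.2.isCharacter hrat hfaith (by rw [h1]; norm_num) hx
      refine h.case_false χ.2.isCharacter hrat hfaith h1 hm (fun o ho ho1 => ?_) hs₀ (by rw [hG]; norm_num) hcent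
      rw [hval hm o ho ho1, ← hT, h2]
      norm_num
  · haveI : Fact (Nat.Prime 11) := ⟨by norm_num⟩
    rcases h.nInv_cases hm with hI | ⟨hI, -⟩
    · rw [hm, hI] at hG
      exact h.no_congr (q := 11) (N := 2160) (by rw [hG]; norm_num) (by norm_num)
        (fun x hx => h.centralizer_eq (by norm_num) (by norm_num) (by rw [hm]; norm_num) (by rw [hG]; norm_num)
          χ.2.isCharacter hrat hfaith (by rw [h1]; norm_num) hx) (by decide +kernel)
    · rw [hm, hI] at hG
      exact h.no_congr (q := 11) (N := 19440) (by rw [hG]; norm_num) (by norm_num)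
        (fun x hx => h.centralizer_eq (by norm_num) (by norm_num) (by rw [hm]; norm_num) (by rw [hG]; norm_num)
          χ.2.isCharacter hrat hfaith (by rw [h1]; norm_num) hx) (by decide +kernel)

end Hyp

end Cfsg.Lib.Small.GL23Core

namespace Cfsg.Lib.Small.CentralizerGL23

open Subgroup

universe u

/-- A simple group with an involution centralizer mapping onto `GL(2, 3)` with kernel of odd order:
the kernel is trivial. -/
theorem core_eq_bot' {G : Type u} [Group G] [Finite G] [IsSimpleGroup G] (t : G) (ht : orderOf t = 2)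
    (f : ↥(Subgroup.centralizer ({t} : Set G)) →* GL (Fin 2) (ZMod 3)) (hf : Function.Surjective f)
    (hodd : Odd (Nat.card f.ker)) : f.ker = ⊥ := by
  haveI := Fintype.ofFinite G
  exact Subgroup.card_eq_one.mp (GL23Core.Hyp.ker_card_eq_one ⟨ht, hf, hodd⟩)

/-- The form with a noncentral involution inverting the core. -/
theorem core_eq_bot {G : Type u} [Group G] [Finite G] [IsSimpleGroup G] (t : G) (ht : orderOf t = 2)
    (f : ↥(Subgroup.centralizer ({t} : Set G)) →* GL (Fin 2) (ZMod 3)) (hf : Function.Surjective f)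
    (hodd : Odd (Nat.card f.ker))
    (v : ↥(Subgroup.centralizer ({t} : Set G))) (_hv : orderOf v = 2) (_hvt : (v : G) ≠ t)
    (_hcv : Nat.card ↥(Subgroup.centralizer ({t, (v : G)} : Set G)) = 4) :
    f.ker = ⊥ :=
  core_eq_bot' t ht f hf hodd

/-- The order of such a group. -/
theorem card_eq_of_core {G : Type u} [Group G] [Finite G] [IsSimpleGroup G] (t : G) (ht : orderOf t = 2)
    (f : ↥(Subgroup.centralizer ({t} : Set G)) →* GL (Fin 2) (ZMod 3)) (hf : Function.Surjective f)
    (hodd : Odd (Nat.card f.ker)) : Nat.card G = 5616 ∨ Nat.card G = 7920 :=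
  card_eq (MulEquiv.ofBijective f ⟨(MonoidHom.ker_eq_bot_iff f).mp (core_eq_bot' t ht f hf hodd), hf⟩) ht

end Cfsg.Lib.Small.CentralizerGL23
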