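import Cfsg.Agent.Lib.Small.LThreeThreeSylow

/-!
# A subgroup of index thirteen
-/

set_option autoImplicit false
set_option linter.style.haveILetI false
set_option linter.unusedSectionVars false

namespace Cfsg.Lib.Small.LThreeThree

open Subgroup Cfsg.Lib.Small.CentralizerGL23

universe w

variable {G : Type w} [Group G] [Finite G]

/-- An involution centralising `t` and inverting `u` has a fixed point in a Sylow subgroup it normalizes. -/
theorem exists_fixed {t i : G} (ht2 : t * t = 1) (hi2 : i * i = 1) (hti : t * i = i * t) {S : Subgroup G}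
    (hS : Nat.card S = 27) (hit : ∀ g ∈ S, i * g * i⁻¹ ∈ S) (htS : ∀ g ∈ S, t * g * t⁻¹ ∈ S)
    (h1 : Nat.card ↥(S ⊓ centralizer ({t} : Set G)) ∣ 3)
    (h2 : Nat.card ↥(S ⊓ centralizer ({t * i} : Set G)) ∣ 3) : ∃ x ∈ S, x ≠ 1 ∧ i * x * i⁻¹ = x := by
  by_contra hne
  push Not at hne
  let φ : S →* S :=
    { toFun := fun g => ⟨i * g * i⁻¹, hit g g.2⟩
      map_one' := Subtype.ext (by simp)
      map_mul' := fun a b => Subtype.ext (by simp [mul_assoc]) }
  have hinvol : Function.Involutive φ := fun g => Subtype.ext (by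
    show i * (i * g * i⁻¹) * i⁻¹ = (g : G)
    rw [show i * (i * g * i⁻¹) * i⁻¹ = (i * i) * g * (i * i)⁻¹ by group, hi2]; simp)
  have hfpf : MonoidHom.FixedPointFree φ := fun g hg => by
    by_contra hg1
    exact hne g g.2 (fun h => hg1 (Subtype.ext h)) (congrArg Subtype.val hg)
  have hinv : ∀ g : S, i * (g : G) * i⁻¹ = (g : G)⁻¹ := fun g =>
    congrArg Subtype.val (congrFun (hfpf.coe_eq_inv_of_involutive hinvol) g)
  have hcomm : ∀ a b : S, a * b = b * a := fun a b => hfpf.commute_all_of_involutive hinvol a b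
  -- `g ↦ g * t g t⁻¹`
  let f : S →* S :=
    { toFun := fun g => g * ⟨t * g * t⁻¹, htS g g.2⟩
      map_one' := Subtype.ext (by simp)
      map_mul' := fun a b => by
        have e : (⟨t * (a * b : S) * t⁻¹, htS _ (a * b).2⟩ : S) =
            ⟨t * a * t⁻¹, htS a a.2⟩ * ⟨t * b * t⁻¹, htS b b.2⟩ := Subtype.ext (by simp [mul_assoc])
        rw [e, mul_assoc a b, ← mul_assoc b, hcomm b, mul_assoc _ b, ← mul_assoc a] }
  have hr : Nat.card f.range ∣ 3 := by
    refine (Nat.card_congr (equivMapOfInjective f.range S.subtype S.subtype_injective).toEquiv).dvd.trans ?_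
    refine (card_dvd_of_le ?_).trans h1
    rintro _ ⟨_, ⟨g, rfl⟩, rfl⟩
    refine mem_inf.mpr ⟨(f g).2, mem_centralizer_singleton_iff.mpr ?_⟩
    have hc := congrArg Subtype.val (hcomm g ⟨t * g * t⁻¹, htS g g.2⟩)
    simp only [Subgroup.coe_mul] at hc
    show (g : G) * (t * g * t⁻¹) * t = t * ((g : G) * (t * g * t⁻¹))
    rw [show t⁻¹ = t from inv_eq_of_mul_eq_one_right ht2] at hc ⊢
    calc (g : G) * (t * g * t) * t = (g : G) * (t * g) * (t * t) := by group
      _ = (t * t) * ((g : G) * (t * g)) := by rw [ht2, one_mul, mul_one]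
      _ = t * (t * g * t * g) := by
          rw [show t * t * ((g : G) * (t * g)) = t * (t * g * t * g) by group]
      _ = t * ((g : G) * (t * g * t)) := by rw [hc]
  have hk : Nat.card f.ker ∣ 3 := by
    refine (Nat.card_congr (equivMapOfInjective f.ker S.subtype S.subtype_injective).toEquiv).dvd.trans ?_
    refine (card_dvd_of_le ?_).trans h2
    rintro _ ⟨g, hg, rfl⟩
    refine mem_inf.mpr ⟨g.2, mem_centralizer_singleton_iff.mpr ?_⟩
    have hg' : t * (g : G) * t⁻¹ = (g : G)⁻¹ :=
      eq_inv_of_mul_eq_one_right (congrArg Subtype.val (MonoidHom.mem_ker.mp hg))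
    have h : (t * i) * (g : G) * (t * i)⁻¹ = g := by
      rw [show (t * i) * (g : G) * (t * i)⁻¹ = t * (i * g * i⁻¹) * t⁻¹ by group, hinv, ← conj_inv, hg', inv_inv]
    exact (mul_inv_eq_iff_eq_mul.mp h).symm
  have h := f.ker.card_mul_index
  rw [Subgroup.index_ker, hS] at h
  have := Nat.mul_le_mul (Nat.le_of_dvd (by norm_num) hk) (Nat.le_of_dvd (by norm_num) hr)
  omega

omit [Group G] [Finite G] in
theorem card_four : Nat.card {a : GL23 // a = 1 ∨ a = -1 ∨ a = repU 5 ∨ a = -repU 5} = 4 := by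
  rw [Nat.card_eq_fintype_card]
  decide +kernel

variable {t : G} (e : centralizer ({t} : Set G) ≃* GL23)
include e
variable [IsSimpleGroup G] (ht : orderOf t = 2) (hN : Nat.card G = 5616)
include ht hN

theorem card_inf_centralizer {i : G} (hi : orderOf i = 2) {S : Subgroup G} (hS : Nat.card S = 27) :
    Nat.card ↥(S ⊓ centralizer ({i} : Set G)) ∣ 3 := by
  haveI := Fintype.ofFinite G
  obtain ⟨c, hc⟩ := isConj_iff.mp (one_class e ht hi)
  have h1 := card_dvd_of_le (inf_le_left : S ⊓ centralizer ({i} : Set G) ≤ S)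
  have h2 := card_dvd_of_le (inf_le_right : S ⊓ centralizer ({i} : Set G) ≤ centralizer ({i} : Set G))
  rw [hS] at h1
  rw [← Cfsg.Lib.MEleven.card_centralizer_conj i c, hc, card_centralizer_t e] at h2
  exact (Nat.dvd_gcd h1 h2).trans (by norm_num)

set_option maxRecDepth 4000 in
set_option maxHeartbeats 4000000 in
theorem exists_point_group : ∃ A : Subgroup G, Nat.card A = 9 ∧ (∀ a ∈ A, ∀ b ∈ A, a * b = b * a) ∧
    (∀ a ∈ A, a ^ 3 = 1) ∧ Nat.card (normalizer (A : Set G)) = 432 ∧
    (∀ a ∈ A, ∀ b ∈ A, a ≠ 1 → b ≠ 1 → ∃ g ∈ normalizer (A : Set G), g * a * g⁻¹ = b) ∧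
    (∀ T : Subgroup G, Nat.card T = 27 → T ≤ normalizer (A : Set G) →
      normalizer (T : Set G) ≤ normalizer (A : Set G)) ∧
    (∀ a ∈ A, a ≠ 1 → ∃ T : Subgroup G, Nat.card T = 27 ∧ ∀ y, y * a = a * y → y ^ 3 = 1 → y ∈ T) := by
  haveI : Fact (Nat.Prime 3) := ⟨Nat.prime_three⟩
  haveI := Fintype.ofFinite G
  obtain ⟨S, hS, huS, hC, hmem⟩ := exists_sylow_centralized e ht hN
  obtain ⟨hu3, hu1, huo⟩ := u_facts e
  obtain ⟨hso, hst, htso, hsu, htsu⟩ := s_facts e ht
  set u := emb e (repU 2) with hu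
  set s := emb e (repU 5) with hs
  have ht2 := t_mul_t e ht
  have hs2 : s * s = 1 := by rw [← sq, ← hso, pow_orderOf_eq_one]
  have hts2 : t * s * (t * s) = 1 := by rw [← sq, ← htso, pow_orderOf_eq_one]
  have htu : t * u * t⁻¹ = u := mul_inv_eq_iff_eq_mul.mpr (emb_commute e _).symm
  have hucc : ∀ g ∈ S, g * u = u * g := fun g hg => mem_centralizer_singleton_iff.mp ((hmem g).mp hg).1
  -- conjugation by elements fixing `⟨u⟩` preserves `S`
  have hpres : ∀ c : G, (c * u * c⁻¹ = u ∨ c * u * c⁻¹ = u ^ 2) → ∀ g ∈ S, c * g * c⁻¹ ∈ S := by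
    intro c hc g hg
    refine (hmem _).mpr ⟨mem_centralizer_singleton_iff.mpr ?_, by
      rw [conj_pow, pow_twentyseven hS hg, mul_one, mul_inv_cancel]⟩
    have h1 : Commute (c * g * c⁻¹) (c * u * c⁻¹) :=
      (show Commute g u from hucc g hg).map (MulAut.conj c).toMonoidHom
    rcases hc with h | h <;> rw [h] at h1
    · exact h1.eq
    · have h2 := h1.pow_right 2
      rwa [← pow_mul, show 2 * 2 = 3 + 1 from rfl, pow_succ, hu3, one_mul] at h2
  have htS := hpres t (Or.inl htu)
  have hsS := hpres s (Or.inr hsu)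
  have htsS := hpres (t * s) (Or.inr htsu)
  have hfix : ∀ {i : G}, orderOf i = 2 → ∀ {x : G}, x ∈ S → orderOf x = 3 → i * x * i⁻¹ = x →
      ∀ {y : G}, y ∈ S → i * y * i⁻¹ = y → y ∈ zpowers x := by
    intro i hi x hxS hxo hx y hyS hy
    have hmemI : ∀ {z : G}, z ∈ S → i * z * i⁻¹ = z → z ∈ S ⊓ centralizer ({i} : Set G) := fun h1 h2 =>
      mem_inf.mpr ⟨h1, mem_centralizer_singleton_iff.mpr (mul_inv_eq_iff_eq_mul.mp h2).symm⟩
    rw [← card_three_of hxo (hmemI hxS hx) (card_inf_centralizer e ht hN hi hS)]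
    exact hmemI hyS hy
  have hexfix : ∀ {i : G}, orderOf i = 2 → t * i = i * t → orderOf (t * i) = 2 → i * u * i⁻¹ = u ^ 2 →
      ∃ x ∈ S, x ≠ 1 ∧ orderOf x = 3 ∧ i * x * i⁻¹ = x ∧ IsConj x u ∧ x ∉ zpowers u := by
    intro i hi hti htio hiu
    obtain ⟨x, hxS, hx1, hx⟩ := exists_fixed ht2 (by rw [← sq, ← hi, pow_orderOf_eq_one]) hti hS
      (hpres i (Or.inr hiu)) htS (card_inf_centralizer e ht hN ht hS) (card_inf_centralizer e ht hN htio hS)
    have hd := Subgroup.orderOf_dvd_natCard (S ⊓ centralizer ({i} : Set G))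
      (mem_inf.mpr ⟨hxS, mem_centralizer_singleton_iff.mpr (mul_inv_eq_iff_eq_mul.mp hx).symm⟩)
    have hxo : orderOf x = 3 := ((Nat.dvd_prime Nat.prime_three).mp
      (hd.trans (card_inf_centralizer e ht hN hi hS))).resolve_left fun h => hx1 (orderOf_eq_one_iff.mp h)
    refine ⟨x, hxS, hx1, hxo, hx, isConj_u_of_commute e ht hi (hxo ▸ pow_orderOf_eq_one x) hx1
      (mul_inv_eq_iff_eq_mul.mp hx).symm, fun h => ?_⟩
    rcases pow_three_cases hu3 h with h' | h' | h'
    · exact hx1 h'
    · rw [h', hiu] at hx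
      exact hu1 (by rw [← mul_right_cancel_iff (a := u), ← sq, hx, one_mul])
    · rw [h', ← conj_pow, hiu, ← pow_mul, show 2 * 2 = 3 + 1 from rfl, pow_succ, hu3, one_mul] at hx
      exact hu1 (by rw [← mul_right_cancel_iff (a := u), ← sq, ← hx, one_mul])
  have hts_comm : t * s = s * t := hst.symm
  obtain ⟨x, hxS, hx1, hxo, hsx, hxu, hxu'⟩ := hexfix hso hts_comm htso hsu
  obtain ⟨y, hyS, hy1, hyo, htsy, hyu, hyu'⟩ := hexfix htso
    (by rw [mul_assoc t s t, ← hts_comm]) (by rw [← mul_assoc, ht2, one_mul]; exact hso) htsu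
  have hx3 : x ^ 3 = 1 := hxo ▸ pow_orderOf_eq_one x
  have hCt : ∀ {g : G}, g ∈ S → t * g * t⁻¹ = g → g ∈ zpowers u := fun hg h => hfix ht huS huo htu hg h
  have hcmt : ∀ g : G, s * (t * g * t⁻¹) * s⁻¹ = t * (s * g * s⁻¹) * t⁻¹ := fun g => by
    rw [show s * (t * g * t⁻¹) * s⁻¹ = s * t * g * (s * t)⁻¹ by group, ← hts_comm]; group
  -- `x` is not central in `S`
  have hnc : ∃ g ∈ S, g * x ≠ x * g := by
    by_contra hall
    push Not at hall
    -- then `S` is abelian and two `N(S)`-orbits are too large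
    have hab : ∀ a ∈ S, ∀ b ∈ S, a * b = b * a := by
      intro a ha b hb
      let Z := center S
      have hux : (⟨u, huS⟩ : S) ∈ Z ∧ (⟨x, hxS⟩ : S) ∈ Z :=
        ⟨mem_center_iff.mpr fun g => Subtype.ext (hucc g g.2), mem_center_iff.mpr fun g => Subtype.ext (hall g g.2)⟩
      have hlt : 3 < Nat.card Z := by
        by_contra hle
        have he : (zpowers (⟨u, huS⟩ : S)) = Z := eq_of_le_of_card_ge (zpowers_le.mpr hux.1) (by
          rw [Nat.card_zpowers, ← orderOf_coe, huo]; omega)
        obtain ⟨k, hk⟩ := mem_zpowers_iff.mp (he ▸ hux.2)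
        exact hxu' ⟨k, congrArg Subtype.val hk⟩
      have hd : Nat.card Z ∣ 3 ^ 3 := by
        rw [show 3 ^ 3 = Nat.card S from hS.symm]; exact card_subgroup_dvd_card Z
      obtain ⟨j, hj, hje⟩ := (Nat.dvd_prime_pow Nat.prime_three).mp hd
      have hidx := card_mul_index Z
      rw [hje, hS] at hidx
      rw [hje] at hlt
      have hcyc : IsCyclic (S ⧸ Z) := by
        interval_cases j
        · omega
        · omega
        · exact isCyclic_of_prime_card (p := 3) (by rw [← index_eq_card]; omega)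
        · haveI : Subsingleton (S ⧸ Z) := (Nat.card_eq_one_iff_unique.mp (by rw [← index_eq_card]; omega)).1
          exact isCyclic_of_subsingleton
      exact congrArg Subtype.val (commutative_of_cyclic_center_quotient (QuotientGroup.mk' Z)
        (by rw [QuotientGroup.ker_mk']) (⟨a, ha⟩ : S) ⟨b, hb⟩)
    obtain ⟨P, hP⟩ := (IsPGroup.of_card (n := 3) (by rw [hS]; rfl) : IsPGroup 3 S).exists_le_sylow
    have hPS : S = (P : Subgroup G) := eq_of_le_of_card_ge hP (by rw [card_sylow_three hN P, hS])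
    haveI : IsMulCommutative (P : Subgroup G) := ⟨⟨fun a b => Subtype.ext (hab a (hPS ▸ a.2) b (hPS ▸ b.2))⟩⟩
    set N := normalizer (S : Set G) with hNd
    have hCN : centralizer ({u} : Set G) ≤ N := fun c hc =>
      Cfsg.Lib.Fusion.le_normalizer_of_conj_mem (hpres c (Or.inl (mul_inv_eq_iff_eq_mul.mpr
        (mem_centralizer_singleton_iff.mp hc))))
    have hVN : t ∈ N ∧ s ∈ N ∧ t * s ∈ N :=
      ⟨Cfsg.Lib.Fusion.le_normalizer_of_conj_mem htS, Cfsg.Lib.Fusion.le_normalizer_of_conj_mem hsS,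
        Cfsg.Lib.Fusion.le_normalizer_of_conj_mem htsS⟩
    classical
    let O : Finset G := Finset.univ.filter fun w => ∃ n ∈ N, n * u * n⁻¹ = w
    have hO : ∀ w, w ∈ O ↔ ∃ n ∈ N, n * u * n⁻¹ = w := fun w => by simp [O]
    have hfus : ∀ w ∈ S, IsConj w u → w ∈ O := by
      intro w hw hwu
      obtain ⟨g, hg⟩ := isConj_iff.mp hwu.symm
      obtain ⟨n, hn, hne⟩ := Cfsg.Lib.Fusion.exists_normalizer_conj_of_abelian P (x := u) (g := g) (hPS ▸ huS)
        (hg ▸ hPS ▸ hw)
      exact (hO w).mpr ⟨n, by rw [hNd, hPS]; exact hn, hne.trans hg⟩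
    have hOS : ∀ w ∈ O, w ∈ S ∧ w ≠ 1 ∧ w ^ 3 = 1 := by
      intro w hw
      obtain ⟨n, hn, rfl⟩ := (hO w).mp hw
      refine ⟨(mem_normalizer_iff.mp hn u).mp huS, fun h => hu1 (conj_eq_one_iff.mp h), ?_⟩
      rw [conj_pow, hu3, mul_one, mul_inv_cancel]
    have hcount : O.card * 54 = Nat.card N := by
      have h := card_mul_index ((centralizer ({u} : Set G)).subgroupOf N)
      rw [Nat.card_congr (subgroupOfEquivOfLe hCN).toEquiv, hC] at h
      have hidx : ((centralizer ({u} : Set G)).subgroupOf N).index = O.card := by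
        rw [index_eq_card, ← Nat.card_eq_finsetCard]
        refine Nat.card_eq_of_bijective
          (Quotient.lift (fun n : N => (⟨(n : G) * u * (n : G)⁻¹, (hO _).mpr ⟨n, n.2, rfl⟩⟩ : O)) ?_) ⟨?_, ?_⟩
        · intro a b hab'
          rw [← Quotient.eq_iff_equiv, Quotient.eq''] at hab'
          have h' : ((a⁻¹ * b : N) : G) ∈ centralizer ({u} : Set G) :=
            mem_subgroupOf.mp (QuotientGroup.leftRel_apply.mp hab')
          rw [mem_centralizer_singleton_iff] at h'
          simp only [Subgroup.coe_mul, InvMemClass.coe_inv] at h'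
          refine Subtype.ext ?_
          show (a : G) * u * (a : G)⁻¹ = (b : G) * u * (b : G)⁻¹
          calc (a : G) * u * (a : G)⁻¹ = (a : G) * (u * ((a : G)⁻¹ * b)) * (b : G)⁻¹ := by group
            _ = (a : G) * (((a : G)⁻¹ * b) * u) * (b : G)⁻¹ := by rw [h']
            _ = _ := by group
        · intro a b
          induction a using Quotient.inductionOn'
          induction b using Quotient.inductionOn'
          rename_i a b
          intro hab'
          apply Quotient.sound'
          rw [QuotientGroup.leftRel_apply, mem_subgroupOf, mem_centralizer_singleton_iff]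
          have h' : (a : G) * u * (a : G)⁻¹ = (b : G) * u * (b : G)⁻¹ := congrArg Subtype.val hab'
          simp only [Subgroup.coe_mul, InvMemClass.coe_inv]
          calc (a : G)⁻¹ * b * u = (a : G)⁻¹ * ((b : G) * u * (b : G)⁻¹) * b := by group
            _ = (a : G)⁻¹ * ((a : G) * u * (a : G)⁻¹) * b := by rw [h']
            _ = _ := by group
        · rintro ⟨w, hw⟩
          obtain ⟨n, hn, rfl⟩ := (hO w).mp hw
          exact ⟨Quotient.mk'' ⟨n, hn⟩, rfl⟩
      rw [hidx, mul_comm] at h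
      exact h
    have hO26 : O.card ≤ 26 := by
      have h : O.card ≤ (Finset.univ.filter fun w => w ∈ S ∧ w ≠ 1).card :=
        Finset.card_le_card fun w hw => Finset.mem_filter.mpr ⟨Finset.mem_univ _, (hOS w hw).1, (hOS w hw).2.1⟩
      have h' : (Finset.univ.filter fun w => w ∈ S ∧ w ≠ 1) =
          (Finset.univ.filter fun w => w ∈ S).erase 1 := by ext w; simp [and_comm]
      rw [h', Finset.card_erase_of_mem (by simp [one_mem])] at h
      have hS' : (Finset.univ.filter fun w => w ∈ S).card = 27 := by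
        rw [← Fintype.card_subtype, ← Nat.card_eq_fintype_card]; exact hS
      omega
    -- the six obvious members
    have hsq : ∀ {w : G}, w ∈ S → IsConj w u → w ^ 3 = 1 → w ^ 2 ∈ O := fun {w} hw hwu hw3 =>
      hfus _ (pow_mem hw 2) ((hwu.pow 2).trans (isConj_iff.mpr ⟨s, by
        rw [← conj_pow, hsu, ← pow_mul, show 2 * 2 = 3 + 1 from rfl, pow_succ, hu3, one_mul]⟩))
    have hy3 : y ^ 3 = 1 := hyo ▸ pow_orderOf_eq_one y
    have hxy : y ∉ zpowers x := fun h => by
      have h1 : s * y * s⁻¹ = y := by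
        obtain ⟨k, rfl⟩ := mem_zpowers_iff.mp h
        rw [← conj_zpow, hsx]
      have h2 : t * y * t⁻¹ = y := by
        conv_rhs => rw [← htsy]
        rw [mul_inv_rev, show t * s * y * (s⁻¹ * t⁻¹) = t * (s * y * s⁻¹) * t⁻¹ by group, h1]
      exact hyu' (hCt hyS h2)
    set six : Finset G := {u, u ^ 2, x, x ^ 2, y, y ^ 2} with hsix
    have hne2 : ∀ {w : G}, orderOf w = 3 → w ≠ w ^ 2 := fun {w} hw h => by
      have h' : w = 1 := by rwa [sq, left_eq_mul] at h
      rw [h', orderOf_one] at hw; omega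
    have hsepsq : ∀ {v w : G}, v ∉ zpowers w → v ^ 3 = 1 → v ≠ w ∧ v ≠ w ^ 2 ∧ v ^ 2 ≠ w ∧ v ^ 2 ≠ w ^ 2 := by
      intro v w hv hv3
      have hv' : (v ^ 2) ^ 2 = v := by rw [← pow_mul, show 2 * 2 = 3 + 1 from rfl, pow_succ, hv3, one_mul]
      exact ⟨fun h => hv (h ▸ mem_zpowers w), fun h => hv (h ▸ npow_mem_zpowers w 2),
        fun h => hv (by rw [← hv', h]; exact npow_mem_zpowers w 2),
        fun h => hv (by rw [← hv', h, ← pow_mul]; exact npow_mem_zpowers w _)⟩
    obtain ⟨a1, a2, a3, a4⟩ := hsepsq hxu' hx3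
    obtain ⟨b1, b2, b3, b4⟩ := hsepsq hyu' hy3
    obtain ⟨c1, c2, c3, c4⟩ := hsepsq hxy hy3
    have hsixcard : six.card = 6 := by
      simp [hsix, hne2 huo, hne2 hxo, hne2 hyo, a1.symm, a2.symm, a3.symm, a4.symm, b1.symm, b2.symm, b3.symm,
        b4.symm, c1.symm, c2.symm, c3.symm, c4.symm]
    have hsixO : six ⊆ O := by
      intro w hw
      simp only [hsix, Finset.mem_insert, Finset.mem_singleton] at hw
      rcases hw with rfl | rfl | rfl | rfl | rfl | rfl
      exacts [hfus _ huS (IsConj.refl _), hsq huS (IsConj.refl _) hu3, hfus _ hxS hxu, hsq hxS hxu hx3,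
        hfus _ hyS hyu, hsq hyS hyu hy3]
    -- `|N|` is divisible by four and `O` has eight elements
    have h4 : 4 ∣ Nat.card N := by
      let V : Subgroup GL23 :=
        { carrier := {a | a = 1 ∨ a = -1 ∨ a = repU 5 ∨ a = -repU 5}
          one_mem' := Or.inl rfl
          mul_mem' := by
            intro a b ha hb
            rcases ha with rfl | rfl | rfl | rfl <;> rcases hb with rfl | rfl | rfl | rfl <;>
              simp [rep_two_cube.2.2.1]
          inv_mem' := by
            intro a ha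
            rcases ha with rfl | rfl | rfl | rfl <;>
              simp [inv_eq_of_mul_eq_one_right rep_two_cube.2.2.1] }
      have hVc : Nat.card (V.map (emb e)) = 4 := by
        rw [card_map_of_injective (emb_injective e)]
        exact card_four
      refine hVc ▸ card_dvd_of_le ?_
      rintro _ ⟨a, ha, rfl⟩
      rcases ha with rfl | rfl | rfl | rfl
      · rw [map_one]; exact one_mem _
      · rw [emb_neg_one e ht]; exact hVN.1
      · exact hVN.2.1
      · rw [← neg_one_mul, map_mul, emb_neg_one e ht]; exact hVN.2.2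
    have hdvd : Nat.card N ∣ 5616 := hN ▸ card_subgroup_dvd_card N
    have hn3 := card_sylow_modEq_one 3 G
    have hn3eq : Nat.card (Sylow 3 G) * Nat.card N = 5616 := by
      have h := card_mul_index (normalizer (P : Set G))
      rw [← P.card_eq_index_normalizer, hN, mul_comm] at h
      rw [hNd, hPS]
      exact h
    have hOge : 6 ≤ O.card := hsixcard ▸ Finset.card_le_card hsixO
    have ho104 : O.card ∣ 104 := by
      rw [← hcount, show 5616 = 104 * 54 by norm_num] at hdvd
      exact Nat.dvd_of_mul_dvd_mul_right (by norm_num) hdvd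
    have hdiv : ∀ o ∈ Nat.divisors 104, 6 ≤ o → o ≤ 26 → o = 8 ∨ o = 13 ∨ o = 26 := by decide +kernel
    have hO8 : O.card = 8 := by
      rcases hdiv _ (Nat.mem_divisors.mpr ⟨ho104, by norm_num⟩) hOge hO26 with h | h | h
      · exact h
      · rw [← hcount, h] at h4; omega
      · exfalso
        rw [← hcount, h] at hn3eq
        have hc4 : Nat.card (Sylow 3 G) = 4 := by omega
        rcases IsSimpleGroup.eq_bot_or_eq_top_of_normal (MulAction.toPermHom G (Sylow 3 G)).ker inferInstance with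
          hk | hk
        · have h1 := Nat.card_le_card_of_injective _ ((MonoidHom.ker_eq_bot_iff _).mp hk)
          rw [hN, Nat.card_perm, hc4] at h1
          norm_num [Nat.factorial] at h1
        · obtain ⟨Q, hQ⟩ : ∃ Q : Sylow 3 G, Q ≠ P := by
            by_contra hall'
            push Not at hall'
            haveI : Subsingleton (Sylow 3 G) := ⟨fun a b => (hall' a).trans (hall' b).symm⟩
            have := Finite.card_le_one_iff_subsingleton.mpr (inferInstance : Subsingleton (Sylow 3 G))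
            omega
          obtain ⟨g, hg⟩ := MulAction.exists_smul_eq G P Q
          have hgk : g ∈ (MulAction.toPermHom G (Sylow 3 G)).ker := hk ▸ mem_top g
          rw [MonoidHom.mem_ker] at hgk
          exact hQ (hg.symm.trans (congrArg (fun σ : Equiv.Perm (Sylow 3 G) => σ P) hgk))
    obtain ⟨q, hqO, hq6⟩ := Finset.exists_mem_notMem_of_card_lt_card (s := six) (t := O) (by omega)
    obtain ⟨hqS, hq1, hq3⟩ := hOS q hqO
    simp only [hsix, Finset.mem_insert, Finset.mem_singleton, not_or] at hq6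
    obtain ⟨q1, q2, q3, q4, q5, q6⟩ := hq6
    have hnot : ∀ {w v : G}, w ^ 3 = 1 → v ∈ zpowers w → v ≠ 1 → v ≠ w → v ≠ w ^ 2 → False :=
      fun hw hv h1 h2 h3 => by rcases pow_three_cases hw hv with h | h | h <;> contradiction
    -- `t` and `s` fix the line of `q`
    have hinvO : ∀ c ∈ N, ∀ w ∈ O, c * w * c⁻¹ ∈ O := by
      intro c hc w hw
      obtain ⟨n, hn, rfl⟩ := (hO w).mp hw
      exact (hO _).mpr ⟨c * n, mul_mem hc hn, by group⟩
    have hq2O : q ^ 2 ∈ O := by
      obtain ⟨n, hn, hnq⟩ := (hO q).mp hqO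
      exact (hO _).mpr ⟨n * s, mul_mem hn hVN.2.1, by
        rw [← hnq, conj_pow, ← hsu]; group⟩
    have hrest : ∀ w ∈ O, w ∉ six → w = q ∨ w = q ^ 2 := by
      intro w hw hw6
      by_contra hne'
      push Not at hne'
      have hq2' : q ^ 2 ∉ six := by
        have h44 : (q ^ 2) ^ 2 = q := by rw [← pow_mul, show 2 * 2 = 3 + 1 from rfl, pow_succ, hq3, one_mul]
        simp only [hsix, Finset.mem_insert, Finset.mem_singleton, not_or]
        refine ⟨fun h => q2 ?_, fun h => q1 ?_, fun h => q4 ?_, fun h => q3 ?_, fun h => q6 ?_, fun h => q5 ?_⟩ <;>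
          rw [← h44, h] <;>
          first
            | rfl
            | rw [← pow_mul, show 2 * 2 = 3 + 1 from rfl, pow_succ, hu3, one_mul]
            | rw [← pow_mul, show 2 * 2 = 3 + 1 from rfl, pow_succ, hx3, one_mul]
            | rw [← pow_mul, show 2 * 2 = 3 + 1 from rfl, pow_succ, hy3, one_mul]
      have hqq : q ≠ q ^ 2 := fun h => hq1 (by rwa [sq, left_eq_mul] at h)
      have hsub : insert w (insert q (insert (q ^ 2) six)) ⊆ O := by
        simp only [Finset.insert_subset_iff]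
        exact ⟨hw, hqO, hq2O, hsixO⟩
      have h := Finset.card_le_card hsub
      rw [Finset.card_insert_of_notMem (by simp [hne'.1, hne'.2, hw6]),
        Finset.card_insert_of_notMem (by simp [hqq, hsix, q1, q2, q3, q4, q5, q6]),
        Finset.card_insert_of_notMem hq2', hsixcard, hO8] at h
      omega
    have hVfix : ∀ c ∈ N, (∀ w ∈ six, c⁻¹ * w * c ∈ six) → c * q * c⁻¹ = q ∨ c * q * c⁻¹ = q ^ 2 := by
      intro c hc hsx'
      refine hrest _ (hinvO c hc q hqO) fun h => ?_
      have := hsx' _ h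
      rw [show c⁻¹ * (c * q * c⁻¹) * c = q by group] at this
      simp only [hsix, Finset.mem_insert, Finset.mem_singleton] at this
      tauto
    -- `t` fixes `u` and inverts or fixes `x`, `y`
    have hline : ∀ {i : G}, orderOf i = 2 → ∀ {v : G}, v ∈ S → orderOf v = 3 → i * v * i⁻¹ = v →
        ∀ {c : G}, c * i = i * c → (∀ g ∈ S, c * g * c⁻¹ ∈ S) → c * v * c⁻¹ = v ∨ c * v * c⁻¹ = v ^ 2 := by
      intro i hi v hvS hvo hv c hci hcS
      have hmem' : c * v * c⁻¹ ∈ zpowers v := hfix hi hvS hvo hv (hcS v hvS) (by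
        rw [show i * (c * v * c⁻¹) * i⁻¹ = i * c * v * (i * c)⁻¹ by group, ← hci,
          show c * i * v * (c * i)⁻¹ = c * (i * v * i⁻¹) * c⁻¹ by group, hv])
      rcases pow_three_cases (hvo ▸ pow_orderOf_eq_one v) hmem' with h | h | h
      · exact absurd (conj_eq_one_iff.mp h) (fun h' => by rw [h', orderOf_one] at hvo; omega)
      · exact Or.inl h
      · exact Or.inr h
    have hsix_fix : ∀ {c : G}, c * c = 1 → (c * u * c⁻¹ = u ∨ c * u * c⁻¹ = u ^ 2) →
        (c * x * c⁻¹ = x ∨ c * x * c⁻¹ = x ^ 2) → (c * y * c⁻¹ = y ∨ c * y * c⁻¹ = y ^ 2) →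
        ∀ w ∈ six, c⁻¹ * w * c ∈ six := by
      intro c hc hu' hx' hy' w hw
      rw [show c⁻¹ * w * c = c * w * c⁻¹ by rw [inv_eq_of_mul_eq_one_right hc]]
      simp only [hsix, Finset.mem_insert, Finset.mem_singleton] at hw ⊢
      rcases hw with rfl | rfl | rfl | rfl | rfl | rfl
      · rcases hu' with h | h <;> simp [h]
      · rcases hu' with h | h <;> rw [← conj_pow, h] <;>
          simp [← pow_mul, show 2 * 2 = 3 + 1 from rfl, pow_succ (n := 3), hu3]
      · rcases hx' with h | h <;> simp [h]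
      · rcases hx' with h | h <;> rw [← conj_pow, h] <;>
          simp [← pow_mul, show 2 * 2 = 3 + 1 from rfl, pow_succ (n := 3), hx3]
      · rcases hy' with h | h <;> simp [h]
      · rcases hy' with h | h <;> rw [← conj_pow, h] <;>
          simp [← pow_mul, show 2 * 2 = 3 + 1 from rfl, pow_succ (n := 3), hy3]
    have htt := hVfix t hVN.1 (hsix_fix ht2 (Or.inl htu) (hline hso hxS hxo hsx hts_comm htS)
      (hline htso hyS hyo htsy (by rw [mul_assoc t s t, ← hts_comm]) htS))
    have hss := hVfix s hVN.2.1 (hsix_fix hs2 (Or.inr hsu) (Or.inl hsx)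
      (hline htso hyS hyo htsy (by rw [← mul_assoc, ← hts_comm]) hsS))
    rcases htt with h | h
    · exact hnot hu3 (hCt hqS h) hq1 q1 q2
    rcases hss with h' | h'
    · exact hnot hx3 (hfix hso hxS hxo hsx hqS h') hq1 q3 q4
    · refine hnot hy3 (hfix htso hyS hyo htsy hqS ?_) hq1 q5 q6
      rw [mul_inv_rev, show t * s * q * (s⁻¹ * t⁻¹) = t * (s * q * s⁻¹) * t⁻¹ by group, h', ← conj_pow, h,
        ← pow_mul, show 2 * 2 = 3 + 1 from rfl, pow_succ, hq3, one_mul]
  -- the group `A = C_S(x)`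
  obtain ⟨g₀, hg₀S, hg₀⟩ := hnc
  set A := S ⊓ centralizer ({x} : Set G) with hA
  have hxA : x ∈ A := mem_inf.mpr ⟨hxS, mem_centralizer_singleton_iff.mpr rfl⟩
  have huA : u ∈ A := mem_inf.mpr ⟨huS, mem_centralizer_singleton_iff.mpr (hucc x hxS).symm⟩
  have hA9 : Nat.card A = 9 := by
    have h1 : Nat.card A ∣ 3 ^ 3 := by
      rw [show 3 ^ 3 = Nat.card S from hS.symm]; exact card_dvd_of_le inf_le_left
    have h2 : A ≠ S := fun h => hg₀ (mem_centralizer_singleton_iff.mp (mem_inf.mp (h.symm ▸ hg₀S : g₀ ∈ A)).2)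
    have h3 : 3 < Nat.card A := by
      by_contra hle
      have he : zpowers u = A := eq_of_le_of_card_ge (zpowers_le.mpr huA) (by rw [Nat.card_zpowers, huo]; omega)
      exact hxu' (he ▸ hxA)
    have h4 : Nat.card A < 27 := lt_of_le_of_ne (hS ▸ card_le_of_le inf_le_left) fun h =>
      h2 (eq_of_le_of_card_ge inf_le_left (by rw [hS, h]))
    obtain ⟨j, hj, hje⟩ := (Nat.dvd_prime_pow Nat.prime_three).mp h1
    interval_cases j <;> omega
  have hAc : ∀ a ∈ A, ∀ b ∈ A, a * b = b * a := fun a ha b hb =>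
    congrArg Subtype.val (IsPGroup.commutative_of_card_eq_prime_sq (p := 3) (G := A) (by rw [hA9]; rfl) ⟨a, ha⟩ ⟨b, hb⟩)
  have hA3 : ∀ a ∈ A, a ^ 3 = 1 := by
    intro a ha
    let K : Subgroup G :=
      { carrier := {b | b ∈ A ∧ b ^ 3 = 1}
        one_mem' := ⟨one_mem _, one_pow _⟩
        mul_mem' := fun {b c} hb hc => ⟨mul_mem hb.1 hc.1, by
          rw [(show Commute b c from hAc b hb.1 c hc.1).mul_pow, hb.2, hc.2, one_mul]⟩
        inv_mem' := fun {b} hb => ⟨inv_mem hb.1, by rw [inv_pow, hb.2, inv_one]⟩ }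
    have hKA : K ≤ A := fun b hb => hb.1
    have hK : K = A := by
      have h1 : Nat.card K ∣ 3 ^ 2 := by
        rw [show 3 ^ 2 = Nat.card A from hA9.symm]; exact card_dvd_of_le hKA
      have h3 : 3 < Nat.card K := by
        by_contra hle
        have he : zpowers u = K := eq_of_le_of_card_ge (zpowers_le.mpr ⟨huA, hu3⟩)
          (by rw [Nat.card_zpowers, huo]; omega)
        exact hxu' (he ▸ (⟨hxA, hx3⟩ : x ∈ K))
      obtain ⟨j, hj, hje⟩ := (Nat.dvd_prime_pow Nat.prime_three).mp h1
      refine eq_of_le_of_card_ge hKA ?_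
      interval_cases j <;> omega
    rw [← hK] at ha
    exact ha.2
  set M := normalizer (A : Set G) with hM
  have hSM : S ≤ M := by
    have hidx : (A.subgroupOf S).index = 3 := by
      have h := card_mul_index (A.subgroupOf S)
      rw [Nat.card_congr (subgroupOfEquivOfLe inf_le_left).toEquiv, hA9, hS] at h
      omega
    have hnorm : (A.subgroupOf S).Normal := normal_of_index_eq_minFac_card (by rw [hidx, hS]; norm_num)
    exact (normal_subgroupOf_iff_le_normalizer inf_le_left).mp hnorm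
  have hVM : ∀ c : G, (c * u * c⁻¹ = u ∨ c * u * c⁻¹ = u ^ 2) → c * s = s * c → c ∈ M := by
    intro c hc hcs
    refine Cfsg.Lib.Fusion.le_normalizer_of_conj_mem fun a ha => ?_
    obtain ⟨haS, hax⟩ := mem_inf.mp ha
    refine mem_inf.mpr ⟨hpres c hc a haS, mem_centralizer_singleton_iff.mpr ?_⟩
    have hcx : c * x * c⁻¹ ∈ zpowers x := hfix hso hxS hxo hsx (hpres c hc x hxS) (by
      rw [show s * (c * x * c⁻¹) * s⁻¹ = s * c * x * (s * c)⁻¹ by group, ← hcs,
        show c * s * x * (c * s)⁻¹ = c * (s * x * s⁻¹) * c⁻¹ by group, hsx])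
    have hz : zpowers (c * x * c⁻¹) = zpowers x := eq_zpowers_three hxo hcx fun h => hx1 (conj_eq_one_iff.mp h)
    have h1 : c * a * c⁻¹ ∈ centralizer ({c * x * c⁻¹} : Set G) := mem_centralizer_singleton_iff.mpr
      ((show Commute a x from mem_centralizer_singleton_iff.mp hax).map (MulAut.conj c).toMonoidHom).eq
    rw [← centralizer_closure, ← zpowers_eq_closure, hz, zpowers_eq_closure, centralizer_closure,
      mem_centralizer_singleton_iff] at h1
    exact h1
  have htM : t ∈ M := hVM t (Or.inl htu) hts_comm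
  have hsM : s ∈ M := hVM s (Or.inr hsu) rfl
  -- `C(u) = S ⊔ ⟨t⟩`
  have hSC : S ≤ centralizer ({u} : Set G) := fun g hg => ((hmem g).mp hg).1
  have hCM : centralizer ({u} : Set G) ≤ M := by
    set C := centralizer ({u} : Set G) ⊓ M with hCdef
    have h1 : 27 ∣ Nat.card C := hS ▸ card_dvd_of_le (le_inf hSC hSM)
    have h2 : 2 ∣ Nat.card C := ht ▸ Subgroup.orderOf_dvd_natCard C
      (mem_inf.mpr ⟨mem_centralizer_singleton_iff.mpr (emb_commute e _).symm, htM⟩)
    have h3 := card_dvd_of_le (inf_le_left : C ≤ centralizer ({u} : Set G))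
    rw [hC] at h3
    have h4 : Nat.card C = 54 := by
      exact Nat.dvd_antisymm h3 (Nat.Coprime.mul_dvd_of_dvd_of_dvd (by norm_num : Nat.Coprime 27 2) h1 h2)
    exact inf_eq_left.mp (eq_of_le_of_card_ge inf_le_left (by rw [hC, h4]))
  -- the Sylow subgroup of `C(x)`
  obtain ⟨gx, hgx⟩ := isConj_iff.mp hxu.symm
  set S' := S.map (MulAut.conj gx).toMonoidHom with hS'
  have hmem' : ∀ y, y * x = x * y → y ^ 27 = 1 → y ∈ S' := by
    intro y hy hy27
    refine ⟨gx⁻¹ * y * gx, (hmem _).mpr ⟨mem_centralizer_singleton_iff.mpr ?_, ?_⟩, by simp [mul_assoc]⟩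
    · rw [show gx⁻¹ * y * gx * u = gx⁻¹ * (y * (gx * u * gx⁻¹)) * gx by group, hgx, hy, ← hgx]; group
    · rw [show gx⁻¹ * y * gx = gx⁻¹ * y * gx⁻¹⁻¹ by rw [inv_inv], conj_pow, hy27]; simp
  have hS'27 : Nat.card S' = 27 := by rw [card_map_of_injective (MulAut.conj gx).injective, hS]
  have hAS' : A ≤ S' := fun a ha => hmem' a (mem_centralizer_singleton_iff.mp (mem_inf.mp ha).2)
    (by rw [show 27 = 3 * 9 from rfl, pow_mul, hA3 a ha, one_pow])
  have hS'M : S' ≤ M := by
    have hidx : (A.subgroupOf S').index = 3 := by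
      have h := card_mul_index (A.subgroupOf S')
      rw [Nat.card_congr (subgroupOfEquivOfLe hAS').toEquiv, hA9, hS'27] at h
      omega
    have hnorm : (A.subgroupOf S').Normal := normal_of_index_eq_minFac_card (by rw [hidx, hS'27]; norm_num)
    exact (normal_subgroupOf_iff_le_normalizer hAS').mp hnorm
  have hSS' : ¬ S' ≤ S := fun hle => by
    have he : S' = S := eq_of_le_of_card_ge hle (by rw [hS'27, hS])
    obtain ⟨g', hg', hge⟩ := mem_map.mp (he.symm ▸ hg₀S : g₀ ∈ S')
    refine hg₀ ?_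
    rw [← hge, ← hgx]
    exact ((show Commute g' u from hucc g' hg').map (MulAut.conj gx).toMonoidHom).eq
  -- the orbit of `u` in `A`
  classical
  let O : Finset G := Finset.univ.filter fun w => ∃ n ∈ M, n * u * n⁻¹ = w
  have hO : ∀ w, w ∈ O ↔ ∃ n ∈ M, n * u * n⁻¹ = w := fun w => by simp [O]
  let Ae : Finset G := (Finset.univ.filter fun w => w ∈ A).erase 1
  have hAe : Ae.card = 8 := by
    have hA' : Nat.card {w // w ∈ A} = 9 := hA9
    rw [Finset.card_erase_of_mem (by simp [one_mem]), ← Fintype.card_subtype, ← Nat.card_eq_fintype_card, hA']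
  have hOA : O ⊆ Ae := by
    intro w hw
    obtain ⟨n, hn, rfl⟩ := (hO w).mp hw
    simp only [Ae, Finset.mem_erase, Finset.mem_filter, Finset.mem_univ, true_and]
    exact ⟨fun h => hu1 (conj_eq_one_iff.mp h), (mem_normalizer_iff.mp hn u).mp huA⟩
  have hcount : O.card * 54 = Nat.card M := by
    have h := card_mul_index ((centralizer ({u} : Set G)).subgroupOf M)
    rw [Nat.card_congr (subgroupOfEquivOfLe hCM).toEquiv, hC] at h
    have hidx : ((centralizer ({u} : Set G)).subgroupOf M).index = O.card := by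
      rw [index_eq_card, ← Nat.card_eq_finsetCard]
      refine Nat.card_eq_of_bijective
        (Quotient.lift (fun n : M => (⟨(n : G) * u * (n : G)⁻¹, (hO _).mpr ⟨n, n.2, rfl⟩⟩ : O)) ?_) ⟨?_, ?_⟩
      · intro a b hab'
        rw [← Quotient.eq_iff_equiv, Quotient.eq''] at hab'
        have h' : ((a⁻¹ * b : M) : G) ∈ centralizer ({u} : Set G) :=
          mem_subgroupOf.mp (QuotientGroup.leftRel_apply.mp hab')
        rw [mem_centralizer_singleton_iff] at h'
        simp only [Subgroup.coe_mul, InvMemClass.coe_inv] at h'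
        refine Subtype.ext ?_
        show (a : G) * u * (a : G)⁻¹ = (b : G) * u * (b : G)⁻¹
        calc (a : G) * u * (a : G)⁻¹ = (a : G) * (u * ((a : G)⁻¹ * b)) * (b : G)⁻¹ := by group
          _ = (a : G) * (((a : G)⁻¹ * b) * u) * (b : G)⁻¹ := by rw [h']
          _ = _ := by group
      · intro a b
        induction a using Quotient.inductionOn'
        induction b using Quotient.inductionOn'
        rename_i a b
        intro hab'
        apply Quotient.sound'
        rw [QuotientGroup.leftRel_apply, mem_subgroupOf, mem_centralizer_singleton_iff]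
        have h' : (a : G) * u * (a : G)⁻¹ = (b : G) * u * (b : G)⁻¹ := congrArg Subtype.val hab'
        simp only [Subgroup.coe_mul, InvMemClass.coe_inv]
        calc (a : G)⁻¹ * b * u = (a : G)⁻¹ * ((b : G) * u * (b : G)⁻¹) * b := by group
          _ = (a : G)⁻¹ * ((a : G) * u * (a : G)⁻¹) * b := by rw [h']
          _ = _ := by group
      · rintro ⟨w, hw⟩
        obtain ⟨n, hn, rfl⟩ := (hO w).mp hw
        exact ⟨Quotient.mk'' ⟨n, hn⟩, rfl⟩
    rw [hidx, mul_comm] at h
    exact h
  -- the stabilizer of `⟨u⟩`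
  have hu2ne : u ^ 2 ≠ u := fun h => hu1 (by rwa [sq, mul_eq_left] at h)
  have hnorm_u : ∀ n : G, (∀ g ∈ S, n * g * n⁻¹ ∈ S) → n ∈ centralizer ({u} : Set G) ∨ s * n ∈ centralizer ({u} : Set G) := by
    intro n hn
    have hnS : n ∈ normalizer (S : Set G) := Cfsg.Lib.Fusion.le_normalizer_of_conj_mem hn
    -- the center of `S` is `⟨u⟩`
    have hz : ∀ z ∈ S, (∀ g ∈ S, g * z = z * g) → z ∈ zpowers u := by
      intro z hzS hzc
      have hzA : z ∈ A := mem_inf.mpr ⟨hzS, mem_centralizer_singleton_iff.mpr (hzc x hxS).symm⟩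
      by_contra hzu
      -- otherwise `A` is central
      have hcz : A ≤ centralizer (S : Set G) := by
        have hgen : zpowers u ⊔ zpowers z = A := by
          have hle : zpowers u ⊔ zpowers z ≤ A := sup_le (zpowers_le.mpr huA) (zpowers_le.mpr hzA)
          refine eq_of_le_of_card_ge hle ?_
          have h1 : Nat.card ↥(zpowers u ⊔ zpowers z) ∣ 3 ^ 2 := by
            rw [show 3 ^ 2 = Nat.card A from hA9.symm]; exact card_dvd_of_le hle
          obtain ⟨j, hj, hje⟩ := (Nat.dvd_prime_pow Nat.prime_three).mp h1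
          have hlt : 3 < Nat.card ↥(zpowers u ⊔ zpowers z) := by
            by_contra hle'
            exact hzu ((eq_of_le_of_card_ge (le_sup_left : zpowers u ≤ zpowers u ⊔ zpowers z)
              (by rw [Nat.card_zpowers, huo]; omega)) ▸ mem_sup_right (mem_zpowers z))
          interval_cases j <;> omega
        rw [← hgen]
        exact sup_le (zpowers_le.mpr fun g hg => hucc g hg) (zpowers_le.mpr fun g hg => hzc g hg)
      exact hg₀ (hcz hxA g₀ hg₀S)
    have hnu : n * u * n⁻¹ ∈ zpowers u := by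
      refine hz _ (hn u huS) fun g hg => ?_
      have hg' : n⁻¹ * g * n ∈ S := by
        have := (mem_normalizer_iff.mp (inv_mem hnS) g).mp hg
        rwa [inv_inv] at this
      have h := hucc _ hg'
      calc g * (n * u * n⁻¹) = n * (n⁻¹ * g * n * u) * n⁻¹ := by group
        _ = n * (u * (n⁻¹ * g * n)) * n⁻¹ := by rw [h]
        _ = n * u * n⁻¹ * g := by group
    rcases pow_three_cases hu3 hnu with h | h | h
    · exact absurd (conj_eq_one_iff.mp h) hu1
    · exact Or.inl (mem_centralizer_singleton_iff.mpr (mul_inv_eq_iff_eq_mul.mp h))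
    · refine Or.inr (mem_centralizer_singleton_iff.mpr (mul_inv_eq_iff_eq_mul.mp ?_))
      rw [mul_inv_rev, show s * n * u * (n⁻¹ * s⁻¹) = s * (n * u * n⁻¹) * s⁻¹ by group, h, ← conj_pow, hsu,
        ← pow_mul, show 2 * 2 = 3 + 1 from rfl, pow_succ, hu3, one_mul]
  have hNSM : normalizer (S : Set G) ≤ M := by
    intro n hn
    rcases hnorm_u n (fun g hg => (mem_normalizer_iff.mp hn g).mp hg) with h | h
    · exact hCM h
    · have := mul_mem hsM (hCM h)
      rwa [← mul_assoc, hs2, one_mul] at this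
  -- the order of `M`
  have hsC : s ∉ centralizer ({u} : Set G) := fun h => hu2ne (by
    rw [← hsu]; exact mul_inv_eq_iff_eq_mul.mpr (mem_centralizer_singleton_iff.mp h))
  have hO8 : O.card = 8 := by
    have hle := Finset.card_le_card hOA
    rw [hAe] at hle
    have h1 : Nat.card M ∣ 5616 := hN ▸ card_subgroup_dvd_card M
    rw [← hcount, show 5616 = 104 * 54 by norm_num] at h1
    have h1' := Nat.dvd_of_mul_dvd_mul_right (by norm_num) h1
    have hcases : ∀ o ∈ Nat.divisors 104, o ≤ 8 → o = 1 ∨ o = 2 ∨ o = 4 ∨ o = 8 := by decide +kernel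
    rcases hcases _ (Nat.mem_divisors.mpr ⟨h1', by norm_num⟩) hle with h | h | h | h
    case inr.inr.inr => exact h
    case inl =>
      exfalso
      have he : centralizer ({u} : Set G) = M := eq_of_le_of_card_ge hCM (by rw [hC, ← hcount, h])
      exact hsC (he.symm ▸ hsM)
    all_goals exfalso
    all_goals
      -- `S` would be normal in `M`
      set M₀ := (normalizer (S : Set G)).subgroupOf M with hM₀
      have hM₀c : 108 ≤ Nat.card M₀ := by
        rw [Nat.card_congr (subgroupOfEquivOfLe hNSM).toEquiv]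
        have hlt : centralizer ({u} : Set G) < normalizer (S : Set G) := by
          refine lt_of_le_of_ne (fun c hc => Cfsg.Lib.Fusion.le_normalizer_of_conj_mem
            (hpres c (Or.inl (mul_inv_eq_iff_eq_mul.mpr (mem_centralizer_singleton_iff.mp hc))))) fun he => hsC ?_
          rw [he]; exact Cfsg.Lib.Fusion.le_normalizer_of_conj_mem hsS
        have hd := card_dvd_of_le hlt.le
        have hne : Nat.card (centralizer ({u} : Set G)) ≠ Nat.card (normalizer (S : Set G)) := fun h' =>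
          hlt.ne (eq_of_le_of_card_ge hlt.le h'.ge)
        rw [hC] at hd hne
        obtain ⟨k, hk⟩ := hd
        rcases k with _ | _ | k
        · have := Nat.card_pos (α := (normalizer (S : Set G))); omega
        · omega
        · rw [hk]; nlinarith
      have hM216 : Nat.card M ≤ 216 := by rw [← hcount, h]; all_goals norm_num
      have hidx := card_mul_index M₀
      have hi2 : M₀.index = 1 ∨ M₀.index = 2 := by
        have := M₀.index_ne_zero_of_finite
        by_contra hne
        push Not at hne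
        have : 3 * 108 ≤ M₀.index * Nat.card M₀ := Nat.mul_le_mul (by omega) hM₀c
        rw [mul_comm M₀.index, hidx] at this
        omega
      have hsqM : ∀ g : M, g ^ 2 ∈ M₀ := by
        intro g
        rcases hi2 with hi | hi
        · rw [index_eq_one.mp hi]; exact mem_top _
        · exact Subgroup.sq_mem_of_index_two hi g
      have hS'N : S' ≤ normalizer (S : Set G) := by
        intro g hg
        have hgg : g = (g ^ 2) ^ 14 := by
          rw [← pow_mul, show 2 * 14 = 27 + 1 from rfl, pow_succ, pow_twentyseven hS'27 hg, one_mul]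
        have := mem_subgroupOf.mp (hsqM ⟨g, hS'M hg⟩)
        rw [hgg]
        exact pow_mem this 14
      have hp : IsPGroup 3 ↥(S' ⊔ S) := (IsPGroup.of_card (n := 3) (by rw [hS'27]; rfl)).to_sup_of_normal_right'
        (IsPGroup.of_card (n := 3) (by rw [hS]; rfl)) hS'N
      obtain ⟨Q, hQ⟩ := hp.exists_le_sylow
      have h1 := card_le_of_le hQ
      rw [card_sylow_three hN Q] at h1
      exact hSS' (sup_eq_right.mp (eq_of_le_of_card_ge (le_sup_right : S ≤ S' ⊔ S) (by rw [hS]; omega)).symm)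
  have hOeq : O = Ae := Finset.eq_of_subset_of_card_le hOA (by rw [hAe, hO8])
  refine ⟨A, hA9, hAc, hA3, by rw [← hcount, hO8], ?_, ?_, ?_⟩
  · intro a ha b hb ha1 hb1
    obtain ⟨n, hn, rfl⟩ := (hO a).mp (hOeq ▸ (by simp [Ae, ha, ha1] : a ∈ Ae))
    obtain ⟨m, hm, rfl⟩ := (hO b).mp (hOeq ▸ (by simp [Ae, hb, hb1] : b ∈ Ae))
    exact ⟨m * n⁻¹, mul_mem hm (inv_mem hn), by group⟩
  · intro T hT hTM
    obtain ⟨P₁, hP₁⟩ := (IsPGroup.of_card (n := 3) (by
      rw [Nat.card_congr (subgroupOfEquivOfLe hSM).toEquiv, hS]; rfl) : IsPGroup 3 (S.subgroupOf M)).exists_le_sylow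
    obtain ⟨P₂, hP₂⟩ := (IsPGroup.of_card (n := 3) (by
      rw [Nat.card_congr (subgroupOfEquivOfLe hTM).toEquiv, hT]; rfl) : IsPGroup 3 (T.subgroupOf M)).exists_le_sylow
    obtain ⟨m, hm⟩ := MulAction.exists_smul_eq M P₁ P₂
    have hcM : Nat.card M = 432 := by rw [← hcount, hO8]
    have hPc : ∀ Q : Sylow 3 M, Nat.card (Q : Subgroup M) = 27 := fun Q => by
      rw [Q.card_eq_multiplicity, hcM, Nat.factorization_def _ (by norm_num),
        show (432 : ℕ) = 3 ^ 3 * 16 by norm_num, padicValNat.mul (by norm_num) (by norm_num),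
        padicValNat.prime_pow, padicValNat.eq_zero_of_not_dvd (by norm_num)]
      norm_num
    have e1 : S.subgroupOf M = P₁ := eq_of_le_of_card_ge hP₁ (by
      rw [hPc, Nat.card_congr (subgroupOfEquivOfLe hSM).toEquiv, hS])
    have e2 : T.subgroupOf M = P₂ := eq_of_le_of_card_ge hP₂ (by
      rw [hPc, Nat.card_congr (subgroupOfEquivOfLe hTM).toEquiv, hT])
    have hTeq : T = S.map (MulAut.conj (m : G)).toMonoidHom := by
      refine (eq_of_le_of_card_ge ?_ (by rw [card_map_of_injective (MulAut.conj (m : G)).injective, hS, hT])).symm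
      rintro _ ⟨g, hg, rfl⟩
      have h1 : MulAut.conj m (⟨g, hSM hg⟩ : M) ∈ (P₂ : Subgroup M) := by
        rw [← hm]
        exact smul_mem_pointwise_smul _ (MulAut.conj m) _ (e1 ▸ (mem_subgroupOf.mpr hg : (⟨g, hSM hg⟩ : M) ∈ S.subgroupOf M))
      rw [← e2, mem_subgroupOf] at h1
      exact h1
    intro n hn
    have hn' : (m : G)⁻¹ * n * m ∈ normalizer (S : Set G) := by
      refine Cfsg.Lib.Fusion.le_normalizer_of_conj_mem fun g hg => ?_
      have h1 := (mem_normalizer_iff.mp hn _).mp (hTeq ▸ mem_map_of_mem _ hg : MulAut.conj (m : G) g ∈ T)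
      rw [hTeq] at h1
      obtain ⟨g', hg', hge⟩ := h1
      simp only [MulEquiv.coe_toMonoidHom, MulAut.conj_apply] at hge
      refine (?_ : (m : G)⁻¹ * n * m * g * ((m : G)⁻¹ * n * m)⁻¹ = g') ▸ hg'
      calc (m : G)⁻¹ * n * m * g * ((m : G)⁻¹ * n * m)⁻¹
          = (m : G)⁻¹ * (n * ((m : G) * g * (m : G)⁻¹) * n⁻¹) * m := by group
        _ = (m : G)⁻¹ * ((m : G) * g' * (m : G)⁻¹) * m := by rw [← hge]
        _ = g' := by group
    have := mul_mem (mul_mem m.2 (hNSM hn')) (inv_mem m.2)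
    rwa [show (m : G) * ((m : G)⁻¹ * n * m) * (m : G)⁻¹ = n by group] at this
  · intro a ha ha1
    obtain ⟨n, hn, rfl⟩ := (hO a).mp (hOeq ▸ (by simp [Ae, ha, ha1] : a ∈ Ae))
    refine ⟨S.map (MulAut.conj n).toMonoidHom, by rw [card_map_of_injective (MulAut.conj n).injective, hS],
      fun y hy hy3 => ?_⟩
    refine ⟨n⁻¹ * y * n, (hmem _).mpr ⟨mem_centralizer_singleton_iff.mpr ?_, ?_⟩, by simp [mul_assoc]⟩
    · calc n⁻¹ * y * n * u = n⁻¹ * (y * (n * u * n⁻¹)) * n := by group
        _ = n⁻¹ * ((n * u * n⁻¹) * y) * n := by rw [hy]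
        _ = u * (n⁻¹ * y * n) := by group
    · rw [show n⁻¹ * y * n = n⁻¹ * y * n⁻¹⁻¹ by rw [inv_inv], conj_pow, show 27 = 3 * 9 from rfl, pow_mul, hy3]
      simp

end Cfsg.Lib.Small.LThreeThree
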