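import Cfsg.Agent.Lib.Small.PlaneThreeSetup
import Cfsg.Agent.Lib.Small.PlaneThreeModel
import Mathlib.GroupTheory.SpecificGroups.Cyclic
import Mathlib.GroupTheory.Perm.Basic

/-!
# Coordinates for the plane of a degree-13 action
-/

set_option autoImplicit false
set_option linter.unusedSectionVars false
set_option linter.style.haveILetI false

namespace Cfsg.Lib.Small.PlaneThree

open Subgroup MulAction

universe u v

/-- The affine index of a coordinate pair. -/
def aff (i j : Fin 3) : Fin 13 := ⟨3 * (i : ℕ) + (j : ℕ), by omega⟩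

/-- The four directions. -/
def dirs : Fin 4 → Fin 3 × Fin 3 := ![(1, 0), (0, 1), (1, 1), (1, 2)]

/-- The four points of a line given by a direction and an affine point. -/
def affLine (k : Fin 4) (i j : Fin 3) : List (Fin 13) :=
  [⟨9 + (k : ℕ), by omega⟩, aff i j, aff (i + (dirs k).1) (j + (dirs k).2),
    aff (i + (dirs k).1 + (dirs k).1) (j + (dirs k).2 + (dirs k).2)]

theorem affLine_check : ((List.finRange 13).all fun n => decide (n = 0) ||
    (List.finRange 4).any fun k => (List.finRange 3).any fun i => (List.finRange 3).any fun j =>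
      (List.finRange 13).all fun p => decide (onL n p = (affLine k i j).contains p)) = true := by decide +kernel

theorem exists_affLine {n : Fin 13} (hn : n ≠ 0) :
    ∃ k i j, line n = (affLine k i j).toFinset := by
  have h := List.all_eq_true.mp affLine_check n (List.mem_finRange n)
  simp only [Bool.or_eq_true, decide_eq_true_eq, hn, false_or, List.any_eq_true, List.all_eq_true,
    List.mem_finRange, true_and, forall_const] at h
  obtain ⟨k, i, j, h⟩ := h
  refine ⟨k, i, j, Finset.ext fun p => ?_⟩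
  rw [mem_line_iff, h p, List.mem_toFinset]
  simp

theorem line_zero : line 0 = ([9, 10, 11, 12] : List (Fin 13)).toFinset := by
  ext p
  rw [mem_line_iff, List.mem_toFinset]
  revert p
  decide +kernel

theorem join_check : ((List.finRange 13).all fun a => (List.finRange 13).all fun b =>
    decide (a = b) || (onL (join a b) a && onL (join a b) b)) = true := by decide +kernel

theorem exists_line_through {a b : Fin 13} (h : a ≠ b) : ∃ i, a ∈ line i ∧ b ∈ line i := by
  have h' := List.all_eq_true.mp (List.all_eq_true.mp join_check a (List.mem_finRange a)) b (List.mem_finRange b)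
  simp only [Bool.or_eq_true, decide_eq_true_eq, h, false_or, Bool.and_eq_true] at h'
  exact ⟨join a b, (mem_line_iff _ _).mpr h'.1, (mem_line_iff _ _).mpr h'.2⟩

variable {G : Type u} {Ω : Type v} [Group G] [Finite G] [MulAction G Ω] [FaithfulSMul G Ω] [Fintype Ω]
  [DecidableEq Ω] (D : Setup G Ω)
include D

/-- The plane of a setup has the standard coordinates. -/
theorem Setup.exists_coord : ∃ φ : Fin 13 ≃ Ω, ∀ n, ∃ a b, a ≠ b ∧ (PlaneThree.line n).image φ = D.line a b := by
  haveI : Fact (Nat.Prime 3) := ⟨Nat.prime_three⟩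
  obtain ⟨P, Q, hPQ⟩ : ∃ P Q : Ω, P ≠ Q := by
    by_contra hall
    push Not at hall
    haveI : Subsingleton Ω := ⟨hall⟩
    have := D.card_Ω
    have := Finite.card_le_one_iff_subsingleton.mpr (inferInstance : Subsingleton Ω)
    omega
  set L := D.line P Q with hL
  have hPL : P ∈ L := D.left_mem_line P Q
  have hQL : Q ∈ L := D.right_mem_line P Q
  let Bk : Ω → Subgroup G := fun k => D.B k (if k = P then Q else P)
  have hother : ∀ k ∈ L, k ≠ (if k = P then Q else P) ∧ D.line k (if k = P then Q else P) = L := by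
    intro k hk
    by_cases h : k = P
    · simp [h, hPQ, hL]
    · rw [if_neg h]; exact ⟨h, D.line_eq_of_mem hPQ hk hPL h⟩
  have hBkL : ∀ k ∈ L, ∀ c ∈ Bk k, ∀ x ∈ L, c • x = x := fun k hk c hc x hx =>
    D.mem_line.mp ((hother k hk).2.symm ▸ hx) c hc
  have hBinj : ∀ k ∈ L, ∀ l ∈ L, ∀ c ∈ Bk k, c ∈ Bk l → c ≠ 1 → k = l := fun k _ l _ c hc hc' h1 =>
    D.eq_of_mem_inter hc.1 hc'.1 h1
  obtain ⟨b, hb, hb1, hbB⟩ := D.exists_gen (show P ≠ Q from hPQ)
  obtain ⟨c, hc, hc1, hcB⟩ := D.exists_gen (show Q ≠ P from hPQ.symm)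
  have hbP : b ∈ Bk P := by simpa [Bk] using hb
  have hcQ : c ∈ Bk Q := by simpa [Bk, hPQ.symm] using hc
  -- elements fixing `P` and `Q` normalize both
  have hnorm : ∀ g : G, g • P = P → g • Q = Q → g ∈ normalizer (D.B P Q : Set G) ∧ g ∈ normalizer (D.B Q P : Set G) := by
    intro g hgP hgQ
    have key : ∀ {p q : Ω}, g • p = p → g • q = q → g ∈ normalizer (D.B p q : Set G) := by
      intro p q hp hq
      rw [mem_normalizer_iff]
      intro y
      refine ⟨fun hy => ?_, fun hy => ?_⟩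
      · have h := D.conj_mem_B (g := g) hy; rwa [hp, hq] at h
      · have h := D.conj_mem_B (g := g⁻¹) hy
        rw [inv_smul_eq_iff.mpr hp.symm, inv_smul_eq_iff.mpr hq.symm] at h
        simpa [mul_assoc] using h
    exact ⟨key hgP hgQ, key hgQ hgP⟩
  set W := D.B P Q ⊔ D.B Q P with hW
  have hWfix : ∀ w ∈ W, ∀ x ∈ L, w • x = x := by
    intro w hw x hx
    refine (sup_le ?_ ?_ : W ≤ stabilizer G x) hw
    · exact fun y hy => D.mem_line.mp hx y hy
    · exact fun y hy => D.mem_line.mp ((D.line_symm hPQ).symm ▸ hx) y hy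
  have hp3 : ∀ {p q : Ω}, p ≠ q → IsPGroup 3 (D.B p q) := fun h => IsPGroup.of_card (n := 1) (by rw [D.card_B h]; rfl)
  have hWp : IsPGroup 3 W := (hp3 hPQ).to_sup_of_normal_right' (hp3 hPQ.symm)
    fun g hg => (hnorm g (D.fix_self P g hg.1) hg.2).2
  have hWc : Nat.card W = 9 := by
    have hd := D.three W hWp
    rw [show 27 = 3 ^ 3 from rfl] at hd
    obtain ⟨j, hj, hje⟩ := (Nat.dvd_prime_pow Nat.prime_three).mp hd
    have h3 : j ≠ 3 := fun h => D.noSylow W (by rw [hje, h]; rfl) P Q hPQ (fun g hg => hWfix g hg P hPL)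
      (fun g hg => hWfix g hg Q hQL)
    have h1 : 3 < Nat.card W := by
      by_contra hle
      have he : D.B P Q = W := eq_of_le_of_card_ge le_sup_left (by rw [D.card_B hPQ]; omega)
      exact hPQ (D.eq_of_mem_inter ((he.symm ▸ (mem_sup_right hc : c ∈ W) : c ∈ D.B P Q)).1 hc.1 hc1)
    interval_cases j <;> omega
  have hWcomm : ∀ x ∈ W, ∀ y ∈ W, x * y = y * x := fun x hx y hy =>
    congrArg Subtype.val (IsPGroup.commutative_of_card_eq_prime_sq (p := 3) (G := W) (by rw [hWc]; rfl) ⟨x, hx⟩ ⟨y, hy⟩)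
  have hBW : ∀ k ∈ L, Bk k ≤ W := by
    intro k hk
    have hn : Bk k ≤ normalizer (W : Set G) := fun g hg => by
      obtain ⟨h1, h2⟩ := hnorm g (hBkL k hk g hg P hPL) (hBkL k hk g hg Q hQL)
      rw [mem_normalizer_iff] at h1 h2 ⊢
      intro y
      have hle : W.map (MulAut.conj g).toMonoidHom ≤ W := by
        rw [hW, Subgroup.map_sup]
        refine sup_le_sup ?_ ?_
        · rintro _ ⟨z, hz, rfl⟩; exact (h1 z).mp hz
        · rintro _ ⟨z, hz, rfl⟩; exact (h2 z).mp hz
      have heq : W.map (MulAut.conj g).toMonoidHom = W :=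
        eq_of_le_of_card_ge hle (by rw [card_map_of_injective (MulAut.conj g).injective])
      refine ⟨fun hy => hle ⟨y, hy, rfl⟩, fun hy => ?_⟩
      obtain ⟨z, hz, hzy⟩ := heq.symm ▸ hy
      have hzy' : g * z * g⁻¹ = g * y * g⁻¹ := hzy
      rwa [← mul_left_cancel (mul_right_cancel hzy')]
    have hd := D.sup_pgroup (hp3 (hother k hk).1) hWp hn
    have h9 := card_dvd_of_le (le_sup_right : W ≤ Bk k ⊔ W)
    rw [hWc] at h9
    obtain ⟨m, hm⟩ := h9
    rw [show Bk k = D.B k (if k = P then Q else P) from rfl] at hm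
    rw [hm, show 27 = 9 * 3 from rfl] at hd
    rcases (Nat.dvd_prime Nat.prime_three).mp (Nat.dvd_of_mul_dvd_mul_left (by norm_num) hd) with h | h
    · rw [eq_of_le_of_card_ge (le_sup_right : W ≤ Bk k ⊔ W) (by
        show Nat.card ↥(D.B k (if k = P then Q else P) ⊔ W) ≤ _
        rw [hm, h, hWc])]
      exact le_sup_left
    · exfalso
      have hfix : ∀ x ∈ L, ∀ g ∈ D.B k (if k = P then Q else P) ⊔ W, g • x = x := fun x hx g hg =>
        (sup_le (fun y hy => hBkL k hk y hy x hx) (fun y hy => hWfix y hy x hx) :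
          D.B k (if k = P then Q else P) ⊔ W ≤ stabilizer G x) hg
      exact D.noSylow _ (by rw [hm, h]) P Q hPQ (hfix P hPL) (hfix Q hQL)
  -- every element of `W` lies in some `Bk`
  have hcover : ∀ w ∈ W, w ≠ 1 → ∃ k ∈ L, w ∈ Bk k := by
    classical
    haveI := Fintype.ofFinite G
    let S : Ω → Finset G := fun k => Finset.univ.filter fun g => g ∈ Bk k ∧ g ≠ 1
    have hS : ∀ k ∈ L, (S k).card = 2 := by
      intro k hk
      have h : (Finset.univ.filter fun g => g ∈ Bk k).card = 3 := by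
        rw [← Fintype.card_subtype, ← Nat.card_eq_fintype_card]; exact D.card_B (hother k hk).1
      rw [show S k = (Finset.univ.filter fun g => g ∈ Bk k).erase 1 by ext g; simp [S, and_comm],
        Finset.card_erase_of_mem (by simp [one_mem]), h]
    let T : Finset G := (Finset.univ.filter fun g => g ∈ W).erase 1
    have hT : T.card = 8 := by
      have : (Finset.univ.filter fun g => g ∈ W).card = 9 := by
        rw [← Fintype.card_subtype, ← Nat.card_eq_fintype_card]; exact hWc
      rw [Finset.card_erase_of_mem (by simp [one_mem]), this]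
    have hsub : L.biUnion S ⊆ T := by
      intro g hg
      simp only [Finset.mem_biUnion, S, Finset.mem_filter, Finset.mem_univ, true_and] at hg
      obtain ⟨k, hk, hgk, hg1⟩ := hg
      simp [T, hg1, hBW k hk hgk]
    have hdis : (L : Set Ω).PairwiseDisjoint S := fun k hk l hl hkl => Finset.disjoint_left.mpr fun g hgk hgl => by
      simp only [S, Finset.mem_filter, Finset.mem_univ, true_and] at hgk hgl
      exact hkl (hBinj k hk l hl g hgk.1 hgl.1 hgk.2)
    have heq : L.biUnion S = T := Finset.eq_of_subset_of_card_le hsub (by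
      rw [hT, Finset.card_biUnion hdis, Finset.sum_congr rfl hS, Finset.sum_const, hL, D.card_line hPQ]; rfl)
    intro w hw hw1
    have : w ∈ L.biUnion S := by rw [heq]; simp [T, hw, hw1]
    simp only [Finset.mem_biUnion, S, Finset.mem_filter, Finset.mem_univ, true_and] at this
    obtain ⟨k, hk, hwk, -⟩ := this
    exact ⟨k, hk, hwk⟩
  have hsemi : ∀ w ∈ W, ∀ x : Ω, x ∉ L → w • x = x → w = 1 := by
    intro w hw x hx hwx
    by_contra hw1
    obtain ⟨k, hk, hwk⟩ := hcover w hw hw1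
    have hsub : insert x L ⊆ Finset.univ.filter fun y : Ω => w • y = y := by
      intro y hy
      rcases Finset.mem_insert.mp hy with rfl | hy
      · simp [hwx]
      · simp [hWfix w hw y hy]
    have h := Finset.card_le_card hsub
    rw [Finset.card_insert_of_notMem hx, hL, D.card_line hPQ, D.card_fix hwk.1 hw1] at h
    omega
  have hbW : b ∈ W := mem_sup_left hb
  have hcW : c ∈ W := mem_sup_right hc
  have hbc : Commute b c := hWcomm b hbW c hcW
  have hb3 : b ^ 3 = 1 := D.cube P b hb.1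
  have hc3 : c ^ 3 = 1 := D.cube Q c hc.1
  have hpowB : ∀ i : ℕ, b ^ i ∈ Bk P := fun i => pow_mem hbP i
  have hpowC : ∀ j : ℕ, c ^ j ∈ Bk Q := fun j => pow_mem hcQ j
  have hexp : ∀ i j i' j' : Fin 3, b ^ (i : ℕ) * c ^ (j : ℕ) = b ^ (i' : ℕ) * c ^ (j' : ℕ) → i = i' ∧ j = j' := by
    intro i j i' j' h
    have h1 : (b ^ (i' : ℕ))⁻¹ * b ^ (i : ℕ) = c ^ (j' : ℕ) * (c ^ (j : ℕ))⁻¹ := by
      rw [inv_mul_eq_iff_eq_mul, ← mul_assoc, ← h, mul_inv_cancel_right]
    have h2 : (b ^ (i' : ℕ))⁻¹ * b ^ (i : ℕ) = 1 := by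
      by_contra hne
      exact hPQ (hBinj P hPL Q hQL _ (mul_mem (inv_mem (hpowB _)) (hpowB _))
        (h1 ▸ mul_mem (hpowC _) (inv_mem (hpowC _))) hne)
    have h3 : c ^ (j' : ℕ) * (c ^ (j : ℕ))⁻¹ = 1 := h1 ▸ h2
    have hob : orderOf b = 3 := orderOf_eq_prime hb3 hb1
    have hoc : orderOf c = 3 := orderOf_eq_prime hc3 hc1
    refine ⟨Fin.ext ?_, Fin.ext ?_⟩
    · exact pow_injOn_Iio_orderOf (x := b) (by simp [hob, i.2]) (by simp [hob, i'.2]) (inv_mul_eq_one.mp h2).symm
    · exact pow_injOn_Iio_orderOf (x := c) (by simp [hoc, j.2]) (by simp [hoc, j'.2]) (mul_inv_eq_one.mp h3).symm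
  -- the points at infinity
  have hbc1 : b * c ≠ 1 := fun h => by
    have := hexp 1 1 0 0 (by simpa using h); exact absurd this.1 (by decide)
  have hbc2 : b * c ^ 2 ≠ 1 := fun h => by
    have := hexp 1 2 0 0 (by simpa using h); exact absurd this.1 (by decide)
  obtain ⟨k3, hk3L, hk3⟩ := hcover _ (mul_mem hbW hcW) hbc1
  obtain ⟨k4, hk4L, hk4⟩ := hcover _ (mul_mem hbW (pow_mem hcW 2)) hbc2
  have h3P : k3 ≠ P := fun h => by
    rw [h] at hk3
    exact hPQ (hBinj P hPL Q hQL c (by simpa using mul_mem (inv_mem hbP) hk3) hcQ hc1)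
  have h3Q : k3 ≠ Q := fun h => by
    rw [h] at hk3
    exact hPQ (hBinj P hPL Q hQL b hbP (by simpa using mul_mem hk3 (inv_mem hcQ)) hb1)
  have h4P : k4 ≠ P := fun h => by
    rw [h] at hk4
    have hc2 : c ^ 2 ≠ 1 := fun h' => hc1 (by
      have := hc3; rw [pow_succ, h', one_mul] at this; exact this)
    exact hPQ (hBinj P hPL Q hQL (c ^ 2) (by simpa using mul_mem (inv_mem hbP) hk4) (pow_mem hcQ 2) hc2)
  have h4Q : k4 ≠ Q := fun h => by
    rw [h] at hk4
    exact hPQ (hBinj P hPL Q hQL b hbP (by simpa using mul_mem hk4 (inv_mem (pow_mem hcQ 2))) hb1)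
  have h34 : k3 ≠ k4 := fun h => by
    rw [← h] at hk4
    refine h3Q (hBinj k3 hk3L Q hQL c ?_ hcQ hc1)
    have := mul_mem (inv_mem hk3) hk4
    rwa [show (b * c)⁻¹ * (b * c ^ 2) = c by group] at this
  -- an affine base point
  obtain ⟨R, hR⟩ : ∃ R : Ω, R ∉ L := by
    by_contra hall
    push Not at hall
    have h := D.card_line hPQ
    rw [← hL, Finset.eq_univ_of_forall hall, Finset.card_univ, ← Nat.card_eq_fintype_card, D.card_Ω] at h
    omega
  let pt : Fin 3 → Fin 3 → Ω := fun i j => (b ^ (i : ℕ) * c ^ (j : ℕ)) • R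
  have hptW : ∀ i j : Fin 3, b ^ (i : ℕ) * c ^ (j : ℕ) ∈ W := fun i j => mul_mem (pow_mem hbW _) (pow_mem hcW _)
  have hptL : ∀ i j, pt i j ∉ L := fun i j h => hR (by
    have h' := hWfix _ (inv_mem (hptW i j)) _ h
    simp only [pt, inv_smul_smul] at h'
    exact h' ▸ h)
  have hptinj : ∀ i j i' j', pt i j = pt i' j' → i = i' ∧ j = j' := fun i j i' j' h => hexp i j i' j' (by
    have h' : ((b ^ (i' : ℕ) * c ^ (j' : ℕ))⁻¹ * (b ^ (i : ℕ) * c ^ (j : ℕ))) • R = R := by
      rw [mul_smul]; exact inv_smul_eq_iff.mpr h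
    exact (inv_mul_eq_one.mp (hsemi _ (mul_mem (inv_mem (hptW i' j')) (hptW i j)) R hR h')).symm)
  have hmod : ∀ (g : G) (x y : Fin 3), g ^ 3 = 1 → g ^ ((x + y : Fin 3) : ℕ) = g ^ (x : ℕ) * g ^ (y : ℕ) :=
    fun g x y hg => by
      rw [Fin.val_add, ← pow_eq_pow_mod _ hg, pow_add]
  have hadd : ∀ i j x y, pt (i + x) (j + y) = (b ^ (x : ℕ) * c ^ (y : ℕ)) • pt i j := by
    intro i j x y
    simp only [pt, ← mul_smul, hmod b i x hb3, hmod c j y hc3]
    congr 1
    rw [hWcomm _ (hptW x y) _ (hptW i j), mul_assoc, mul_assoc, ← mul_assoc (b ^ (x : ℕ)),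
      (hbc.pow_pow x j).eq, mul_assoc]
  let inf : Fin 4 → Ω := ![P, Q, k3, k4]
  have hinfL : ∀ k, inf k ∈ L := by intro k; fin_cases k <;> assumption
  have hinfd : ∀ k, b ^ ((dirs k).1 : ℕ) * c ^ ((dirs k).2 : ℕ) ∈ Bk (inf k) := by
    intro k
    fin_cases k <;> simpa [dirs, inf]
  have hinfinj : Function.Injective inf := by
    intro k l h
    fin_cases k <;> fin_cases l <;>
      simp [inf, hPQ, hPQ.symm, h3P, h3Q, h4P, h4Q, h34, h34.symm, h3P.symm, h3Q.symm, h4P.symm, h4Q.symm] at h ⊢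
  let φ0 : Fin 13 → Ω := ![pt 0 0, pt 0 1, pt 0 2, pt 1 0, pt 1 1, pt 1 2, pt 2 0, pt 2 1, pt 2 2, P, Q, k3, k4]
  have hφaff : ∀ i j, φ0 (aff i j) = pt i j := by intro i j; fin_cases i <;> fin_cases j <;> rfl
  have hφinf : ∀ k : Fin 4, φ0 ⟨9 + (k : ℕ), by omega⟩ = inf k := by intro k; fin_cases k <;> rfl
  have hcases : ∀ n : Fin 13, (∃ i j, n = aff i j) ∨ ∃ k : Fin 4, n = ⟨9 + (k : ℕ), by omega⟩ := by
    intro n
    by_cases h : (n : ℕ) < 9
    · exact Or.inl ⟨⟨(n : ℕ) / 3, by omega⟩, ⟨(n : ℕ) % 3, by omega⟩, Fin.ext (by simp [aff]; omega)⟩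
    · exact Or.inr ⟨⟨(n : ℕ) - 9, by omega⟩, Fin.ext (by simp; omega)⟩
  have hφinj : Function.Injective φ0 := by
    intro m n h
    rcases hcases m with ⟨i, j, rfl⟩ | ⟨k, rfl⟩ <;> rcases hcases n with ⟨i', j', rfl⟩ | ⟨k', rfl⟩ <;>
      simp only [hφaff, hφinf] at h
    · obtain ⟨rfl, rfl⟩ := hptinj _ _ _ _ h; rfl
    · exact absurd (h ▸ hinfL k') (hptL i j)
    · exact absurd (h.symm ▸ hinfL k) (hptL i' j')
    · rw [hinfinj h]
  let φ : Fin 13 ≃ Ω := Equiv.ofBijective φ0 ((Nat.bijective_iff_injective_and_card φ0).mpr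
    ⟨hφinj, by rw [D.card_Ω, Nat.card_eq_fintype_card, Fintype.card_fin]⟩)
  have hφ0 : ∀ p, φ p = φ0 p := fun _ => rfl
  refine ⟨φ, fun n => ?_⟩
  by_cases hn : n = 0
  · refine ⟨P, Q, hPQ, ?_⟩
    subst hn
    rw [line_zero, ← hL]
    refine Finset.eq_of_subset_of_card_le ?_ ?_
    · intro x hx
      simp only [List.toFinset_cons, List.toFinset_nil, Finset.image_insert, insert_empty_eq,
        Finset.image_singleton, Finset.mem_insert, Finset.mem_singleton] at hx
      rcases hx with rfl | rfl | rfl | rfl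
      exacts [hPL, hQL, hk3L, hk4L]
    · rw [Finset.card_image_of_injective _ φ.injective, hL, D.card_line hPQ]; rfl
  · obtain ⟨k, i, j, hk⟩ := exists_affLine hn
    have hne : inf k ≠ pt i j := fun h => hptL i j (h ▸ hinfL k)
    refine ⟨inf k, pt i j, hne, Finset.eq_of_subset_of_card_le ?_ ?_⟩
    · intro x hx
      obtain ⟨m, hm, rfl⟩ := Finset.mem_image.mp hx
      rw [hk, List.mem_toFinset] at hm
      simp only [affLine, List.mem_cons, List.not_mem_nil, or_false] at hm
      have hd := (hinfd k).1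
      rcases hm with rfl | rfl | rfl | rfl
      · rw [hφ0, hφinf]; exact D.left_mem_line _ _
      · rw [hφ0, hφaff]; exact D.right_mem_line _ _
      · rw [hφ0, hφaff, hadd]; exact D.smul_mem_line hd (D.right_mem_line _ _)
      · rw [hφ0, hφaff, hadd, hadd]
        exact D.smul_mem_line hd (D.smul_mem_line hd (D.right_mem_line _ _))
    · rw [Finset.card_image_of_injective _ φ.injective, D.card_line hne, inj_frame]

/-- A setup realizes the group as collineations. -/
theorem Setup.exists_coll_hom : ∃ f : G →* Equiv.Perm (Fin 13), Function.Injective f ∧ ∀ g, IsColl (f g) := by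
  obtain ⟨φ, hφ⟩ := D.exists_coord
  refine ⟨(φ.symm.permCongrHom).toMonoidHom.comp (MulAction.toPermHom G Ω), ?_, fun g n => ?_⟩
  · intro g h hgh
    exact MulAction.toPerm_injective (φ.symm.permCongrHom.injective hgh)
  · obtain ⟨a, b, hab, himg⟩ := hφ n
    have hne : g • a ≠ g • b := (MulAction.injective g).ne hab
    obtain ⟨j, hj1, hj2⟩ := exists_line_through (a := φ.symm (g • a)) (b := φ.symm (g • b)) (φ.symm.injective.ne hne)
    obtain ⟨a', b', hab', himg'⟩ := hφ j
    have h1 : g • a ∈ D.line a' b' := himg' ▸ Finset.mem_image.mpr ⟨_, hj1, by simp⟩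
    have h2 : g • b ∈ D.line a' b' := himg' ▸ Finset.mem_image.mpr ⟨_, hj2, by simp⟩
    have he := D.line_eq_of_mem hab' h1 h2 hne
    refine ⟨j, Finset.image_injective φ.injective ?_⟩
    rw [himg', ← he, ← D.smul_line hab g, ← himg, Finset.image_image, Finset.image_image]
    refine Finset.image_congr fun x _ => ?_
    simp [Equiv.permCongrHom, Equiv.permCongr_apply]

end Cfsg.Lib.Small.PlaneThree
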