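import Cfsg.Agent.Lib.Small.LThreeThreePoint
import Cfsg.Agent.Lib.Small.PlaneThreeCoord

/-!
# Recognition of `L₃(3)` from the order and an involution centralizer
-/

set_option autoImplicit false
set_option linter.style.haveILetI false
set_option linter.unusedSectionVars false

namespace Cfsg.Lib.Small.LThreeThree

open Subgroup MulAction

universe w

variable {G : Type w} [Group G] [Finite G]

/-- Two subgroups of Sylow order in a group are conjugate in it. -/
theorem exists_conj_of_card_sylow {M T₀ T₁ : Subgroup G} (hM : Nat.card M = 432) (h₀ : Nat.card T₀ = 27)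
    (h₁ : Nat.card T₁ = 27) (l₀ : T₀ ≤ M) (l₁ : T₁ ≤ M) :
    ∃ m ∈ M, T₀.map (MulAut.conj m).toMonoidHom = T₁ := by
  haveI : Fact (Nat.Prime 3) := ⟨Nat.prime_three⟩
  have hf : ∀ T : Subgroup G, Nat.card T = 27 → T ≤ M →
      Nat.card (T.subgroupOf M) = 3 ^ (Nat.card M).factorization 3 := by
    intro T hT hl
    rw [Nat.card_congr (subgroupOfEquivOfLe hl).toEquiv, hT, hM, Nat.factorization_def _ (by norm_num),
      show (432 : ℕ) = 3 ^ 3 * 16 by norm_num, padicValNat.mul (by norm_num) (by norm_num),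
      padicValNat.prime_pow, padicValNat.eq_zero_of_not_dvd (by norm_num)]
    norm_num
  obtain ⟨m, hm⟩ := exists_smul_eq M (Sylow.ofCard _ (hf T₀ h₀ l₀) : Sylow 3 M) (Sylow.ofCard _ (hf T₁ h₁ l₁))
  refine ⟨m, m.2, eq_of_le_of_card_ge ?_ (by rw [card_map_of_injective (MulAut.conj (m : G)).injective, h₀, h₁])⟩
  rintro _ ⟨g, hg, rfl⟩
  have h : MulAut.conj m (⟨g, l₀ hg⟩ : M) ∈ ((Sylow.ofCard _ (hf T₁ h₁ l₁) : Sylow 3 M) : Subgroup M) := by
    rw [← hm]
    exact smul_mem_pointwise_smul _ (MulAut.conj m) _ (by exact hg)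
  exact h

open Cfsg.Lib.Small.PlaneThree in
/-- A simple group of order 5616 with an involution centralizer `GL(2, 3)` is `SL(3, 3)`. -/
theorem nonempty_equiv_SL [IsSimpleGroup G] {t : G} (e : centralizer ({t} : Set G) ≃* CentralizerGL23.GL23)
    (ht : orderOf t = 2) (hN : Nat.card G = 5616) : Nonempty (G ≃* SL33) := by
  classical
  haveI : Fact (Nat.Prime 3) := ⟨Nat.prime_three⟩
  obtain ⟨A, hA, hAc, hA3, hM, htrans, hnormT, hcent⟩ := exists_point_group e ht hN
  set M := normalizer (A : Set G) with hMdef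
  have hAM : A ≤ M := le_normalizer
  haveI : Fintype (G ⧸ M) := Fintype.ofFinite _
  let Af : G ⧸ M → Subgroup G := fun p => A.map (MulAut.conj p.out).toMonoidHom
  have hAf : ∀ (p : G ⧸ M) (a : G), a ∈ Af p ↔ p.out⁻¹ * a * p.out ∈ A := fun p a => by
    simp only [Af, Subgroup.mem_map_equiv, MulAut.conj_symm_apply]
  have hfix : ∀ (p : G ⧸ M) (g : G), g • p = p ↔ p.out⁻¹ * g * p.out ∈ M := fun p g => by
    conv_lhs => rw [← QuotientGroup.out_eq' p, Quotient.smul_mk, QuotientGroup.eq]
    rw [← inv_mem_iff, smul_eq_mul, mul_inv_rev, inv_inv, mul_assoc]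
  have hcard : Nat.card (G ⧸ M) = 13 := by
    have h := card_mul_index M
    rw [hM, hN, index_eq_card] at h
    omega
  let D : Setup G (G ⧸ M) :=
    { A := Af
      card_Ω := hcard
      card_A := fun p => by rw [card_map_of_injective (MulAut.conj p.out).injective, hA]
      comm := fun p a ha b hb => by
        obtain ⟨a', ha', rfl⟩ := ha
        obtain ⟨b', hb', rfl⟩ := hb
        rw [← map_mul, ← map_mul, hAc a' ha' b' hb']
      cube := fun p a ha => by
        obtain ⟨a', ha', rfl⟩ := ha
        rw [← map_pow, hA3 a' ha', map_one]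
      equiv := fun g p a ha => by
        rw [hAf] at ha ⊢
        have hm : (g * p.out)⁻¹ * (g • p).out ∈ M := by
          rw [← QuotientGroup.eq, QuotientGroup.out_eq']
          conv_rhs => rw [← QuotientGroup.out_eq' p, Quotient.smul_mk, smul_eq_mul]
        have h := (mem_normalizer_iff.mp (inv_mem hm) _).mp ha
        rw [inv_inv] at h
        rwa [show (g • p).out⁻¹ * (g * a * g⁻¹) * (g • p).out =
          ((g * p.out)⁻¹ * (g • p).out)⁻¹ * (p.out⁻¹ * a * p.out) * ((g * p.out)⁻¹ * (g • p).out) by group]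
      fix_self := fun p a ha => (hfix p a).mpr (hAM ((hAf p a).mp ha))
      norm_le := fun p g hg => (hfix p g).mpr (Cfsg.Lib.Fusion.le_normalizer_of_conj_mem fun a ha => by
        have h := hg _ ((hAf p (p.out * a * p.out⁻¹)).mpr (by simpa [mul_assoc] using ha))
        rw [hAf] at h
        rwa [show p.out⁻¹ * g * p.out * a * (p.out⁻¹ * g * p.out)⁻¹ =
          p.out⁻¹ * (g * (p.out * a * p.out⁻¹) * g⁻¹) * p.out by group])
      same_fix := fun p a ha b hb ha1 hb1 => by
        rw [hAf] at ha hb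
        obtain ⟨n, -, hn⟩ := htrans _ ha _ hb
          (fun h => ha1 (conj_eq_one_iff.mp (show p.out⁻¹ * a * p.out⁻¹⁻¹ = 1 by rw [inv_inv]; exact h)))
          (fun h => hb1 (conj_eq_one_iff.mp (show p.out⁻¹ * b * p.out⁻¹⁻¹ = 1 by rw [inv_inv]; exact h)))
        set g := p.out * n * p.out⁻¹ with hg
        have hgab : g * a * g⁻¹ = b := by
          rw [hg, show p.out * n * p.out⁻¹ * a * (p.out * n * p.out⁻¹)⁻¹ =
            p.out * (n * (p.out⁻¹ * a * p.out) * n⁻¹) * p.out⁻¹ by group, hn]
          group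
        refine Nat.card_congr (Equiv.subtypeEquiv (MulAction.toPerm g) fun x => ?_)
        rw [← hgab, MulAction.toPerm_apply, ← mul_smul (g * a * g⁻¹), inv_mul_cancel_right, mul_smul]
        exact (MulAction.injective g).eq_iff.symm
      noSylow := fun T hT p q hpq hp hq => by
        have hsub : ∀ r : G ⧸ M, (∀ g ∈ T, g • r = r) → T.map (MulAut.conj r.out⁻¹).toMonoidHom ≤ M := by
          rintro r hr _ ⟨g, hg, rfl⟩
          simpa using (hfix r g).mp (hr g hg)
        have hc : ∀ r : G ⧸ M, Nat.card (T.map (MulAut.conj r.out⁻¹).toMonoidHom) = 27 := fun r => by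
          rw [card_map_of_injective (MulAut.conj r.out⁻¹).injective, hT]
        obtain ⟨m, hm, hme⟩ := exists_conj_of_card_sylow hM (hc p) (hc q) (hsub p hp) (hsub q hq)
        set T₀ := T.map (MulAut.conj p.out⁻¹).toMonoidHom with hT₀
        have hk : (q.out⁻¹ * p.out)⁻¹ * m ∈ normalizer (T₀ : Set G) := by
          refine Cfsg.Lib.Fusion.le_normalizer_of_conj_mem fun a ha => ?_
          obtain ⟨g, hg, hge⟩ := (hme ▸ mem_map_of_mem _ ha :
            MulAut.conj m a ∈ T.map (MulAut.conj q.out⁻¹).toMonoidHom)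
          refine ⟨g, hg, ?_⟩
          simp only [MulEquiv.coe_toMonoidHom, MulAut.conj_apply, inv_inv] at hge ⊢
          calc p.out⁻¹ * g * p.out = (q.out⁻¹ * p.out)⁻¹ * (q.out⁻¹ * g * q.out) * (q.out⁻¹ * p.out) := by group
            _ = _ := by rw [hge]; group
        have hmem : q.out⁻¹ * p.out ∈ M := by
          have := hnormT T₀ (hc p) (hsub p hp) hk
          have h2 := mul_mem hm (inv_mem this)
          rwa [mul_inv_rev, inv_inv, ← mul_assoc, mul_inv_cancel, one_mul] at h2
        refine hpq ?_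
        rw [← QuotientGroup.out_eq' p, ← QuotientGroup.out_eq' q]
        exact (QuotientGroup.eq.mpr hmem).symm
      cent := fun p a ha ha1 => by
        rw [hAf] at ha
        obtain ⟨T, hT, hTy⟩ := hcent _ ha fun h => ha1 (conj_eq_one_iff.mp
          (show p.out⁻¹ * a * p.out⁻¹⁻¹ = 1 by rw [inv_inv]; exact h))
        refine ⟨T.map (MulAut.conj p.out).toMonoidHom,
          by rw [card_map_of_injective (MulAut.conj p.out).injective, hT], fun y hy hy3 => ?_⟩
        rw [Subgroup.mem_map_equiv, MulAut.conj_symm_apply]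
        refine hTy _ ?_ ?_
        · rw [show p.out⁻¹ * y * p.out * (p.out⁻¹ * a * p.out) = p.out⁻¹ * (y * a) * p.out by group, hy]
          group
        · rw [show p.out⁻¹ * y * p.out = p.out⁻¹ * y * p.out⁻¹⁻¹ by rw [inv_inv], conj_pow, hy3]
          simp
      three := fun T hT => by
        obtain ⟨S, hS⟩ := hT.exists_le_sylow
        exact card_sylow_three hN S ▸ card_dvd_of_le hS }
  haveI : FaithfulSMul G (G ⧸ M) := by
    refine ⟨fun {g h} H => ?_⟩
    have hker : (MulAction.toPermHom G (G ⧸ M)).ker = ⊥ := by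
      refine (IsSimpleGroup.eq_bot_or_eq_top_of_normal _ inferInstance).resolve_right fun hk => ?_
      have hone : ∀ q : G ⧸ M, q = QuotientGroup.mk 1 := fun q => by
        have hg : q.out ∈ (MulAction.toPermHom G (G ⧸ M)).ker := hk ▸ mem_top _
        rw [MonoidHom.mem_ker] at hg
        have := congrArg (fun σ : Equiv.Perm (G ⧸ M) => σ (QuotientGroup.mk 1)) hg
        simpa [MulAction.toPermHom_apply, Quotient.smul_mk] using this
      haveI : Subsingleton (G ⧸ M) := ⟨fun a b => (hone a).trans (hone b).symm⟩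
      have := Finite.card_le_one_iff_subsingleton.mpr (inferInstance : Subsingleton (G ⧸ M))
      omega
    exact (MonoidHom.ker_eq_bot_iff _).mp hker (Equiv.ext H)
  obtain ⟨f, hf, hfc⟩ := D.exists_coll_hom
  exact nonempty_equiv_of_hom f hf hfc hN

/-- A simple group of order 5616 with an involution centralizer `GL(2, 3)` is `PSL(3, 3)`. -/
theorem nonempty_equiv_PSL [IsSimpleGroup G] {t : G} (e : centralizer ({t} : Set G) ≃* CentralizerGL23.GL23)
    (ht : orderOf t = 2) (hN : Nat.card G = 5616) :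
    Nonempty (G ≃* Matrix.ProjectiveSpecialLinearGroup (Fin 3) (ZMod 3)) := by
  obtain ⟨f⟩ := nonempty_equiv_SL e ht hN
  exact ⟨f.trans (QuotientGroup.quotientBot.symm.trans
    (QuotientGroup.quotientMulEquivOfEq PlaneThree.center_eq_bot.symm))⟩

end Cfsg.Lib.Small.LThreeThree
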