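import Cfsg.Agent.Lib.Small.SimpleOrder
import Cfsg.Agent.Lib.Core.Cores
import Cfsg.Agent.S0990
import Cfsg.Agent.S0991
import Cfsg.Agent.S0496
import Cfsg.Agent.S0494
import Cfsg.Agent.S0495
import Cfsg.Agent.S0497
import Cfsg.Agent.S0144
import Cfsg.Agent.S1016
import Cfsg.Agent.S0256
import Cfsg.Agent.S0249
import Cfsg.Agent.S2119

/-!
# Subgroups of `A₈` without normal subgroups of prime power order
-/

set_option autoImplicit false

namespace Cfsg.Lib.Small.AltEight

open Subgroup
open scoped Matrix

/-- The alternating group of degree eight. -/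
abbrev A8 := ↥(alternatingGroup (Fin 8))

theorem card_A8 : Nat.card A8 = 20160 := by
  rw [nat_card_alternatingGroup, Nat.card_fin]; rfl

theorem isSimple_A8 : IsSimpleGroup A8 := alternatingGroup.isSimpleGroup (by simp)

theorem not_comm_A8 : ¬ IsMulCommutative A8 := fun h => by
  have := isSimple_A8
  let _ : CommGroup A8 := { (inferInstance : Group A8) with mul_comm := fun a b => h.is_comm.comm a b }
  have := IsSimpleGroup.prime_card (α := A8)
  rw [card_A8] at this
  norm_num at this

/-- The normaliser of a cyclic subgroup of order seven has order dividing `21`. -/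
theorem card_normalizer_seven {x : A8} (hx : orderOf x = 7) :
    Nat.card ↥(normalizer (zpowers x : Set A8)) ∣ 21 := by
  classical
  haveI : Fact (Nat.Prime 7) := ⟨by norm_num⟩
  have hσ : orderOf x.1 = 7 := by rw [Subgroup.orderOf_coe, hx]
  have hcard : Nat.card (zpowers x.1) = 7 := by rw [Nat.card_zpowers, hσ]
  have hfac : (Nat.card (Equiv.Perm (Fin 8))).factorization 7 = 1 := by
    rw [Nat.card_perm, Nat.card_fin, show Nat.factorial 8 = 7 ^ 1 * 5760 from rfl,
      Nat.factorization_mul (by norm_num) (by norm_num), Nat.Prime.factorization_pow (by norm_num),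
      Finsupp.add_apply, Finsupp.single_eq_same, Nat.factorization_eq_zero_of_not_dvd (by norm_num)]
  let P : Sylow 7 (Equiv.Perm (Fin 8)) := Sylow.ofCard (zpowers x.1) (by rw [hcard, hfac, pow_one])
  have hP : ((P : Subgroup (Equiv.Perm (Fin 8))).subgroupOf (alternatingGroup (Fin 8))) = zpowers x := by
    refine le_antisymm (fun y hy => ?_) ?_
    · obtain ⟨k, hk⟩ := mem_zpowers_iff.1 (show y.1 ∈ zpowers x.1 from hy)
      exact mem_zpowers_iff.2 ⟨k, Subtype.ext (by simpa using hk)⟩
    · exact zpowers_le.2 (mem_zpowers x.1)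
  have h2 := (Cfsg.Agent.S0990.result (α := Fin 8) (by simp) 7 (by norm_num) P).2
  rw [hP] at h2
  have hC : Nat.card ↥(centralizer {x.1}) = 7 := by
    obtain ⟨n, hn⟩ := Equiv.Perm.cycleType_prime_order (σ := x.1) (by rw [hσ]; norm_num)
    rw [hσ] at hn
    have hle := x.1.support.card_le_univ
    rw [← Equiv.Perm.sum_cycleType, hn, Multiset.sum_replicate, smul_eq_mul, Fintype.card_fin] at hle
    obtain rfl : n = 0 := by omega
    rw [Equiv.Perm.nat_card_centralizer, hn]
    decide
  set N := normalizer ((P : Subgroup (Equiv.Perm (Fin 8))) : Set (Equiv.Perm (Fin 8))) with hN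
  let f := (zpowers x.1).normalizerMonoidHom
  have hker : Nat.card f.ker = 7 := by
    rw [Subgroup.normalizerMonoidHom_ker]
    rw [Nat.card_congr (subgroupOfEquivOfLe (centralizer_le_normalizer _)).toEquiv]
    rw [← hC]
    exact Nat.card_congr (MulEquiv.subgroupCongr (centralizer_zpowers x.1)).toEquiv
  have haut : Nat.card (MulAut (zpowers x.1)) ∣ 6 := by
    rw [IsCyclic.card_mulAut, hcard]; decide
  have hdvd : Nat.card N ∣ 42 := by
    have hmul := card_mul_index f.ker
    rw [hker, index_ker] at hmul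
    show Nat.card ↥(normalizer (zpowers x.1 : Set (Equiv.Perm (Fin 8)))) ∣ 42
    rw [← hmul]
    exact mul_dvd_mul_left 7 ((card_subgroup_dvd_card f.range).trans haut)
  rw [← h2] at hdvd
  exact Nat.dvd_of_mul_dvd_mul_left (by norm_num : 0 < 2) (hdvd.trans (by norm_num : 42 ∣ 2 * 21))

/-- Elements of order five and seven do not commute. -/
theorem no_thirtyfive {x y : A8} (hx : orderOf x = 7) (hy : orderOf y = 5) : ¬ Commute x y := by
  intro hc
  have hy' : y ∈ normalizer (zpowers x : Set A8) :=
    centralizer_le_normalizer _ (mem_centralizer_iff.2 fun z hz => by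
      obtain ⟨k, rfl⟩ := mem_zpowers_iff.1 hz
      exact (hc.zpow_left k).eq)
  have h1 := (Subgroup.orderOf_dvd_natCard _ hy').trans (card_normalizer_seven hx)
  rw [hy] at h1
  norm_num at h1

/-- An element of order five and one of order three fixing a common point do not commute. -/
theorem no_fifteen {x y : A8} {a : Fin 8} (hx : orderOf x = 5) (hy : orderOf y = 3)
    (hxa : x.1 a = a) (hya : y.1 a = a) : ¬ Commute x y := by
  classical
  intro hc
  let toSub : ∀ z : A8, z.1 a = a → Equiv.Perm {b : Fin 8 // b ≠ a} := fun z hz =>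
    z.1.subtypePerm fun b => by
      constructor
      · intro hb e; exact hb (by rw [e, hz])
      · intro hb e; exact hb (z.1.injective (e.trans hz.symm))
  have inj : ∀ z w : A8, ∀ hz hw, toSub z hz = toSub w hw → z = w := fun z w hz hw e => by
    refine Subtype.ext (Equiv.ext fun b => ?_)
    by_cases hb : b = a
    · rw [hb, hz, hw]
    · exact congrArg Subtype.val (DFunLike.congr_fun e ⟨b, hb⟩)
  have hord : ∀ z : A8, ∀ hz, ∀ p : ℕ, p.Prime → orderOf z = p → orderOf (toSub z hz) = p := fun z hz p hp ho => by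
    haveI := Fact.mk hp
    refine orderOf_eq_prime (Equiv.ext fun b => Subtype.ext ?_) fun h1 => ?_
    · have h := congrArg (fun w : A8 => w.1 b.1) (show z ^ p = 1 by rw [← ho, pow_orderOf_eq_one])
      simpa [toSub, Equiv.Perm.subtypePerm_pow] using h
    · have := inj z 1 hz rfl (h1.trans (Equiv.ext fun b => Subtype.ext rfl))
      rw [this, orderOf_one] at ho
      exact hp.one_lt.ne ho
  set σ := toSub x hxa with hσdef
  set τ := toSub y hya
  have hσ : orderOf σ = 5 := hord x hxa 5 (by norm_num) hx
  have hτ : orderOf τ = 3 := hord y hya 3 (by norm_num) hy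
  have hC : Nat.card ↥(centralizer {σ}) = 10 := by
    obtain ⟨n, hn⟩ := Equiv.Perm.cycleType_prime_order (σ := σ) (by rw [hσ]; norm_num)
    rw [hσ] at hn
    have hcard : Fintype.card {b : Fin 8 // b ≠ a} = 7 := by simp
    have hle := σ.support.card_le_univ
    rw [← Equiv.Perm.sum_cycleType, hn, Multiset.sum_replicate, smul_eq_mul, hcard] at hle
    obtain rfl : n = 0 := by omega
    rw [Equiv.Perm.nat_card_centralizer, hn, hcard]
    decide
  have hmem : τ ∈ centralizer {σ} := mem_centralizer_singleton_iff.2 (Equiv.ext fun b => Subtype.ext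
    (congrArg (fun w : A8 => w.1 b.1) hc.eq.symm))
  have h1 := Subgroup.orderOf_dvd_natCard _ hmem
  rw [hτ, hC] at h1
  norm_num at h1

variable {G : Type*} [Group G] [Finite G]

theorem orderOf_map {H : Type*} [Group H] (f : G →* H) (hf : Function.Injective f) (x : G) :
    orderOf (f x) = orderOf x := orderOf_injective f hf x

theorem card_dvd {f : G →* A8} (hf : Function.Injective f) : Nat.card G ∣ 20160 := by
  rw [← card_A8]; exact card_dvd_of_injective f hf

theorem normalizer_sylow_dvd {f : G →* A8} (hf : Function.Injective f) [Fact (Nat.Prime 7)] (P : Sylow 7 G)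
    (h7 : 7 ∣ Nat.card G) : Nat.card ↥(normalizer ((P : Subgroup G) : Set G)) ∣ 21 := by
  have hP : Nat.card (P : Subgroup G) = 7 := by
    obtain ⟨m, hm⟩ := h7
    rw [card_sylow 1 m (by simpa using hm) (fun h => by
      have h49 : 7 * 7 ∣ 20160 := (hm ▸ mul_dvd_mul_left 7 h : 7 * 7 ∣ Nat.card G).trans (card_dvd hf)
      norm_num at h49) P, pow_one]
  obtain ⟨x, hx⟩ := exists_prime_orderOf_dvd_card' (G := (P : Subgroup G)) 7 (by rw [hP])
  have hPx : (P : Subgroup G) = zpowers (x : G) := Eq.symm <| zpowers_eq_of_prime_card hP x.2 (fun e => by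
    have e' : x = 1 := Subtype.ext e
    rw [e', orderOf_one] at hx; norm_num at hx)
  refine dvd_trans ?_ (card_normalizer_seven (x := f (x : G)) (by rw [orderOf_map f hf, Subgroup.orderOf_coe, hx]))
  have hle : (normalizer ((P : Subgroup G) : Set G)).map f ≤ normalizer (zpowers (f (x : G)) : Set A8) := by
    refine le_trans (le_normalizer_map f) ?_
    rw [(congrArg (Subgroup.map f) hPx).trans (MonoidHom.map_zpowers f _)]
  rw [← card_map_of_injective hf]
  exact card_dvd_of_le hle

theorem normalizer_seven_eq [IsSimpleGroup G] (hG : ¬ IsCyclic G) {f : G →* A8} (hf : Function.Injective f)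
    [Fact (Nat.Prime 7)] (P : Sylow 7 G) (h7 : 7 ∣ Nat.card G) :
    Nat.card ↥(normalizer ((P : Subgroup G) : Set G)) = 21 ∧ Nat.card (Sylow 7 G) % 7 = 1 ∧
      Nat.card (Sylow 7 G) * 21 = Nat.card G := by
  have hd := normalizer_sylow_dvd hf P h7
  have hne : (P : Subgroup G) ≠ ⊥ := P.ne_bot_of_dvd_card h7
  have h21 : Nat.card ↥(normalizer ((P : Subgroup G) : Set G)) = 21 := by
    have hdiv : 7 ∣ Nat.card ↥(normalizer ((P : Subgroup G) : Set G)) :=
      (P.dvd_card_of_dvd_card h7).trans (card_dvd_of_le le_normalizer)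
    rcases Nat.eq_or_lt_of_le (Nat.le_of_dvd (by norm_num) hd) with h | h
    · exact h
    exfalso
    refine not_normalizer_le_centralizer hG P hne ?_
    have h' : Nat.card ↥(normalizer ((P : Subgroup G) : Set G)) = 7 := by
      have := Nat.le_of_dvd Nat.card_pos hdiv
      have := Nat.mem_divisors.2 ⟨hd, by norm_num⟩
      revert this h
      generalize Nat.card ↥(normalizer ((P : Subgroup G) : Set G)) = k at *
      intro h hk
      fin_cases hk <;> omega
    have hc : ∀ a ∈ normalizer ((P : Subgroup G) : Set G), ∀ b ∈ normalizer ((P : Subgroup G) : Set G),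
        a * b = b * a := fun a ha b hb => by
      haveI := isCyclic_of_prime_card h'
      let _ := IsCyclic.commGroup (α := ↥(normalizer ((P : Subgroup G) : Set G)))
      exact congrArg Subtype.val (mul_comm (⟨a, ha⟩ : ↥(normalizer ((P : Subgroup G) : Set G))) ⟨b, hb⟩)
    exact fun a ha => mem_centralizer_iff.2 fun b hb => hc b (le_normalizer hb) a ha
  refine ⟨h21, ?_, ?_⟩
  · exact (card_sylow_modEq_one 7 G : Nat.card (Sylow 7 G) % 7 = 1 % 7)
  · rw [← h21, card_normalizer_mul]

theorem exists_five_or_seven (hns : ¬ Group.IsSolvable G) {f : G →* A8} (hf : Function.Injective f) :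
    5 ∣ Nat.card G ∨ 7 ∣ Nat.card G := by
  by_contra hcon
  push Not at hcon
  have hd := card_dvd hf
  have h1 : Nat.card G ∣ 576 := by
    have c5 : (Nat.card G).Coprime 5 := ((Nat.Prime.coprime_iff_not_dvd (by norm_num)).2 hcon.1).symm
    have c7 : (Nat.card G).Coprime 7 := ((Nat.Prime.coprime_iff_not_dvd (by norm_num)).2 hcon.2).symm
    exact (Nat.Coprime.mul_right c5 c7).dvd_of_dvd_mul_right (show Nat.card G ∣ 576 * (5 * 7) from hd)
  obtain ⟨u, v, hu, hv, huv⟩ := exists_dvd_and_dvd_of_dvd_mul (show Nat.card G ∣ 2 ^ 6 * 3 ^ 2 from h1)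
  obtain ⟨i, -, rfl⟩ := (Nat.dvd_prime_pow Nat.prime_two).1 hu
  obtain ⟨j, -, rfl⟩ := (Nat.dvd_prime_pow Nat.prime_three).1 hv
  exact hns (Cfsg.Agent.S0144.result 2 3 i j Nat.prime_two Nat.prime_three huv)

theorem not_solvable_of_simple [IsSimpleGroup G] (hG : ¬ IsMulCommutative G) : ¬ Group.IsSolvable G :=
  Cfsg.Lib.OrderLeHundred.not_solvable fun h => hG ⟨⟨fun a b => by
    let _ := h.commGroup; exact mul_comm a b⟩⟩

theorem card_nonzero : Nat.card {v : Fin 4 → ZMod 2 // v ≠ 0} = 15 := by
  rw [Nat.card_eq_fintype_card]; decide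

/-- A group of order `1344` embedded in `GL₄(2)` is not simple. -/
theorem not_1344 [IsSimpleGroup G] (hG : ¬ IsMulCommutative G) (hcard : Nat.card G = 1344)
    (g : G →* GL (Fin 4) (ZMod 2)) (hg : Function.Injective g) : False := by
  classical
  haveI : Fact (Nat.Prime 2) := ⟨Nat.prime_two⟩
  let Ω := {v : Fin 4 → ZMod 2 // v ≠ 0}
  letI : MulAction G Ω :=
    { smul := fun t v => ⟨(g t).val *ᵥ v.1, fun h => v.2 (by
        have := congrArg (fun w => (g t⁻¹).val *ᵥ w) h
        simpa [Matrix.mulVec_mulVec, ← Units.val_mul, ← map_mul] using this)⟩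
      one_smul := fun v => Subtype.ext (show (g 1).val *ᵥ v.1 = v.1 by simp)
      mul_smul := fun s t v => Subtype.ext (show (g (s * t)).val *ᵥ v.1 = _ by
        rw [map_mul, Units.val_mul, ← Matrix.mulVec_mulVec]; rfl) }
  obtain ⟨S⟩ : Nonempty (Sylow 2 G) := inferInstance
  have hS : Nat.card (S : Subgroup G) = 2 ^ 6 := card_sylow 6 21 (by rw [hcard]; norm_num) (by norm_num) S
  obtain ⟨v, hv⟩ := S.isPGroup'.nonempty_fixed_point_of_prime_not_dvd_card Ω (by
    rw [show Nat.card Ω = 15 from card_nonzero]
    norm_num)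
  have hStab : (S : Subgroup G) ≤ MulAction.stabilizer G v := fun t ht => hv ⟨t, ht⟩
  have hidx : (MulAction.stabilizer G v).index ∣ 21 := by
    have h1 : (S : Subgroup G).index = 21 := by
      have := card_mul_index (S : Subgroup G)
      rw [hS, hcard] at this; omega
    exact h1 ▸ index_dvd_of_le hStab
  have hle : (MulAction.stabilizer G v).index ≤ 15 := by
    rw [MulAction.index_stabilizer]
    exact (Set.ncard_le_card _).trans (le_of_eq card_nonzero)
  have htop : MulAction.stabilizer G v = ⊤ := by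
    by_contra hne
    have h7 : (MulAction.stabilizer G v).index ≤ 7 := by
      have := Nat.mem_divisors.2 ⟨hidx, by norm_num⟩
      revert this hle
      generalize (MulAction.stabilizer G v).index = k
      intro h hk
      fin_cases hk <;> omega
    have := index_dvd_factorial_le hne h7
    rw [hcard] at this
    norm_num [Nat.factorial] at this
  -- the action modulo `v`
  let W : Submodule (ZMod 2) (Fin 4 → ZMod 2) := Submodule.span (ZMod 2) {v.1}
  have hfix : ∀ t : G, (g t).val *ᵥ v.1 = v.1 := fun t =>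
    congrArg Subtype.val (MulAction.mem_stabilizer_iff.1 (htop ▸ mem_top t : t ∈ MulAction.stabilizer G v) : t • v = v)
  have hW : ∀ t : G, W ≤ W.comap (Matrix.toLin' (g t).val) := fun t => by
    refine (Submodule.span_singleton_le_iff_mem _ _).2 ?_
    rw [Submodule.mem_comap, Matrix.toLin'_apply, hfix]
    exact Submodule.mem_span_singleton_self _
  let Q := (Fin 4 → ZMod 2) ⧸ W
  letI : MulAction G {q : Q // q ≠ 0} :=
    { smul := fun t q => ⟨W.mapQ W (Matrix.toLin' (g t).val) (hW t) q.1, fun h => q.2 (by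
        have h2 := congrArg (W.mapQ W (Matrix.toLin' (g t⁻¹).val) (hW t⁻¹)) h
        rw [map_zero, ← LinearMap.comp_apply, ← Submodule.mapQ_comp] at h2
        obtain ⟨w, hw⟩ := Submodule.mkQ_surjective W q.1
        rw [← hw, Submodule.mkQ_apply, Submodule.mapQ_apply, LinearMap.comp_apply, Matrix.toLin'_apply,
          Matrix.toLin'_apply, Matrix.mulVec_mulVec, ← Units.val_mul, ← map_mul, inv_mul_cancel, map_one,
          Units.val_one, Matrix.one_mulVec] at h2
        rw [← hw]; exact h2)⟩
      one_smul := fun q => Subtype.ext (by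
        obtain ⟨w, hw⟩ := Submodule.mkQ_surjective W q.1
        show W.mapQ W _ _ q.1 = q.1
        rw [← hw, Submodule.mkQ_apply, Submodule.mapQ_apply, Matrix.toLin'_apply, map_one, Units.val_one,
          Matrix.one_mulVec])
      mul_smul := fun s t q => Subtype.ext (by
        obtain ⟨w, hw⟩ := Submodule.mkQ_surjective W q.1
        show W.mapQ W _ _ q.1 = W.mapQ W _ _ (W.mapQ W _ _ q.1)
        rw [← hw, Submodule.mkQ_apply, Submodule.mapQ_apply, Submodule.mapQ_apply, Submodule.mapQ_apply,
          Matrix.toLin'_apply, Matrix.toLin'_apply, Matrix.toLin'_apply, Matrix.mulVec_mulVec, map_mul,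
          Units.val_mul]) }
  have hQ : Nat.card Q = 8 := by
    have h1 : Module.finrank (ZMod 2) Q + 1 = 4 := by
      have := W.finrank_quotient_add_finrank
      rwa [finrank_span_singleton v.2, Module.finrank_fin_fun] at this
    rw [Module.natCard_eq_pow_finrank (K := ZMod 2), Nat.card_zmod, show Module.finrank (ZMod 2) Q = 3 by omega]
    norm_num
  have hperm : Nat.card (Equiv.Perm {q : Q // q ≠ 0}) = 5040 := by
    have := Fintype.ofFinite Q
    rw [Nat.card_perm, Nat.card_eq_fintype_card, Fintype.card_subtype_compl, Fintype.card_subtype_eq,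
      ← Nat.card_eq_fintype_card, hQ]
    rfl
  let φ := MulAction.toPermHom G {q : Q // q ≠ 0}
  rcases φ.normal_ker.eq_bot_or_eq_top with hk | hk
  · have := card_dvd_of_injective φ ((MonoidHom.ker_eq_bot_iff φ).1 hk)
    rw [hcard, hperm] at this
    norm_num at this
  refine hG ⟨⟨fun s t => hg ?_⟩⟩
  have hmove : ∀ (t : G) (w : Fin 4 → ZMod 2), ∃ c : ZMod 2, (g t).val *ᵥ w = w + c • v.1 := fun t w => by
    have hmem : (g t).val *ᵥ w - w ∈ W := by
      rw [← Submodule.Quotient.eq]
      by_cases hw : (Submodule.Quotient.mk w : Q) = 0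
      · rw [hw, Submodule.Quotient.mk_eq_zero]
        exact Submodule.mem_comap.1 (hW t ((Submodule.Quotient.mk_eq_zero W).1 hw))
      · exact congrArg Subtype.val (DFunLike.congr_fun (MonoidHom.mem_ker.1 (hk ▸ mem_top t : t ∈ φ.ker)) ⟨_, hw⟩)
    obtain ⟨c, hc⟩ := Submodule.mem_span_singleton.1 hmem
    exact ⟨c, by rw [hc, add_sub_cancel]⟩
  refine Units.ext (Matrix.toLin'.injective (LinearMap.ext fun w => ?_))
  rw [map_mul g, map_mul g, Units.val_mul, Units.val_mul, Matrix.toLin'_apply, Matrix.toLin'_apply,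
    ← Matrix.mulVec_mulVec, ← Matrix.mulVec_mulVec]
  obtain ⟨c, hc⟩ := hmove s w
  obtain ⟨d, hd⟩ := hmove t w
  rw [hc, hd, Matrix.mulVec_add, Matrix.mulVec_add, Matrix.mulVec_smul, Matrix.mulVec_smul, hfix, hfix, hc, hd]
  abel

/-- `PSL` over two elements is `GL`. -/
theorem exists_psl_equiv (n : ℕ) [NeZero n] :
    Nonempty (Matrix.ProjectiveSpecialLinearGroup (Fin n) (ZMod 2) ≃* GL (Fin n) (ZMod 2)) := by
  have hu : ∀ z : ZMod 2, z ≠ 0 → z = 1 := by decide
  let f : Matrix.SpecialLinearGroup (Fin n) (ZMod 2) →* GL (Fin n) (ZMod 2) := Matrix.SpecialLinearGroup.toGL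
  have hf : Function.Bijective f := by
    refine ⟨fun a b h => Subtype.ext (congrArg Units.val h), fun A => ⟨⟨A.val, hu _ ?_⟩, Units.ext rfl⟩⟩
    exact ((Matrix.isUnit_iff_isUnit_det _).1 A.isUnit).ne_zero
  have hz : center (Matrix.SpecialLinearGroup (Fin n) (ZMod 2)) = ⊥ := by
    refine eq_bot_iff.2 fun A hA => ?_
    obtain ⟨r, hr, hA'⟩ := Matrix.SpecialLinearGroup.mem_center_iff.1 hA
    have hr1 : r = 1 := hu r fun h0 => by rw [h0, zero_pow (NeZero.ne _ : Fintype.card (Fin n) ≠ 0)] at hr; exact zero_ne_one hr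
    rw [hr1, map_one] at hA'
    exact mem_bot.2 (Subtype.ext hA'.symm)
  exact ⟨((QuotientGroup.quotientMulEquivOfEq hz).trans QuotientGroup.quotientBot).trans (MulEquiv.ofBijective f hf)⟩

theorem gl_equiv_A8 : Nonempty (GL (Fin 4) (ZMod 2) ≃* A8) := by
  obtain ⟨e⟩ := exists_psl_equiv 4
  obtain ⟨e'⟩ := Cfsg.Agent.S0256.result (F := ZMod 2) (by rfl)
  exact ⟨e.symm.trans e'⟩

/-- The orders of the simple subgroups of `A₈`. -/
theorem simple_orders [IsSimpleGroup G] (hG : ¬ IsMulCommutative G) {f : G →* A8} (hf : Function.Injective f) :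
    Nat.card G = 60 ∨ Nat.card G = 168 ∨ Nat.card G = 360 ∨ Nat.card G = 2520 ∨ Nat.card G = 20160 := by
  have hd := card_dvd hf
  have hnc : ¬ IsCyclic G := fun h => hG ⟨⟨fun a b => by let _ := h.commGroup; exact mul_comm a b⟩⟩
  by_cases htop : f.range = ⊤
  · right; right; right; right
    rw [← card_A8, ← card_top (G := A8), ← htop]
    exact Nat.card_congr (MonoidHom.ofInjective hf).toEquiv
  have hle : Nat.card G ≤ 2520 := by
    have := isSimple_A8
    obtain ⟨φ, hφ⟩ := Cfsg.Agent.S0991.result not_comm_A8 f.range htop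
    have h8 : 8 ≤ f.range.index := by
      by_contra hlt
      have h := (card_dvd_of_injective φ hφ).trans ((card_subgroup_dvd_card _).trans
        (by rw [Nat.card_perm, Nat.card_fin]))
      rw [card_A8] at h
      revert h
      generalize hk : f.range.index = k at *
      intro h
      have hk7 : k ≤ 7 := by omega
      interval_cases k <;> norm_num [Nat.factorial] at h
    have hm := card_mul_index f.range
    rw [← Nat.card_congr (MonoidHom.ofInjective hf).toEquiv, card_A8] at hm
    nlinarith
  haveI : Fact (Nat.Prime 7) := ⟨by norm_num⟩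
  obtain ⟨P⟩ : Nonempty (Sylow 7 G) := inferInstance
  have key7 : ∀ n, Nat.card G = n → 7 ∣ n → n / 21 % 7 = 1 ∧ n % 21 = 0 := by
    intro n hn h7
    obtain ⟨-, h1, h2⟩ := normalizer_seven_eq hnc hf P (hn ▸ h7)
    rw [hn] at h2
    rw [← h2, Nat.mul_div_cancel _ (by norm_num : 0 < 21)]
    exact ⟨h1, Nat.mul_mod_left _ _⟩
  by_cases hs : Nat.card G ≤ 1092
  · rcases Cfsg.Agent.S0496.result hG hs with h | h | h | h | h | h
    · exact Or.inl h
    · exact Or.inr (Or.inl h)
    · exact Or.inr (Or.inr (Or.inl h))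
    · have := key7 _ h (by norm_num); norm_num at this
    · rw [h] at hd; norm_num at hd
    · rw [h] at hd; norm_num at hd
  · have hdec : ∀ n ∈ Nat.divisors 20160, 1092 < n → n ≤ 2520 →
        n = 1344 ∨ n = 1440 ∨ n = 1152 ∨ n = 2520 ∨ (7 ∣ n ∧ ¬ (n / 21 % 7 = 1 ∧ n % 21 = 0)) := by
      decide +kernel
    rcases hdec _ (Nat.mem_divisors.2 ⟨hd, by norm_num⟩) (by omega) hle with h | h | h | h | ⟨h1, h2⟩
    · obtain ⟨e⟩ := gl_equiv_A8
      exact absurd (not_1344 hG h (e.symm.toMonoidHom.comp f) (e.symm.injective.comp hf)) not_false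
    · exact absurd h Cfsg.Agent.S1016.result
    · exact absurd (Cfsg.Agent.S0144.result 2 3 7 2 Nat.prime_two Nat.prime_three (h.trans (by norm_num)))
        (not_solvable_of_simple hG)
    · exact Or.inr (Or.inr (Or.inr (Or.inl h)))
    · exact absurd (key7 _ rfl h1) h2

/-- A solvable normal subgroup is trivial when both cores are. -/
theorem normal_solvable_eq_bot (hO : Cfsg.pPrimeCore 2 G = ⊥) (hO2 : Cfsg.pCore 2 G = ⊥) {K : Subgroup G}
    (hK : K.Normal) (hs : Group.IsSolvable K) : K = ⊥ := by
  classical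
  by_contra hne
  obtain ⟨n, hn⟩ := hs.solvable
  have hex : ∃ n, derivedSeries K n = ⊥ := ⟨n, hn⟩
  obtain ⟨k, hk⟩ : ∃ k, Nat.find hex = k + 1 := by
    refine Nat.exists_eq_succ_of_ne_zero fun h0 => hne ?_
    have := Nat.find_spec hex
    rw [h0, derivedSeries_zero] at this
    exact eq_bot_iff.2 fun x hx => by
      have : (⟨x, hx⟩ : K) ∈ (⊥ : Subgroup K) := this ▸ mem_top _
      exact congrArg Subtype.val (mem_bot.1 this)
  set A : Subgroup K := derivedSeries K k with hA
  have hAne : A ≠ ⊥ := fun h => by have := Nat.find_min' hex h; omega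
  have hAc : IsMulCommutative A := ⟨⟨fun a b => by
    have h1 : ⁅A, A⁆ = ⊥ := by
      rw [hA, ← derivedSeries_succ, ← hk]
      exact Nat.find_spec hex
    exact Subtype.ext (mem_centralizer_iff.1 (commutator_eq_bot_iff_le_centralizer.1 h1 b.2) _ a.2)⟩⟩
  set A' := A.map K.subtype with hA'
  haveI : K.Normal := hK
  haveI : A.Characteristic := derivedSeries_characteristic K k
  haveI hA'n : A'.Normal := inferInstance
  haveI : IsMulCommutative A' := map_isMulCommutative A K.subtype
  have hA'ne : A' ≠ ⊥ := fun h => hAne (map_eq_bot_iff_of_injective A K.subtype_injective |>.1 h)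
  obtain ⟨q, hq, hqd⟩ := Nat.exists_prime_and_dvd (n := Nat.card A')
    (fun h => hA'ne ((Subgroup.card_eq_one).1 h))
  haveI := Fact.mk hq
  obtain ⟨Q⟩ : Nonempty (Sylow q A') := inferInstance
  haveI : (Q : Subgroup A').Normal := inferInstance
  haveI : (Q : Subgroup A').Characteristic := Q.characteristic_of_normal inferInstance
  set Q' := (Q : Subgroup A').map A'.subtype with hQ'
  haveI hQ'n : Q'.Normal := inferInstance
  have hQne : Q' ≠ ⊥ := fun h => Q.ne_bot_of_dvd_card hqd
    (map_eq_bot_iff_of_injective _ A'.subtype_injective |>.1 h)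
  have hQp : IsPGroup q Q' := Q.isPGroup'.map _
  by_cases hq2 : q = 2
  · subst hq2
    exact hQne (le_bot_iff.1 ((Cfsg.Lib.Core.le_pCore hQp).trans hO2.le))
  · refine hQne (le_bot_iff.1 ((Cfsg.Lib.Core.le_pPrimeCore ?_).trans hO.le))
    obtain ⟨j, hj⟩ := hQp.exists_card_eq
    rw [hj]
    exact ((Nat.coprime_primes hq Nat.prime_two).2 hq2).pow_left j

theorem seven_or_five_card {M : Subgroup G} (hns : ¬ Group.IsSolvable M) {f : G →* A8}
    (hf : Function.Injective f) : ∃ q, (q = 5 ∨ q = 7) ∧ q ∣ Nat.card M := by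
  rcases exists_five_or_seven hns (f := f.comp M.subtype) (hf.comp M.subtype_injective) with h | h
  · exact ⟨5, Or.inl rfl, h⟩
  · exact ⟨7, Or.inr rfl, h⟩

/-- There is a simple normal subgroup with trivial centraliser. -/
theorem exists_socle (hne : Nontrivial G) (hO : Cfsg.pPrimeCore 2 G = ⊥) (hO2 : Cfsg.pCore 2 G = ⊥)
    {f : G →* A8} (hf : Function.Injective f) :
    ∃ N : Subgroup G, N.Normal ∧ IsSimpleGroup N ∧ ¬ IsMulCommutative N ∧ centralizer (N : Set G) = ⊥ := by
  classical
  obtain ⟨N, hNmem, hNmin⟩ := WellFoundedLT.exists_minimal inferInstance ({N : Subgroup G | N.Normal ∧ N ≠ ⊥})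
    ⟨⊤, inferInstance, top_ne_bot⟩
  obtain ⟨hN, hN0⟩ := hNmem
  have hNns : ¬ Group.IsSolvable N := fun h => hN0 (normal_solvable_eq_bot hO hO2 hN h)
  have hNsimple : IsSimpleGroup N := by
    haveI : Nontrivial N := (Subgroup.nontrivial_iff_ne_bot N).2 hN0
    refine ⟨fun M hM => ?_⟩
    by_contra hcon
    push Not at hcon
    obtain ⟨L, hLmem, hLmin⟩ := WellFoundedLT.exists_minimal inferInstance ({L : Subgroup N | L.Normal ∧ L ≠ ⊥}) ⟨M, hM, hcon.1⟩
    obtain ⟨hL, hL0⟩ := hLmem
    have hLtop : L ≠ ⊤ := fun h => hcon.2 (top_le_iff.1 (h ▸ hLmin ⟨hM, hcon.1⟩ (h ▸ le_top)))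
    have hLns : ¬ Group.IsSolvable L := by
      intro hs
      obtain ⟨R, hR, hRmax⟩ := WellFoundedGT.exists_maximal inferInstance ({R : Subgroup N | R.Normal ∧ Group.IsSolvable R}) ⟨L, hL, hs⟩
      haveI := hR.1
      have hchar : R.Characteristic := characteristic_iff_map_le.2 fun φ => by
        haveI hn : (R.map φ.toMonoidHom).Normal := hR.1.map _ φ.surjective
        haveI hs2 : Group.IsSolvable ↥(R.map φ.toMonoidHom) := by
          haveI := hR.2
          exact Group.isSolvable_of_surjective (f := φ.toMonoidHom.subgroupMap R) (φ.toMonoidHom.subgroupMap_surjective R)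
        have hsup : Group.IsSolvable ↥(R ⊔ R.map φ.toMonoidHom) := by
          haveI := hR.2
          haveI : Group.IsSolvable ↥((R ⊔ R.map φ.toMonoidHom).map (QuotientGroup.mk' R)) := by
            rw [Subgroup.map_sup, (map_eq_bot_iff R).2 (QuotientGroup.ker_mk' R).ge, bot_sup_eq]
            exact Group.isSolvable_of_surjective (f := (QuotientGroup.mk' R).subgroupMap _)
              ((QuotientGroup.mk' R).subgroupMap_surjective _)
          refine Group.isSolvable_of_ker_le_range (Subgroup.inclusion (le_sup_left : R ≤ R ⊔ R.map φ.toMonoidHom))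
            ((QuotientGroup.mk' R).subgroupMap (R ⊔ R.map φ.toMonoidHom)) ?_
          intro y hy
          have hy' : (y : N) ∈ R := (QuotientGroup.eq_one_iff (y : N)).1 (congrArg Subtype.val hy)
          exact ⟨⟨y, hy'⟩, rfl⟩
        exact le_sup_right.trans (hRmax ⟨inferInstance, hsup⟩ le_sup_left)
      haveI := hchar
      haveI : (R.map N.subtype).Normal := inferInstance
      have hRs : Group.IsSolvable ↥(R.map N.subtype) := by
        haveI := hR.2
        exact Group.isSolvable_of_surjective (f := N.subtype.subgroupMap R) (N.subtype.subgroupMap_surjective R)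
      have hR0 : R = ⊥ := (map_eq_bot_iff_of_injective _ N.subtype_injective).1
        (normal_solvable_eq_bot hO hO2 inferInstance hRs)
      have hLe : L ≤ R := by
        have hsL : Group.IsSolvable L := hs
        by_contra hnot
        have h1 : L ⊓ R = ⊥ := by rw [hR0, inf_bot_eq]
        haveI := hR.2
        haveI := hsL
        refine hnot (le_trans le_sup_left (hRmax ⟨inferInstance, ?_⟩ le_sup_right))
        rw [hR0, sup_bot_eq]; exact hsL
      exact hL0 (le_bot_iff.1 (hLe.trans hR0.le))
    -- a conjugate different from `L` gives two commuting elements of order `q`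
    set L' := L.map N.subtype with hL'
    have hL'0 : L' ≠ ⊥ := fun h => hL0 ((map_eq_bot_iff_of_injective _ N.subtype_injective).1 h)
    have hLN : L' ≤ N := map_subtype_le L
    obtain ⟨x, hx⟩ : ∃ x : G, ∃ l ∈ L', x * l * x⁻¹ ∉ L' := by
      by_contra hall
      push Not at hall
      have hL'n : L'.Normal := ⟨fun l hl x => hall x l hl⟩
      have : N ≤ L' := hNmin ⟨hL'n, hL'0⟩ hLN
      refine hLtop (eq_top_iff.2 fun y _ => ?_)
      obtain ⟨z, hz, hzy⟩ := this y.2
      rwa [← Subtype.ext hzy]
    obtain ⟨l, hl, hxl⟩ := hx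
    let c : N ≃* N := (MulAut.conjNormal x : MulAut N)
    set L2 := L.map c.toMonoidHom with hL2
    haveI hL2n : L2.Normal := hL.map _ c.surjective
    have hne2 : ¬ L2 ≤ L := fun hle => by
      obtain ⟨z, hz, rfl⟩ := hl
      exact hxl ⟨c z, hle (mem_map_of_mem _ hz), by simp [c]⟩
    have hinf : L ⊓ L2 = ⊥ := by
      by_contra h0
      haveI := hL
      have h1 : L ≤ L ⊓ L2 := hLmin ⟨inferInstance, h0⟩ inf_le_left
      refine hne2 ?_
      have h2 : L ≤ L2 := h1.trans inf_le_right
      exact (eq_of_le_of_card_ge h2 (by rw [hL2, card_map_of_injective (f := c.toMonoidHom) c.injective])).ge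
    obtain ⟨q, hq57, hqd⟩ := seven_or_five_card (M := L) hLns (f := f.comp N.subtype) (hf.comp N.subtype_injective)
    have hsup : Nat.card ↥(L ⊔ L2) = Nat.card L * Nat.card L2 := by
      haveI := hL
      have h := card_mul_index (L2.subgroupOf (L ⊔ L2))
      rw [← relIndex, relIndex_sup_right, Nat.card_congr (subgroupOfEquivOfLe le_sup_right).toEquiv,
        ← inf_relIndex_right, inf_comm, hinf, relIndex_bot_left] at h
      rw [← h, mul_comm]
    have hqq : q * q ∣ 20160 := by
      refine dvd_trans ?_ (card_dvd (f := f.comp (N.subtype.comp (L ⊔ L2).subtype))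
        (hf.comp (N.subtype_injective.comp (L ⊔ L2).subtype_injective)))
      rw [hsup]
      refine mul_dvd_mul hqd ?_
      rw [hL2, card_map_of_injective (f := c.toMonoidHom) c.injective]
      exact hqd
    rcases hq57 with rfl | rfl <;> norm_num at hqq
  have hNab : ¬ IsMulCommutative N := fun h => hNns (by
    let _ : CommGroup N := { (inferInstance : Group N) with mul_comm := fun a b => h.is_comm.comm a b }
    infer_instance)
  refine ⟨N, hN, hNsimple, hNab, ?_⟩
  by_contra hC
  haveI := hN
  set C := centralizer (N : Set G) with hCdef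
  haveI hCn : C.Normal := inferInstance
  have hCns : ¬ Group.IsSolvable C := fun h => hC (normal_solvable_eq_bot hO hO2 hCn h)
  obtain ⟨q, hq, hqd⟩ := seven_or_five_card hNns hf
  obtain ⟨r, hr, hrd⟩ := seven_or_five_card hCns hf
  haveI : Fact q.Prime := ⟨by rcases hq with rfl | rfl <;> norm_num⟩
  haveI : Fact r.Prime := ⟨by rcases hr with rfl | rfl <;> norm_num⟩
  obtain ⟨x, hx⟩ := exists_prime_orderOf_dvd_card' (G := N) q hqd
  obtain ⟨y, hy⟩ := exists_prime_orderOf_dvd_card' (G := C) r hrd
  have hxy : Commute (x : G) (y : G) := mem_centralizer_iff.1 y.2 _ x.2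
  have hinf : N ⊓ C = ⊥ := by
    by_contra h0
    have := hNmin ⟨inferInstance, h0⟩ inf_le_left
    exact hNab ⟨⟨fun a b => Subtype.ext (mem_centralizer_iff.1 ((this b.2).2) _ a.2)⟩⟩
  have hqr : q ≠ r := by
    intro he
    subst he
    have hsup : Nat.card ↥(N ⊔ C) = Nat.card N * Nat.card C := by
      have h := card_mul_index (C.subgroupOf (N ⊔ C))
      rw [← relIndex, relIndex_sup_right, Nat.card_congr (subgroupOfEquivOfLe le_sup_right).toEquiv,
        ← inf_relIndex_right, inf_comm, hinf, relIndex_bot_left] at h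
      rw [← h, mul_comm]
    have : q * q ∣ 20160 := dvd_trans (by rw [hsup]; exact mul_dvd_mul hqd hrd)
      (card_dvd (f := f.comp (N ⊔ C).subtype) (hf.comp (N ⊔ C).subtype_injective))
    rcases hq with rfl | rfl <;> norm_num at this
  have hxo : orderOf (f x.1) = q := by rw [orderOf_map f hf, Subgroup.orderOf_coe, hx]
  have hyo : orderOf (f y.1) = r := by rw [orderOf_map f hf, Subgroup.orderOf_coe, hy]
  rcases hq with rfl | rfl <;> rcases hr with rfl | rfl
  · exact hqr rfl
  · exact no_thirtyfive hyo hxo (hxy.symm.map f)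
  · exact no_thirtyfive hxo hyo (hxy.map f)
  · exact hqr rfl

/-- The classification. -/
theorem classify (hne : Nontrivial G) (hO : Cfsg.pPrimeCore 2 G = ⊥) (hO2 : Cfsg.pCore 2 G = ⊥)
    {f : G →* A8} (hf : Function.Injective f) :
    (∃ n : ℕ, 5 ≤ n ∧ n ≤ 8 ∧ Nonempty (G ≃* alternatingGroup (Fin n))) ∨
    Nonempty (G ≃* Equiv.Perm (Fin 5)) ∨ Nonempty (G ≃* Equiv.Perm (Fin 6)) ∨
      Nonempty (G ≃* GL (Fin 3) (ZMod 2)) := by
  classical
  obtain ⟨N, hN, hsimple, hab, hC⟩ := exists_socle hne hO hO2 hf
  haveI := hN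
  haveI := hsimple
  have hfN : Function.Injective (f.comp N.subtype) := hf.comp N.subtype_injective
  let cj : G →* MulAut N := MulAut.conjNormal
  have hcj : Function.Injective cj := (injective_iff_map_eq_one cj).2 fun x hx => by
    have : x ∈ centralizer (N : Set G) := mem_centralizer_iff.2 fun n hn => by
      have h := congrArg (fun a : MulAut N => ((a ⟨n, hn⟩ : N) : G)) hx
      simp only [cj, MulAut.conjNormal_apply, MulAut.one_apply] at h
      rw [mul_inv_eq_iff_eq_mul] at h
      exact h.symm
    rwa [hC, mem_bot] at this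
  have hseven : 7 ∣ Nat.card N → N = ⊤ := by
    intro h7
    haveI : Fact (Nat.Prime 7) := ⟨by norm_num⟩
    obtain ⟨P⟩ : Nonempty (Sylow 7 N) := inferInstance
    have hnc : ¬ IsCyclic N := fun h => hab ⟨⟨fun a b => by let _ := h.commGroup; exact mul_comm a b⟩⟩
    obtain ⟨hP21, -, -⟩ := normalizer_seven_eq hnc hfN P h7
    obtain ⟨Q, hQ⟩ : ∃ Q : Sylow 7 G, (Q : Subgroup G) = (P : Subgroup N).map N.subtype := by
      obtain ⟨Q, hQ⟩ := (P.isPGroup'.map N.subtype).exists_le_sylow
      refine ⟨Q, (eq_of_le_of_card_ge hQ ?_).symm⟩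
      rw [card_map_of_injective N.subtype_injective]
      obtain ⟨m, hm⟩ := h7.trans (card_subgroup_dvd_card N)
      have h49 : ¬ 7 ∣ m := fun h => by
        have : 7 * 7 ∣ 20160 := (hm ▸ mul_dvd_mul_left 7 h : 7 * 7 ∣ Nat.card G).trans (card_dvd hf)
        norm_num at this
      rw [card_sylow 1 m (by simpa using hm) h49 Q, pow_one]
      exact Nat.le_of_dvd Nat.card_pos (P.dvd_card_of_dvd_card h7)
    have h7G : 7 ∣ Nat.card G := h7.trans (card_subgroup_dvd_card N)
    have hd := normalizer_sylow_dvd hf Q h7G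
    have hfrat := Sylow.normalizer_sup_eq_top P
    set M := normalizer ((Q : Subgroup G) : Set G) with hM
    have hsub : (normalizer ((P : Subgroup N) : Set N)).map N.subtype ≤ M := by
      refine le_trans (le_normalizer_map _) ?_
      rw [hM, hQ]
    have hMN : M ≤ N := by
      have hle : Nat.card M ≤ Nat.card ((normalizer ((P : Subgroup N) : Set N)).map N.subtype) := by
        rw [card_map_of_injective N.subtype_injective, hP21]
        exact Nat.le_of_dvd (by norm_num) hd
      rw [← eq_of_le_of_card_ge hsub hle]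
      exact map_subtype_le _
    rw [← hQ] at hfrat
    rw [eq_top_iff, ← hfrat]
    exact sup_le hMN le_rfl
  rcases simple_orders hab hfN with h | h | h | h | h
  · -- order 60
    obtain ⟨e5⟩ := Cfsg.Agent.S0494.result h
    let eP : Equiv.Perm (Fin 5) ≃* MulAut (alternatingGroup (Fin 5)) :=
      MulEquiv.ofBijective _ (Cfsg.Agent.S2119.result 5 (by norm_num) (by norm_num))
    let φ : G →* Equiv.Perm (Fin 5) := eP.symm.toMonoidHom.comp ((MulAut.congr e5).toMonoidHom.comp cj)
    have hφ : Function.Injective φ := eP.symm.injective.comp ((MulAut.congr e5).injective.comp hcj)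
    have h120 : Nat.card G ∣ 120 := by
      have := card_dvd_of_injective φ hφ
      rwa [Nat.card_perm, Nat.card_fin] at this
    have hN' := card_mul_index N
    rw [h] at hN'
    rw [← hN'] at h120
    have h2 : N.index ∣ 2 := Nat.dvd_of_mul_dvd_mul_left (by norm_num : 0 < 60) h120
    rcases (Nat.dvd_prime Nat.prime_two).1 h2 with h1 | h1
    · rw [index_eq_one] at h1
      exact Or.inl ⟨5, le_rfl, by norm_num, ⟨(topEquiv.symm.trans (MulEquiv.subgroupCongr h1.symm)).trans e5⟩⟩
    · refine Or.inr (Or.inl ⟨MulEquiv.ofBijective φ ((Nat.bijective_iff_injective_and_card φ).2 ⟨hφ, ?_⟩)⟩)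
      rw [← hN', h1, Nat.card_perm, Nat.card_fin]
      rfl
  · -- order 168
    refine Or.inr (Or.inr (Or.inr ?_))
    have htop := hseven (by rw [h]; norm_num)
    haveI : Fact (Nat.Prime 7) := ⟨by norm_num⟩
    obtain ⟨e7⟩ := Cfsg.Agent.S0495.result h (F := ZMod 7) (ZMod.card 7)
    haveI := Cfsg.Agent.S0249.result (F := ZMod 2) 3 le_rfl
    obtain ⟨e3⟩ := exists_psl_equiv 3
    have hc3 : Nat.card (Matrix.ProjectiveSpecialLinearGroup (Fin 3) (ZMod 2)) = 168 := by
      rw [Nat.card_congr e3.toEquiv, Matrix.card_GL_field, ZMod.card]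
      decide
    obtain ⟨e7'⟩ := Cfsg.Agent.S0495.result hc3 (F := ZMod 7) (ZMod.card 7)
    exact ⟨((topEquiv.symm.trans (MulEquiv.subgroupCongr htop.symm)).trans (e7.trans e7'.symm)).trans e3⟩
  · -- order 360
    obtain ⟨e6⟩ := Cfsg.Agent.S0497.result h
    haveI : Fact (Nat.Prime 5) := ⟨by norm_num⟩
    haveI : Fact (Nat.Prime 3) := ⟨by norm_num⟩
    letI : MulAction G (Fin 8) := MulAction.compHom (Fin 8) ((alternatingGroup (Fin 8)).subtype.comp f)
    obtain ⟨x, hx⟩ := exists_prime_orderOf_dvd_card' (G := N) 5 (by rw [h]; norm_num)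
    obtain ⟨a, ha⟩ : ∃ a : Fin 8, x • a ≠ a := by
      by_contra hall
      push Not at hall
      have h1 : f x.1 = 1 := Subtype.ext (Equiv.ext hall)
      have h2 : x = 1 := hfN (h1.trans (map_one (f.comp N.subtype)).symm)
      rw [h2, orderOf_one] at hx
      norm_num at hx
    set St := MulAction.stabilizer N a with hSt
    have hidx : St.index = (MulAction.orbit N a).ncard := MulAction.index_stabilizer _ _
    have hne' : St ≠ ⊤ := fun e => ha (MulAction.mem_stabilizer_iff.1 (e ▸ mem_top x : x ∈ St))
    have h8 : (MulAction.orbit N a).ncard ≤ 8 := (Set.ncard_le_card _).trans (by simp)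
    have hdiv : St.index ∣ 360 := h ▸ index_dvd_card St
    have hfac : 360 ∣ St.index.factorial := h ▸ card_dvd_factorial hne'
    have hr : St.index = 6 ∨ St.index = 8 := by
      have hdec : ∀ k ∈ Nat.divisors 360, k ≤ 8 → 360 ∣ k.factorial → k = 6 ∨ k = 8 := by decide +kernel
      exact hdec _ (Nat.mem_divisors.2 ⟨hdiv, by norm_num⟩) (hidx ▸ h8) hfac
    rcases hr with hr | hr
    swap
    · -- no transitive `A₆` on eight points
      exfalso
      have hK : Nat.card St = 45 := by
        have := card_mul_index St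
        rw [h, hr] at this; omega
      obtain ⟨y, hy⟩ := exists_prime_orderOf_dvd_card' (G := St) 5 (by rw [hK]; norm_num)
      obtain ⟨z, hz⟩ := exists_prime_orderOf_dvd_card' (G := St) 3 (by rw [hK]; norm_num)
      have hn5 : ∀ Q : Sylow 5 St, (Q : Subgroup St).Normal := fun Q => by
        haveI : Subsingleton (Sylow 5 St) := by
          refine (Nat.card_eq_one_iff_unique.1 ?_).1
          obtain ⟨hd5, hm5⟩ := sylow_facts (G := St) 1 9 (by rw [hK]; norm_num) (by norm_num : ¬ 5 ∣ 9)
          have := Nat.le_of_dvd (by norm_num) hd5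
          interval_cases Nat.card (Sylow 5 St) <;> omega
        exact Sylow.normal_of_subsingleton Q
      obtain ⟨Q, hQ⟩ := (IsPGroup.of_card (p := 5) (n := 1)
        (by rw [Nat.card_zpowers, hy, pow_one] : Nat.card (zpowers y) = 5 ^ 1)).exists_le_sylow
      have hQeq : zpowers y = (Q : Subgroup St) := eq_of_le_of_card_ge hQ (by
        rw [Nat.card_zpowers, hy, card_sylow 1 9 (by rw [hK]; norm_num) (by norm_num) Q, pow_one])
      haveI hyn : (zpowers y).Normal := hQeq ▸ hn5 Q
      have hcomm : Commute y z := by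
        have hzc : z ∈ centralizer (zpowers y : Set St) := by
          let φ : St →* MulAut (zpowers y) := MulAut.conjNormal
          have hφ : φ z = 1 := by
            rw [← orderOf_eq_one_iff]
            have h1 : orderOf (φ z) ∣ 3 := hz ▸ orderOf_map_dvd φ z
            have h2 : orderOf (φ z) ∣ 4 := by
              refine (_root_.orderOf_dvd_natCard _).trans ?_
              haveI := isCyclic_zpowers (g := y)
              rw [IsCyclic.card_mulAut, Nat.card_zpowers, hy]
              decide
            exact Nat.eq_one_of_dvd_coprimes (by norm_num : Nat.Coprime 3 4) h1 h2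
          refine mem_centralizer_iff.2 fun w hw => ?_
          have hw2 := congrArg (fun α : MulAut (zpowers y) => ((α ⟨w, hw⟩ : zpowers y) : St)) hφ
          simp only [φ, MulAut.conjNormal_apply, MulAut.one_apply] at hw2
          rw [mul_inv_eq_iff_eq_mul] at hw2
          exact hw2.symm
        exact mem_centralizer_iff.1 hzc y (mem_zpowers y)
      have ho : ∀ w : St, orderOf (f w.1.1) = orderOf w := fun w => by
        rw [orderOf_map f hf, Subgroup.orderOf_coe, Subgroup.orderOf_coe]
      exact no_fifteen (a := a) ((ho y).trans hy) ((ho z).trans hz) (MulAction.mem_stabilizer_iff.1 y.2)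
        (MulAction.mem_stabilizer_iff.1 z.2) ((hcomm.map (N.subtype.comp St.subtype)).map f)
    -- `G` preserves the orbit of size six
    set O := MulAction.orbit N a with hO'
    have hO6 : O.ncard = 6 := hidx ▸ hr
    have hinv : ∀ (g : G), ∀ b ∈ O, g • b ∈ O := by
      intro g b hb
      obtain ⟨n, rfl⟩ := hb
      have himg : MulAction.orbit N (g • a) = (fun b => g • b) '' O := by
        ext c
        constructor
        · rintro ⟨m, rfl⟩
          refine ⟨(⟨g⁻¹ * m * g, by simpa using hN.conj_mem m m.2 g⁻¹⟩ : N) • a, ⟨_, rfl⟩, ?_⟩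
          show g • (g⁻¹ * (m : G) * g) • a = (m : G) • g • a
          rw [smul_smul, smul_smul]; congr 1; group
        · rintro ⟨_, ⟨m, rfl⟩, rfl⟩
          refine ⟨⟨g * m * g⁻¹, hN.conj_mem m m.2 g⟩, ?_⟩
          show (g * (m : G) * g⁻¹) • g • a = g • (m : G) • a
          rw [smul_smul, smul_smul]; congr 1; group
      have hcard : (MulAction.orbit N (g • a)).ncard = 6 := by
        rw [himg, Set.ncard_image_of_injective _ (MulAction.injective g), hO6]
      by_contra hnot
      have hdisj : Disjoint O (MulAction.orbit N (g • a)) := by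
        rw [Set.disjoint_left]
        intro c hc1 hc2
        apply hnot
        have e1 : MulAction.orbit N (g • a) = O :=
          (MulAction.orbit_eq_iff.2 hc2).symm.trans (MulAction.orbit_eq_iff.2 hc1)
        rw [← e1, himg]
        exact ⟨_, ⟨n, rfl⟩, rfl⟩
      have h12 := Set.ncard_union_eq hdisj
      have := Set.ncard_le_card (O ∪ MulAction.orbit N (g • a))
      rw [h12, hO6, hcard, Nat.card_fin] at this
      omega
    let act : G →* Equiv.Perm O :=
      { toFun := fun g => (MulAction.toPerm g).subtypePerm (p := (· ∈ O)) fun b =>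
          ⟨fun hb => by simpa using hinv g⁻¹ _ hb, fun hb => hinv g b hb⟩
        map_one' := Equiv.ext fun b => Subtype.ext (one_smul G (b : Fin 8))
        map_mul' := fun g g' => Equiv.ext fun b => Subtype.ext (mul_smul g g' (b : Fin 8)) }
    have hker : act.ker = ⊥ := by
      by_contra h0
      have hKN : act.ker ⊓ N = ⊥ := by
        rcases (inferInstance : (act.ker.subgroupOf N).Normal).eq_bot_or_eq_top with e | e
        · rw [subgroupOf_eq_bot] at e; exact e.eq_bot
        · exfalso
          have h1 := congrArg Subtype.val (DFunLike.congr_fun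
            (MonoidHom.mem_ker.1 (show (x : G) ∈ act.ker from (e ▸ mem_top x : x ∈ act.ker.subgroupOf N)))
              (⟨a, MulAction.mem_orbit_self a⟩ : O))
          exact ha h1
      refine h0 (le_bot_iff.1 (le_trans ?_ hC.le))
      intro k hk
      refine mem_centralizer_iff.2 fun n hn => ?_
      have : n * k * n⁻¹ * k⁻¹ ∈ act.ker ⊓ N :=
        mem_inf.2 ⟨mul_mem ((MonoidHom.normal_ker act).conj_mem k hk n) (inv_mem (show k ∈ act.ker from hk)),
         by rw [show n * k * n⁻¹ * k⁻¹ = n * (k * n⁻¹ * k⁻¹) by group]; exact mul_mem (show n ∈ N from hn) (hN.conj_mem _ (inv_mem (show n ∈ N from hn)) k)⟩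
      rw [hKN, mem_bot, mul_inv_eq_one, mul_inv_eq_iff_eq_mul] at this
      exact this
    have hact : Function.Injective act := (MonoidHom.ker_eq_bot_iff act).1 hker
    have e6' : Nonempty (Equiv.Perm O ≃* Equiv.Perm (Fin 6)) := by
      refine ⟨(Fintype.equivFinOfCardEq ?_).permCongrHom⟩
      rw [← Nat.card_eq_fintype_card, Nat.card_coe_set_eq, hO6]
    obtain ⟨e6'⟩ := e6'
    have h720 : Nat.card G ∣ 720 := by
      have := card_dvd_of_injective (e6'.toMonoidHom.comp act) (e6'.injective.comp hact)
      rwa [Nat.card_perm, Nat.card_fin] at this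
    have hN' := card_mul_index N
    rw [h] at hN'
    rw [← hN'] at h720
    have h2 : N.index ∣ 2 := Nat.dvd_of_mul_dvd_mul_left (by norm_num : 0 < 360) h720
    rcases (Nat.dvd_prime Nat.prime_two).1 h2 with h1 | h1
    · rw [index_eq_one] at h1
      exact Or.inl ⟨6, by norm_num, by norm_num,
        ⟨(topEquiv.symm.trans (MulEquiv.subgroupCongr h1.symm)).trans e6⟩⟩
    · refine Or.inr (Or.inr (Or.inl ⟨MulEquiv.ofBijective (e6'.toMonoidHom.comp act)
        ((Nat.bijective_iff_injective_and_card _).2 ⟨e6'.injective.comp hact, ?_⟩)⟩))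
      rw [← hN', h1, Nat.card_perm, Nat.card_fin]
      rfl
  · -- order 2520
    have htop := hseven (by rw [h]; norm_num)
    refine Or.inl ⟨7, by norm_num, by norm_num, ?_⟩
    have hG : Nat.card G = 2520 := by rw [← card_top (G := G), ← htop, h]
    haveI := isSimple_A8
    set R := f.range with hR
    have hRc : Nat.card R = 2520 := by rw [← Nat.card_congr (MonoidHom.ofInjective hf).toEquiv, hG]
    have hidx : R.index = 8 := by
      have := card_mul_index R
      rw [hRc, card_A8] at this; omega
    letI : Fintype (A8 ⧸ R) := Fintype.ofFinite _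
    have e8 : A8 ⧸ R ≃ Fin 8 := Fintype.equivFinOfCardEq (by rw [← Nat.card_eq_fintype_card, ← index, hidx])
    let ρ : A8 →* Equiv.Perm (Fin 8) := e8.permCongrHom.toMonoidHom.comp (MulAction.toPermHom A8 (A8 ⧸ R))
    have hρ : Function.Injective ρ := by
      rw [← MonoidHom.ker_eq_bot_iff]
      refine (MonoidHom.normal_ker ρ).eq_bot_or_eq_top.resolve_right fun e => ?_
      have hRt : R = ⊤ := eq_top_iff.2 fun w _ => by
        have hw : MulAction.toPermHom A8 (A8 ⧸ R) w = 1 := e8.permCongrHom.injective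
          ((MonoidHom.mem_ker.1 (e ▸ mem_top w : w ∈ ρ.ker)).trans (map_one _).symm)
        have := DFunLike.congr_fun hw (QuotientGroup.mk 1)
        simpa [QuotientGroup.eq] using this
      rw [hRt, index_top] at hidx
      norm_num at hidx
    have hrange : ρ.range = alternatingGroup (Fin 8) := by
      refine Equiv.Perm.eq_alternatingGroup_of_index_eq_two ?_
      have h1 := card_mul_index ρ.range
      rw [← Nat.card_congr (MonoidHom.ofInjective hρ).toEquiv, card_A8, Nat.card_perm, Nat.card_fin] at h1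
      norm_num [Nat.factorial] at h1
      omega
    set a := e8 (QuotientGroup.mk 1) with ha
    -- the image of `R` is the stabiliser of a point
    let σ : R →* ↥(alternatingGroup {b : Fin 8 // b ≠ a}) :=
      { toFun := fun r => ⟨(ρ r.1).subtypePerm fun b => by
            have hfix : ρ r.1 a = a := by
              simp [ρ, ha, QuotientGroup.eq]
            constructor
            · intro hb e; exact hb (by rw [e, hfix])
            · intro hb e; exact hb ((ρ r.1).injective (e.trans hfix.symm)), by
          have hfix : ρ r.1 a = a := by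
            simp [ρ, ha, QuotientGroup.eq]
          rw [Equiv.Perm.mem_alternatingGroup, Equiv.Perm.sign_subtypePerm]
          · exact Equiv.Perm.mem_alternatingGroup.1 (hrange.le ⟨r.1, rfl⟩)
          · intro b hb e; exact hb (by rw [e, hfix])⟩
        map_one' := Subtype.ext (Equiv.ext fun b => Subtype.ext (by simp))
        map_mul' := fun r s => Subtype.ext (Equiv.ext fun b => Subtype.ext (by simp [Equiv.Perm.subtypePerm_apply]; rfl)) }
    have hσ : Function.Injective σ := fun r s hrs => Subtype.ext (hρ (Equiv.ext fun b => by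
      by_cases hb : b = a
      · subst hb
        simp [ρ, ha, QuotientGroup.eq]
        exact mul_mem (inv_mem r.2) s.2
      · exact congrArg (fun w : ↥(alternatingGroup {b : Fin 8 // b ≠ a}) => ((w.1 ⟨b, hb⟩ : {b : Fin 8 // b ≠ a}) : Fin 8)) hrs))
    haveI : Nontrivial {b : Fin 8 // b ≠ a} := Fintype.one_lt_card_iff_nontrivial.1 (by simp)
    have hbij : Function.Bijective σ := (Nat.bijective_iff_injective_and_card σ).2 ⟨hσ, by
      rw [hRc, nat_card_alternatingGroup, Nat.card_eq_fintype_card]
      simp [Nat.factorial]⟩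
    exact ⟨((MonoidHom.ofInjective hf).trans (MulEquiv.ofBijective σ hbij)).trans
      (Equiv.altCongrHom (Fintype.equivFinOfCardEq (by simp)))⟩
  · -- order 20160
    have htop := hseven (by rw [h]; norm_num)
    refine Or.inl ⟨8, by norm_num, le_rfl, ⟨MulEquiv.ofBijective f ((Nat.bijective_iff_injective_and_card f).2 ⟨hf, ?_⟩)⟩⟩
    rw [← card_top (G := G), ← htop, h, card_A8]

end Cfsg.Lib.Small.AltEight
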