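import Cfsg.Agent.Lib.Small.LThreeThreeChars
import Cfsg.Agent.Lib.Small.LThreeThreeRecog
import Cfsg.Agent.Lib.Small.RepSymFour
import Cfsg.Agent.Lib.TwoGroup.Models
import Mathlib.GroupTheory.GroupAction.Quotient

/-!
# The simple group of order 5616

The centralizer of an involution in a simple group of order `5616` is `GL(2, 3)`, so the group is
`PSL(3, 3)`.
-/

set_option autoImplicit false
set_option linter.unusedSectionVars false
set_option linter.style.haveILetI false

namespace Cfsg.Lib.Small.LThreeThreeOrder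

open Cfsg Cfsg.Lib Cfsg.Lib.Small
open scoped ComplexConjugate

universe u

variable {G : Type u} [Group G] [Fintype G] [IsSimpleGroup G] (B : BlockData G) (hG : Nat.card G = 5616)

theorem decide_vanish : ∀ D ∈ Nat.divisors 48, ∀ f ∈ List.range 9, 2 ∣ D →
    (5616 * ((f : ℤ) - 4)) % (16 * (D : ℤ)) = 0 → 1 + 4 * (((f : ℤ) - 4) * ((f : ℤ) - 4)) ≤ (D : ℤ) →
    (f : ℤ) - 4 = 0 := by
  decide +kernel

include hG in
/-- The exceptional characters vanish on the elements of even order. -/
theorem vanish {g : G} (hev : 2 ∣ orderOf g) : (B.θ : G → ℂ) g = 0 := by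
  set t := g ^ (orderOf g / 2) with htdef
  have ho : orderOf t = 2 := by
    have hdiv : orderOf g / 2 ∣ orderOf g := ⟨2, (Nat.div_mul_cancel hev).symm⟩
    have hne : orderOf g / 2 ≠ 0 := by
      have := orderOf_pos g
      omega
    rw [htdef, orderOf_pow_of_dvd hne hdiv, Nat.div_div_self hev (orderOf_pos g).ne']
  obtain ⟨hDt, -⟩ := B.invol hG ho
  have hgt : g ∈ Subgroup.centralizer ({t} : Set G) := by
    rw [Subgroup.mem_centralizer_singleton_iff, htdef, ← pow_succ', ← pow_succ]
  have hd48 : orderOf g ∣ 48 := hDt ▸ Subgroup.orderOf_dvd_natCard _ hgt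
  have hreg : ¬ 13 ∣ orderOf g := fun h => by
    have := h.trans hd48
    norm_num at this
  have hle : Subgroup.centralizer ({g} : Set G) ≤ Subgroup.centralizer ({t} : Set G) := by
    intro c hc
    rw [Subgroup.mem_centralizer_singleton_iff] at hc ⊢
    exact (show Commute c g from hc).pow_right _
  have hD48 : Nat.card (Subgroup.centralizer ({g} : Set G)) ∣ 48 := hDt ▸ Subgroup.card_dvd_of_le hle
  have hD2 : 2 ∣ Nat.card (Subgroup.centralizer ({g} : Set G)) :=
    hev.trans (Subgroup.orderOf_dvd_natCard _ (Subgroup.mem_centralizer_singleton_iff.2 rfl))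
  obtain ⟨A, C, F, hA, hC, hF, -⟩ := B.ints hreg
  obtain ⟨hsq, -⟩ := B.sq_le hreg hA hC hF
  have hdf := BlockData.dvd_class hG g B.θ hF
  rw [B.deg_θ _ B.θ_mem] at hdf
  set D := Nat.card (Subgroup.centralizer ({g} : Set G))
  have hD : (D : ℤ) ≤ 48 := by exact_mod_cast Nat.le_of_dvd (by norm_num) hD48
  have hle' : 1 + 4 * (F * F) ≤ (D : ℤ) := by linarith [mul_self_nonneg A, mul_self_nonneg C]
  have hFb : -3 ≤ F ∧ F ≤ 3 := by
    have hF2 : F * F ≤ 11 := by linarith
    constructor <;> nlinarith only [hF2]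
  obtain ⟨f, hf⟩ : ∃ f : ℕ, F = (f : ℤ) - 4 := ⟨(F + 4).toNat, by clear hdf hsq; omega⟩
  subst hf
  push_cast at hdf
  rw [hF, decide_vanish D (Nat.mem_divisors.2 ⟨hD48, by norm_num⟩) f
    (List.mem_range.2 (by clear hdf hsq; omega)) hD2 hdf hle', Int.cast_zero]

set_option synthInstance.maxSize 2048 in
theorem decide_three : ∀ D ∈ Nat.divisors 432, ∀ f ∈ List.range 21, ∀ q ∈ ([4, 8, 16] : List ℕ),
    9 ∣ D → 3 * q ∣ D → (5616 * ((f : ℤ) - 10)) % (16 * (D : ℤ)) = 0 →
    1 + 4 * (((f : ℤ) - 10) * ((f : ℤ) - 10)) ≤ (D : ℤ) →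
    (16 + 2 * ((f : ℤ) - 10)) % (3 * (q : ℤ)) = 0 → q = 4 ∧ D = 108 := by
  decide +kernel

include B hG in
/-- An element of order three centralized by a two-group of order at least four. -/
theorem three {x : G} (hx : orderOf x = 3) {H : Subgroup G}
    (hHx : H ≤ Subgroup.centralizer ({x} : Set G)) (hxH : x ∈ H) {q : ℕ}
    (hq : q ∈ ([4, 8, 16] : List ℕ)) (hH : Nat.card H = 3 * q) :
    q = 4 ∧ Nat.card (Subgroup.centralizer ({x} : Set G)) = 108 := by
  classical
  haveI : Fact (Nat.Prime 3) := ⟨Nat.prime_three⟩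
  have hreg : ¬ 13 ∣ orderOf x := by rw [hx]; norm_num
  have hx1 : x ≠ 1 := fun e => by rw [e, orderOf_one] at hx; norm_num at hx
  obtain ⟨A, C, F, hA, hC, hF, -⟩ := B.ints hreg
  obtain ⟨hsq, -⟩ := B.sq_le hreg hA hC hF
  -- an element of order three lies in an abelian subgroup of order nine
  have h9 : 9 ∣ Nat.card (Subgroup.centralizer ({x} : Set G)) := by
    obtain ⟨K, hK, hxK⟩ := Sylow.exists_subgroup_card_pow_succ (G := G) (p := 3) (n := 1)
      (by rw [hG]; norm_num) (H := Subgroup.zpowers x) (by rw [Nat.card_zpowers, hx, pow_one])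
    haveI : IsMulCommutative K := IsPGroup.isMulCommutative_of_card_eq_prime_sq (p := 3) hK
    have hle : K ≤ Subgroup.centralizer ({x} : Set G) := fun k hk =>
      Subgroup.mem_centralizer_singleton_iff.2 (congrArg Subtype.val
        ((inferInstance : IsMulCommutative K).is_comm.comm ⟨k, hk⟩ ⟨x, hxK (Subgroup.mem_zpowers x)⟩))
    have := Subgroup.card_dvd_of_le hle
    rw [hK] at this
    exact this
  -- the sum of the exceptional character over the subgroup
  haveI : Fintype H := Fintype.ofFinite H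
  set x' : H := ⟨x, hxH⟩ with hx'def
  have hx'o : orderOf x' = 3 := by rw [hx'def, Subgroup.orderOf_mk, hx]
  have hcomm : ∀ h : H, Commute h x' := fun h =>
    Subtype.ext (Subgroup.mem_centralizer_singleton_iff.1 (hHx h.2))
  set Z := Subgroup.zpowers x' with hZ
  haveI : Z.Normal := ⟨fun n hn g => by
    obtain ⟨i, rfl⟩ := hn
    show g * x' ^ i * g⁻¹ ∈ Z
    rw [((hcomm g).zpow_right i).eq, mul_inv_cancel_right]
    exact ⟨i, rfl⟩⟩
  have hZ3 : Nat.card Z = 3 := by rw [hZ, Nat.card_zpowers, hx'o]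
  have hZidx : Z.index = q := by
    have := Z.index_mul_card
    rw [hZ3, hH] at this
    omega
  have hodd : ∀ h : H, ¬ 2 ∣ orderOf (h : G) → h ∈ Z := by
    intro h hh
    rw [Subgroup.orderOf_coe] at hh
    rw [← QuotientGroup.eq_one_iff, ← orderOf_eq_one_iff]
    refine Nat.eq_one_of_dvd_coprimes ?_ (orderOf_map_dvd (QuotientGroup.mk' Z) h)
      ((_root_.orderOf_dvd_natCard _).trans (dvd_of_eq hZidx))
    have h16 : q ∣ 2 ^ 4 := by
      simp only [List.mem_cons, List.not_mem_nil, or_false] at hq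
      rcases hq with rfl | rfl | rfl <;> norm_num
    exact Nat.Coprime.coprime_dvd_right h16
      (Nat.Coprime.pow_right _ ((Nat.Prime.coprime_iff_not_dvd Nat.prime_two).2 hh).symm)
  have hx'2 : x'⁻¹ ≠ x' := fun e => by
    have h2 : x' ^ 2 = 1 := by rw [pow_two]; exact inv_eq_iff_mul_eq_one.1 e
    have := orderOf_dvd_of_pow_eq_one h2
    rw [hx'o] at this
    norm_num at this
  have hx'1 : x' ≠ 1 := fun e => hx1 (congrArg Subtype.val e)
  have hne : ∀ h : H, h ∉ ({1, x', x'⁻¹} : Finset H) → (B.θ : G → ℂ) (h : G) = 0 := by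
    intro h hh
    refine vanish B hG (not_not.1 fun hev => hh ?_)
    obtain ⟨i, hi⟩ := hodd h hev
    have hi : x' ^ i = h := hi
    rw [← hi, ← zpow_mod_orderOf, hx'o]
    have h1 := Int.emod_nonneg i (show (3 : ℤ) ≠ 0 by norm_num)
    have h2 := Int.emod_lt_of_pos i (show (0 : ℤ) < 3 by norm_num)
    simp only [Finset.mem_insert, Finset.mem_singleton]
    rcases (show i % 3 = 0 ∨ i % 3 = 1 ∨ i % 3 = 2 by omega) with e | e | e
    · exact Or.inl (by push_cast; rw [e, zpow_zero])
    · exact Or.inr (Or.inl (by push_cast; rw [e, zpow_one]))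
    · refine Or.inr (Or.inr ?_)
      push_cast
      rw [e, eq_inv_iff_mul_eq_one]
      have : x' ^ (3 : ℤ) = 1 := by
        rw [show (3 : ℤ) = ((3 : ℕ) : ℤ) by norm_num, zpow_natCast, ← hx'o, pow_orderOf_eq_one]
      rw [← zpow_add_one]; exact this
  have hθinv : (B.θ : G → ℂ) x⁻¹ = F := by
    obtain ⟨n, ρ, -, hρ⟩ := B.θ.2
    rw [← hρ, Char.character_inv, hρ, hF, map_intCast]
  obtain ⟨n, hn⟩ := (B.θ.2.isCharacter.comp H.subtype).exists_nat_classInner (one' H).2.isCharacter
  have hsum : ∑ h : H, (B.θ : G → ℂ) (h : G) = 16 + 2 * (F : ℂ) := by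
    rw [← Finset.sum_subset (Finset.subset_univ ({1, x', x'⁻¹} : Finset H)) fun h _ hh => hne h hh,
      Finset.sum_insert (by simp [hx'1, hx'1.symm]), Finset.sum_insert (by simpa using hx'2.symm),
      Finset.sum_singleton, OneMemClass.coe_one, InvMemClass.coe_inv, show (x' : G) = x from rfl, hF,
      hθinv, Block.apply_one_eq_charDegree, B.deg_θ _ B.θ_mem]
    push_cast
    ring
  simp only [classInner, one'_apply, map_one, mul_one] at hn
  have hn' : (16 + 2 * F : ℤ) = ((3 * q : ℕ) : ℤ) * (n : ℤ) := by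
    have h1 : ∑ h : H, (B.θ : G → ℂ) (h : G) = (Nat.card H : ℂ) * (n : ℂ) := by
      rw [← hn, ← mul_assoc, mul_inv_cancel₀ (Nat.cast_ne_zero.2 Nat.card_pos.ne'), one_mul]
      rfl
    rw [hsum, hH] at h1
    exact_mod_cast h1
  have hD := B.cent_dvd hG hx1 hreg
  have hqD : 3 * q ∣ Nat.card (Subgroup.centralizer ({x} : Set G)) := hH ▸ Subgroup.card_dvd_of_le hHx
  have hdf := BlockData.dvd_class hG x B.θ hF
  rw [B.deg_θ _ B.θ_mem] at hdf
  set D := Nat.card (Subgroup.centralizer ({x} : Set G))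
  have hD' : (D : ℤ) ≤ 432 := by exact_mod_cast Nat.le_of_dvd (by norm_num) hD
  have hle' : 1 + 4 * (F * F) ≤ (D : ℤ) := by linarith [mul_self_nonneg A, mul_self_nonneg C]
  have hFb : -10 ≤ F ∧ F ≤ 10 := by
    have hF2 : F * F ≤ 108 := by linarith
    constructor <;> nlinarith only [hF2]
  obtain ⟨f, hf⟩ : ∃ f : ℕ, F = (f : ℤ) - 10 := ⟨(F + 10).toNat, by clear hdf hn' hsq; omega⟩
  subst hf
  push_cast at hdf
  refine decide_three D (Nat.mem_divisors.2 ⟨hD, by norm_num⟩) f
    (List.mem_range.2 (by clear hdf hn' hsq; omega)) q hq h9 hqD hdf hle' ?_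
  rw [hn']
  push_cast
  exact Int.mul_emod_right _ _

omit [IsSimpleGroup G] in
/-- A commuting pair of involutions cannot act on a three-group with such small centralizers. -/
theorem no_klein {V : Subgroup G} {x t u : G} (hx : orderOf x = 3) (hxV : x ∈ V)
    (hV : Nat.card V = 9 ∨ Nat.card V = 27) (hcent : ∀ v ∈ V, v * x = x * v)
    (ht : t * t = 1) (hu : u * u = 1)
    (hnt : ∀ v ∈ V, t * v * t ∈ V) (hnu : ∀ v ∈ V, u * v * u ∈ V)
    (htu : t * u = u * t) (htx : t * x = x * t) (hux : u * x = x * u)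
    (hfix : ∀ k : G, k = t ∨ k = u ∨ k = t * u → ∀ v ∈ V, k * v = v * k → v ∈ Subgroup.zpowers x) :
    False := by
  classical
  set x' : V := ⟨x, hxV⟩ with hx'def
  set Z := Subgroup.zpowers x' with hZ
  haveI : Z.Normal := ⟨fun n hn g => by
    obtain ⟨i, rfl⟩ := hn
    show g * x' ^ i * g⁻¹ ∈ Z
    rw [((show Commute g x' from Subtype.ext (hcent g g.2)).zpow_right i).eq, mul_inv_cancel_right]
    exact ⟨i, rfl⟩⟩
  have hZ3 : Nat.card Z = 3 := by rw [hZ, Nat.card_zpowers, hx'def, Subgroup.orderOf_mk, hx]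
  haveI : Fact (Nat.Prime 3) := ⟨Nat.prime_three⟩
  have hab : ∀ a b : V ⧸ Z, a * b = b * a := by
    have h := Z.index_mul_card
    rw [hZ3] at h
    have hc : Nat.card (V ⧸ Z) = 3 ∨ Nat.card (V ⧸ Z) = 3 ^ 2 := by
      show Z.index = 3 ∨ Z.index = 3 ^ 2
      rcases hV with hV | hV <;> rw [hV] at h <;> omega
    rcases hc with hc | hc
    · haveI := isCyclic_of_prime_card hc
      exact fun a b => (IsCyclic.commutative (α := V ⧸ Z)).is_comm.comm a b
    · exact fun a b => (IsPGroup.isMulCommutative_of_card_eq_prime_sq hc).is_comm.comm a b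
  have hmem : ∀ v : V, v ∈ Z ↔ (v : G) ∈ Subgroup.zpowers x := by
    intro v
    constructor
    · rintro ⟨i, rfl⟩; exact ⟨i, by simp [hx'def]⟩
    · rintro ⟨i, hi⟩; exact ⟨i, Subtype.ext (by simpa [hx'def] using hi)⟩
  have hx3 : ∀ i : ℤ, x ^ i * x ^ i = 1 → x ^ i = 1 := by
    intro i hi
    rw [← zpow_add, ← orderOf_dvd_iff_zpow_eq_one, hx] at hi
    rw [← orderOf_dvd_iff_zpow_eq_one, hx]
    push_cast at hi ⊢
    omega
  -- an involution fixes an element of each coset it fixes, so inverts the quotient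
  have hinv : ∀ k : G, k = t ∨ k = u ∨ k = t * u → ∀ (v : V) (hv : k * (v : G) * k ∈ V),
      (QuotientGroup.mk (⟨_, hv⟩ : V) : V ⧸ Z) = (QuotientGroup.mk v)⁻¹ := by
    intro k hk v hv
    obtain ⟨hkk, hkx, hkV⟩ : k * k = 1 ∧ k * x = x * k ∧ ∀ v ∈ V, k * v * k ∈ V := by
      rcases hk with rfl | rfl | rfl
      · exact ⟨ht, htx, hnt⟩
      · exact ⟨hu, hux, hnu⟩
      · refine ⟨?_, ?_, fun v hv => ?_⟩
        · calc t * u * (t * u) = t * (u * t) * u := by group
            _ = t * t * (u * u) := by rw [← htu]; group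
            _ = 1 := by rw [ht, hu, one_mul]
        · rw [mul_assoc, hux, ← mul_assoc, htx, mul_assoc]
        · have := hnt _ (hnu v hv)
          rwa [show t * (u * v * u) * t = t * u * v * (u * t) by group, ← htu] at this
    set c : V := ⟨_, hv⟩ with hc
    set w : V := v * c with hw
    have hkw : k * (w : G) * k ∈ V := hkV _ w.2
    have hfixw : (QuotientGroup.mk (⟨_, hkw⟩ : V) : V ⧸ Z) = QuotientGroup.mk w := by
      have e : (⟨_, hkw⟩ : V) = c * v := by
        apply Subtype.ext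
        show k * ((v : G) * (k * (v : G) * k)) * k = k * (v : G) * k * (v : G)
        calc k * ((v : G) * (k * (v : G) * k)) * k = k * (v : G) * k * ((v : G) * (k * k)) := by group
          _ = k * (v : G) * k * (v : G) := by rw [hkk, mul_one]
      rw [e, hw, QuotientGroup.mk_mul, QuotientGroup.mk_mul]
      exact hab _ _
    have hwZ : w ∈ Z := by
      rw [QuotientGroup.eq, hmem] at hfixw
      obtain ⟨i, hi⟩ := hfixw
      have hi : x ^ i = (k * (w : G) * k)⁻¹ * (w : G) := hi
      have hcx : Commute k (x ^ i) := (show Commute k x from hkx).zpow_right i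
      have h1 : k * (w : G) * k * x ^ i = (w : G) := by rw [hi]; group
      have h2 : x ^ i = 1 := by
        apply hx3
        have h3 : k * (k * (w : G) * k * x ^ i) * k = (w : G) * (x ^ i) := by
          calc k * (k * (w : G) * k * x ^ i) * k = k * k * (w : G) * (k * x ^ i * k) := by group
            _ = (w : G) * (x ^ i) := by
              rw [hkk, one_mul, hcx.eq, mul_assoc, hkk, mul_one]
        rw [h1] at h3
        have h4 : (w : G) * (x ^ i * x ^ i) = (w : G) := by
          rw [← mul_assoc, ← h3, h1]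
        exact mul_left_cancel (h4.trans (mul_one _).symm)
      rw [h2, mul_one] at h1
      refine (hmem w).2 (hfix k hk w w.2 ?_)
      calc k * (w : G) = k * (w : G) * (k * k) := by rw [hkk, mul_one]
        _ = (k * (w : G) * k) * k := by group
        _ = (w : G) * k := by rw [h1]
    rw [eq_inv_iff_mul_eq_one, hab, ← QuotientGroup.mk_mul, QuotientGroup.eq_one_iff]
    exact hwZ
  have hall : ∀ v : V, v ∈ Z := by
    intro v
    have h1 : u * (v : G) * u ∈ V := hnu v v.2
    have h2 : t * (u * (v : G) * u) * t ∈ V := hnt _ h1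
    have h3 : t * u * (v : G) * (t * u) ∈ V := by
      rwa [show t * (u * (v : G) * u) * t = t * u * (v : G) * (u * t) by group, ← htu] at h2
    have e1 := hinv u (Or.inr (Or.inl rfl)) v h1
    have e2 := hinv t (Or.inl rfl) ⟨_, h1⟩ h2
    have e3 := hinv (t * u) (Or.inr (Or.inr rfl)) v h3
    have e4 : (⟨_, h2⟩ : V) = ⟨_, h3⟩ := Subtype.ext (by
      show t * (u * (v : G) * u) * t = t * u * (v : G) * (t * u)
      rw [show t * (u * (v : G) * u) * t = t * u * (v : G) * (u * t) by group, ← htu])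
    rw [e1, inv_inv, e4, e3] at e2
    rw [← QuotientGroup.eq_one_iff]
    have hsq : (QuotientGroup.mk v : V ⧸ Z) ^ 2 = 1 := by
      rw [pow_two]
      exact inv_eq_iff_mul_eq_one.1 e2
    refine orderOf_eq_one_iff.1 (Nat.eq_one_of_dvd_coprimes (show Nat.Coprime 2 27 by norm_num)
      (orderOf_dvd_of_pow_eq_one hsq) ((orderOf_map_dvd (QuotientGroup.mk' Z) v).trans
        ((_root_.orderOf_dvd_natCard v).trans ?_)))
    rcases hV with hV | hV <;> rw [hV]
    norm_num
  have : Z = ⊤ := eq_top_iff.2 fun v _ => hall v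
  rw [this, Subgroup.card_top] at hZ3
  omega

omit [IsSimpleGroup G] in
/-- The order of a Sylow normalizer. -/
theorem normalizerCard {H : Type*} [Group H] [Finite H] {p : ℕ} [Fact p.Prime] (P : Sylow p H) {n N s : ℕ}
    (hn : Nat.card H = n) (hs : Nat.card (Sylow p H) = s) (hN : n = s * N) :
    Nat.card (Subgroup.normalizer ((P : Subgroup H) : Set H)) = N := by
  have h := card_normalizer_mul P
  rw [hs, hn, hN] at h
  exact Nat.eq_of_mul_eq_mul_left (Nat.pos_of_ne_zero fun h0 => by
    rw [← hs] at h0; exact (Nat.card_pos (α := Sylow p H)).ne' h0) h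

/-- The regular four-group in the symmetric group of degree four. -/
def klein : Subgroup (Equiv.Perm (Fin 4)) where
  carrier := {σ | σ = 1 ∨ (σ * σ = 1 ∧ ∀ i, σ i ≠ i)}
  one_mem' := Or.inl rfl
  mul_mem' := by
    show ∀ {a b : Equiv.Perm (Fin 4)}, (a = 1 ∨ (a * a = 1 ∧ ∀ i, a i ≠ i)) →
      (b = 1 ∨ (b * b = 1 ∧ ∀ i, b i ≠ i)) → a * b = 1 ∨ (a * b * (a * b) = 1 ∧ ∀ i, (a * b) i ≠ i)
    decide +kernel
  inv_mem' := by
    show ∀ {a : Equiv.Perm (Fin 4)}, (a = 1 ∨ (a * a = 1 ∧ ∀ i, a i ≠ i)) →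
      a⁻¹ = 1 ∨ (a⁻¹ * a⁻¹ = 1 ∧ ∀ i, a⁻¹ i ≠ i)
    decide +kernel

theorem mem_klein {σ : Equiv.Perm (Fin 4)} :
    σ ∈ klein ↔ σ = 1 ∨ (σ * σ = 1 ∧ ∀ i, σ i ≠ i) := Iff.rfl

theorem klein_normal : klein.Normal :=
  ⟨fun n hn g => (show ∀ n g : Equiv.Perm (Fin 4), (n = 1 ∨ (n * n = 1 ∧ ∀ i, n i ≠ i)) →
    g * n * g⁻¹ = 1 ∨ (g * n * g⁻¹ * (g * n * g⁻¹) = 1 ∧ ∀ i, (g * n * g⁻¹) i ≠ i) by decide +kernel)
      n g hn⟩

theorem klein_card : Nat.card klein = 4 := by
  rw [show Nat.card klein = Nat.card {σ : Equiv.Perm (Fin 4) // σ = 1 ∨ (σ * σ = 1 ∧ ∀ i, σ i ≠ i)} from rfl,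
    Nat.card_eq_fintype_card]
  decide +kernel

theorem klein_conj : ∀ a b : Equiv.Perm (Fin 4), (a * a = 1 ∧ ∀ i, a i ≠ i) →
    (b * b = 1 ∧ ∀ i, b i ≠ i) → ∃ g, g * a * g⁻¹ = b := by
  decide +kernel

theorem klein_centralizer : ∀ a : Equiv.Perm (Fin 4),
    (∀ b : Equiv.Perm (Fin 4), (b = 1 ∨ (b * b = 1 ∧ ∀ i, b i ≠ i)) → b * a = a * b) →
    a = 1 ∨ (a * a = 1 ∧ ∀ i, a i ≠ i) := by
  decide +kernel

theorem swap_three : orderOf (Equiv.swap (0 : Fin 4) 1 * Equiv.swap 1 2) = 3 := by
  haveI : Fact (Nat.Prime 3) := ⟨Nat.prime_three⟩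
  exact orderOf_eq_prime (by decide +kernel) (by decide +kernel)

include B hG in
/-- The centralizer of an involution. -/
theorem centralizer_equiv {t : G} (ht : orderOf t = 2) :
    Nonempty (Subgroup.centralizer ({t} : Set G) ≃* GL (Fin 2) (ZMod 3)) := by
  classical
  haveI : Fact (Nat.Prime 3) := ⟨Nat.prime_three⟩
  haveI : Fact (Nat.Prime 2) := ⟨Nat.prime_two⟩
  have hC := (B.invol hG ht).1
  set C := Subgroup.centralizer ({t} : Set G) with hCdef
  have htt : t * t = 1 := by rw [← pow_two, ← ht, pow_orderOf_eq_one]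
  have ht1 : t ≠ 1 := fun e => by rw [e, orderOf_one] at ht; norm_num at ht
  let t' : C := ⟨t, Subgroup.mem_centralizer_singleton_iff.2 rfl⟩
  have ht'o : orderOf t' = 2 := by rw [Subgroup.orderOf_mk, ht]
  have hcen : ∀ c : C, c * t' = t' * c := fun c =>
    Subtype.ext (Subgroup.mem_centralizer_singleton_iff.1 c.2)
  -- the Sylow three-subgroups
  have hU3 : ∀ U : Sylow 3 C, Nat.card (U : Subgroup C) = 3 := fun U => by
    rw [card_sylow 1 16 (by rw [hC]; norm_num) (by norm_num) U, pow_one]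
  have hn3 : Nat.card (Sylow 3 C) = 4 := by
    obtain ⟨hd, hmod⟩ := sylow_facts (G := C) (p := 3) 1 16 (by rw [hC]; norm_num) (by norm_num)
    rcases (show ∀ d ∈ Nat.divisors 16, d % 3 = 1 → d = 1 ∨ d = 4 ∨ d = 16 by decide +kernel) _
      (Nat.mem_divisors.2 ⟨hd, by norm_num⟩) hmod with h1 | h4 | h16
    · exfalso
      obtain ⟨U⟩ : Nonempty (Sylow 3 C) := inferInstance
      obtain ⟨⟨x, hxU⟩, hxo⟩ := exists_prime_orderOf_dvd_card' (G := (U : Subgroup C)) 3 (by rw [hU3])
      rw [Subgroup.orderOf_mk] at hxo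
      have hN : Nat.card (Subgroup.normalizer ((U : Subgroup C) : Set C)) = 48 :=
        normalizerCard U hC h1 (by norm_num)
      have hrel := relIndex_centralizer_dvd (G := C) (U : Subgroup C) (hU3 U)
      have hmul := Subgroup.card_mul_index ((Subgroup.centralizer ((U : Subgroup C) : Set C)).subgroupOf
        (Subgroup.normalizer ((U : Subgroup C) : Set C)))
      rw [Nat.card_congr (Subgroup.subgroupOfEquivOfLe (Subgroup.centralizer_le_normalizer _)).toEquiv,
        hN] at hmul
      set H := (Subgroup.centralizer ((U : Subgroup C) : Set C)).map C.subtype with hH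
      have hHc : Nat.card H = Nat.card (Subgroup.centralizer ((U : Subgroup C) : Set C)) :=
        Subgroup.card_map_of_injective C.subtype_injective
      have hzx : Subgroup.zpowers x = (U : Subgroup C) :=
        zpowers_eq_of_prime_card (hU3 U) hxU fun e => by rw [e, orderOf_one] at hxo; norm_num at hxo
      have hHx : H ≤ Subgroup.centralizer ({(x : G)} : Set G) := by
        rintro _ ⟨c, hc, rfl⟩
        rw [SetLike.mem_coe, ← hzx, centralizer_zpowers] at hc
        exact Subgroup.mem_centralizer_singleton_iff.2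
          (congrArg Subtype.val (Subgroup.mem_centralizer_singleton_iff.1 hc))
      have hxH : (x : G) ∈ H := ⟨x, by
        rw [SetLike.mem_coe, ← hzx, centralizer_zpowers]
        exact Subgroup.mem_centralizer_singleton_iff.2 rfl, rfl⟩
      rcases (Nat.dvd_prime Nat.prime_two).1 (show (Subgroup.centralizer ((U : Subgroup C) : Set C)).relIndex
        (Subgroup.normalizer ((U : Subgroup C) : Set C)) ∣ 2 from hrel) with e | e <;>
        rw [Subgroup.relIndex] at e <;> rw [e] at hmul
      · have := (three B hG (x := (x : G)) (by rw [Subgroup.orderOf_coe, hxo]) hHx hxH (q := 16)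
          (by simp) (by rw [hHc]; omega)).1
        norm_num at this
      · have := (three B hG (x := (x : G)) (by rw [Subgroup.orderOf_coe, hxo]) hHx hxH (q := 8)
          (by simp) (by rw [hHc]; omega)).1
        norm_num at this
    · exact h4
    · exfalso
      obtain ⟨U⟩ : Nonempty (Sylow 3 C) := inferInstance
      have hN : Nat.card (Subgroup.normalizer ((U : Subgroup C) : Set C)) = 3 :=
        normalizerCard U hC h16 (by norm_num)
      have h2 : orderOf t' ∣ 3 := hN ▸ Subgroup.orderOf_dvd_natCard _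
        (Subgroup.centralizer_le_normalizer _ (Subgroup.mem_centralizer_iff.2 fun y _ => hcen y))
      rw [ht'o] at h2
      norm_num at h2
  let e4 : Sylow 3 C ≃ Fin 4 := Finite.equivFinOfCardEq hn3
  let φ : C →* Equiv.Perm (Fin 4) :=
    e4.permCongrHom.toMonoidHom.comp (MulAction.toPermHom C (Sylow 3 C))
  set L := φ.ker with hLdef
  have hLmem : ∀ {c : C}, c ∈ L ↔ ∀ U : Sylow 3 C, c ∈ Subgroup.normalizer ((U : Subgroup C) : Set C) := by
    intro c
    rw [hLdef, MonoidHom.mem_ker]
    show e4.permCongrHom (MulAction.toPermHom C (Sylow 3 C) c) = 1 ↔ _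
    rw [map_eq_one_iff _ e4.permCongrHom.injective]
    constructor
    · exact fun h U => Sylow.smul_eq_iff_mem_normalizer.1 (congrArg (fun f : Equiv.Perm _ => f U) h)
    · exact fun h => Equiv.ext fun U => Sylow.smul_eq_iff_mem_normalizer.2 (h U)
  have htL : t' ∈ L := hLmem.2 fun U =>
    Subgroup.centralizer_le_normalizer _ (Subgroup.mem_centralizer_iff.2 fun y _ => hcen y)
  have hU12 : ∀ U : Sylow 3 C, Nat.card (Subgroup.normalizer ((U : Subgroup C) : Set C)) = 12 :=
    fun U => normalizerCard U hC hn3 (by norm_num)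
  obtain ⟨U₀⟩ : Nonempty (Sylow 3 C) := inferInstance
  have hL12 : Nat.card L ∣ 12 := hU12 U₀ ▸ Subgroup.card_dvd_of_le (fun c hc => hLmem.1 hc U₀)
  have hL3 : ¬ 3 ∣ Nat.card L := by
    intro h3
    obtain ⟨⟨y, hyL⟩, hyo⟩ := exists_prime_orderOf_dvd_card' (G := L) 3 h3
    rw [Subgroup.orderOf_mk] at hyo
    obtain ⟨Y, hY⟩ := exists_sylow_eq_zpowers hU3 hyo
    have hall : ∀ U : Sylow 3 C, U = Y := fun U => by
      haveI : Unique (Sylow 3 (Subgroup.normalizer ((U : Subgroup C) : Set C))) := by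
        haveI := Subgroup.normal_in_normalizer (H := (U : Subgroup C))
        exact Sylow.unique_of_normal (U.subtype Subgroup.le_normalizer) (by rwa [Sylow.coe_subtype])
      have hYN : (Y : Subgroup C) ≤ Subgroup.normalizer ((U : Subgroup C) : Set C) := by
        rw [hY, Subgroup.zpowers_le]; exact hLmem.1 hyL U
      have h := congrArg (fun T : Sylow 3 (Subgroup.normalizer ((U : Subgroup C) : Set C)) =>
        (T : Subgroup (Subgroup.normalizer ((U : Subgroup C) : Set C)))) (Subsingleton.elim (U.subtype Subgroup.le_normalizer) (Y.subtype hYN))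
      simp only [Sylow.coe_subtype, Subgroup.subgroupOf_inj, inf_eq_left.2 hYN,
        inf_eq_left.2 (Subgroup.le_normalizer : (U : Subgroup C) ≤ _)] at h
      exact Sylow.ext h
    haveI : Subsingleton (Sylow 3 C) := ⟨fun a b => (hall a).trans (hall b).symm⟩
    have := Finite.card_le_one_iff_subsingleton.2 this
    omega
  have hrange : Nat.card φ.range * Nat.card L = 48 := by
    rw [← hC, ← Subgroup.index_mul_card L, hLdef, Subgroup.index_ker]
  have hrange24 : Nat.card φ.range ∣ 24 := by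
    have := φ.range.card_subgroup_dvd_card
    rwa [Nat.card_perm, Nat.card_fin] at this
  have hLcases : Nat.card L = 2 ∨ Nat.card L = 4 := by
    have h2 : 2 ∣ Nat.card L := ht'o ▸ Subgroup.orderOf_dvd_natCard _ htL
    have hle := Nat.le_of_dvd (by norm_num) hL12
    generalize Nat.card L = l at hL12 hL3 h2 hle ⊢
    interval_cases l <;> omega
  have hLcent : ∀ (U : Sylow 3 C), ∀ a ∈ (U : Subgroup C), ∀ k ∈ L, k * a = a * k := by
    intro U a ha k hk
    haveI : L.Normal := MonoidHom.normal_ker φ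
    have h1 : k * a * k⁻¹ * a⁻¹ ∈ (U : Subgroup C) :=
      mul_mem ((Subgroup.mem_normalizer_iff.1 (hLmem.1 hk U) a).1 ha) (inv_mem ha)
    have h2 : k * a * k⁻¹ * a⁻¹ ∈ L := by
      rw [show k * a * k⁻¹ * a⁻¹ = k * (a * k⁻¹ * a⁻¹) by group]
      exact mul_mem hk (‹L.Normal›.conj_mem _ (inv_mem hk) a)
    have h3 : orderOf (k * a * k⁻¹ * a⁻¹) = 1 := Nat.eq_one_of_dvd_coprimes
      ((Nat.Prime.coprime_iff_not_dvd Nat.prime_three).2 hL3)
      (hU3 U ▸ Subgroup.orderOf_dvd_natCard _ h1) (Subgroup.orderOf_dvd_natCard _ h2)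
    rw [orderOf_eq_one_iff, mul_inv_eq_one, mul_inv_eq_iff_eq_mul] at h3
    exact h3
  rcases hLcases with hL | hL
  swap
  · -- the kernel of order four is central, which is impossible
    exfalso
    haveI : IsMulCommutative L := IsPGroup.isMulCommutative_of_card_eq_prime_sq (p := 2) (by rw [hL]; norm_num)
    have hLL : ∀ a ∈ L, ∀ b ∈ L, a * b = b * a := fun a ha b hb =>
      congrArg Subtype.val ((inferInstance : IsMulCommutative L).is_comm.comm ⟨a, ha⟩ ⟨b, hb⟩)
    by_cases hex : ∃ s ∈ L, s * s ≠ 1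
    · obtain ⟨s, hsL, hss⟩ := hex
      have hs4 : orderOf s = 4 := by
        have h1 := Subgroup.orderOf_dvd_natCard _ hsL
        rw [hL] at h1
        obtain ⟨i, hi, hie⟩ := (Nat.dvd_prime_pow Nat.prime_two).1 (show orderOf s ∣ 2 ^ 2 from h1)
        interval_cases i
        · rw [orderOf_eq_one_iff.1 (hie.trans (pow_zero 2)), one_mul] at hss; exact absurd rfl hss
        · exact absurd (by rw [← pow_two, ← (hie.trans (pow_one 2)), pow_orderOf_eq_one]) hss
        · rw [hie]; norm_num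
      -- its centralizer in `C` is everything
      set D := Subgroup.centralizer ({s} : Set C) with hD
      have hLD : L ≤ D := fun a ha => Subgroup.mem_centralizer_singleton_iff.2 (hLL a ha s hsL)
      have hUD : ∀ U : Sylow 3 C, (U : Subgroup C) ≤ D := fun U a ha =>
        Subgroup.mem_centralizer_singleton_iff.2 (hLcent U a ha s hsL).symm
      let f : Sylow 3 C → Sylow 3 D := fun U => U.subtype (hUD U)
      have hf : Function.Injective f := fun a b h => by
        have h := congrArg (fun T : Sylow 3 D => (T : Subgroup D)) h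
        simp only [f, Sylow.coe_subtype, Subgroup.subgroupOf_inj, inf_eq_left.2 (hUD a),
          inf_eq_left.2 (hUD b)] at h
        exact Sylow.ext h
      have hn3D : 4 ≤ Nat.card (Sylow 3 D) := hn3 ▸ Nat.card_le_card_of_injective f hf
      have hND := card_normalizer_mul (f U₀)
      have h12 : 12 ≤ Nat.card (Subgroup.normalizer ((f U₀ : Subgroup D) : Set D)) := by
        have hNle : Subgroup.normalizer ((U₀ : Subgroup C) : Set C) ≤ D := by
          have hsup : L ⊔ (U₀ : Subgroup C) ≤ D := sup_le hLD (hUD U₀)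
          refine le_trans (le_of_eq ?_) hsup
          refine (Subgroup.eq_of_le_of_card_ge (sup_le (fun c hc => hLmem.1 hc U₀) Subgroup.le_normalizer) ?_).symm
          rw [hU12]
          refine Nat.le_of_dvd Nat.card_pos ?_
          have h4 : 4 ∣ Nat.card ↥(L ⊔ (U₀ : Subgroup C)) := (dvd_of_eq hL.symm).trans (Subgroup.card_dvd_of_le le_sup_left)
          have h3 : 3 ∣ Nat.card ↥(L ⊔ (U₀ : Subgroup C)) := (dvd_of_eq (hU3 U₀).symm).trans (Subgroup.card_dvd_of_le le_sup_right)
          exact Nat.Coprime.mul_dvd_of_dvd_of_dvd (by norm_num : Nat.Coprime 4 3) h4 h3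
        show 12 ≤ Nat.card (Subgroup.normalizer (((U₀ : Subgroup C).subgroupOf D : Subgroup D) : Set D))
        rw [← Subgroup.subgroupOf_normalizer_eq (hUD U₀),
          Nat.card_congr (Subgroup.subgroupOfEquivOfLe hNle).toEquiv, hU12]
      have hD48 : 48 ≤ Nat.card D := by
        rw [← hND]; exact Nat.mul_le_mul hn3D h12
      have hDtop : D = ⊤ := Subgroup.eq_top_of_le_card D (by omega)
      have hs2 : (s : G) * s = t := by
        have h2 : orderOf (s ^ 2) = 2 := by rw [orderOf_pow, hs4]; norm_num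
        by_contra hne
        have hne' : s ^ 2 ≠ t' := fun e => hne (by rw [← pow_two]; exact congrArg Subtype.val e)
        set K := Subgroup.zpowers s with hK
        have hKL : K = L := Subgroup.eq_of_le_of_card_ge (Subgroup.zpowers_le.2 hsL)
          (by rw [hK, Nat.card_zpowers, hs4, hL])
        obtain ⟨i, hi⟩ : t' ∈ K := hKL ▸ htL
        have hi : s ^ i = t' := hi
        rw [← zpow_mod_orderOf, hs4] at hi
        have h1 := Int.emod_nonneg i (show ((4 : ℕ) : ℤ) ≠ 0 by norm_num)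
        have h1' := Int.emod_lt_of_pos i (show (0 : ℤ) < ((4 : ℕ) : ℤ) by norm_num)
        have ht22 : t' ^ 2 = 1 := by rw [← ht'o, pow_orderOf_eq_one]
        rcases (show i % ((4 : ℕ) : ℤ) = 0 ∨ i % ((4 : ℕ) : ℤ) = 1 ∨ i % ((4 : ℕ) : ℤ) = 2 ∨
            i % ((4 : ℕ) : ℤ) = 3 by omega) with e | e | e | e <;> rw [e] at hi
        · rw [zpow_zero] at hi; rw [← hi, orderOf_one] at ht'o; norm_num at ht'o
        · rw [zpow_one] at hi; rw [← hi, hs4] at ht'o; norm_num at ht'o
        · exact hne' (by rw [← hi]; exact (zpow_natCast s 2).symm)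
        · rw [show (3 : ℤ) = ((3 : ℕ) : ℤ) by norm_num, zpow_natCast] at hi
          rw [← hi, orderOf_pow, hs4] at ht'o
          norm_num at ht'o
      have hCs : Subgroup.centralizer ({(s : G)} : Set G) = C := by
        refine le_antisymm (fun c hc => ?_) fun c hc => ?_
        · rw [Subgroup.mem_centralizer_singleton_iff] at hc
          exact Subgroup.mem_centralizer_singleton_iff.2
            (hs2 ▸ (show Commute c (s : G) from hc).mul_right (show Commute c (s : G) from hc))
        · have h : (⟨c, hc⟩ : C) ∈ D := hDtop ▸ Subgroup.mem_top _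
          exact Subgroup.mem_centralizer_singleton_iff.2
            (congrArg Subtype.val (Subgroup.mem_centralizer_singleton_iff.1 h))
      have hconj := B.isConj_of_48 hG (g := (s : G)) (h := t)
        (by rw [Subgroup.orderOf_coe, hs4]; norm_num) (by rw [ht]; norm_num) (by rw [hCs, hC]) hC
      obtain ⟨c, hc⟩ := isConj_iff.1 hconj
      rw [← hc, show orderOf (c * (s : G) * c⁻¹) = orderOf (s : G) from (MulAut.conj c).orderOf_eq _,
        Subgroup.orderOf_coe, hs4] at ht
      norm_num at ht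
    · push Not at hex
      obtain ⟨⟨x, hxU⟩, hxo⟩ := exists_prime_orderOf_dvd_card' (G := (U₀ : Subgroup C)) 3 (by rw [hU3])
      rw [Subgroup.orderOf_mk] at hxo
      obtain ⟨u, huL, hut, hu1⟩ : ∃ u ∈ L, u ≠ t' ∧ u ≠ 1 := by
        by_contra hne
        push Not at hne
        have hsub : (L : Set C) ⊆ {t', 1} := fun u hu => by
          by_cases e : u = t'
          · exact Or.inl e
          · exact Or.inr (hne u hu e)
        have h1 := Set.ncard_le_ncard hsub (Set.toFinite _)
        have h3 : ({t', 1} : Set C).ncard ≤ 2 := by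
          refine (Set.ncard_insert_le _ _).trans ?_
          rw [Set.ncard_singleton]
        rw [← Nat.card_coe_set_eq] at h1
        change Nat.card L ≤ _ at h1
        omega
      set H := ((L ⊔ (U₀ : Subgroup C)) : Subgroup C).map C.subtype with hH
      have hHc : Nat.card H = 12 := by
        rw [hH, Subgroup.card_map_of_injective C.subtype_injective]
        refine Nat.dvd_antisymm ?_ ?_
        · exact hU12 U₀ ▸ Subgroup.card_dvd_of_le
            (sup_le (fun c hc => hLmem.1 hc U₀) Subgroup.le_normalizer)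
        · exact Nat.Coprime.mul_dvd_of_dvd_of_dvd (by norm_num : Nat.Coprime 4 3)
            ((dvd_of_eq hL.symm).trans (Subgroup.card_dvd_of_le le_sup_left))
            ((dvd_of_eq (hU3 U₀).symm).trans (Subgroup.card_dvd_of_le le_sup_right))
      have hHx : H ≤ Subgroup.centralizer ({(x : G)} : Set G) := by
        rw [hH, Subgroup.map_le_iff_le_comap]
        refine sup_le (fun a ha => ?_) fun a ha => ?_
        · exact Subgroup.mem_centralizer_singleton_iff.2 (congrArg (fun c : C => (c : G)) (hLcent U₀ x hxU a ha) :)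
        · haveI : IsCyclic (U₀ : Subgroup C) := isCyclic_of_prime_card (hU3 U₀)
          refine Subgroup.mem_centralizer_singleton_iff.2 (?_ : (a : G) * (x : G) = (x : G) * (a : G))
          exact congrArg (fun c : (U₀ : Subgroup C) => ((c : C) : G))
            ((IsCyclic.commutative (α := (U₀ : Subgroup C))).is_comm.comm ⟨a, ha⟩ ⟨x, hxU⟩)
      have hxo' : orderOf (x : G) = 3 := by rw [Subgroup.orderOf_coe, hxo]
      obtain ⟨-, h108⟩ := three B hG hxo' hHx ⟨x, Subgroup.mem_sup_right hxU, rfl⟩ (q := 4) (by simp) hHc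
      set D := Subgroup.centralizer ({(x : G)} : Set G) with hDdef
      obtain ⟨T⟩ : Nonempty (Sylow 3 D) := inferInstance
      have hT27 : Nat.card (T : Subgroup D) = 27 := by
        rw [card_sylow 3 4 (by rw [h108]; norm_num) (by norm_num) T]; norm_num
      set V₀ := (T : Subgroup D).normalCore with hV₀
      have hV₀27 : Nat.card V₀ ∣ 27 := hT27 ▸ Subgroup.card_dvd_of_le (Subgroup.normalCore_le _)
      have hidx : V₀.index ∣ 24 := by
        rw [hV₀, Subgroup.normalCore_eq_ker, Subgroup.index_ker]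
        have h := (MulAction.toPermHom D (D ⧸ (T : Subgroup D))).range.card_subgroup_dvd_card
        have hi : Nat.card (D ⧸ (T : Subgroup D)) = 4 := by
          have := (T : Subgroup D).index_mul_card
          rw [hT27, h108] at this
          show (T : Subgroup D).index = 4
          omega
        rwa [Nat.card_perm, hi] at h
      have hV₀c : Nat.card V₀ = 9 ∨ Nat.card V₀ = 27 := by
        have hmul := V₀.index_mul_card
        rw [h108] at hmul
        obtain ⟨i, hi, hie⟩ := (Nat.dvd_prime_pow Nat.prime_three).1 (show Nat.card V₀ ∣ 3 ^ 3 from hV₀27)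
        have hle := Nat.le_of_dvd (by norm_num) hidx
        rw [hie] at hmul ⊢
        interval_cases i <;> omega
      have hxD : (x : G) ∈ D := Subgroup.mem_centralizer_singleton_iff.2 rfl
      have hxV : (⟨(x : G), hxD⟩ : D) ∈ V₀ := by
        have hcenx : ∀ g : D, g * ⟨(x : G), hxD⟩ = ⟨(x : G), hxD⟩ * g := fun g =>
          Subtype.ext (Subgroup.mem_centralizer_singleton_iff.1 g.2)
        haveI hZn : (Subgroup.zpowers (⟨(x : G), hxD⟩ : D)).Normal := ⟨fun n hn g => by
          obtain ⟨i, rfl⟩ := hn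
          show g * _ * g⁻¹ ∈ _
          rw [((show Commute g ⟨(x : G), hxD⟩ from hcenx g).zpow_right i).eq, mul_inv_cancel_right]
          exact ⟨i, rfl⟩⟩
        obtain ⟨T', hT'⟩ := (IsPGroup.of_card (p := 3) (n := 1) (G := Subgroup.zpowers (⟨(x : G), hxD⟩ : D))
          (by rw [Nat.card_zpowers, Subgroup.orderOf_mk, hxo', pow_one])).exists_le_sylow
        obtain ⟨g, hg⟩ := MulAction.exists_smul_eq D T' T
        have hle : Subgroup.zpowers (⟨(x : G), hxD⟩ : D) ≤ (T : Subgroup D) := by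
          rw [← hg]
          intro y hy
          have hy' : g⁻¹ * y * g ∈ Subgroup.zpowers (⟨(x : G), hxD⟩ : D) := by
            simpa using hZn.conj_mem y hy g⁻¹
          refine ⟨g⁻¹ * y * g, hT' hy', ?_⟩
          show g * (g⁻¹ * y * g) * g⁻¹ = y
          group
        exact Subgroup.normal_le_normalCore.2 hle (Subgroup.mem_zpowers _)
      set V := V₀.map D.subtype with hV
      have hVc : Nat.card V = 9 ∨ Nat.card V = 27 := by
        rw [hV, Subgroup.card_map_of_injective D.subtype_injective]; exact hV₀c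
      have hmemD : ∀ a ∈ L, ((a : C) : G) ∈ D := fun a ha =>
        hHx ⟨a, Subgroup.mem_sup_left ha, rfl⟩
      have hsq : ∀ a ∈ L, ((a : C) : G) * (a : G) = 1 := fun a ha =>
        congrArg Subtype.val (hex a ha)
      have hnorm : ∀ a ∈ L, ∀ v ∈ V, ((a : C) : G) * v * (a : G) ∈ V := by
        rintro a ha _ ⟨v, hv, rfl⟩
        refine ⟨⟨(a : G), hmemD a ha⟩ * v * ⟨(a : G), hmemD a ha⟩⁻¹,
          (Subgroup.normalCore_normal (T : Subgroup D)).conj_mem v hv _, ?_⟩
        show (a : G) * (v : G) * (a : G)⁻¹ = (a : G) * (v : G) * (a : G)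
        rw [inv_eq_of_mul_eq_one_right (hsq a ha)]
      have hfix : ∀ k ∈ L, k ≠ 1 → ∀ v ∈ V, ((k : C) : G) * v = v * (k : G) →
          v ∈ Subgroup.zpowers (x : G) := by
        intro k hk hk1 v hv hcomm
        have hko : orderOf (k : G) = 2 := by
          rw [Subgroup.orderOf_coe]
          exact orderOf_eq_prime (by rw [pow_two]; exact hex k hk) hk1
        set M := V ⊓ Subgroup.centralizer ({(k : G)} : Set G) with hM
        have hM3 : Nat.card M ∣ 3 := by
          have h1 := Subgroup.card_dvd_of_le (inf_le_left : M ≤ V)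
          have h2 := Subgroup.card_dvd_of_le (inf_le_right : M ≤ Subgroup.centralizer ({(k : G)} : Set G))
          rw [(B.invol hG hko).1] at h2
          have h3 : Nat.card V ∣ 27 := by rcases hVc with e | e <;> rw [e] <;> norm_num
          exact (Nat.dvd_gcd (h1.trans h3) h2).trans (by norm_num)
        have hxM : (x : G) ∈ M := ⟨⟨⟨(x : G), hxD⟩, hxV, rfl⟩,
          Subgroup.mem_centralizer_singleton_iff.2
            (Subgroup.mem_centralizer_singleton_iff.1 (hmemD k hk)).symm⟩
        have : Subgroup.zpowers (x : G) = M := Subgroup.eq_of_le_of_card_ge (Subgroup.zpowers_le.2 hxM)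
          (by rw [Nat.card_zpowers, hxo']; exact Nat.le_of_dvd (by norm_num) hM3)
        rw [this]
        exact ⟨hv, Subgroup.mem_centralizer_singleton_iff.2 hcomm.symm⟩
      refine no_klein (V := V) (x := (x : G)) (t := t) (u := (u : G)) hxo' ⟨⟨(x : G), hxD⟩, hxV, rfl⟩ hVc
        ?_ htt (hsq u huL) (hnorm t' htL) (hnorm u huL) ?_
        (Subgroup.mem_centralizer_singleton_iff.1 (hmemD t' htL))
        (Subgroup.mem_centralizer_singleton_iff.1 (hmemD u huL)) ?_
      · rintro _ ⟨v, -, rfl⟩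
        exact Subgroup.mem_centralizer_singleton_iff.1 v.2
      · exact congrArg Subtype.val (hLL t' htL u huL)
      · rintro k (rfl | rfl | rfl)
        · exact hfix t' htL fun e => ht1 (congrArg Subtype.val e)
        · exact hfix u huL hu1
        · refine hfix (t' * u) (mul_mem htL huL) fun e => hut ?_
          exact ((mul_eq_one_iff_eq_inv.1 e).trans (inv_eq_of_mul_eq_one_right (hex u huL))).symm
  -- the kernel of order two
  have hsurj : Function.Surjective φ := by
    rw [← MonoidHom.range_eq_top]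
    refine Subgroup.eq_top_of_card_eq _ ?_
    rw [hL] at hrange
    rw [Nat.card_perm, Nat.card_fin]
    show Nat.card φ.range = Nat.factorial 4
    rw [show Nat.factorial 4 = 24 by decide]
    omega
  have hLt : ∀ a ∈ L, a = 1 ∨ a = t' := by
    intro a ha
    have hz : Subgroup.zpowers t' = L := zpowers_eq_of_prime_card hL htL
      fun e => ht1 (congrArg Subtype.val e)
    rw [← hz] at ha
    obtain ⟨i, rfl⟩ := ha
    show t' ^ i = 1 ∨ t' ^ i = t'
    rw [← zpow_mod_orderOf, ht'o]
    rcases Int.emod_two_eq_zero_or_one i with e | e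
    · left; rw [show ((2 : ℕ) : ℤ) = 2 from rfl, e, zpow_zero]
    · right; rw [show ((2 : ℕ) : ℤ) = 2 from rfl, e, zpow_one]
  haveI : klein.Normal := klein_normal
  set Q := klein.comap φ with hQdef
  haveI hQn : Q.Normal := Subgroup.Normal.comap inferInstance φ
  have hQc : Nat.card Q = 8 := by
    have h1 := Q.index_mul_card
    rw [hQdef, Subgroup.index_comap_of_surjective _ hsurj, ← hQdef, hC] at h1
    have h2 := klein.index_mul_card
    rw [klein_card, Nat.card_perm, Nat.card_fin, show Nat.factorial 4 = 24 by decide] at h2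
    have : klein.index = 6 := by omega
    rw [this] at h1
    omega
  have ht'Q : t' ∈ Q := by
    rw [hQdef, Subgroup.mem_comap, MonoidHom.mem_ker.1 htL]; exact one_mem _
  have hCQ : Subgroup.centralizer (Q : Set C) ≤ Q := by
    intro c hc
    refine klein_centralizer (φ c) fun b hb => ?_
    obtain ⟨q, rfl⟩ := hsurj b
    rw [← map_mul, ← map_mul, Subgroup.mem_centralizer_iff.1 hc q hb]
  by_cases hinv : ∃ v ∈ Q, v * v = 1 ∧ v ≠ 1 ∧ v ≠ t'
  · -- elementary abelian of order eight
    exfalso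
    obtain ⟨v, hvQ, hvv, hv1, hvt⟩ := hinv
    have hφv : φ v * φ v = 1 ∧ ∀ i, φ v i ≠ i := (mem_klein.1 hvQ).resolve_left fun e => by
      rcases hLt v (MonoidHom.mem_ker.2 e) with e | e
      · exact hv1 e
      · exact hvt e
    have hQ2 : ∀ q ∈ Q, q * q = 1 := by
      intro q hq
      have ht2' : t' * t' = 1 := by rw [← pow_two, ← ht'o, pow_orderOf_eq_one]
      rcases mem_klein.1 hq with e | e
      · rcases hLt q (MonoidHom.mem_ker.2 e) with rfl | rfl
        · rw [one_mul]
        · exact ht2'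
      · obtain ⟨g, hg⟩ := klein_conj _ _ hφv e
        obtain ⟨c, rfl⟩ := hsurj g
        have h2 : c * v * c⁻¹ * (c * v * c⁻¹) = 1 := by rw [conj_mul, hvv, mul_one, mul_inv_cancel]
        have h1 : (c * v * c⁻¹)⁻¹ * q ∈ L := by
          rw [hLdef, MonoidHom.mem_ker, map_mul, map_inv, map_mul, map_mul, map_inv, hg, inv_mul_cancel]
        rcases hLt _ h1 with e' | e'
        · rw [inv_mul_eq_one] at e'
          rw [← e', h2]
        · rw [inv_mul_eq_iff_eq_mul] at e'
          rw [e']
          calc c * v * c⁻¹ * t' * (c * v * c⁻¹ * t') = c * v * c⁻¹ * (t' * (c * v * c⁻¹)) * t' := by group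
            _ = c * v * c⁻¹ * (c * v * c⁻¹) * (t' * t') := by rw [← hcen]; group
            _ = 1 := by rw [h2, ht2', one_mul]
    have hQab : ∀ a ∈ Q, ∀ b ∈ Q, a * b = b * a := by
      intro a ha b hb
      calc a * b = a⁻¹ * b⁻¹ := by
            rw [inv_eq_of_mul_eq_one_right (hQ2 a ha), inv_eq_of_mul_eq_one_right (hQ2 b hb)]
        _ = (b * a)⁻¹ := (mul_inv_rev b a).symm
        _ = b * a := inv_eq_of_mul_eq_one_right (hQ2 _ (mul_mem hb ha))
    obtain ⟨W, hW⟩ := (IsPGroup.of_card (p := 2) (n := 3) (by rw [hQc]; norm_num) : IsPGroup 2 Q).exists_le_sylow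
    have hWc : Nat.card (W : Subgroup C) = 16 := by
      rw [card_sylow 4 3 (by rw [hC]; norm_num) (by norm_num) W]; norm_num
    obtain ⟨w, hwW, hwQ⟩ : ∃ w ∈ (W : Subgroup C), w ∉ Q := by
      by_contra hne
      push Not at hne
      have := Nat.le_of_dvd Nat.card_pos (Subgroup.card_dvd_of_le (show (W : Subgroup C) ≤ Q from hne))
      rw [hWc, hQc] at this
      omega
    have hQi : (Q.subgroupOf (W : Subgroup C)).index = 2 := by
      have h := (Q.subgroupOf (W : Subgroup C)).index_mul_card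
      rw [Nat.card_congr (Subgroup.subgroupOfEquivOfLe hW).toEquiv, hQc, hWc] at h
      omega
    have hww : w * w ∈ Q := by
      have := Subgroup.sq_mem_of_index_two hQi ⟨w, hwW⟩
      rw [Subgroup.mem_subgroupOf, SubmonoidClass.coe_pow, pow_two] at this
      exact this
    have hWsplit : ∀ a ∈ (W : Subgroup C), a ∈ Q ∨ ∃ q ∈ Q, a = w * q := by
      intro a ha
      by_cases haQ : a ∈ Q
      · exact Or.inl haQ
      · refine Or.inr ⟨w⁻¹ * a, ?_, by group⟩
        have h := (Subgroup.mul_mem_iff_of_index_two hQi (a := (⟨w, hwW⟩ : (W : Subgroup C))⁻¹)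
          (b := ⟨a, ha⟩)).2 (iff_of_false (fun h => hwQ (by
            rw [inv_mem_iff] at h; exact h)) fun h => haQ h)
        exact h
    have hwconj : ∀ q ∈ Q, w * q * w⁻¹ ∈ Q := fun q hq => hQn.conj_mem q hq w
    let f : Q →* Q :=
      { toFun := fun q => q * ⟨w * (q : C) * w⁻¹, hwconj q q.2⟩
        map_one' := Subtype.ext (by simp)
        map_mul' := fun a b => Subtype.ext (by
          show (a : C) * b * (w * ((a : C) * b) * w⁻¹) = a * (w * a * w⁻¹) * (b * (w * b * w⁻¹))
          calc (a : C) * b * (w * ((a : C) * b) * w⁻¹) = a * (b * (w * a * w⁻¹)) * (w * b * w⁻¹) := by group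
            _ = a * ((w * a * w⁻¹) * b) * (w * b * w⁻¹) := by rw [hQab _ b.2 _ (hwconj _ a.2)]
            _ = _ := by group) }
    have hfval : ∀ q : Q, ((f q : Q) : C) = (q : C) * (w * (q : C) * w⁻¹) := fun q => rfl
    have hff : f.range ≤ f.ker := by
      rintro _ ⟨q, rfl⟩
      rw [MonoidHom.mem_ker]
      apply Subtype.ext
      rw [hfval, hfval, OneMemClass.coe_one]
      have h1 : w * (w * (q : C) * w⁻¹) * w⁻¹ = q := by
        calc w * (w * (q : C) * w⁻¹) * w⁻¹ = w * w * q * (w * w)⁻¹ := by group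
          _ = q := by rw [hQab _ hww _ q.2, mul_inv_cancel_right]
      calc (q : C) * (w * q * w⁻¹) * (w * ((q : C) * (w * q * w⁻¹)) * w⁻¹)
          = q * (w * q * w⁻¹) * ((w * q * w⁻¹) * (w * (w * q * w⁻¹) * w⁻¹)) := by group
        _ = q * ((w * q * w⁻¹) * (w * q * w⁻¹)) * q := by rw [h1]; group
        _ = 1 := by rw [hQ2 _ (hwconj _ q.2), mul_one, hQ2 _ q.2]
    have hfmul : Nat.card f.range * Nat.card f.ker = 8 := by
      rw [← Subgroup.index_ker, Subgroup.index_mul_card, hQc]
    have hfle := Subgroup.card_dvd_of_le hff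
    have hfne : Nat.card f.range ≠ 1 := by
      intro h1
      refine hwQ (hCQ (Subgroup.mem_centralizer_iff.2 fun q hq => ?_))
      have h2 : f ⟨q, hq⟩ ∈ (⊥ : Subgroup Q) := Subgroup.card_eq_one.1 h1 ▸ ⟨_, rfl⟩
      have h3 := congrArg Subtype.val (Subgroup.mem_bot.1 h2)
      rw [hfval, OneMemClass.coe_one] at h3
      have h4 : w * q * w⁻¹ = q := by
        rw [← inv_eq_of_mul_eq_one_right h3, inv_eq_of_mul_eq_one_right (hQ2 q hq)]
      exact (mul_inv_eq_iff_eq_mul.1 h4).symm
    have hf24 : Nat.card f.range = 2 ∧ Nat.card f.ker = 4 := by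
      have h8 : Nat.card f.range ∣ 8 := hfmul ▸ dvd_mul_right _ _
      have := Nat.le_of_dvd (by norm_num) h8
      generalize Nat.card f.range = r at *
      generalize Nat.card f.ker = k at *
      interval_cases r <;> omega
    obtain ⟨⟨z₀, hz₀r⟩, hz₀o⟩ := exists_prime_orderOf_dvd_card' (G := f.range) 2 (dvd_of_eq hf24.1.symm)
    rw [Subgroup.orderOf_mk] at hz₀o
    set z : C := (z₀ : C) with hzdef
    have hzQ : z ∈ Q := z₀.2
    have hzo : orderOf z = 2 := by rw [hzdef, Subgroup.orderOf_coe, hz₀o]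
    have him : ∀ q : Q, (f q : C) = 1 ∨ (f q : C) = z := by
      intro q
      have hmem : f q ∈ f.range := ⟨q, rfl⟩
      rw [← zpowers_eq_of_prime_card hf24.1 hz₀r (fun e => by rw [e, orderOf_one] at hz₀o; norm_num at hz₀o)] at hmem
      obtain ⟨i, hi⟩ := hmem
      have hi : z₀ ^ i = f q := hi
      rw [← hi, ← zpow_mod_orderOf, hz₀o]
      rcases Int.emod_two_eq_zero_or_one i with e | e
      · left; rw [show ((2 : ℕ) : ℤ) = 2 from rfl, e, zpow_zero, OneMemClass.coe_one]
      · right; rw [show ((2 : ℕ) : ℤ) = 2 from rfl, e, zpow_one]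
    -- the commutators of `W`
    have hcomm : ∀ a ∈ (W : Subgroup C), ∀ b ∈ (W : Subgroup C),
        a * b * a⁻¹ * b⁻¹ = 1 ∨ a * b * a⁻¹ * b⁻¹ = z := by
      have hqi : ∀ q ∈ Q, q⁻¹ = q := fun q hq => inv_eq_of_mul_eq_one_right (hQ2 q hq)
      have hzi : z⁻¹ = z := hqi z hzQ
      intro a ha b hb
      rcases hWsplit a ha with haQ | ⟨q₁, hq₁, rfl⟩ <;> rcases hWsplit b hb with hbQ | ⟨q₂, hq₂, rfl⟩
      · left; rw [hQab _ haQ _ hbQ]; group
      · have h : a * (w * q₂) * a⁻¹ * (w * q₂)⁻¹ = (f ⟨a, haQ⟩ : C) := by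
          rw [hfval]
          show a * (w * q₂) * a⁻¹ * (w * q₂)⁻¹ = a * (w * a * w⁻¹)
          calc a * (w * q₂) * a⁻¹ * (w * q₂)⁻¹ = a * w * (q₂ * a⁻¹) * q₂⁻¹ * w⁻¹ := by group
            _ = a * w * (a⁻¹ * q₂) * q₂⁻¹ * w⁻¹ := by rw [hQab _ hq₂ _ (inv_mem haQ)]
            _ = a * (w * a * w⁻¹) := by rw [hqi a haQ]; group
        rw [h]; exact him _
      · have h : w * q₁ * b * (w * q₁)⁻¹ * b⁻¹ = (f ⟨b, hbQ⟩ : C) := by
          rw [hfval]
          show w * q₁ * b * (w * q₁)⁻¹ * b⁻¹ = b * (w * b * w⁻¹)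
          calc w * q₁ * b * (w * q₁)⁻¹ * b⁻¹ = w * (q₁ * b) * q₁⁻¹ * w⁻¹ * b⁻¹ := by group
            _ = w * (b * q₁) * q₁⁻¹ * w⁻¹ * b⁻¹ := by rw [hQab _ hq₁ _ hbQ]
            _ = (w * b * w⁻¹) * b := by rw [hqi b hbQ]; group
            _ = b * (w * b * w⁻¹) := hQab _ (hwconj _ hbQ) _ hbQ
        rw [h]; exact him _
      · have h : w * q₁ * (w * q₂) * (w * q₁)⁻¹ * (w * q₂)⁻¹ =
            (f ⟨q₁, hq₁⟩ : C) * (f ⟨q₂, hq₂⟩ : C) := by
          rw [hfval, hfval]
          show _ = q₁ * (w * q₁ * w⁻¹) * (q₂ * (w * q₂ * w⁻¹))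
          have h2 : w * w * (q₂ * q₁⁻¹) * (w * w)⁻¹ = q₂ * q₁⁻¹ := by
            rw [hQab _ hww _ (mul_mem hq₂ (inv_mem hq₁)), mul_inv_cancel_right]
          calc w * q₁ * (w * q₂) * (w * q₁)⁻¹ * (w * q₂)⁻¹
              = (w * q₁ * w⁻¹) * (w * w * (q₂ * q₁⁻¹) * (w * w)⁻¹) * (w * q₂⁻¹ * w⁻¹) := by group
            _ = (w * q₁ * w⁻¹) * (q₂ * q₁⁻¹) * (w * q₂⁻¹ * w⁻¹) := by rw [h2]
            _ = (w * q₁ * w⁻¹) * (q₁ * q₂) * (w * q₂ * w⁻¹) := by
              rw [hqi q₁ hq₁, hqi q₂ hq₂, hQab _ hq₂ _ hq₁]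
            _ = q₁ * (w * q₁ * w⁻¹) * (q₂ * (w * q₂ * w⁻¹)) := by
              rw [← mul_assoc (w * q₁ * w⁻¹), hQab _ (hwconj _ hq₁) _ hq₁]; group
        rw [h]
        rcases him ⟨q₁, hq₁⟩ with e | e <;> rcases him ⟨q₂, hq₂⟩ with e' | e' <;> rw [e, e']
        · left; rw [one_mul]
        · right; rw [one_mul]
        · right; rw [mul_one]
        · left; exact hQ2 z hzQ
    have hkerw : ∀ q : Q, q ∈ f.ker → w * (q : C) = q * w := by
      intro q hq
      have h3 := congrArg Subtype.val (MonoidHom.mem_ker.1 hq)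
      rw [hfval, OneMemClass.coe_one] at h3
      have h4 : w * (q : C) * w⁻¹ = q := by
        rw [← inv_eq_of_mul_eq_one_right h3, inv_eq_of_mul_eq_one_right (hQ2 q q.2)]
      exact mul_inv_eq_iff_eq_mul.1 h4
    have hcent : ∀ q : Q, q ∈ f.ker → ∀ a ∈ (W : Subgroup C), a * (q : C) = q * a := by
      intro q hq a ha
      rcases hWsplit a ha with haQ | ⟨q', hq', rfl⟩
      · exact hQab _ haQ _ q.2
      · calc w * q' * (q : C) = w * ((q : C) * q') := by rw [mul_assoc, hQab _ hq' _ q.2]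
          _ = (q : C) * (w * q') := by rw [← mul_assoc, hkerw q hq, mul_assoc]
    obtain ⟨u, huk, hu1, hut⟩ : ∃ u : Q, u ∈ f.ker ∧ u ≠ 1 ∧ (u : C) ≠ t' := by
      by_contra hne
      push Not at hne
      have hsub : (f.ker : Set Q) ⊆ {⟨t', ht'Q⟩, 1} := fun q hq => by
        by_cases e : q = 1
        · exact Or.inr e
        · exact Or.inl (Subtype.ext (hne q hq e))
      have h1 := Set.ncard_le_ncard hsub (Set.toFinite _)
      have h3 : ({⟨t', ht'Q⟩, 1} : Set Q).ncard ≤ 2 := by
        refine (Set.ncard_insert_le _ _).trans ?_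
        rw [Set.ncard_singleton]
      rw [← Nat.card_coe_set_eq] at h1
      change Nat.card f.ker ≤ _ at h1
      omega
    -- move to the whole group
    set WG := (W : Subgroup C).map C.subtype with hWG
    have hWGc : Nat.card WG = 16 := by rw [hWG, Subgroup.card_map_of_injective C.subtype_injective, hWc]
    have huo : orderOf ((u : C) : G) = 2 := by
      rw [Subgroup.orderOf_coe, Subgroup.orderOf_coe]
      exact orderOf_eq_prime (Subtype.ext (by rw [pow_two]; exact hQ2 u u.2)) hu1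
    obtain ⟨g, hg⟩ := isConj_iff.1 (B.isConj_invol hG ht huo)
    set Cu := Subgroup.centralizer ({((u : C) : G)} : Set G) with hCu
    have hWu : WG ≤ Cu := by
      rintro _ ⟨a, ha, rfl⟩
      exact Subgroup.mem_centralizer_singleton_iff.2 (congrArg Subtype.val (hcent u huk a ha))
    have hCuc := (B.invol hG huo).1
    set WG' := WG.map (MulAut.conj g).toMonoidHom with hWG'
    have hW'u : WG' ≤ Cu := by
      rintro _ ⟨_, ⟨a, -, rfl⟩, rfl⟩
      refine Subgroup.mem_centralizer_singleton_iff.2 ?_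
      show g * (a : G) * g⁻¹ * ((u : C) : G) = ((u : C) : G) * (g * (a : G) * g⁻¹)
      rw [← hg, conj_mul, conj_mul, Subgroup.mem_centralizer_singleton_iff.1 a.2]
    have h24 : ∀ {K : Subgroup G}, K ≤ Cu → Nat.card K = 16 →
        Nat.card (K.subgroupOf Cu) = 2 ^ (Nat.card Cu).factorization 2 := by
      intro K hK hKc
      rw [Nat.card_congr (Subgroup.subgroupOfEquivOfLe hK).toEquiv, hKc, hCuc,
        Nat.factorization_def _ Nat.prime_two, show (48 : ℕ) = 2 ^ 4 * 3 by norm_num,
        padicValNat.mul (by norm_num) (by norm_num), padicValNat.prime_pow,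
        padicValNat.eq_zero_of_not_dvd (by norm_num)]
      norm_num
    have hW'c : Nat.card WG' = 16 := by
      rw [hWG', Subgroup.card_map_of_injective (MulAut.conj g).injective, hWGc]
    obtain ⟨h, hh⟩ := MulAction.exists_smul_eq Cu (Sylow.ofCard _ (h24 hW'u hW'c) : Sylow 2 Cu)
      (Sylow.ofCard _ (h24 hWu hWGc))
    set n := (h : G) * g with hn
    have hnW : ∀ a ∈ WG, n * a * n⁻¹ ∈ WG := by
      intro a ha
      have h1 : MulAut.conj h (⟨g * a * g⁻¹, hW'u ⟨a, ha, rfl⟩⟩ : Cu) ∈
          ((Sylow.ofCard _ (h24 hWu hWGc) : Sylow 2 Cu) : Subgroup Cu) := by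
        rw [← hh]
        exact Subgroup.smul_mem_pointwise_smul _ (MulAut.conj h) _ (show (⟨g * a * g⁻¹, _⟩ : Cu) ∈
          WG'.subgroupOf Cu from ⟨a, ha, rfl⟩)
      have h2 : (h : G) * (g * a * g⁻¹) * (h : G)⁻¹ ∈ WG := h1
      rw [hn, mul_inv_rev]
      rwa [show (h : G) * g * a * (g⁻¹ * (h : G)⁻¹) = (h : G) * (g * a * g⁻¹) * (h : G)⁻¹ by group]
    have hnt : n * t * n⁻¹ = ((u : C) : G) := by
      rw [hn, show (h : G) * g * t * ((h : G) * g)⁻¹ = (h : G) * (g * t * g⁻¹) * (h : G)⁻¹ by group, hg,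
        Subgroup.mem_centralizer_singleton_iff.1 h.2, mul_inv_cancel_right]
    have hzG : orderOf ((z : C) : G) = 2 := by rw [Subgroup.orderOf_coe, hzo]
    -- `n` fixes the commutator
    have hnz : n * (z : G) * n⁻¹ = (z : G) := by
      obtain ⟨q, hq⟩ := hz₀r
      have hzq : z = w * (q : C) * w⁻¹ * (q : C)⁻¹ := by
        rw [hzdef, ← hq, hfval, hQab _ q.2 _ (hwconj _ q.2), inv_eq_of_mul_eq_one_right (hQ2 q q.2)]
      obtain ⟨w', hw', hw'e⟩ := hnW (w : G) ⟨w, hwW, rfl⟩
      obtain ⟨q', hq', hq'e⟩ := hnW ((q : C) : G) ⟨q, hW q.2, rfl⟩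
      have hw'e : (w' : G) = n * (w : G) * n⁻¹ := hw'e
      have hq'e : (q' : G) = n * ((q : C) : G) * n⁻¹ := hq'e
      have he : n * (z : G) * n⁻¹ = ((w' * q' * w'⁻¹ * q'⁻¹ : C) : G) := by
        rw [hzq]
        simp only [Subgroup.coe_mul, InvMemClass.coe_inv, hw'e, hq'e]
        group
      rcases hcomm w' hw' q' hq' with e | e
      · exfalso
        rw [e, OneMemClass.coe_one, conj_eq_one_iff] at he
        rw [he, orderOf_one] at hzG
        norm_num at hzG
      · rw [he, e]
    have hWz : ∀ a ∈ WG, a * (z : G) = (z : G) * a := by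
      rintro _ ⟨a, ha, rfl⟩
      exact congrArg Subtype.val (hcent ⟨z, hzQ⟩ (hff hz₀r) a ha)
    -- a Sylow normalizer in the centralizer of an involution
    obtain ⟨g₀, hg₀⟩ := isConj_iff.1 (B.isConj_invol hG ht hzG)
    have hback : ∀ a : G, a * (z : G) = (z : G) * a → g₀⁻¹ * a * g₀ ∈ C := by
      intro a ha
      refine Subgroup.mem_centralizer_singleton_iff.2 ?_
      rw [← hg₀] at ha
      calc g₀⁻¹ * a * g₀ * t = g₀⁻¹ * (a * (g₀ * t * g₀⁻¹)) * g₀ := by group
        _ = g₀⁻¹ * (g₀ * t * g₀⁻¹ * a) * g₀ := by rw [ha]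
        _ = t * (g₀⁻¹ * a * g₀) := by group
    set WC := ((WG.map (MulAut.conj g₀⁻¹).toMonoidHom).subgroupOf C) with hWC
    have hWCle : WG.map (MulAut.conj g₀⁻¹).toMonoidHom ≤ C := by
      rintro _ ⟨a, ha, rfl⟩
      show g₀⁻¹ * a * g₀⁻¹⁻¹ ∈ C
      rw [inv_inv]
      exact hback a (hWz a ha)
    have hWCc : Nat.card WC = 16 := by
      rw [hWC, Nat.card_congr (Subgroup.subgroupOfEquivOfLe hWCle).toEquiv,
        Subgroup.card_map_of_injective (MulAut.conj g₀⁻¹).injective, hWGc]
    have hfac : (Nat.card C).factorization 2 = 4 := by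
      rw [hC, Nat.factorization_def _ Nat.prime_two, show (48 : ℕ) = 2 ^ 4 * 3 by norm_num,
        padicValNat.mul (by norm_num) (by norm_num), padicValNat.prime_pow,
        padicValNat.eq_zero_of_not_dvd (by norm_num)]
    let PW : Sylow 2 C := Sylow.ofCard WC (by rw [hWCc, hfac]; norm_num)
    have hn2 : Nat.card (Sylow 2 C) = 3 := by
      obtain ⟨hd, hmod⟩ := sylow_facts (G := C) (p := 2) 4 3 (by rw [hC]; norm_num) (by norm_num)
      rcases (Nat.dvd_prime Nat.prime_three).1 hd with e | e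
      · exfalso
        haveI : Subsingleton (Sylow 2 C) := Finite.card_le_one_iff_subsingleton.1 e.le
        have hall : ∀ c : C, φ c * φ c = 1 → c ∈ (PW : Subgroup C) := by
          intro c hc
          have hc2 : c ^ 2 ∈ L := by rw [hLdef, MonoidHom.mem_ker, map_pow, pow_two, hc]
          have hc4 : orderOf c ∣ 2 ^ 2 := by
            refine orderOf_dvd_of_pow_eq_one ?_
            rcases hLt _ hc2 with e | e <;> rw [show (2 : ℕ) ^ 2 = 2 * 2 by norm_num, pow_mul, e]
            · rw [one_pow]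
            · rw [← ht'o, pow_orderOf_eq_one]
          obtain ⟨i, -, hi⟩ := (Nat.dvd_prime_pow Nat.prime_two).1 hc4
          obtain ⟨P', hP'⟩ := (IsPGroup.of_card (p := 2) (n := i) (G := Subgroup.zpowers c)
            (by rw [Nat.card_zpowers, hi])).exists_le_sylow
          rw [Subsingleton.elim PW P']
          exact hP' (Subgroup.mem_zpowers c)
        obtain ⟨a, ha⟩ := hsurj (Equiv.swap 0 1)
        obtain ⟨b, hb⟩ := hsurj (Equiv.swap 1 2)
        have hab := mul_mem (hall a (by rw [ha]; decide +kernel)) (hall b (by rw [hb]; decide +kernel))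
        have h3 : orderOf (φ (a * b)) ∣ 16 := by
          refine (orderOf_map_dvd φ _).trans ?_
          have := Subgroup.orderOf_dvd_natCard _ hab
          rwa [show Nat.card (PW : Subgroup C) = 16 from hWCc] at this
        rw [map_mul, ha, hb, swap_three] at h3
        norm_num at h3
      · exact e
    have hnC : g₀⁻¹ * n * g₀ ∈ C := hback n (mul_inv_eq_iff_eq_mul.1 hnz)
    have hNW : Subgroup.normalizer ((WC : Subgroup C) : Set C) = WC := by
      refine (Subgroup.eq_of_le_of_card_ge Subgroup.le_normalizer ?_).symm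
      have := normalizerCard PW hC hn2 (N := 16) (by norm_num)
      rw [hWCc]
      exact this.le
    have hnN : (⟨_, hnC⟩ : C) ∈ WC := by
      rw [← hNW]
      refine Subgroup.mem_normalizer_fintype fun y hy => ?_
      obtain ⟨a, ha, hae⟩ := Subgroup.mem_subgroupOf.1 hy
      refine Subgroup.mem_subgroupOf.2 ⟨n * a * n⁻¹, hnW a ha, ?_⟩
      have hae : g₀⁻¹ * a * g₀⁻¹⁻¹ = (y : G) := hae
      show g₀⁻¹ * (n * a * n⁻¹) * g₀⁻¹⁻¹ = g₀⁻¹ * n * g₀ * (y : G) * (g₀⁻¹ * n * g₀)⁻¹
      rw [← hae]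
      group
    obtain ⟨a, ha, hae⟩ := Subgroup.mem_subgroupOf.1 hnN
    have hae : g₀⁻¹ * a * g₀⁻¹⁻¹ = g₀⁻¹ * n * g₀ := hae
    rw [inv_inv] at hae
    have han : a = n := mul_left_cancel (mul_right_cancel hae)
    subst han
    obtain ⟨a', ha', hae'⟩ := ha
    apply hut
    apply Subtype.ext
    rw [← hnt]
    rw [← hae']
    show (a' : G) * t * (a' : G)⁻¹ = t
    rw [Subgroup.mem_centralizer_singleton_iff.1 a'.2, mul_inv_cancel_right]
  -- the quaternion case
  push Not at hinv
  have hord4 : ∀ q ∈ Q, q ∉ L → q * q = t' ∧ orderOf q = 4 := by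
    intro q hq hqL
    have h1 : q * q ∈ L := by
      rw [hLdef, MonoidHom.mem_ker, map_mul]
      rcases mem_klein.1 hq with e | ⟨e, -⟩
      · exact absurd (MonoidHom.mem_ker.2 e) hqL
      · exact e
    have hne : q * q ≠ 1 := fun e => hqL (by
      by_cases e1 : q = 1
      · rw [e1]; exact one_mem _
      · rw [hinv q hq e e1]; exact htL)
    have he : q * q = t' := (hLt _ h1).resolve_left hne
    exact ⟨he, orderOf_eq_prime_pow (p := 2) (n := 1) (by rw [pow_one, pow_two]; exact hne) (by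
      rw [show (2 : ℕ) ^ (1 + 1) = 2 * 2 by norm_num, pow_mul, pow_two q, he, ← ht'o, pow_orderOf_eq_one])⟩
  obtain ⟨a, haQ, haL⟩ : ∃ a ∈ Q, a ∉ L := by
    by_contra hne
    push Not at hne
    have := Nat.le_of_dvd Nat.card_pos (Subgroup.card_dvd_of_le (show Q ≤ L from hne))
    omega
  obtain ⟨haa, hao⟩ := hord4 a haQ haL
  have hA4 : Nat.card (Subgroup.zpowers a) = 4 := by rw [Nat.card_zpowers, hao]
  obtain ⟨b, hbQ, hbA⟩ : ∃ b ∈ Q, b ∉ Subgroup.zpowers a := by
    by_contra hne
    push Not at hne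
    have := Nat.le_of_dvd Nat.card_pos (Subgroup.card_dvd_of_le (show Q ≤ Subgroup.zpowers a from hne))
    omega
  have hLA : L ≤ Subgroup.zpowers a := fun c hc => by
    rcases hLt c hc with rfl | rfl
    · exact one_mem _
    · rw [← haa]; exact mul_mem (Subgroup.mem_zpowers a) (Subgroup.mem_zpowers a)
  obtain ⟨hbb, hbo⟩ := hord4 b hbQ fun h => hbA (hLA h)
  have hA' : (Subgroup.zpowers a).subgroupOf Q = ((Subgroup.zpowers a).subgroupOf Q) := rfl
  have hAQ : Subgroup.zpowers a ≤ Q := Subgroup.zpowers_le.2 haQ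
  haveI hAn : ((Subgroup.zpowers a).subgroupOf Q).Normal := by
    refine Subgroup.normal_of_index_eq_two ?_
    have h := ((Subgroup.zpowers a).subgroupOf Q).index_mul_card
    rw [Nat.card_congr (Subgroup.subgroupOfEquivOfLe hAQ).toEquiv, hA4, hQc] at h
    omega
  have hba : b * a * b⁻¹ = a⁻¹ := by
    have hmem : b * a * b⁻¹ ∈ Subgroup.zpowers a :=
      hAn.conj_mem ⟨a, haQ⟩ (Subgroup.mem_zpowers a) ⟨b, hbQ⟩
    obtain ⟨i, hi⟩ := hmem
    have hi : a ^ i = b * a * b⁻¹ := hi
    have ho : orderOf (a ^ i) = 4 := by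
      rw [hi, show orderOf (b * a * b⁻¹) = orderOf a from (MulAut.conj b).orderOf_eq a, hao]
    have hi' := hi
    rw [← zpow_mod_orderOf, hao] at hi' ho
    rcases (show i % ((4 : ℕ) : ℤ) = 0 ∨ i % ((4 : ℕ) : ℤ) = 1 ∨ i % ((4 : ℕ) : ℤ) = 2 ∨
        i % ((4 : ℕ) : ℤ) = 3 by
      have h1 := Int.emod_nonneg i (show ((4 : ℕ) : ℤ) ≠ 0 by norm_num)
      have h2 := Int.emod_lt_of_pos i (show (0 : ℤ) < ((4 : ℕ) : ℤ) by norm_num)
      omega) with e | e | e | e <;> rw [e] at hi' ho
    · rw [zpow_zero, orderOf_one] at ho; norm_num at ho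
    · rw [zpow_one] at hi'
      exfalso
      have hc : b * a = a * b := mul_inv_eq_iff_eq_mul.1 hi'.symm
      have hab : a * b * (a * b) = 1 := by
        calc a * b * (a * b) = a * (b * a) * b := by group
          _ = a * a * (b * b) := by rw [hc]; group
          _ = 1 := by rw [haa, hbb, ← pow_two, ← ht'o, pow_orderOf_eq_one]
      refine hbA ?_
      have habm : a * b ∈ Subgroup.zpowers a := by
        by_cases e1 : a * b = 1
        · rw [e1]; exact one_mem _
        · rw [hinv _ (mul_mem haQ hbQ) hab e1]; exact hLA htL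
      have := mul_mem (inv_mem (Subgroup.mem_zpowers a)) habm
      rwa [inv_mul_cancel_left] at this
    · rw [show (2 : ℤ) = ((2 : ℕ) : ℤ) by norm_num, zpow_natCast, orderOf_pow, hao] at ho
      norm_num at ho
    · rw [← hi', eq_inv_iff_mul_eq_one, ← zpow_add_one,
        show (3 : ℤ) + 1 = ((4 : ℕ) : ℤ) by norm_num, zpow_natCast, ← hao, pow_orderOf_eq_one]
  obtain ⟨e⟩ := Cfsg.Lib.TwoGroup.equiv_quaternion (m := 2) (by rw [hao]) (by rw [hbb, pow_two, haa]) hba hbA
  have hcl : Subgroup.closure ({a, b} : Set C) = Q := by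
    refine Subgroup.eq_of_le_of_card_ge ((Subgroup.closure_le _).2 (by
      rintro y (rfl | rfl); exacts [haQ, hbQ])) ?_
    rw [Nat.card_congr e.toEquiv, Cfsg.Lib.TwoGroup.card_quaternion two_ne_zero, hQc]
  obtain ⟨u, huo, hut, hucomm⟩ := B.exists_commute hG ht
  let u' : C := ⟨u, Subgroup.mem_centralizer_singleton_iff.2 hucomm⟩
  have huu : u' * u' = 1 := Subtype.ext (by
    show u * u = 1
    rw [← pow_two, ← huo, pow_orderOf_eq_one])
  have hu'Q : u' ∉ Q := fun h => by
    by_cases e1 : u' = 1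
    · have := congrArg Subtype.val e1
      rw [show (u' : G) = u from rfl] at this
      rw [this, OneMemClass.coe_one, orderOf_one] at huo
      norm_num at huo
    · exact hut (congrArg Subtype.val (hinv u' h huu e1))
  exact Cfsg.Lib.Small.RepSymFour.iso_gl hC Q ((MulEquiv.subgroupCongr hcl.symm).trans e) hCQ u' huu hu'Q

end Cfsg.Lib.Small.LThreeThreeOrder

namespace Cfsg.Lib.Small.LThreeThreeOrder

universe w

/-- A simple group of order 5616 is `PSL(3, 3)`. -/
theorem iso_psl {G : Type w} [Group G] [Finite G] [IsSimpleGroup G] (hG : Nat.card G = 5616) :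
    Nonempty (G ≃* Matrix.ProjectiveSpecialLinearGroup (Fin 3) (ZMod 3)) := by
  haveI := Fintype.ofFinite G
  haveI : Fact (Nat.Prime 2) := ⟨Nat.prime_two⟩
  obtain ⟨B⟩ := exists_blockData hG
  obtain ⟨t, ht⟩ := exists_prime_orderOf_dvd_card' (G := G) 2 (by rw [hG]; norm_num)
  obtain ⟨e⟩ := centralizer_equiv B hG ht
  exact Cfsg.Lib.Small.LThreeThree.nonempty_equiv_PSL e ht hG

end Cfsg.Lib.Small.LThreeThreeOrder
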