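import Cfsg.Agent.Lib.Small.OrderFilter
import Cfsg.Agent.S1019

/-!
# No non-abelian simple group of order 5400

The centralizer of a suitable element `x` of order five has index `18`; in the action on its cosets
`x` is a five-cycle, and the three conjugate five-cycles inside a Sylow subgroup of order `25` would
have disjoint supports.
-/

set_option autoImplicit false
set_option linter.style.haveILetI false

namespace Cfsg.Lib.Small.Order5400

open Cfsg Cfsg.Lib.Small Cfsg.Lib.Small.OrderFilter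

universe u

variable {G : Type u} [Group G] [Finite G] [IsSimpleGroup G]

theorem decide_n5 : ∀ d ∈ Nat.divisors 216, d % 5 = 1 → d ≠ 1 → d % 25 ≠ 1 := by decide +kernel

theorem decide_s : ∀ s ∈ Nat.divisors 216, hasDiv 5 s = true → 216 / s ≠ 1 → F (216 / s) 5400 = true →
    s = 6 ∨ s = 12 ∨ s = 18 := by decide +kernel

omit [IsSimpleGroup G] in
/-- Two Sylow subgroups never generate a subgroup of order `150` or `450`. -/
theorem card_ne {P Q : Sylow 5 G} (hPQ : P ≠ Q) (hP : Nat.card (P : Subgroup G) = 25)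
    {H : Subgroup G} (hPH : (P : Subgroup G) ≤ H) (hQH : (Q : Subgroup G) ≤ H) :
    Nat.card H ≠ 150 ∧ Nat.card H ≠ 450 := by
  suffices ∀ o : ℕ, (o = 75 ∨ o = 225) → Nat.card H ≠ 2 * o by
    exact ⟨this 75 (Or.inl rfl), this 225 (Or.inr rfl)⟩
  intro o ho hH
  haveI : Fact (Nat.Prime 2) := ⟨Nat.prime_two⟩
  haveI : Fact (Nat.Prime 5) := ⟨by norm_num⟩
  obtain ⟨T⟩ : Nonempty (Sylow 2 H) := inferInstance
  haveI := isCyclic_of_prime_card (p := 2) (α := (T : Subgroup H)) (by
    rw [card_sylow 1 o (by rw [pow_one, hH]) (by omega) T, pow_one])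
  obtain ⟨M, hM⟩ := Cfsg.Lib.Invol.exists_index_two_of_isCyclic
    (even_iff_two_dvd.2 (hH ▸ dvd_mul_right 2 o)) T inferInstance
  have hMc : Nat.card M = o := by
    have := M.index_mul_card
    rw [hM, hH] at this
    omega
  have hmem : ∀ R : Sylow 5 G, (R : Subgroup G) ≤ H → ((R : Subgroup G).subgroupOf H) ≤ M := by
    intro R hR r hr
    have h1 : r ^ 25 = 1 := by
      apply Subtype.ext
      rw [SubmonoidClass.coe_pow, OneMemClass.coe_one, ← orderOf_dvd_iff_pow_eq_one]
      refine (Subgroup.orderOf_dvd_natCard (R : Subgroup G) hr).trans (dvd_of_eq ?_)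
      rw [R.card_eq_multiplicity, ← P.card_eq_multiplicity, hP]
    have h2 := Subgroup.sq_mem_of_index_two hM r
    have h3 : r = (r ^ 2) ^ 13 := by
      rw [← pow_mul, show 2 * 13 = 25 + 1 by norm_num, pow_succ, h1, one_mul]
    rw [h3]
    exact M.pow_mem h2 13
  have hsub : Subsingleton (Sylow 5 M) := by
    refine Finite.card_le_one_iff_subsingleton.1 ?_
    obtain ⟨hd, hmod⟩ := sylow_facts (G := M) (p := 5) 2 (o / 25) (by rcases ho with rfl | rfl <;> omega)
      (by rcases ho with rfl | rfl <;> norm_num)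
    have := Nat.le_of_dvd (by rcases ho with rfl | rfl <;> norm_num) hd
    rcases ho with rfl | rfl <;> interval_cases hn : Nat.card (Sylow 5 M) <;> omega
  have hPM := hmem P hPH
  have hQM := hmem Q hQH
  have h := congrArg (fun T : Sylow 5 M => (T : Subgroup M))
    (hsub.elim ((P.subtype hPH).subtype (by simpa using hPM)) ((Q.subtype hQH).subtype (by simpa using hQM)))
  simp only [Sylow.coe_subtype, Subgroup.subgroupOf_inj, inf_eq_left.2 hPM, inf_eq_left.2 hQM,
    inf_eq_left.2 hPH, inf_eq_left.2 hQH] at h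
  exact hPQ (Sylow.ext h)

theorem not_simple_of_card (hG : ¬ IsMulCommutative G) : Nat.card G ≠ 5400 := by
  classical
  intro h
  haveI : Fact (Nat.Prime 5) := ⟨by norm_num⟩
  have hm : Nat.card G = 5 ^ 2 * 216 := by rw [h]; norm_num
  have hpm : ¬ 5 ∣ 216 := by norm_num
  obtain ⟨k, hk0, hkd, hk, -⟩ := exists_index hG hm hpm two_ne_zero
  have hn1 : Nat.card (Sylow 5 G) % (5 * 5) ≠ 1 := by
    rw [hk]
    exact decide_n5 _ (Nat.mem_divisors.2 ⟨hkd, by norm_num⟩) (by omega) (by omega)
  obtain ⟨P, Q, R, s, hPQ, hRdef, hRc, hRP, hPN, hQN, hNc, hsm, hdiv, htop, hidx⟩ :=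
    inter_data hG (le_refl 2) hm hpm hn1
  set N := Subgroup.normalizer (R : Set G) with hNdef
  have hcS : ∀ T : Sylow 5 G, Nat.card (T : Subgroup G) = 25 := fun T => by
    rw [card_sylow 2 216 hm hpm T]; norm_num
  have hne := card_ne hPQ (hcS P) hPN hQN
  have hs : s = 12 := by
    have hF := F_sound hG htop
    rw [hidx, h] at hF
    rcases decide_s s (Nat.mem_divisors.2 ⟨hsm, by norm_num⟩) hdiv
      (fun e => htop (Subgroup.index_eq_one.1 (hidx.trans e))) hF with h' | h' | h'
    · exact absurd (by rw [hNc, h']; norm_num) hne.1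
    · exact h'
    · exact absurd (by rw [hNc, h']; norm_num) hne.2
  have hN300 : Nat.card N = 300 := by rw [hNc, hs]; norm_num
  have hRc' : Nat.card R = 5 := by rw [hRc]; norm_num
  obtain ⟨⟨x, hxR⟩, hx1'⟩ := Subgroup.ne_bot_iff_exists_ne_one.1
    (fun e : R = ⊥ => by rw [e, Subgroup.card_bot] at hRc'; norm_num at hRc')
  have hx1 : x ≠ 1 := fun e => hx1' (Subtype.ext e)
  have hzx : Subgroup.zpowers x = R := zpowers_eq_of_prime_card hRc' hxR hx1
  have hxo : orderOf x = 5 := by rw [← Nat.card_zpowers, hzx, hRc']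
  have hab : ∀ T : Sylow 5 G, ∀ a ∈ (T : Subgroup G), ∀ b ∈ (T : Subgroup G), Commute a b := by
    intro T a ha b hb
    haveI : IsMulCommutative (T : Subgroup G) :=
      IsPGroup.isMulCommutative_of_card_eq_prime_sq (p := 5) (by rw [hcS]; norm_num)
    exact congrArg Subtype.val ((inferInstance : IsMulCommutative (T : Subgroup G)).is_comm.comm ⟨a, ha⟩ ⟨b, hb⟩)
  set C := Subgroup.centralizer ({x} : Set G) with hC
  have hCN : C ≤ N := by
    intro c hc
    have : c ∈ Subgroup.centralizer (R : Set G) := by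
      rw [← hzx, centralizer_zpowers]; exact hc
    exact Subgroup.centralizer_le_normalizer _ this
  have hPC : (P : Subgroup G) ≤ C := fun a ha =>
    Subgroup.mem_centralizer_singleton_iff.2 (hab P a ha x (hRP hxR)).eq
  have hQC : (Q : Subgroup G) ≤ C := fun a ha =>
    Subgroup.mem_centralizer_singleton_iff.2 (hab Q a ha x ((hRdef ▸ inf_le_right : R ≤ (Q : Subgroup G)) hxR)).eq
  have hPQC : ∀ {H : Subgroup G}, (P : Subgroup G) ≤ H → (Q : Subgroup G) ≤ H → Nat.card H ∣ 300 →
      Nat.card H = 300 := by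
    intro H hPH hQH hd
    have h25 : 25 ∣ Nat.card H := hcS P ▸ Subgroup.card_dvd_of_le hPH
    obtain ⟨hd5, hmod⟩ := sylow_facts (G := H) (p := 5) 2 (Nat.card H / 25)
      (by rw [show (5 : ℕ) ^ 2 = 25 by norm_num, Nat.mul_div_cancel' h25]) (fun h' => by
        have : 125 ∣ Nat.card H := by
          obtain ⟨c, hc⟩ := h25
          rw [hc, Nat.mul_div_cancel_left _ (by norm_num : 0 < 25)] at h'
          obtain ⟨d, rfl⟩ := h'
          exact ⟨d, by rw [hc]; ring⟩
        exact absurd (this.trans hd) (by norm_num))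
    have hn : Nat.card (Sylow 5 H) ≠ 1 := fun h1 => by
      haveI : Subsingleton (Sylow 5 H) := Finite.card_le_one_iff_subsingleton.1 h1.le
      have h := congrArg (fun T : Sylow 5 H => (T : Subgroup H)) (Subsingleton.elim (P.subtype hPH) (Q.subtype hQH))
      simp only [Sylow.coe_subtype, Subgroup.subgroupOf_inj, inf_eq_left.2 hPH, inf_eq_left.2 hQH] at h
      exact hPQ (Sylow.ext h)
    have hne' := card_ne hPQ (hcS P) hPH hQH
    obtain ⟨c, hc⟩ := h25
    rw [hc, Nat.mul_div_cancel_left _ (by norm_num : 0 < 25)] at hd5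
    have hc12 : c ∣ 12 := (Nat.mul_dvd_mul_iff_left (by norm_num : 0 < 25)).1 (by rw [← hc]; exact hd)
    have := Nat.le_of_dvd (by norm_num) hc12
    have := Nat.le_of_dvd (Nat.pos_of_dvd_of_pos hc12 (by norm_num)) hd5
    have : c ≠ 6 := fun e => hne'.1 (by rw [hc, e])
    have : c = 12 := by
      interval_cases c <;> omega
    rw [hc, this]
  have hC300 : Nat.card C = 300 := hPQC hPC hQC (hN300 ▸ Subgroup.card_dvd_of_le hCN)
  have hCeq : C = N := Subgroup.eq_of_le_of_card_ge hCN (by rw [hC300, hN300])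
  have hC18 : C.index = 18 := by rw [hCeq, hidx, hs]
  have hxC : x ∈ C := hPC (hRP hxR)
  -- the three conjugates of `R` in `P`
  set NP := Subgroup.normalizer ((P : Subgroup G) : Set G) with hNP
  have hNP150 : Nat.card NP = 150 := by
    have hmul := card_normalizer_mul P
    rw [hk, h, ← hNP] at hmul
    rcases (show k * 5 + 1 = 6 ∨ k * 5 + 1 = 36 ∨ k * 5 + 1 = 216 by
      have hle := Nat.le_of_dvd (by norm_num) hkd
      have hk' : k ≤ 43 := by omega
      interval_cases k <;> first | omega | (norm_num at hkd)) with e | e | e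
    · exfalso
      have hidx' := P.card_eq_index_normalizer
      rw [hk, e] at hidx'
      simp only [Sylow.coe_coe] at hidx' hNP
      have hF := F_sound hG (H := NP) (fun e' => by rw [hNP] at e'; rw [e', Subgroup.index_top] at hidx'; omega)
      rw [hNP, ← hidx', h] at hF
      exact absurd hF (by decide)
    · rw [e] at hmul; omega
    · exfalso
      rw [e] at hmul
      have hPNP : (P : Subgroup G) ≤ NP := Subgroup.le_normalizer
      have heq : (P : Subgroup G) = NP := Subgroup.eq_of_le_of_card_ge hPNP (by rw [hcS]; omega)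
      refine not_normalizer_le_centralizer (not_isCyclic hG) P (fun eb => ?_) ?_
      · have := hcS P; rw [eb, Subgroup.card_bot] at this; omega
      · rw [← hNP, ← heq]
        intro a ha
        exact Subgroup.mem_centralizer_iff.2 fun b hb => (hab P b hb a ha).eq
  have hnC : Nat.card (Sylow 5 C) = 6 := by
    obtain ⟨hd, hmod⟩ := sylow_facts (G := C) (p := 5) 2 12 (by rw [hC300]; norm_num) (by norm_num)
    have hle := Nat.le_of_dvd (by norm_num) hd
    have hne1 : Nat.card (Sylow 5 C) ≠ 1 := fun h1 => by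
      haveI : Subsingleton (Sylow 5 C) := Finite.card_le_one_iff_subsingleton.1 h1.le
      have h := congrArg (fun T : Sylow 5 C => (T : Subgroup C)) (Subsingleton.elim (P.subtype hPC) (Q.subtype hQC))
      simp only [Sylow.coe_subtype, Subgroup.subgroupOf_inj, inf_eq_left.2 hPC, inf_eq_left.2 hQC] at h
      exact hPQ (Sylow.ext h)
    generalize Nat.card (Sylow 5 C) = d at hd hmod hle hne1 ⊢
    interval_cases d <;> first | omega | (norm_num at hd)
  set K := C.subgroupOf NP with hK
  have hK50 : Nat.card K = 50 := by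
    have hmul := card_normalizer_mul (P.subtype hPC)
    rw [hnC, hC300, Sylow.coe_subtype, ← Subgroup.subgroupOf_normalizer_eq hPC, ← hNP] at hmul
    have e1 : Nat.card (NP.subgroupOf C) = Nat.card K := by
      rw [hK]
      exact Nat.card_congr ⟨fun a => ⟨⟨a.1.1, a.2⟩, a.1.2⟩, fun a => ⟨⟨a.1.1, a.2⟩, a.1.2⟩,
        fun _ => rfl, fun _ => rfl⟩
    omega
  have hKidx : Nat.card (NP ⧸ K) = 3 := by
    have := K.index_mul_card
    rw [hK50, hNP150] at this
    show K.index = 3
    omega
  obtain ⟨e3⟩ : Nonempty (Fin 3 ≃ NP ⧸ K) := ⟨(Finite.equivFinOfCardEq hKidx).symm⟩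
  let g : Fin 3 → G := fun i => ((e3 i).out : G)
  let w : Fin 3 → G := fun i => g i * x * (g i)⁻¹
  have hgNP : ∀ i, g i ∈ NP := fun i => ((e3 i).out).2
  have hwP : ∀ i, w i ∈ (P : Subgroup G) := fun i =>
    (Subgroup.mem_normalizer_iff.1 (hgNP i) x).1 (hRP hxR)
  have hwz : ∀ i j, w i ∈ Subgroup.zpowers (w j) → i = j := by
    intro i j hij
    have h1 : (g j)⁻¹ * g i ∈ N := by
      have h2 : (g j)⁻¹ * w i * g j ∈ R := by
        obtain ⟨m, hm⟩ := hij
        have hm : (w j) ^ m = w i := hm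
        rw [← hm, conj_zpow, ← hzx]
        exact ⟨m, by group⟩
      have h3 : ((g j)⁻¹ * g i) * x * ((g j)⁻¹ * g i)⁻¹ ∈ R := by
        convert h2 using 1
        simp only [w]; group
      refine Subgroup.mem_normalizer_fintype fun y hy => ?_
      have hy' : y ∈ Subgroup.zpowers x := by rw [hzx]; exact hy
      obtain ⟨m, rfl⟩ := hy'
      show ((g j)⁻¹ * g i) * x ^ m * ((g j)⁻¹ * g i)⁻¹ ∈ R
      rw [← conj_zpow]
      exact R.zpow_mem h3 m
    rw [← hCeq] at h1
    apply e3.injective
    rw [← Quotient.out_eq (e3 i), ← Quotient.out_eq (e3 j)]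
    exact (QuotientGroup.eq.2 (show ((e3 j).out)⁻¹ * (e3 i).out ∈ K from h1)).symm
  -- the action on the cosets of `C`
  have hidxC : Nat.card (G ⧸ C) = 18 := hC18
  have hCtop : C ≠ ⊤ := fun e => by rw [e, Subgroup.index_top] at hC18; norm_num at hC18
  have hfaith : ∀ u : G, (∀ c : G ⧸ C, u • c = c) → u = 1 := fun u hu =>
    (OrderLeHundred.card_dvd_factorial_index hCtop).2 (Equiv.ext fun c => (hu c).trans (one_smul G c).symm)
  have hcl : Nat.card {y : G // IsConj x y} = 18 := by
    haveI := Fintype.ofFinite G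
    rw [← hC18, hC, ← Cfsg.Lib.Char.card_classFinset x, ← Nat.card_eq_finsetCard]
    exact Nat.card_congr (Equiv.subtypeEquivRight fun y => Cfsg.Lib.Char.mem_classFinset.symm)
  have hfixcl : Nat.card (MulAction.fixedBy (G ⧸ C) x) = Nat.card {y : G // IsConj x y ∧ y ∈ C} := by
    have := Cfsg.Agent.S1019.result C x hxC
    rw [hcl, hC18, mul_comm] at this
    exact Nat.eq_of_mul_eq_mul_left (by norm_num) this
  -- twelve conjugates of `x` in `C`
  obtain ⟨i₀, hi₀⟩ : ∃ i, ∀ j, j ≠ i → w j ∉ R := by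
    by_cases hh : ∃ i, w i ∈ R
    · obtain ⟨i, hi⟩ := hh
      refine ⟨i, fun j hji hj => hji ?_⟩
      refine hwz j i ?_
      rw [zpowers_eq_of_prime_card hRc' hi (fun e => hx1 (by simpa [w] using e))]
      exact hj
    · push Not at hh
      exact ⟨0, fun j _ => hh j⟩
  have hnin : ∀ T : Sylow 5 C, ∃ n : G, n ∈ C ∧ ∀ y, y ∈ (P : Subgroup G) ↔
      n * y * n⁻¹ ∈ (T : Subgroup C).map C.subtype := by
    intro T
    obtain ⟨n, hn⟩ := MulAction.exists_smul_eq C (P.subtype hPC) T
    refine ⟨n, n.2, fun y => ?_⟩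
    rw [← hn, Sylow.coe_subgroup_smul, Sylow.coe_subtype]
    constructor
    · intro hy
      exact ⟨n * ⟨y, hPC hy⟩ * n⁻¹, ⟨⟨y, hPC hy⟩, hy, rfl⟩, rfl⟩
    · rintro ⟨_, ⟨a, ha, rfl⟩, he⟩
      have he : (n : G) * (a : G) * (n : G)⁻¹ = n * y * n⁻¹ := he
      exact (mul_left_cancel (mul_right_cancel he)) ▸ ha
  choose n hnC' hnP using hnin
  have h12 : 12 ≤ Nat.card {y : G // IsConj x y ∧ y ∈ C} := by
    let f : Sylow 5 C × {j : Fin 3 // j ≠ i₀} → {y : G // IsConj x y ∧ y ∈ C} := fun a =>
      ⟨n a.1 * w a.2 * (n a.1)⁻¹, isConj_iff.2 ⟨n a.1 * g a.2, by simp only [w]; group⟩,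
        C.mul_mem (C.mul_mem (hnC' _) (hPC (hwP _))) (C.inv_mem (hnC' _))⟩
    have hf : Function.Injective f := by
      rintro ⟨T, j⟩ ⟨T', j'⟩ hab'
      have he : n T * w j * (n T)⁻¹ = n T' * w j' * (n T')⁻¹ := congrArg Subtype.val hab'
      have hT : T = T' := by
        by_contra hne'
        have hTc : ∀ T : Sylow 5 C, Nat.card (T : Subgroup C) = 25 := fun T => by
          rw [card_sylow 2 12 (by rw [hC300]; norm_num) (by norm_num) T]; norm_num
        have hcm : ∀ T : Sylow 5 C, ∀ z, z = n T * w j * (n T)⁻¹ → ∀ hz : z ∈ C, (j : Fin 3) = j →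
            w j ∈ (P : Subgroup G) → (⟨z, hz⟩ : C) ∈ (T : Subgroup C) := by
          intro T z hz hzC _ hwj
          obtain ⟨a, ha, hae⟩ := (hnP T (w j)).1 hwj
          have : a = ⟨z, hzC⟩ := Subtype.ext (hae.trans hz.symm)
          exact this ▸ ha
        set z := n T * w j * (n T)⁻¹ with hzdef
        have hzC : z ∈ C := C.mul_mem (C.mul_mem (hnC' _) (hPC (hwP _))) (C.inv_mem (hnC' _))
        have hzT : (⟨z, hzC⟩ : C) ∈ (T : Subgroup C) := hcm T z rfl hzC rfl (hwP _)
        have hzT' : (⟨z, hzC⟩ : C) ∈ (T' : Subgroup C) := by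
          obtain ⟨a, ha, hae⟩ := (hnP T' (w j')).1 (hwP _)
          have : a = ⟨z, hzC⟩ := Subtype.ext (hae.trans he.symm)
          exact this ▸ ha
        have hxn : ∀ T : Sylow 5 C, (⟨x, hxC⟩ : C) ∈ (T : Subgroup C) := fun T => by
          obtain ⟨a, ha, hae⟩ := (hnP T x).1 (hRP hxR)
          have : a = ⟨x, hxC⟩ := Subtype.ext (hae.trans (by
            rw [Subgroup.mem_centralizer_singleton_iff.1 (hnC' T), mul_inv_cancel_right]))
          exact this ▸ ha
        set I := (T : Subgroup C) ⊓ (T' : Subgroup C) with hI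
        have hId : Nat.card I ∣ 5 ^ 2 := by
          have := Subgroup.card_dvd_of_le (inf_le_left : I ≤ (T : Subgroup C))
          rw [hTc] at this; exact this.trans (by norm_num)
        have hI25 : Nat.card I ≠ 25 := fun e => hne' (Sylow.ext
          ((Subgroup.eq_of_le_of_card_ge (inf_le_left : I ≤ _) (by rw [e, hTc])).symm.trans
            (Subgroup.eq_of_le_of_card_ge (inf_le_right : I ≤ _) (by rw [e, hTc]))))
        have hxI : (⟨x, hxC⟩ : C) ∈ I := ⟨hxn T, hxn T'⟩
        have hI5 : Nat.card I = 5 := by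
          obtain ⟨i, hi, hie⟩ := (Nat.dvd_prime_pow (by norm_num : Nat.Prime 5)).1 hId
          have h5 : 5 ∣ Nat.card I := by
            have := Subgroup.orderOf_dvd_natCard I hxI
            rwa [Subgroup.orderOf_mk, hxo] at this
          interval_cases i <;> simp_all
        have hzI : (⟨z, hzC⟩ : C) ∈ Subgroup.zpowers (⟨x, hxC⟩ : C) := by
          rw [zpowers_eq_of_prime_card hI5 hxI (fun e => hx1 (congrArg Subtype.val e))]
          exact ⟨hzT, hzT'⟩
        obtain ⟨m, hm⟩ := hzI
        have hm : x ^ m = z := congrArg Subtype.val hm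
        refine hi₀ j j.2 ?_
        rw [← hzx]
        refine ⟨m, ?_⟩
        show x ^ m = w j
        have hcx : Commute (n T) (x ^ m) :=
          (show Commute (n T) x from Subgroup.mem_centralizer_singleton_iff.1 (hnC' T)).zpow_right m
        have : n T * x ^ m * (n T)⁻¹ = n T * w j * (n T)⁻¹ := by
          rw [hcx.eq, mul_inv_cancel_right, hm]
        exact mul_left_cancel (mul_right_cancel this)
      subst hT
      have hw : w j = w j' := mul_left_cancel (mul_right_cancel he)
      exact Prod.ext rfl (Subtype.ext (hwz j j' (hw ▸ Subgroup.mem_zpowers _)))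
    refine le_trans ?_ (Nat.card_le_card_of_injective f hf)
    rw [Nat.card_prod, hnC, Nat.card_eq_fintype_card, Fintype.card_subtype_compl, Fintype.card_subtype_eq, Fintype.card_fin]
  -- a conjugate of `x` moves exactly five cosets
  have horb : ∀ u : G, orderOf u = 5 → ∀ a : G ⧸ C, u • a ≠ a →
      (MulAction.orbit (Subgroup.zpowers u) a).ncard = 5 := by
    intro u hu a ha
    rw [← MulAction.index_stabilizer]
    have hd := Subgroup.index_dvd_card (MulAction.stabilizer (Subgroup.zpowers u) a)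
    rw [Nat.card_zpowers, hu] at hd
    refine ((Nat.dvd_prime (by norm_num : Nat.Prime 5)).1 hd).resolve_left fun e => ha ?_
    exact ((Subgroup.index_eq_one.1 e) ▸ Subgroup.mem_top (⟨u, Subgroup.mem_zpowers u⟩ : Subgroup.zpowers u) :
      (⟨u, Subgroup.mem_zpowers u⟩ : Subgroup.zpowers u) ∈ MulAction.stabilizer (Subgroup.zpowers u) a)
  have hxfix : Nat.card (MulAction.fixedBy (G ⧸ C) x) = 13 := by
    have hlt : Nat.card (MulAction.fixedBy (G ⧸ C) x) < 18 := by
      rw [← hidxC, Nat.card_coe_set_eq, ← Set.ncard_univ]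
      exact Set.ncard_lt_ncard (Set.ssubset_univ_iff.2 fun he =>
        hx1 (hfaith x fun c => (he ▸ Set.mem_univ c : c ∈ MulAction.fixedBy (G ⧸ C) x))) (Set.toFinite _)
    have hxp : IsPGroup 5 (Subgroup.zpowers x) := IsPGroup.of_card (n := 1) (by rw [Nat.card_zpowers, hxo, pow_one])
    have hmod := hxp.card_modEq_card_fixedPoints (G ⧸ C)
    have heq : Nat.card (MulAction.fixedPoints (Subgroup.zpowers x) (G ⧸ C)) = Nat.card (MulAction.fixedBy (G ⧸ C) x) :=
      Nat.card_congr (Equiv.subtypeEquivRight fun c => ⟨fun hc => hc ⟨x, Subgroup.mem_zpowers x⟩, fun hc => by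
        rintro ⟨u, hu⟩
        exact Subgroup.zpowers_le.2 (show x ∈ MulAction.stabilizer G c from hc) hu⟩)
    rw [heq, hidxC] at hmod
    have hge : 12 ≤ Nat.card (MulAction.fixedBy (G ⧸ C) x) := hfixcl ▸ h12
    unfold Nat.ModEq at hmod
    omega
  let mv : G → Set (G ⧸ C) := fun u => {c | u • c ≠ c}
  have hmvx : (mv x).ncard = 5 := by
    have h1 : mv x = (MulAction.fixedBy (G ⧸ C) x)ᶜ := rfl
    rw [h1, Set.ncard_compl, hidxC, ← Nat.card_coe_set_eq, hxfix]
  have hmv : ∀ j, (mv (w j)).ncard = 5 := fun j => by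
    have : mv (w j) = (fun c => g j • c) '' mv x := by
      ext c
      simp only [mv, Set.mem_ofPred_eq, Set.mem_image]
      constructor
      · intro hc
        refine ⟨(g j)⁻¹ • c, fun he => hc ?_, smul_inv_smul _ _⟩
        show (g j * x * (g j)⁻¹) • c = c
        rw [mul_smul, mul_smul, he, smul_inv_smul]
      · rintro ⟨d, hd, rfl⟩ he
        apply hd
        rw [show (w j) • g j • d = g j • (x • d) by simp only [w, mul_smul, inv_smul_smul]] at he
        exact smul_left_cancel _ he
    rw [this, Set.ncard_image_of_injective _ (MulAction.injective (g j)), hmvx]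
  have hwo : ∀ j, orderOf (w j) = 5 := fun j => by
    rw [show w j = MulAut.conj (g j) x from rfl, MulEquiv.orderOf_eq, hxo]
  have horbmv : ∀ j, ∀ a ∈ mv (w j), MulAction.orbit (Subgroup.zpowers (w j)) a = mv (w j) := by
    intro j a ha
    refine Set.eq_of_subset_of_ncard_le ?_ (by rw [hmv j, horb _ (hwo j) a ha]) (Set.toFinite _)
    rintro _ ⟨⟨u, m, rfl⟩, rfl⟩ he
    apply ha
    have he : w j • (w j ^ m) • a = (w j ^ m) • a := he
    rw [← mul_smul, ((Commute.refl (w j)).zpow_right m).eq, mul_smul] at he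
    exact smul_left_cancel _ he
  have hdisj : ∀ i j, i ≠ j → ∀ a ∈ mv (w i), a ∉ mv (w j) := by
    intro i j hij a hai haj
    have hcomm : Commute (w i) (w j) := hab P _ (hwP i) _ (hwP j)
    have hsub : mv (w j) ⊆ mv (w i) := by
      rw [← horbmv j a haj]
      rintro _ ⟨⟨u, m, rfl⟩, rfl⟩ he
      apply hai
      have he : w i • (w j ^ m) • a = (w j ^ m) • a := he
      rw [← mul_smul, (hcomm.zpow_right m).eq, mul_smul] at he
      exact smul_left_cancel _ he
    have heq := Set.eq_of_subset_of_ncard_le hsub (by rw [hmv i, hmv j]) (Set.toFinite _)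
    have hia : w i • a ∈ mv (w i) := fun he => hai (smul_left_cancel _ he)
    rw [← heq, ← horbmv j a haj] at hia
    obtain ⟨⟨u, m, rfl⟩, hm⟩ := hia
    have hm : (w j ^ m) • a = w i • a := hm
    set v := (w j ^ m)⁻¹ * w i with hv
    have hva : v • a = a := by rw [hv, mul_smul, ← hm, inv_smul_smul]
    have hvc : Commute v (w j) :=
      ((Commute.refl (w j)).zpow_left m).inv_left.mul_left hcomm
    have hv1 : v = 1 := by
      refine hfaith v fun c => ?_
      by_cases hc : c ∈ mv (w j)
      · rw [← horbmv j a haj] at hc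
        obtain ⟨⟨u, l, rfl⟩, rfl⟩ := hc
        show v • (w j ^ l) • a = (w j ^ l) • a
        rw [← mul_smul, (hvc.zpow_right l).eq, mul_smul, hva]
      · have h1 : w j • c = c := not_not.1 hc
        have h2 : w i • c = c := not_not.1 (fun h' => hc (heq ▸ h'))
        rw [hv, mul_smul, h2, inv_smul_eq_iff]
        exact (Subgroup.zpow_mem (MulAction.stabilizer G c) h1 m).symm
    rw [hv, inv_mul_eq_one] at hv1
    exact hij (hwz i j ⟨m, hv1⟩)
  -- two of them generate the Sylow subgroup
  obtain ⟨a, ha⟩ : (mv (w 2)).Nonempty := (Set.ncard_pos (Set.toFinite _)).1 (by rw [hmv]; norm_num)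
  have h0 : w 0 • a = a := not_not.1 fun h' => hdisj 2 0 (by decide) a ha h'
  have h1 : w 1 • a = a := not_not.1 fun h' => hdisj 2 1 (by decide) a ha h'
  set H := Subgroup.closure ({w 0, w 1} : Set G) with hH
  have hHP : H ≤ (P : Subgroup G) := (Subgroup.closure_le _).2 (by
    rintro z (rfl | rfl); exacts [hwP 0, hwP 1])
  have hHc : H = (P : Subgroup G) := by
    refine Subgroup.eq_of_le_of_card_ge hHP ?_
    rw [hcS]
    have hz0 : Subgroup.zpowers (w 0) ≤ H := Subgroup.zpowers_le.2 (Subgroup.subset_closure (Or.inl rfl))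
    obtain ⟨i, hi, hie⟩ := (Nat.dvd_prime_pow (by norm_num : Nat.Prime 5)).1
      (show Nat.card H ∣ 5 ^ 2 by rw [show (5 : ℕ) ^ 2 = 25 by norm_num, ← hcS P]; exact Subgroup.card_dvd_of_le hHP)
    have h5 := Subgroup.card_dvd_of_le hz0
    rw [Nat.card_zpowers, hwo] at h5
    interval_cases i
    · rw [hie] at h5; norm_num at h5
    · exfalso
      have : Subgroup.zpowers (w 0) = H := Subgroup.eq_of_le_of_card_ge hz0 (by rw [hie, Nat.card_zpowers, hwo]; norm_num)
      exact absurd (hwz 1 0 (this ▸ Subgroup.subset_closure (Or.inr rfl))) (by decide)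
    · rw [hie]; norm_num
  have hfin : H ≤ MulAction.stabilizer G a := (Subgroup.closure_le _).2 (by
    rintro z (rfl | rfl); exacts [h0, h1])
  rw [hHc] at hfin
  exact ha (hfin (hwP 2))


end Cfsg.Lib.Small.Order5400
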