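import Cfsg.Agent.Lib.Small.Order168
import Cfsg.Agent.Lib.Char.Central
import Mathlib.GroupTheory.SpecificGroups.Dihedral

/-!
# Simple groups of order 168: classes and Klein four-subgroups
-/

set_option autoImplicit false

namespace Cfsg.Lib.Small

theorem card_class_mul {G : Type*} [Group G] [Finite G] (x : G) :
    Nat.card {g : G // IsConj x g} * Nat.card ↥(Subgroup.centralizer ({x} : Set G)) = Nat.card G := by
  let _ : Fintype G := Fintype.ofFinite G
  rw [← (Subgroup.centralizer ({x} : Set G)).index_mul_card]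
  congr 1
  rw [← Cfsg.Lib.Char.card_classFinset x, ← Nat.card_eq_finsetCard]
  exact Nat.card_congr (Equiv.subtypeEquivRight fun g => Cfsg.Lib.Char.mem_classFinset.symm)

theorem isKleinFour_of_card {U : Type*} [Group U] (h4 : Nat.card U = 4) (hsq : ∀ u : U, u * u = 1) :
    IsKleinFour U := by
  refine ⟨h4, ?_⟩
  have : Finite U := Nat.finite_of_card_ne_zero (by omega)
  have : Nontrivial U := Finite.one_lt_card_iff_nontrivial.mp (by omega)
  exact (Monoid.exponent_eq_prime_iff Nat.prime_two).mpr fun g hg =>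
    orderOf_eq_prime (by rw [pow_two, hsq]) hg

theorem klein_sq {G : Type*} [Group G] {U : Subgroup G} (hU : IsKleinFour U) {x : G} (hx : x ∈ U) :
    x * x = 1 := by
  have := hU
  exact congrArg Subtype.val (IsKleinFour.mul_self (⟨x, hx⟩ : U))

namespace Order168

variable {G : Type*} [Group G] [Finite G] [IsSimpleGroup G] (h : Nat.card G = 168)
include h

theorem orderOf_cases (g : G) :
    orderOf g = 1 ∨ orderOf g = 2 ∨ orderOf g = 3 ∨ orderOf g = 4 ∨ orderOf g = 7 := by
  have := Fact.mk Nat.prime_two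
  by_cases h3 : orderOf g = 3
  · omega
  by_cases h7 : orderOf g = 7
  · omega
  have hd := orderOf_dvd_eight_of_ne h h3 h7
  have h8 : orderOf g ≠ 8 := by
    intro h8
    obtain ⟨T, hT⟩ := (IsPGroup.of_card (G := ↥(Subgroup.zpowers g)) (p := 2) (n := 3)
      (by rw [Nat.card_zpowers, h8]; norm_num)).exists_le_sylow
    apply not_comm_two h T
    have := Subgroup.eq_of_le_of_card_ge hT (by rw [sylow_two_card h T, Nat.card_zpowers, h8])
    rw [← this]
    infer_instance
  have := Nat.le_of_dvd (by norm_num) hd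
  interval_cases hh : orderOf g <;> omega

theorem class_central (T : Sylow 2 G) {z : G} (hzT : z ∈ (T : Subgroup G)) (hz : orderOf z = 2)
    (hc : ∀ t ∈ (T : Subgroup G), t * z = z * t) : Nat.card {g : G // IsConj z g} = 21 := by
  have h1 := card_class_mul z
  rw [centralizer_center h T hzT (fun he => by rw [he, orderOf_one] at hz; norm_num at hz) hc,
    sylow_two_card h T, h] at h1
  omega

theorem conj_mem_sylow {x : G} {k : ℕ} (hx : orderOf x = 2 ^ k) (T : Sylow 2 G) :
    ∃ g : G, g * x * g⁻¹ ∈ (T : Subgroup G) := by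
  have := Fact.mk Nat.prime_two
  obtain ⟨R, hR⟩ := (IsPGroup.of_card (G := ↥(Subgroup.zpowers x)) (p := 2) (n := k)
    (by rw [Nat.card_zpowers, hx])).exists_le_sylow
  obtain ⟨g, hg⟩ := MulAction.exists_smul_eq G R T
  exact ⟨g, hg ▸ map_conj_mem R g (hR (Subgroup.mem_zpowers x))⟩

/-- The basic counts. -/
theorem counts (T : Sylow 2 G) :
    Nat.card {g : G // orderOf g = 2} = 21 ∧ Nat.card {g : G // orderOf g = 4} = 42 ∧
      Nat.card {g : G // g ∈ (T : Subgroup G) ∧ orderOf g = 4} = 2 := by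
  classical
  have := Fact.mk Nat.prime_two
  have := Fintype.ofFinite G
  obtain ⟨z, hzT, hz, hzc, hzu⟩ := exists_central h T
  obtain ⟨a, haT, ha⟩ := exists_four h T
  have hz1 : z ≠ 1 := fun he => by rw [he, orderOf_one] at hz; norm_num at hz
  -- squares of elements of order four
  have hsq : ∀ x : G, orderOf x = 4 → IsConj z (x ^ 2) := by
    intro x hx
    obtain ⟨g, hg⟩ := conj_mem_sylow h (k := 2) (by rw [hx]; norm_num) T
    refine (isConj_iff.mpr ⟨g⁻¹, ?_⟩)
    have := sq_eq_central h T hzu hg (by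
      rw [show g * x * g⁻¹ = MulAut.conj g x from rfl, MulEquiv.orderOf_eq, hx])
    rw [← this, conj_pow]
    simp [mul_assoc]
  let f : {g : G // orderOf g = 4} → {g : G // IsConj z g} := fun x => ⟨x.1 ^ 2, hsq x.1 x.2⟩
  have hfib : ∀ c, Nat.card {x // f x = c} = Nat.card {g : G // g ∈ (T : Subgroup G) ∧ orderOf g = 4} := by
    rintro ⟨c, hc⟩
    obtain ⟨g, hg⟩ := isConj_iff.mp hc
    refine Nat.card_congr
      { toFun := fun x => ⟨g⁻¹ * x.1.1 * g, ?_, by
          rw [show g⁻¹ * x.1.1 * g = MulAut.conj g⁻¹ x.1.1 by simp, MulEquiv.orderOf_eq, x.1.2]⟩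
        invFun := fun y => ⟨⟨g * y.1 * g⁻¹, by
          rw [show g * y.1 * g⁻¹ = MulAut.conj g y.1 from rfl, MulEquiv.orderOf_eq, y.2.2]⟩,
          Subtype.ext (by
            change (g * y.1 * g⁻¹) ^ 2 = c
            rw [conj_pow, sq_eq_central h T hzu y.2.1 y.2.2, hg])⟩
        left_inv := fun x => Subtype.ext (Subtype.ext (by simp [mul_assoc]))
        right_inv := fun y => Subtype.ext (by simp [mul_assoc]) }
    have hx2 : x.1.1 ^ 2 = c := congrArg Subtype.val x.2
    rw [← centralizer_center h T hzT hz1 hzc, Subgroup.mem_centralizer_iff]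
    simp only [Set.mem_singleton_iff, forall_eq]
    have e : z = g⁻¹ * x.1.1 ^ 2 * g := by rw [hx2, ← hg]; simp [mul_assoc]
    calc z * (g⁻¹ * x.1.1 * g) = (g⁻¹ * x.1.1 ^ 2 * g) * (g⁻¹ * x.1.1 * g) := congrArg (· * _) e
      _ = (g⁻¹ * x.1.1 * g) * (g⁻¹ * x.1.1 ^ 2 * g) := by simp [mul_assoc, pow_two]
      _ = (g⁻¹ * x.1.1 * g) * z := congrArg (_ * ·) e.symm
  have h4 : Nat.card {g : G // orderOf g = 4} =
      21 * Nat.card {g : G // g ∈ (T : Subgroup G) ∧ orderOf g = 4} := by
    rw [← Nat.card_congr (Equiv.sigmaFiberEquiv f), Nat.card_sigma, Finset.sum_congr rfl fun c _ => hfib c,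
      Finset.sum_const, Finset.card_univ, ← Nat.card_eq_fintype_card, class_central h T hzT hz hzc,
      smul_eq_mul]
  have h2 : 21 ≤ Nat.card {g : G // orderOf g = 2} := by
    rw [← class_central h T hzT hz hzc]
    refine Nat.card_le_card_of_injective (fun g => ⟨g.1, ?_⟩) fun a b hab =>
      Subtype.ext (congrArg Subtype.val hab :)
    obtain ⟨c, hc⟩ := isConj_iff.mp g.2
    rw [← hc, show c * z * c⁻¹ = MulAut.conj c z from rfl, MulEquiv.orderOf_eq, hz]
  have hk : 2 ≤ Nat.card {g : G // g ∈ (T : Subgroup G) ∧ orderOf g = 4} := by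
    refine Finite.one_lt_card_iff_nontrivial.mpr ⟨⟨⟨a, haT, ha⟩, ⟨a⁻¹, inv_mem haT, by rw [orderOf_inv, ha]⟩, ?_⟩⟩
    intro he
    have e1 : a = a⁻¹ := congrArg Subtype.val he
    have e2 : a ^ 2 = 1 := by rw [pow_two]; exact eq_inv_iff_mul_eq_one.mp e1
    have := orderOf_dvd_of_pow_eq_one e2
    rw [ha] at this
    norm_num at this
  have hsum := Finset.card_eq_sum_card_fiberwise (s := (Finset.univ : Finset G))
    (t := ({1, 2, 3, 4, 7} : Finset ℕ)) (f := orderOf) (fun g _ => by
      simpa using orderOf_cases h g)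
  have hc : ∀ n : ℕ, ((Finset.univ : Finset G).filter fun g => orderOf g = n).card =
      Nat.card {g : G // orderOf g = n} := fun n => by
    rw [Nat.card_eq_fintype_card, Fintype.card_subtype]
  rw [Finset.card_univ, ← Nat.card_eq_fintype_card, h, Finset.sum_insert (by decide),
    Finset.sum_insert (by decide), Finset.sum_insert (by decide), Finset.sum_insert (by decide),
    Finset.sum_singleton, hc, hc, hc, hc, hc, h4, (class_card_le h T hzT).1,
    (class_card_le h T hzT).2] at hsum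
  have h1 : Nat.card {g : G // orderOf g = 1} = 1 :=
    Nat.card_eq_one_iff_unique.mpr ⟨⟨fun x y => Subtype.ext
      ((orderOf_eq_one_iff.mp x.2).trans (orderOf_eq_one_iff.mp y.2).symm)⟩, ⟨⟨1, orderOf_one⟩⟩⟩
  omega

theorem involutions_conj {s t : G} (hs : orderOf s = 2) (ht : orderOf t = 2) : IsConj s t := by
  classical
  have := Fact.mk Nat.prime_two
  obtain ⟨T⟩ : Nonempty (Sylow 2 G) := inferInstance
  obtain ⟨z, hzT, hz, hzc, -⟩ := exists_central h T
  let f : {g : G // IsConj z g} → {g : G // orderOf g = 2} := fun g => ⟨g.1, by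
    obtain ⟨c, hc⟩ := isConj_iff.mp g.2
    rw [← hc, show c * z * c⁻¹ = MulAut.conj c z from rfl, MulEquiv.orderOf_eq, hz]⟩
  have hf : Function.Injective f := fun a b hab => Subtype.ext (congrArg Subtype.val hab :)
  have hs' := (hf.bijective_of_nat_card_le (by rw [(counts h T).1, class_central h T hzT hz hzc])).2
  obtain ⟨a, ha⟩ := hs' ⟨s, hs⟩
  obtain ⟨b, hb⟩ := hs' ⟨t, ht⟩
  have ea : a.1 = s := congrArg Subtype.val ha
  have eb : b.1 = t := congrArg Subtype.val hb
  exact ea ▸ eb ▸ a.2.symm.trans b.2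

theorem four_eq_or_inv (T : Sylow 2 G) {a x : G} (haT : a ∈ (T : Subgroup G)) (ha : orderOf a = 4)
    (hx : x ∈ (T : Subgroup G)) (hx4 : orderOf x = 4) : x = a ∨ x = a⁻¹ := by
  classical
  by_contra hne
  push Not at hne
  have := Fintype.ofFinite G
  let S : Finset G := {x, a, a⁻¹}
  have haa : a ≠ a⁻¹ := by
    intro e1
    have e2 : a ^ 2 = 1 := by rw [pow_two]; exact eq_inv_iff_mul_eq_one.mp e1
    have := orderOf_dvd_of_pow_eq_one e2
    rw [ha] at this
    norm_num at this
  have hS : S.card = 3 := by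
    simp [S, hne.1, hne.2, haa]
  have hle : S.card ≤ Nat.card {g : G // g ∈ (T : Subgroup G) ∧ orderOf g = 4} := by
    rw [Nat.card_eq_fintype_card, Fintype.card_subtype]
    refine Finset.card_le_card fun y hy => ?_
    simp only [S, Finset.mem_insert, Finset.mem_singleton] at hy
    rw [Finset.mem_filter]
    rcases hy with rfl | rfl | rfl
    · exact ⟨Finset.mem_univ _, hx, hx4⟩
    · exact ⟨Finset.mem_univ _, haT, ha⟩
    · exact ⟨Finset.mem_univ _, inv_mem haT, by rw [orderOf_inv, ha]⟩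
  rw [(counts h T).2.2] at hle
  omega

theorem exists_dihedral_gens (T : Sylow 2 G) : ∃ a b : G, a ∈ (T : Subgroup G) ∧ b ∈ (T : Subgroup G) ∧
    orderOf a = 4 ∧ orderOf b = 2 ∧ b ∉ Subgroup.zpowers a ∧ b * a * b⁻¹ = a⁻¹ ∧
    Subgroup.closure ({a, b} : Set G) = (T : Subgroup G) := by
  have := Fact.mk Nat.prime_two
  obtain ⟨a, haT, ha⟩ := exists_four h T
  obtain ⟨b, hbT, hb⟩ : ∃ b ∈ (T : Subgroup G), b ∉ Subgroup.zpowers a := by
    by_contra hn
    push Not at hn
    have := Subgroup.card_le_of_le (show (T : Subgroup G) ≤ Subgroup.zpowers a from hn)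
    rw [sylow_two_card h T, Nat.card_zpowers, ha] at this
    omega
  have hb1 : b ≠ 1 := fun he => hb (he ▸ one_mem _)
  have hb2 : orderOf b = 2 := by
    have hd := Subgroup.orderOf_dvd_natCard _ hbT
    rw [sylow_two_card h T] at hd
    rcases orderOf_cases h b with e | e | e | e | e
    · exact absurd (orderOf_eq_one_iff.mp e) hb1
    · exact e
    · rw [e] at hd; norm_num at hd
    · exfalso
      rcases four_eq_or_inv h T haT ha hbT e with rfl | rfl
      · exact hb (Subgroup.mem_zpowers _)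
      · exact hb (inv_mem (Subgroup.mem_zpowers _))
    · rw [e] at hd; norm_num at hd
  have hle : Subgroup.closure ({a, b} : Set G) ≤ (T : Subgroup G) := by
    rw [Subgroup.closure_le]; rintro x (rfl | rfl) <;> assumption
  have htop : Subgroup.closure ({a, b} : Set G) = (T : Subgroup G) := by
    refine Subgroup.eq_of_le_of_card_ge hle ?_
    have hlt : Subgroup.zpowers a < Subgroup.closure ({a, b} : Set G) :=
      lt_of_le_of_ne (Subgroup.zpowers_le.mpr (Cfsg.Lib.TwoGroup.mem_closure_left a b)) fun he =>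
        hb (he ▸ Cfsg.Lib.TwoGroup.mem_closure_right a b)
    obtain ⟨m, hm⟩ := IsPGroup.iff_card.mp (T.isPGroup'.to_le hle)
    have hgt : 4 < Nat.card ↥(Subgroup.closure ({a, b} : Set G)) := by
      by_contra hle'
      exact hlt.ne (Subgroup.eq_of_le_of_card_ge hlt.le (by rw [Nat.card_zpowers, ha]; omega))
    rw [sylow_two_card h T, hm]
    rw [hm] at hgt
    have : 3 ≤ m := by
      by_contra hm3
      interval_cases m <;> norm_num at hgt
    calc 8 = 2 ^ 3 := by norm_num
      _ ≤ 2 ^ m := Nat.pow_le_pow_right (by norm_num) this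
  refine ⟨a, b, haT, hbT, ha, hb2, hb, ?_, htop⟩
  refine (four_eq_or_inv h T haT ha (mul_mem (mul_mem hbT haT) (inv_mem hbT)) (by
    rw [show b * a * b⁻¹ = MulAut.conj b a from rfl, MulEquiv.orderOf_eq, ha])).resolve_left fun he => ?_
  apply not_comm_two h T
  have hcomm : ∀ x ∈ ({a, b} : Set G), ∀ y ∈ ({a, b} : Set G), x * y = y * x := by
    have e : b * a = a * b := mul_inv_eq_iff_eq_mul.mp he
    rintro x (rfl | rfl) y (rfl | rfl)
    · rfl
    · exact e.symm
    · exact e
    · rfl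
  rw [← htop]
  exact Subgroup.isMulCommutative_closure hcomm

theorem dihedral (T : Sylow 2 G) : Nonempty (↥(T : Subgroup G) ≃* DihedralGroup 4) := by
  obtain ⟨a, b, -, -, ha, hb, hnot, hinv, htop⟩ := exists_dihedral_gens h T
  obtain ⟨e⟩ := Cfsg.Lib.TwoGroup.equiv_dihedral (r := a) (t := b)
    (by rw [← pow_two, ← hb, pow_orderOf_eq_one]) hinv hnot
  rw [htop, ha] at e
  exact ⟨e⟩

theorem four_conj {s t : G} (hs : orderOf s = 4) (ht : orderOf t = 4) : IsConj s t := by
  have := Fact.mk Nat.prime_two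
  obtain ⟨T⟩ : Nonempty (Sylow 2 G) := inferInstance
  obtain ⟨a, b, haT, -, ha, -, -, hinv, -⟩ := exists_dihedral_gens h T
  have key : ∀ x : G, orderOf x = 4 → IsConj a x := by
    intro x hx
    obtain ⟨g, hg⟩ := conj_mem_sylow h (k := 2) (by rw [hx]; norm_num) T
    have hxg : IsConj (g * x * g⁻¹) x := (isConj_iff.mpr ⟨g⁻¹, by simp [mul_assoc]⟩)
    rcases four_eq_or_inv h T haT ha hg (by
      rw [show g * x * g⁻¹ = MulAut.conj g x from rfl, MulEquiv.orderOf_eq, hx]) with e | e
    · rwa [e] at hxg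
    · rw [e] at hxg
      exact (isConj_iff.mpr ⟨b, hinv⟩).trans hxg
  exact (key s hs).symm.trans (key t ht)

theorem three_conj {s t : G} (hs : orderOf s = 3) (ht : orderOf t = 3) : IsConj s t := by
  have := Fact.mk Nat.prime_three
  have := Fact.mk Nat.prime_two
  obtain ⟨Q, hQ⟩ := exists_sylow_eq_zpowers (sylow_three_card h) hs
  obtain ⟨R, hR⟩ := exists_sylow_eq_zpowers (sylow_three_card h) ht
  obtain ⟨g, hg⟩ := MulAction.exists_smul_eq G R Q
  set t' := g * t * g⁻¹ with ht'
  have htt : IsConj t t' := isConj_iff.mpr ⟨g, rfl⟩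
  have ho' : orderOf t' = 3 := by
    rw [ht', show g * t * g⁻¹ = MulAut.conj g t from rfl, MulEquiv.orderOf_eq, ht]
  have hmem : t' ∈ Subgroup.zpowers s := by
    rw [← hQ, ← hg]
    exact ⟨t, hR ▸ Subgroup.mem_zpowers t, rfl⟩
  have hpow : ∀ u ∈ Subgroup.zpowers s, u = 1 ∨ u = s ∨ u = s⁻¹ := by
    intro u hu
    obtain ⟨i, rfl⟩ := Subgroup.mem_zpowers_iff.mp hu
    rw [← zpow_mod_orderOf, hs]
    have h1 := Int.emod_nonneg i (show ((3 : ℕ) : ℤ) ≠ 0 by norm_num)
    have h2 := Int.emod_lt_of_pos i (show (0 : ℤ) < ((3 : ℕ) : ℤ) by norm_num)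
    have hinv : s⁻¹ = s ^ (2 : ℤ) := by
      rw [eq_comm, eq_inv_iff_mul_eq_one, ← zpow_add_one]
      change s ^ ((3 : ℕ) : ℤ) = 1
      rw [zpow_natCast, ← hs, pow_orderOf_eq_one]
    rcases (by omega : i % ((3 : ℕ) : ℤ) = 0 ∨ i % ((3 : ℕ) : ℤ) = 1 ∨ i % ((3 : ℕ) : ℤ) = 2) with e | e | e <;>
      rw [e]
    · exact Or.inl (zpow_zero s)
    · exact Or.inr (Or.inl (zpow_one s))
    · exact Or.inr (Or.inr hinv.symm)
  rcases hpow t' hmem with e | e | e
  · rw [e, orderOf_one] at ho'; norm_num at ho'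
  · exact e ▸ htt.symm
  · -- an involution of the normalizer inverts `s`
    obtain ⟨⟨u, huN⟩, hu⟩ := exists_prime_orderOf_dvd_card'
      (G := ↥(Subgroup.normalizer ((Q : Subgroup G) : Set G))) 2 (by rw [normalizer_three h Q]; norm_num)
    rw [Subgroup.orderOf_mk] at hu
    have hsQ : s ∈ (Q : Subgroup G) := hQ ▸ Subgroup.mem_zpowers s
    have hm : u * s * u⁻¹ ∈ Subgroup.zpowers s :=
      hQ ▸ (Subgroup.mem_normalizer_iff.mp huN s).mp hsQ
    have ho : orderOf (u * s * u⁻¹) = 3 := by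
      rw [show u * s * u⁻¹ = MulAut.conj u s from rfl, MulEquiv.orderOf_eq, hs]
    have hinv : u * s * u⁻¹ = s⁻¹ := by
      rcases hpow _ hm with e1 | e1 | e1
      · rw [e1, orderOf_one] at ho; norm_num at ho
      · exfalso
        have := orderOf_dvd_prime h (Or.inl rfl) hs
          (show Commute s u from (mul_inv_eq_iff_eq_mul.mp e1).symm)
        rw [hu] at this; norm_num at this
      · exact e1
    exact (isConj_iff.mpr ⟨u, hinv⟩ : IsConj s s⁻¹).trans (e ▸ htt.symm)

theorem seven_class {x : G} (hx : orderOf x = 7) :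
    Nat.card {g : G // IsConj x g} = 24 ∧ ¬ IsConj x x⁻¹ := by
  have := Fact.mk (show Nat.Prime 7 by norm_num)
  refine ⟨?_, ?_⟩
  · have h1 := card_class_mul x
    rw [centralizer_orderOf_seven h hx, h] at h1
    omega
  · intro hc
    obtain ⟨g, hg⟩ := isConj_iff.mp hc
    obtain ⟨P, hP⟩ := exists_sylow_eq_zpowers (sylow_seven_card h) hx
    have hgN : g ∈ Subgroup.normalizer ((P : Subgroup G) : Set G) := by
      rw [hP, Subgroup.mem_normalizer_iff_map_conj_eq]
      change (Subgroup.zpowers x).map (MulAut.conj g).toMonoidHom = _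
      rw [MonoidHom.map_zpowers]
      change Subgroup.zpowers (g * x * g⁻¹) = _
      rw [hg, Subgroup.zpowers_inv]
    have hg2 : Commute x (g ^ 2) := by
      have e : g ^ 2 * x * (g ^ 2)⁻¹ = x := by
        calc g ^ 2 * x * (g ^ 2)⁻¹ = g * (g * x * g⁻¹) * g⁻¹ := by simp [pow_two, mul_assoc]
          _ = g * x⁻¹ * g⁻¹ := by rw [hg]
          _ = x := by rw [← conj_inv, hg, inv_inv]
      exact (mul_inv_eq_iff_eq_mul.mp e).symm
    have hd1 : orderOf g ∣ 21 := normalizer_seven h P ▸ Subgroup.orderOf_dvd_natCard _ hgN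
    have hd2 := orderOf_dvd_prime h (Or.inr rfl) hx hg2
    rw [Nat.Coprime.orderOf_pow (Nat.Coprime.coprime_dvd_left hd1 (by norm_num))] at hd2
    have hgP : g ∈ Subgroup.centralizer ({x} : Set G) := by
      obtain ⟨k, hk⟩ : ∃ k, (g ^ 2) ^ k = g :=
        exists_pow_eq_self_of_coprime ((show Nat.Coprime 2 21 by norm_num).coprime_dvd_right hd1)
      rw [Subgroup.mem_centralizer_iff]
      simp only [Set.mem_singleton_iff, forall_eq]
      exact hk ▸ (hg2.pow_right k).eq
    have e : g * x * g⁻¹ = x := by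
      rw [← Subgroup.mem_centralizer_iff.mp hgP x rfl, mul_inv_cancel_right]
    rw [hg] at e
    have e2 : x ^ 2 = 1 := by rw [pow_two]; nth_rewrite 1 [← e]; rw [inv_mul_cancel]
    have := orderOf_dvd_of_pow_eq_one e2
    rw [hx] at this
    norm_num at this

end Order168

end Cfsg.Lib.Small
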