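import Mathlib.Data.ZMod.Basic
import Mathlib.Algebra.Field.ZMod
import Mathlib.Tactic

/-!
# Arithmetic for the theorem of Brauer and Tuan

Powers of two modulo a Mersenne or Fermat prime `p`, and the possible odd parts of degrees which
are `± 1` modulo `p`.
-/

set_option autoImplicit false

namespace Cfsg.Lib.Small.BrauerTuan

/-- The two shapes of `p`, the degree `d` and the exponent `m`. -/
def Special (p d m : ℕ) : Prop :=
  2 ≤ m ∧ 2 ≤ d ∧ (p + 1 = 2 ^ m ∧ 2 * d + 1 = p ∨ p = 2 ^ m + 1 ∧ p + 1 = 2 * d)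

variable {p d m : ℕ}

theorem Special.bounds (h : Special p d m) :
    4 ≤ 2 ^ m ∧ 2 * 2 ^ (m - 1) = 2 ^ m ∧ 2 ^ m ≤ p + 1 ∧ p ≤ 2 ^ m + 1 := by
  obtain ⟨hm, -, hc⟩ := h
  refine ⟨?_, ?_, ?_, ?_⟩
  · calc 4 = 2 ^ 2 := by norm_num
      _ ≤ 2 ^ m := Nat.pow_le_pow_right two_pos hm
  · rw [← pow_succ', show m - 1 + 1 = m by omega]
  all_goals omega

theorem Special.pow_m (h : Special p d m) :
    (2 : ZMod p) ^ m = 1 ∨ (2 : ZMod p) ^ m = -1 := by
  rcases h.2.2 with ⟨h1, -⟩ | ⟨h1, -⟩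
  · left
    have : ((p + 1 : ℕ) : ZMod p) = ((2 ^ m : ℕ) : ZMod p) := by rw [h1]
    push_cast at this
    rw [ZMod.natCast_self, zero_add] at this
    exact this.symm
  · right
    have : ((p : ℕ) : ZMod p) = ((2 ^ m + 1 : ℕ) : ZMod p) := by rw [← h1]
    push_cast at this
    rw [ZMod.natCast_self] at this
    linear_combination -this

/-- Writing a power of two as a sign times a small power. -/
theorem Special.reduce (h : Special p d m) (k : ℕ) :
    ∃ t : ℤ, (t = 1 ∨ t = -1) ∧ (2 : ZMod p) ^ k = (t : ZMod p) * 2 ^ (k % m) := by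
  have key : ∀ j : ℕ, ∃ t : ℤ, (t = 1 ∨ t = -1) ∧ ((2 : ZMod p) ^ m) ^ j = (t : ZMod p) := by
    intro j
    rcases h.pow_m with h1 | h1 <;> rw [h1]
    · exact ⟨1, Or.inl rfl, by simp⟩
    · rcases Nat.even_or_odd j with hj | hj
      · exact ⟨1, Or.inl rfl, by simp [hj.neg_one_pow]⟩
      · exact ⟨-1, Or.inr rfl, by simp [hj.neg_one_pow]⟩
  obtain ⟨t, ht, he⟩ := key (k / m)
  refine ⟨t, ht, ?_⟩
  rw [← he, ← pow_mul, ← pow_add, Nat.div_add_mod]

/-- A power of two is `± 1` modulo `p` only when `m` divides the exponent. -/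
theorem Special.dvd_of_pow (h : Special p d m) [Fact p.Prime] {k : ℕ} {u : ℤ}
    (hu : u = 1 ∨ u = -1) (hk : (2 : ZMod p) ^ k = (u : ZMod p)) : m ∣ k := by
  obtain ⟨h4, hhalf, hlow, -⟩ := h.bounds
  obtain ⟨t, ht, he⟩ := h.reduce k
  rw [hk] at he
  by_contra hcon
  set i := k % m with hi
  have hi1 : 1 ≤ i := Nat.one_le_iff_ne_zero.2 fun h0 => hcon (Nat.dvd_of_mod_eq_zero h0)
  have him : i < m := Nat.mod_lt _ (by have := h.1; omega)
  have hge : 2 ≤ 2 ^ i := by
    calc 2 = 2 ^ 1 := by norm_num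
      _ ≤ 2 ^ i := Nat.pow_le_pow_right two_pos hi1
  have hle : 2 ^ i ≤ 2 ^ (m - 1) := Nat.pow_le_pow_right two_pos (by omega)
  have hcases : ((2 : ZMod p) ^ i = 1) ∨ (2 : ZMod p) ^ i = -1 := by
    rcases hu with hu | hu <;> rcases ht with ht | ht <;> rw [hu, ht] at he <;> push_cast at he
    · exact Or.inl (by linear_combination -he)
    · exact Or.inr (by linear_combination he)
    · exact Or.inr (by linear_combination -he)
    · exact Or.inl (by linear_combination he)
  rcases hcases with h1 | h1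
  · have h0 : ((2 ^ i - 1 : ℕ) : ZMod p) = 0 := by
      rw [Nat.cast_sub (by omega)]; push_cast; linear_combination h1
    rw [ZMod.natCast_eq_zero_iff] at h0
    have := Nat.le_of_dvd (by omega) h0
    omega
  · have h0 : ((2 ^ i + 1 : ℕ) : ZMod p) = 0 := by push_cast; linear_combination h1
    rw [ZMod.natCast_eq_zero_iff] at h0
    have := Nat.le_of_dvd (by omega) h0
    rcases h.2.2 with ⟨h2, -⟩ | ⟨h2, -⟩
    · have hp2 := (Fact.out : p.Prime).two_le
      have h3 : 2 ^ i + 1 = p := by omega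
      have : 2 ^ i = 2 ^ (m - 1) := by omega
      have h4' : p = 3 := by omega
      subst h4'
      have hd := h.2.1
      rcases h.2.2 with ⟨h2', h3'⟩ | ⟨h2', h3'⟩ <;> omega
    · omega

/-- The odd part of a degree which is `± 1` modulo `p`. -/
theorem Special.odd_part (h : Special p d m) [Fact p.Prime] (hd : Odd d) (hd2 : 2 ≤ d)
    {d' k : ℕ} {u : ℤ} (hd' : d' ∣ d) (hu : u = 1 ∨ u = -1)
    (hk : ((d' * 2 ^ k : ℕ) : ZMod p) = (u : ZMod p)) : d' = 1 ∧ m ∣ k ∨ d' = d := by
  obtain ⟨h4, hhalf, hlow, hhigh⟩ := h.bounds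
  obtain ⟨t, ht, he⟩ := h.reduce k
  push_cast at hk
  rw [he] at hk
  have hle : d' ≤ d := Nat.le_of_dvd (by omega) hd'
  have hodd' : Odd d' := Odd.of_dvd_nat hd hd'
  have hdp : d + 1 < p := by rcases h.2.2 with ⟨h1, h2⟩ | ⟨h1, h2⟩ <;> omega
  rcases Nat.eq_zero_or_pos (k % m) with hi | hi
  · left
    refine ⟨?_, Nat.dvd_of_mod_eq_zero hi⟩
    rw [hi, pow_zero, mul_one] at hk
    have hcases : ((d' : ℕ) : ZMod p) = 1 ∨ ((d' : ℕ) : ZMod p) = -1 := by
      rcases hu with hu | hu <;> rcases ht with ht | ht <;> rw [hu, ht] at hk <;> push_cast at hk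
      · exact Or.inl (by linear_combination hk)
      · exact Or.inr (by linear_combination -hk)
      · exact Or.inr (by linear_combination hk)
      · exact Or.inl (by linear_combination -hk)
    rcases hcases with h1 | h1
    · have h0 : ((d' : ℕ) : ZMod p) = ((1 : ℕ) : ZMod p) := by rw [h1, Nat.cast_one]
      rwa [ZMod.natCast_eq_natCast_iff', Nat.mod_eq_of_lt (by omega),
        Nat.mod_eq_of_lt (by omega)] at h0
    · exfalso
      have h0 : ((d' + 1 : ℕ) : ZMod p) = 0 := by push_cast; linear_combination h1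
      rw [ZMod.natCast_eq_zero_iff] at h0
      have := Nat.le_of_dvd (by omega) h0
      omega
  · right
    set i := k % m with hidef
    have him : i < m := Nat.mod_lt _ (by have := h.1; omega)
    have hsplit : (2 : ZMod p) ^ m = 2 ^ i * 2 ^ (m - i) := by
      rw [← pow_add]; congr 1; omega
    have hge : 2 ≤ 2 ^ (m - i) := by
      calc 2 = 2 ^ 1 := by norm_num
        _ ≤ 2 ^ (m - i) := Nat.pow_le_pow_right two_pos (by omega)
    have hlew : 2 ^ (m - i) ≤ 2 ^ (m - 1) := Nat.pow_le_pow_right two_pos (by omega)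
    have heven : Even (2 ^ (m - i)) := (Nat.even_pow).2 ⟨even_two, by omega⟩
    -- `d'` is `± 2 ^ (m - i)` modulo `p`
    have hcases : ((d' : ℕ) : ZMod p) = (2 : ZMod p) ^ (m - i) ∨
        ((d' : ℕ) : ZMod p) = -(2 : ZMod p) ^ (m - i) := by
      have h2 : ((d' : ℕ) : ZMod p) * (t : ZMod p) * (2 : ZMod p) ^ m =
          (u : ZMod p) * 2 ^ (m - i) := by
        rw [hsplit, ← hk]; ring
      rcases h.pow_m with hm1 | hm1 <;> rw [hm1] at h2 <;>
        rcases hu with hu | hu <;> rcases ht with ht | ht <;> rw [hu, ht] at h2 <;>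
        push_cast at h2
      all_goals first
        | exact Or.inl (by linear_combination h2)
        | exact Or.inr (by linear_combination h2)
        | exact Or.inl (by linear_combination -h2)
        | exact Or.inr (by linear_combination -h2)
    rcases hcases with h1 | h1
    · exfalso
      have h0 : ((d' : ℕ) : ZMod p) = ((2 ^ (m - i) : ℕ) : ZMod p) := by push_cast; exact h1
      rw [ZMod.natCast_eq_natCast_iff', Nat.mod_eq_of_lt (by omega),
        Nat.mod_eq_of_lt (by omega)] at h0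
      exact (Nat.not_even_iff_odd.2 hodd') (h0 ▸ heven)
    · have h0 : ((d' + 2 ^ (m - i) : ℕ) : ZMod p) = 0 := by
        push_cast; linear_combination h1
      rw [ZMod.natCast_eq_zero_iff] at h0
      have := Nat.le_of_dvd (by omega) h0
      rcases h.2.2 with ⟨h2, h3⟩ | ⟨h2, h3⟩ <;> omega

/-- The final bound. -/
theorem Special.mul_lt (h : Special p d m) : p * d < 2 ^ (2 * m) := by
  obtain ⟨h4, -, -, -⟩ := h.bounds
  rw [two_mul, pow_add]
  rcases h.2.2 with ⟨h1, h2⟩ | ⟨h1, h2⟩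
  · exact Nat.mul_lt_mul_of_lt_of_lt (by omega) (by omega)
  · nlinarith

end Cfsg.Lib.Small.BrauerTuan
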