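import Mathlib.FieldTheory.Finite.Basic
import Mathlib.Tactic

/-!
# Arithmetic for simple groups of order `p * r * 2 ^ b`
-/

set_option autoImplicit false

namespace Cfsg.Lib.Small.ThreePrime

/-- A divisor of `p * q ^ b` is `q ^ k` or `p * q ^ k`. -/
theorem dvd_cases {p q b d : ℕ} (hp : p.Prime) (hq : q.Prime) (h : d ∣ p * q ^ b) :
    ∃ k ≤ b, d = q ^ k ∨ d = p * q ^ k := by
  obtain ⟨u, v, hu, hv, rfl⟩ := Nat.dvd_mul.1 h
  obtain ⟨k, hk, rfl⟩ := (Nat.dvd_prime_pow hq).1 hv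
  rcases (Nat.dvd_prime hp).1 hu with rfl | rfl
  · exact ⟨k, hk, Or.inl (one_mul _)⟩
  · exact ⟨k, hk, Or.inr rfl⟩

/-- `2 ^ c + 1` and `2 ^ (c + 1) + 1` are both prime only for `c = 1`. -/
theorem fermat_pair {p r c : ℕ} (hc : 1 ≤ c) (hp : p.Prime) (hr : r.Prime)
    (hpe : p = 2 ^ c + 1) (hre : r = 2 * 2 ^ c + 1) : p = 3 ∧ r = 5 ∧ c = 1 := by
  have hge : 2 ≤ 2 ^ c := by
    calc 2 = 2 ^ 1 := by norm_num
      _ ≤ 2 ^ c := Nat.pow_le_pow_right two_pos hc
  have hp3 : p = 3 := by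
    have hmod : 2 ^ c % 3 = 1 ∨ 2 ^ c % 3 = 2 := by
      have : ¬ 3 ∣ 2 ^ c := fun h => by
        have := Nat.prime_three.dvd_of_dvd_pow h
        omega
      omega
    rcases hmod with h | h
    · exfalso
      have : 3 ∣ r := by omega
      have := (Nat.prime_dvd_prime_iff_eq Nat.prime_three hr).1 this
      omega
    · have : 3 ∣ p := by omega
      exact ((Nat.prime_dvd_prime_iff_eq Nat.prime_three hp).1 this).symm
  have hc2 : 2 ^ c = 2 := by omega
  refine ⟨hp3, by omega, ?_⟩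
  exact Nat.pow_right_injective le_rfl (hc2.trans (pow_one 2).symm)

/-- `2 ^ b - 1` and `2 ^ b + 1` are both prime only for `b = 2`. -/
theorem mersenne_pair {p r b : ℕ} (hp : p.Prime) (hr : r.Prime) (hp2 : p ≠ 2)
    (hpe : p + 1 = 2 ^ b) (hre : r = p + 2) : p = 3 ∧ r = 5 ∧ b = 2 := by
  have hp3 : p = 3 := by
    have hp2' := hp.two_le
    have : ¬ 3 ∣ 2 ^ b := fun h => by
      have := Nat.prime_three.dvd_of_dvd_pow h
      omega
    have h : 3 ∣ p ∨ 3 ∣ r := by omega
    rcases h with h | h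
    · exact ((Nat.prime_dvd_prime_iff_eq Nat.prime_three hp).1 h).symm
    · have := (Nat.prime_dvd_prime_iff_eq Nat.prime_three hr).1 h
      omega
  refine ⟨hp3, by omega, ?_⟩
  exact Nat.pow_right_injective le_rfl (show 2 ^ b = 2 ^ 2 by omega)

/-- Elements `1` and `-1` are distinct modulo an odd prime. -/
theorem eq_one_of_cast {r : ℕ} (hr : 2 < r) {s : ℤ} (hs : s = 1 ∨ s = -1)
    (h : (s : ZMod r) = 1) : s = 1 := by
  rcases hs with hs | hs
  · exact hs
  exfalso
  rw [hs] at h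
  push_cast at h
  have h2 : ((2 : ℕ) : ZMod r) = 0 := by
    push_cast
    linear_combination -h
  rw [ZMod.natCast_eq_zero_iff] at h2
  exact absurd (Nat.le_of_dvd two_pos h2) (by omega)

/-- The exponent of a member whose degree is divisible by `p`. -/
theorem exponent_eq {p r b c k : ℕ} {s : ℤ} (hr : r.Prime) (hpr : p + 2 ≤ r)
    (hb : 2 ^ b < p * r) (hc : 1 ≤ c) (hcb : c ≤ b) (hk : 2 * k < b) (hs : s = 1 ∨ s = -1)
    (h1 : (2 : ZMod r) ^ b = -1) (h2 : (2 : ZMod r) ^ (c + k) = -(s : ZMod r)) :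
    s = 1 ∧ c + k = b := by
  have hr2 : 2 < r := by
    have := hr.two_le
    rcases Nat.eq_zero_or_pos p with rfl | hp
    · simp at hb
    · omega
  have hss : (s : ZMod r) * (s : ZMod r) = 1 := by
    rcases hs with h | h <;> rw [h] <;> push_cast <;> ring
  obtain ⟨n, hnb, hn, hn0⟩ : ∃ n, n < b ∧ (2 : ZMod r) ^ n = s ∧ (n = 0 → c + k = b) := by
    rcases le_or_gt b (c + k) with h | h
    · refine ⟨c + k - b, by omega, ?_, fun h0 => by omega⟩
      have e : (2 : ZMod r) ^ (c + k) = 2 ^ b * 2 ^ (c + k - b) := by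
        rw [← pow_add]; congr 1; omega
      rw [e, h1] at h2
      linear_combination -h2
    · refine ⟨b - (c + k), by omega, ?_, fun h0 => by omega⟩
      have e : (2 : ZMod r) ^ b = 2 ^ (c + k) * 2 ^ (b - (c + k)) := by
        rw [← pow_add]; congr 1; omega
      rw [e, h2] at h1
      linear_combination -(s : ZMod r) * h1 - (2 : ZMod r) ^ (b - (c + k)) * hss
  rcases Nat.eq_zero_or_pos n with hz | hpos
  · refine ⟨eq_one_of_cast hr2 hs ?_, hn0 hz⟩
    rw [← hn, hz, pow_zero]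
  exfalso
  -- in either case `r ≤ 2 ^ m + 1` with `2 * m ≤ b`
  obtain ⟨m, hm1, hmb, hrm⟩ : ∃ m, 1 ≤ m ∧ 2 * m ≤ b ∧ r ≤ 2 ^ m + 1 := by
    have key : ∀ m : ℕ, 1 ≤ m → ∀ t : ℤ, t = 1 ∨ t = -1 → (2 : ZMod r) ^ m = (t : ZMod r) →
        r ≤ 2 ^ m + 1 := by
      intro m hm t ht hmt
      have hge : 2 ≤ 2 ^ m := by
        calc 2 = 2 ^ 1 := by norm_num
          _ ≤ 2 ^ m := Nat.pow_le_pow_right two_pos hm
      rcases ht with ht | ht <;> rw [ht] at hmt <;> push_cast at hmt
      · have : ((2 ^ m - 1 : ℕ) : ZMod r) = 0 := by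
          rw [Nat.cast_sub (by omega)]; push_cast; rw [hmt, sub_self]
        rw [ZMod.natCast_eq_zero_iff] at this
        have := Nat.le_of_dvd (by omega) this
        omega
      · have : ((2 ^ m + 1 : ℕ) : ZMod r) = 0 := by
          push_cast; rw [hmt]; ring
        rw [ZMod.natCast_eq_zero_iff] at this
        exact Nat.le_of_dvd (by omega) this
    rcases le_or_gt (2 * n) b with h | h
    · exact ⟨n, hpos, h, key n hpos s hs hn⟩
    · refine ⟨b - n, by omega, by omega, key (b - n) (by omega) (-s) (by omega) ?_⟩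
      have e : (2 : ZMod r) ^ b = 2 ^ (b - n) * 2 ^ n := by
        rw [← pow_add]; congr 1; omega
      rw [e, hn] at h1
      push_cast
      linear_combination (s : ZMod r) * h1 - (2 : ZMod r) ^ (b - n) * hss
  have h3 : p * r ≤ (2 ^ m - 1) * (2 ^ m + 1) := Nat.mul_le_mul (by omega) hrm
  have h4 : (2 ^ m - 1) * (2 ^ m + 1) ≤ 2 ^ b := by
    refine le_trans ?_ (Nat.pow_le_pow_right two_pos hmb)
    obtain ⟨t, ht⟩ : ∃ t, 2 ^ m = t + 1 := ⟨2 ^ m - 1, by have := Nat.two_pow_pos m; omega⟩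
    rw [two_mul m, pow_add, ht, Nat.add_sub_cancel]
    nlinarith
  omega

/-- The closing case `p = (r - 1) / 2`. -/
theorem half_case {p r b : ℕ} (hp : p.Prime) (hr : r.Prime) (hp2 : p ≠ 2) (hre : r = 2 * p + 1)
    (hb : 2 ≤ b) (hn : 2 ^ b % r = 1) (hle : 2 ^ b ≤ p * r) :
    p = 3 ∧ r = 7 ∧ b = 3 := by
  haveI := Fact.mk hr
  have hp3 : 3 ≤ p := by have := hp.two_le; omega
  have h1 : (2 : ZMod r) ^ b = 1 := by
    have : ((2 ^ b : ℕ) : ZMod r) = ((1 : ℕ) : ZMod r) := by
      rw [ZMod.natCast_eq_natCast_iff', hn, Nat.one_mod_eq_one.2 (by omega)]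
    push_cast at this
    exact this
  have h20 : (2 : ZMod r) ≠ 0 := fun h => by
    have : ((2 : ℕ) : ZMod r) = 0 := by push_cast; exact h
    rw [ZMod.natCast_eq_zero_iff] at this
    have := Nat.le_of_dvd two_pos this
    omega
  have h2 : (2 : ZMod r) ^ (2 * p) = 1 := by
    have := ZMod.pow_card_sub_one_eq_one h20
    rwa [show r - 1 = 2 * p by omega] at this
  have hg : (2 : ZMod r) ^ Nat.gcd b (2 * p) = 1 := pow_gcd_eq_one.2 ⟨h1, h2⟩
  have hpb : p ∣ b := by
    by_contra hcon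
    have hd : Nat.gcd b (2 * p) ∣ 2 := by
      have hco : Nat.Coprime (Nat.gcd b (2 * p)) p := by
        rw [Nat.coprime_comm, hp.coprime_iff_not_dvd]
        exact fun h => hcon (h.trans (Nat.gcd_dvd_left _ _))
      exact hco.dvd_of_dvd_mul_right (Nat.gcd_dvd_right _ _)
    obtain ⟨t, ht⟩ := hd
    have h4 : (2 : ZMod r) ^ 2 = 1 := by rw [ht, pow_mul, hg, one_pow]
    have : ((3 : ℕ) : ZMod r) = 0 := by push_cast; linear_combination h4
    rw [ZMod.natCast_eq_zero_iff] at this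
    have := Nat.le_of_dvd (by norm_num) this
    omega
  have hple : p ≤ b := Nat.le_of_dvd (by omega) hpb
  have hpow : 2 ^ p ≤ p * r := (Nat.pow_le_pow_right two_pos hple).trans hle
  have hp7 : p < 7 := by
    by_contra hcon
    push Not at hcon
    have hgrow : ∀ n : ℕ, 7 ≤ n → n * (2 * n + 1) < 2 ^ n := by
      intro n hn
      induction n, hn using Nat.le_induction with
      | base => norm_num
      | succ n hn ih => rw [pow_succ]; nlinarith
    have := hgrow p hcon
    rw [hre] at hpow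
    omega
  have hp35 : p = 3 ∨ p = 5 := by
    rcases (show p = 3 ∨ p = 4 ∨ p = 5 ∨ p = 6 by omega) with h | h | h | h
    · exact Or.inl h
    · subst h; norm_num at hp
    · exact Or.inr h
    · subst h; norm_num at hp
  rcases hp35 with rfl | rfl
  · subst hre
    have : b ≤ 4 := by
      by_contra hcon
      have := Nat.pow_le_pow_right two_pos (show 5 ≤ b by omega)
      omega
    interval_cases b <;> simp_all
  · subst hre
    have : b ≤ 5 := by
      by_contra hcon
      have := Nat.pow_le_pow_right two_pos (show 6 ≤ b by omega)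
      omega
    interval_cases b
    simp_all

end Cfsg.Lib.Small.ThreePrime
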