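import Cfsg.Agent.Lib.Small.ThreePrimeTools
import Cfsg.Agent.Lib.Small.ThreePrimeArith
import Cfsg.Agent.S4503

/-!
# Simple groups of order `p * r * q ^ b`

A noncyclic simple group whose order is `p * r * q ^ b` for three distinct primes has order 60 or
168 (`card_cases`).  Let `q < p < r`.  The principal `r`-block has a member of degree `p`, which is
exceptional; either the automizer of a Sylow `r`-subgroup has order `p` and `r = 2 p + 1`, or
`q = 2` and `r = p + 2 ^ c`.  All the centralizers of nontrivial elements of odd order then have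
prime order, so that every character whose degree has a proper power of two as its two-part lies
in the principal 2-block and does not vanish on a central involution of a Sylow 2-subgroup.  The
degree relation of the principal `r`-block then leaves only the orders 60 and 168.
-/

set_option autoImplicit false
set_option linter.unusedSectionVars false
set_option linter.style.haveILetI false

namespace Cfsg.Lib.Small.ThreePrime

open Cfsg Cfsg.Lib

universe u

variable {G : Type u} [Group G] [Fintype G] [IsSimpleGroup G]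

theorem sylow_product {p : ℕ} [Fact p.Prime] (P : Sylow p G) {e : ℕ}
    (he : (Subgroup.centralizer ((P : Subgroup G) : Set G)).relIndex
      (Subgroup.normalizer ((P : Subgroup G) : Set G)) = e) :
    Nat.card (Sylow p G) * (e * Nat.card (Subgroup.centralizer ((P : Subgroup G) : Set G))) =
      Nat.card G := by
  have h1 := card_normalizer_mul P
  have h2 := Subgroup.card_mul_index ((Subgroup.centralizer ((P : Subgroup G) : Set G)).subgroupOf
    (Subgroup.normalizer ((P : Subgroup G) : Set G)))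
  rw [Nat.card_congr (Subgroup.subgroupOfEquivOfLe (Subgroup.centralizer_le_normalizer _)).toEquiv,
    ← Subgroup.relIndex, he] at h2
  rw [← h2] at h1
  rw [← h1]
  ring

theorem exists_zpowers {p : ℕ} [Fact p.Prime] (P : Sylow p G)
    (hP : Nat.card (P : Subgroup G) = p) :
    ∃ x : G, orderOf x = p ∧ Subgroup.zpowers x = (P : Subgroup G) := by
  have hpp : p.Prime := Fact.out
  obtain ⟨⟨x, hxP⟩, hx⟩ := exists_prime_orderOf_dvd_card' (G := (P : Subgroup G)) p hP.symm.dvd
  rw [Subgroup.orderOf_mk] at hx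
  exact ⟨x, hx, zpowers_eq_of_prime_card hP hxP fun h => hpp.ne_one (by rw [← hx, h, orderOf_one])⟩

/-- A shape at every prime dividing the order once. -/
theorem exists_data (hnc : ¬ IsCyclic G) {p : ℕ} [Fact p.Prime] (hodd : p ≠ 2)
    (hfac : (Nat.card G).factorization p = 1) (P : Sylow p G) :
    Nat.card (P : Subgroup G) = p ∧ ∃ e, 2 ≤ e ∧ e ∣ p - 1 ∧ Nonempty (Shape P e) := by
  have hpp : p.Prime := Fact.out
  have hP : Nat.card (P : Subgroup G) = p := by rw [P.card_eq_multiplicity, hfac, pow_one]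
  set e := (Subgroup.centralizer ((P : Subgroup G) : Set G)).relIndex
    (Subgroup.normalizer ((P : Subgroup G) : Set G)) with he
  have hed : e ∣ p - 1 := he ▸ relIndex_centralizer_dvd (P : Subgroup G) hP
  have he2 : 2 ≤ e := by
    have h0 : e ≠ 0 := fun h => by
      rw [h, zero_dvd_iff] at hed
      have := hpp.two_le
      omega
    have h1 : e ≠ 1 := fun h => not_normalizer_le_centralizer hnc P (fun hb => hpp.ne_one (by
      rw [← hP, hb, Subgroup.card_bot])) (Subgroup.relIndex_eq_one.1 h)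
    omega
  exact ⟨hP, e, he2, hed, exists_shape hodd P hP he.symm he2⟩

variable {p r q b : ℕ}

theorem fac_eq (hp : p.Prime) (hq : q.Prime) (hr : r.Prime) (hpq : p ≠ q) (hpr : p ≠ r)
    (hG : Nat.card G = p * r * q ^ b) : (Nat.card G).factorization p = 1 := by
  have h1 : ¬ p ∣ r * q ^ b := fun h => by
    rcases hp.dvd_mul.1 h with h | h
    · exact hpr ((Nat.prime_dvd_prime_iff_eq hp hr).1 h)
    · exact hpq ((Nat.prime_dvd_prime_iff_eq hp hq).1 (hp.dvd_of_dvd_pow h))
  rw [hG, mul_assoc, Nat.factorization_mul hp.ne_zero (fun h0 => h1 (by rw [h0]; exact dvd_zero p)),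
    Finsupp.add_apply, hp.factorization_self, Nat.factorization_eq_zero_of_not_dvd h1]

section Large

variable (hp : p.Prime) (hr : r.Prime) (hq : q.Prime) (hqp : q < p) (hpr : p < r)
  (hG : Nat.card G = p * r * q ^ b) (hb : 2 ≤ b) (hnc : ¬ IsCyclic G)

include hp hr hq hqp hpr hG hb hnc

/-- The member of degree `p` in the principal `r`-block is exceptional. -/
theorem large_member [Fact r.Prime] (R : Sylow r G) {e : ℕ} (he2 : 2 ≤ e) (hed : e ∣ r - 1)
    (S : Shape R e) :
    charDegree (S.θ : G → ℂ) = p ∧ one' G ∈ S.X ∧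
      Nat.card (Subgroup.centralizer ((R : Subgroup G) : Set G)) = r ∧
      (S.σ S.θ = -1 ∧ e = p ∨ S.σ S.θ = 1 ∧ p + e = r) := by
  classical
  have hp2 : 2 < p := lt_of_le_of_lt hq.two_le hqp
  have hm : Nat.card G = r * (p * q ^ b) := by rw [hG]; ring
  have hdeg : ∀ χ ∈ S.Z, charDegree (χ : G → ℂ) ∣ p * q ^ b := fun χ h => S.deg_dvd hm h
  obtain ⟨χ, hχ, hχ1, hχq⟩ : ∃ χ ∈ S.Z, χ ≠ one' G ∧ ¬ q ∣ charDegree (χ : G → ℂ) := by
    by_contra hcon
    push Not at hcon
    have hrel := S.rel_deg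
    rw [← Finset.add_sum_erase _ _ S.one_mem, S.sign_one, charDegree_one'] at hrel
    have hd : (q : ℤ) ∣ ∑ χ ∈ S.Z.erase (one' G), S.σ χ * (charDegree (χ : G → ℂ) : ℤ) :=
      Finset.dvd_sum fun χ h => dvd_mul_of_dvd_right (Int.natCast_dvd_natCast.2
        (hcon χ (Finset.mem_of_mem_erase h) (Finset.ne_of_mem_erase h))) _
    have h1 : (q : ℤ) ∣ 1 := by
      have h2 : (1 : ℤ) = -(∑ χ ∈ S.Z.erase (one' G), S.σ χ * (charDegree (χ : G → ℂ) : ℤ)) := by
        push_cast at hrel
        linarith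
      rw [h2]
      exact hd.neg_right
    exact hq.not_dvd_one (by exact_mod_cast h1)
  have hd2 := two_le_charDegree hnc hχ1
  have hdp : charDegree (χ : G → ℂ) = p := by
    obtain ⟨k, -, h | h⟩ := dvd_cases hp hq (hdeg χ hχ)
    all_goals
      rcases Nat.eq_zero_or_pos k with rfl | hk
      · first
          | (rw [h, pow_zero] at hd2; omega)
          | (rw [h, pow_zero, mul_one])
      · exfalso
        apply hχq
        rw [h]
        first
          | exact dvd_pow_self q hk.ne'
          | exact dvd_mul_of_dvd_right (dvd_pow_self q hk.ne') _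
  have hpodd : Odd p := hp.odd_of_ne_two (by omega)
  have hrodd : Odd r := hr.odd_of_ne_two (by omega)
  have hχθ : χ = S.θ := by
    rcases S.mem_Z.1 hχ with h | h
    · exact h
    exfalso
    have hc := (ZMod.intCast_eq_intCast_iff _ _ r).2 (S.cong χ h)
    rw [hdp] at hc
    rcases S.sign χ hχ with hs | hs <;> rw [hs] at hc <;> push_cast at hc
    · have h3 : ((p - 1 : ℕ) : ZMod r) = 0 := by
        rw [Nat.cast_sub (by omega)]; push_cast; linear_combination hc
      rw [ZMod.natCast_eq_zero_iff] at h3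
      have := Nat.le_of_dvd (by omega) h3
      omega
    · have h3 : ((p + 1 : ℕ) : ZMod r) = 0 := by push_cast; linear_combination -hc
      rw [ZMod.natCast_eq_zero_iff] at h3
      have := Nat.le_of_dvd (by omega) h3
      obtain ⟨u, hu⟩ := hpodd
      obtain ⟨v, hv⟩ := hrodd
      omega
  subst hχθ
  refine ⟨hdp, (S.mem_Z.1 S.one_mem).resolve_left fun h => hχ1 h.symm, ?_, ?_⟩
  · refine S.small hnc (fun hd => ?_) hχ hχ1 (by omega)
    rw [hr.pow_dvd_iff_le_factorization Nat.card_pos.ne',
      fac_eq (G := G) (b := b) hr hq hp (by omega) (by omega) (by rw [hG]; ring)] at hd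
    omega
  · have hc := (ZMod.intCast_eq_intCast_iff _ _ r).2 S.congθ
    rw [hdp] at hc
    have her : e ≤ r - 1 := Nat.le_of_dvd (by omega) hed
    rcases S.sign _ hχ with hs | hs <;> rw [hs] at hc <;> push_cast at hc
    · right
      refine ⟨hs, ?_⟩
      have h3 : ((p + e : ℕ) : ZMod r) = 0 := by push_cast; linear_combination hc
      rw [ZMod.natCast_eq_zero_iff] at h3
      obtain ⟨t, ht⟩ := h3
      rcases t with _ | _ | t
      · omega
      · omega
      · exfalso
        have : r * 2 ≤ r * (t + 1 + 1) := Nat.mul_le_mul_left _ (by omega)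
        omega
    · left
      refine ⟨hs, ?_⟩
      have h3 : ((p : ℕ) : ZMod r) = ((e : ℕ) : ZMod r) := by linear_combination -hc
      rw [ZMod.natCast_eq_natCast_iff', Nat.mod_eq_of_lt (by omega), Nat.mod_eq_of_lt (by omega)] at h3
      omega

theorem exists_large :
    ∃ _ : Fact r.Prime, ∃ (R : Sylow r G) (e : ℕ) (S : Shape R e), 2 ≤ e ∧ e ∣ r - 1 ∧
      charDegree (S.θ : G → ℂ) = p ∧ one' G ∈ S.X ∧
      Nat.card (Subgroup.centralizer ((R : Subgroup G) : Set G)) = r ∧
      Nat.card (Sylow r G) * e = p * q ^ b ∧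
      (S.σ S.θ = -1 ∧ e = p ∨ S.σ S.θ = 1 ∧ p + e = r) := by
  haveI := Fact.mk hr
  obtain ⟨R⟩ : Nonempty (Sylow r G) := inferInstance
  have hp2 : 2 ≤ p := hp.two_le
  have hfac := fac_eq (G := G) (b := b) hr hq hp (by omega) (by omega) (by rw [hG]; ring)
  obtain ⟨-, e, he2, hed, ⟨S⟩⟩ := exists_data hnc (by omega) hfac R
  obtain ⟨h1, h2, h3, h4⟩ := large_member hp hr hq hqp hpr hG hb hnc R he2 hed S
  refine ⟨inferInstance, R, e, S, he2, hed, h1, h2, h3, ?_, h4⟩
  have h := sylow_product R S.relIndex_eq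
  rw [h3, hG] at h
  refine Nat.eq_of_mul_eq_mul_right hr.pos ?_
  rw [mul_assoc, h]
  ring

/-- The centralizers of the elements of order `p` and of order `r`. -/
theorem cent_orders :
    (∀ x : G, orderOf x = p → Nat.card (Subgroup.centralizer ({x} : Set G)) = p) ∧
      ∀ x : G, orderOf x = r → Nat.card (Subgroup.centralizer ({x} : Set G)) = r := by
  obtain ⟨_, R, e, S, -, -, hθ, -⟩ := exists_large hp hr hq hqp hpr hG hb hnc
  haveI := Fact.mk hp
  refine ⟨fun x hx => card_centralizer_of_degree hnc hθ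
    (fac_eq hp hq hr (by omega) (by omega) hG) hx, fun x hx => ?_⟩
  have hfac := fac_eq (G := G) (b := b) hr hq hp (by omega) (by omega) (by rw [hG]; ring)
  obtain ⟨R', hR'⟩ := exists_sylow_eq_zpowers (G := G) (p := r)
    (fun T => by rw [T.card_eq_multiplicity, hfac, pow_one]) hx
  obtain ⟨-, e', he2', hed', ⟨S'⟩⟩ := exists_data hnc (by have := hp.two_le; omega) hfac R'
  obtain ⟨-, -, h3, -⟩ := large_member hp hr hq hqp hpr hG hb hnc R' he2' hed' S'
  rwa [hR', centralizer_zpowers] at h3

/-- An element of order prime to `q` has a class of size divisible by `q ^ b`. -/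
theorem dvd_class {g : G} (hg : g ≠ 1) (hgq : ¬ q ∣ orderOf g) :
    q ^ b ∣ (Subgroup.centralizer ({g} : Set G)).index := by
  obtain ⟨hCp, hCr⟩ := cent_orders hp hr hq hqp hpr hG hb hnc
  obtain ⟨l, hl, hlg⟩ := Nat.exists_prime_and_dvd (show orderOf g ≠ 1 by
    rwa [Ne, orderOf_eq_one_iff])
  have hl3 : l = p ∨ l = r := by
    have h : l ∣ p * r * q ^ b := hG ▸ hlg.trans (orderOf_dvd_natCard g)
    rcases hl.dvd_mul.1 h with h | h
    · rcases hl.dvd_mul.1 h with h | h
      · exact Or.inl ((Nat.prime_dvd_prime_iff_eq hl hp).1 h)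
      · exact Or.inr ((Nat.prime_dvd_prime_iff_eq hl hr).1 h)
    · exact absurd ((Nat.prime_dvd_prime_iff_eq hl hq).1 (hl.dvd_of_dvd_pow h) ▸ hlg) hgq
  obtain ⟨t, ht⟩ := hlg
  have ht0 : t ≠ 0 := fun h => (orderOf_pos g).ne' (by rw [ht, h, mul_zero])
  set x := g ^ t
  have hx : orderOf x = l := by
    rw [orderOf_pow_of_dvd ht0 (ht ▸ dvd_mul_left t l), ht, Nat.mul_div_cancel _ (by omega)]
  have hle : Subgroup.centralizer ({g} : Set G) ≤ Subgroup.centralizer ({x} : Set G) := by
    intro y hy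
    rw [Subgroup.mem_centralizer_singleton_iff] at hy ⊢
    exact (Commute.pow_right hy t).eq
  refine dvd_trans ?_ (Subgroup.index_dvd_of_le hle)
  have hci := Subgroup.card_mul_index (Subgroup.centralizer ({x} : Set G))
  rcases hl3 with rfl | rfl
  · rw [hCp x hx, hG, mul_assoc l r] at hci
    exact ⟨r, by rw [Nat.eq_of_mul_eq_mul_left hl.pos hci]; ring⟩
  · rw [hCr x hx, hG, mul_comm p l, mul_assoc l p] at hci
    exact ⟨p, by rw [Nat.eq_of_mul_eq_mul_left hl.pos hci]; ring⟩

/-- A central involution of a Sylow 2-subgroup. -/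
theorem exists_central_involution (hq2 : q = 2) :
    ∃ z : G, orderOf z = 2 ∧ Nat.card (Subgroup.centralizer ({z} : Set G)) = 2 ^ b ∧
      (Subgroup.centralizer ({z} : Set G)).index = p * r := by
  subst hq2
  haveI := Fact.mk Nat.prime_two
  obtain ⟨hCp, hCr⟩ := cent_orders hp hr hq hqp hpr hG hb hnc
  obtain ⟨T⟩ : Nonempty (Sylow 2 G) := inferInstance
  have hT : Nat.card (T : Subgroup G) = 2 ^ b := by
    rw [card_sylow b (p * r) (by rw [hG]; ring) (fun h => ?_) T]
    rcases Nat.prime_two.dvd_mul.1 h with h | h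
    · have := (Nat.prime_dvd_prime_iff_eq Nat.prime_two hp).1 h
      omega
    · have := (Nat.prime_dvd_prime_iff_eq Nat.prime_two hr).1 h
      omega
  haveI : Nontrivial (T : Subgroup G) := by
    rw [← Finite.one_lt_card_iff_nontrivial, hT]
    exact Nat.one_lt_two_pow (by omega)
  haveI := T.2.center_nontrivial
  obtain ⟨n, hn⟩ := IsPGroup.iff_card.1 (T.2.to_subgroup (Subgroup.center (T : Subgroup G)))
  have hn0 : n ≠ 0 := fun h => by
    have := Finite.one_lt_card_iff_nontrivial.2 (inferInstance : Nontrivial (Subgroup.center (T : Subgroup G)))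
    rw [hn, h, pow_zero] at this
    omega
  obtain ⟨⟨⟨z, hzT⟩, hzc⟩, hz⟩ := exists_prime_orderOf_dvd_card'
    (G := Subgroup.center (T : Subgroup G)) 2 (hn ▸ dvd_pow_self 2 hn0)
  rw [Subgroup.orderOf_mk, Subgroup.orderOf_mk] at hz
  set C := Subgroup.centralizer ({z} : Set G) with hC
  have hTC : (T : Subgroup G) ≤ C := fun y hy => Subgroup.mem_centralizer_singleton_iff.2
    (congrArg Subtype.val (Subgroup.mem_center_iff.1 hzc ⟨y, hy⟩))
  have hno : ∀ l, l.Prime → 2 < l → (∀ x : G, orderOf x = l →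
      Nat.card (Subgroup.centralizer ({x} : Set G)) = l) → ¬ l ∣ Nat.card C := by
    intro l hl hl2 hcent hd
    haveI := Fact.mk hl
    obtain ⟨⟨x, hxC⟩, hx⟩ := exists_prime_orderOf_dvd_card' (G := C) l hd
    rw [Subgroup.orderOf_mk] at hx
    have hzx : z ∈ Subgroup.centralizer ({x} : Set G) := by
      rw [Subgroup.mem_centralizer_singleton_iff] at hxC ⊢
      exact hxC.symm
    have := Subgroup.orderOf_dvd_natCard _ hzx
    rw [hz, hcent x hx, Nat.prime_dvd_prime_iff_eq Nat.prime_two hl] at this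
    omega
  have hcard : Nat.card C = 2 ^ b := by
    have h1 := Subgroup.card_dvd_of_le hTC
    rw [hT] at h1
    have h2 : Nat.card C ∣ 2 ^ b * (p * r) := by
      have := Subgroup.card_subgroup_dvd_card C
      rwa [hG, mul_comm] at this
    have hco : Nat.Coprime (Nat.card C) (p * r) := Nat.Coprime.mul_right
      ((hp.coprime_iff_not_dvd.2 (hno p hp (by omega) hCp)).symm)
      ((hr.coprime_iff_not_dvd.2 (hno r hr (by omega) hCr)).symm)
    exact Nat.dvd_antisymm (hco.dvd_of_dvd_mul_right h2) h1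
  refine ⟨z, hz, hcard, ?_⟩
  have := Subgroup.card_mul_index C
  rw [hcard, hG, mul_comm (p * r)] at this
  exact Nat.eq_of_mul_eq_mul_left (Nat.two_pow_pos b) this

/-- Degrees prime to the order of the class of a central involution are odd or full. -/
theorem two_power_degree (hq2 : q = 2) {χ : IrrCharacter G} (hχ : χ ≠ one' G) {k : ℕ}
    (hk : k ≤ b) (hd : charDegree (χ : G → ℂ) = 2 ^ k) : k = b := by
  subst hq2
  haveI := Fact.mk Nat.prime_two
  obtain ⟨z, hz, -, hzi⟩ := exists_central_involution hp hr hq hqp hpr hG hb hnc rfl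
  obtain ⟨M, hM⟩ := Block.exists_isPModular Nat.prime_two
  by_contra hne
  have hpodd : ¬ 2 ∣ p * r := fun h => by
    rcases Nat.prime_two.dvd_mul.1 h with h | h
    · have := (Nat.prime_dvd_prime_iff_eq Nat.prime_two hp).1 h; omega
    · have := (Nat.prime_dvd_prime_iff_eq Nat.prime_two hr).1 h; omega
  refine apply_ne_zero_of_principal hM (principal_of_small_part hM (2 ^ b)
    (fun g h1 h2 => dvd_class hp hr hq hqp hpr hG hb hnc h1 h2) χ ?_) (z := z) (hzi ▸ hpodd)
    (apply_eq_zero_of_coprime hnc hχ (fun h => ?_) ?_)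
  · rw [hd]
    intro h
    have := (Nat.pow_dvd_pow_iff_le_right (by norm_num : 1 < 2)).1 h
    omega
  · rw [h, orderOf_one] at hz; omega
  · rw [hd, hzi]
    exact ((Nat.prime_two.coprime_iff_not_dvd).2 hpodd).pow_left k

/-- The automizer of order `p`. -/
theorem half (R : Sylow r G) [Fact r.Prime] {e : ℕ} (S : Shape R e) (hθ : charDegree (S.θ : G → ℂ) = p)
    (hone : one' G ∈ S.X) (hs : S.σ S.θ = -1) (he : e = p)
    (hn : Nat.card (Sylow r G) * e = p * q ^ b) (hed : e ∣ r - 1) :
    Nat.card G = 168 := by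
  classical
  have hp2 : 2 < p := lt_of_le_of_lt hq.two_le hqp
  obtain ⟨hn', hre⟩ : Nat.card (Sylow r G) = q ^ b ∧ r = 2 * p + 1 := by
    refine ⟨Nat.eq_of_mul_eq_mul_right (by omega : 0 < e) (by rw [hn, he]; ring), ?_⟩
    have hne : S.θ ≠ one' G := fun h => by rw [h, charDegree_one'] at hθ; omega
    have hle : r ≤ 2 * p + 1 := by
      have := Cfsg.Agent.S4503.result (G := G) r hr (hG ▸ ⟨p * q ^ b, by ring⟩) (fun h => by
          rw [hr.pow_dvd_iff_le_factorization Nat.card_pos.ne', fac_eq (G := G) (b := b) hr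
            hq hp (by omega) (by omega) (by rw [hG]; ring)] at h
          omega)
        (fun H hH hc => by
          rcases hH.eq_bot_or_eq_top with h | h
          · rw [h, Subgroup.card_bot] at hc; omega
          · rw [h, Subgroup.card_top, hG] at hc
            have : r * 2 ≤ p * r * q ^ b := by
              calc r * 2 ≤ r * p := Nat.mul_le_mul_left _ (by omega)
                _ = p * r * 1 := by ring
                _ ≤ _ := Nat.mul_le_mul_left _ (Nat.one_le_pow _ _ hq.pos)
            omega)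
        (S.θ : G → ℂ) S.θ.2.isCharacter (fun g => eq_one_of_apply_eq hne)
      omega
    rw [he] at hed
    obtain ⟨t, ht⟩ := hed
    obtain ⟨u, hu⟩ := hr.odd_of_ne_two (by omega)
    obtain ⟨v, hv⟩ := hp.odd_of_ne_two (by omega)
    rcases t with _ | _ | _ | t
    · omega
    · omega
    · omega
    · exfalso
      have : p * 3 ≤ p * (t + 1 + 1 + 1) := Nat.mul_le_mul_left _ (by omega)
      omega
  haveI := Fact.mk hr
  have hm : Nat.card G = r * (p * q ^ b) := by rw [hG]; ring
  set X' := S.X.erase (one' G)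
  have hX' : ∀ χ ∈ X', χ ∈ S.X ∧ χ ≠ one' G := fun χ h =>
    ⟨Finset.mem_of_mem_erase h, Finset.ne_of_mem_erase h⟩
  have hrel : ∑ χ ∈ X', S.σ χ * (charDegree (χ : G → ℂ) : ℤ) = (p : ℤ) - 1 := by
    have h := S.rel_deg
    rw [S.Z_eq, Finset.sum_insert S.θ_notMem, ← Finset.add_sum_erase _ _ hone, hs, hθ, S.sign_one,
      charDegree_one'] at h
    push_cast at h
    linarith
  have hcases : ∀ χ ∈ X', ∃ k ≤ b, charDegree (χ : G → ℂ) = q ^ k ∨
      charDegree (χ : G → ℂ) = p * q ^ k := fun χ h =>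
    dvd_cases hp hq (S.deg_dvd hm (S.mem_Z.2 (Or.inr (hX' χ h).1)))
  -- some member has a small `q`-part, which forces `q = 2`
  have hq2 : q = 2 := by
    by_contra hne
    have hbig : ∀ χ ∈ X', (q : ℤ) ^ (Nat.log q (p - 1) + 1) ∣ (charDegree (χ : G → ℂ) : ℤ) := by
      intro χ h
      obtain ⟨hX, h1⟩ := hX' χ h
      obtain ⟨k, -, hk⟩ := hcases χ h
      suffices hle : Nat.log q (p - 1) + 1 ≤ k by
        have : q ^ (Nat.log q (p - 1) + 1) ∣ charDegree (χ : G → ℂ) := by
          rcases hk with hk | hk <;> rw [hk]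
          · exact pow_dvd_pow q hle
          · exact dvd_mul_of_dvd_right (pow_dvd_pow q hle) p
        exact_mod_cast this
      by_contra hcon
      push Not at hcon
      have hsmall : q ^ k ≤ p - 1 :=
        (Nat.pow_le_pow_right hq.pos (by omega)).trans (Nat.pow_log_le_self q (by omega))
      have hd2 := two_le_charDegree hnc h1
      have hc := (ZMod.intCast_eq_intCast_iff _ _ r).2 (S.cong χ hX)
      push_cast at hc
      rcases hk with hk | hk <;> rw [hk] at hd2 hc <;> push_cast at hc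
      · rcases S.sign χ (S.mem_Z.2 (Or.inr hX)) with hσ | hσ <;> rw [hσ] at hc <;>
          push_cast at hc
        · have h0 : ((q ^ k - 1 : ℕ) : ZMod r) = 0 := by
            rw [Nat.cast_sub (by omega)]; push_cast; linear_combination hc
          rw [ZMod.natCast_eq_zero_iff] at h0
          have := Nat.le_of_dvd (by omega) h0
          omega
        · have h0 : ((q ^ k + 1 : ℕ) : ZMod r) = 0 := by
            push_cast; linear_combination -hc
          rw [ZMod.natCast_eq_zero_iff] at h0
          have := Nat.le_of_dvd (by omega) h0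
          omega
      · have hr0 : ((2 * p + 1 : ℕ) : ZMod r) = 0 := by rw [← hre, ZMod.natCast_self]
        push_cast at hr0
        rcases S.sign χ (S.mem_Z.2 (Or.inr hX)) with hσ | hσ <;> rw [hσ] at hc <;>
          push_cast at hc
        · have h0 : ((q ^ k + 2 : ℕ) : ZMod r) = 0 := by
            push_cast; linear_combination (q : ZMod r) ^ k * hr0 - 2 * hc
          rw [ZMod.natCast_eq_zero_iff] at h0
          have := Nat.le_of_dvd (by omega) h0
          omega
        · rcases Nat.lt_or_ge (q ^ k) 3 with hlt | hge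
          · rcases Nat.eq_zero_or_pos k with rfl | hkpos
            · have h0 : ((1 : ℕ) : ZMod r) = 0 := by
                rw [pow_zero] at hc
                push_cast
                linear_combination -hr0 - 2 * hc
              rw [ZMod.natCast_eq_zero_iff] at h0
              exact hr.not_dvd_one h0
            · have h2 := Nat.le_self_pow hkpos.ne' q
              have := hq.two_le
              omega
          · have h0 : ((q ^ k - 2 : ℕ) : ZMod r) = 0 := by
              rw [Nat.cast_sub (by omega)]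
              push_cast
              linear_combination (q : ZMod r) ^ k * hr0 + 2 * hc
            rw [ZMod.natCast_eq_zero_iff] at h0
            have := Nat.le_of_dvd (by omega) h0
            omega
    have hdvd : ((q ^ (Nat.log q (p - 1) + 1) : ℕ) : ℤ) ∣ ((p - 1 : ℕ) : ℤ) := by
      rw [Nat.cast_sub (by omega), Nat.cast_one, ← hrel, Nat.cast_pow]
      exact Finset.dvd_sum fun χ h => dvd_mul_of_dvd_right (hbig χ h) _
    have := Nat.le_of_dvd (by omega) (Int.natCast_dvd_natCast.1 hdvd)
    have := Nat.lt_pow_succ_log_self hq.one_lt (p - 1)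
    rw [Nat.succ_eq_add_one] at this
    omega
  subst hq2
  -- some member has degree prime to `p`
  obtain ⟨χ, hχ, hχp⟩ : ∃ χ ∈ X', ¬ p ∣ charDegree (χ : G → ℂ) := by
    by_contra hcon
    push Not at hcon
    have h : (p : ℤ) ∣ (p : ℤ) - 1 := hrel ▸ Finset.dvd_sum fun χ h =>
      dvd_mul_of_dvd_right (Int.natCast_dvd_natCast.2 (hcon χ h)) _
    have h1 : (p : ℤ) ∣ 1 := by simpa using (dvd_refl (p : ℤ)).sub h
    exact hp.not_dvd_one (by exact_mod_cast h1)
  obtain ⟨hX, hne⟩ := hX' χ hχ
  obtain ⟨k, hkb, hk | hk⟩ := hcases χ hχ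
  swap
  · exact absurd ⟨2 ^ k, hk⟩ hχp
  obtain rfl := two_power_degree hp hr hq hqp hpr hG hb hnc rfl hne hkb hk
  have hle : 2 ^ k ≤ p * r := by
    have h1 : charDegree (χ : G → ℂ) ^ 2 ≤ ∑ ψ ∈ S.X, charDegree (ψ : G → ℂ) ^ 2 :=
      Finset.single_le_sum (f := fun ψ : IrrCharacter G => charDegree (ψ : G → ℂ) ^ 2)
        (fun _ _ => Nat.zero_le _) hX
    have h2 := S.sum_sq
    rw [hG, hk] at *
    refine Nat.le_of_mul_le_mul_right ?_ (Nat.two_pow_pos k)
    rw [← pow_two]
    omega
  have hmod : 2 ^ k % r = 1 := by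
    have := card_sylow_modEq_one r G
    rw [hn', Nat.ModEq, Nat.one_mod_eq_one.2 (by omega)] at this
    exact this
  obtain ⟨rfl, rfl, rfl⟩ := half_case hp hr (by omega) hre hb hmod hle
  rw [hG]
  norm_num

end Large

section Even

variable (hp : p.Prime) (hr : r.Prime) (hp2 : 2 < p) (hpr : p < r)
  (hG : Nat.card G = p * r * 2 ^ b) (hb : 2 ≤ b) (hnc : ¬ IsCyclic G)

include hp hr hp2 hpr hG hb hnc

/-- The automizer at `p` is as large as the one at `r`, so `2 ^ b` is one modulo `p`. -/
theorem small_prime {e c : ℕ} (hc : 1 ≤ c) (he : e = 2 ^ c) (hre : p + e = r) (hep : e ∣ p - 1) :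
    2 ^ b % p = 1 := by
  classical
  haveI := Fact.mk hp
  haveI := Fact.mk hr
  obtain ⟨P⟩ : Nonempty (Sylow p G) := inferInstance
  have hfac := fac_eq hp Nat.prime_two hr (by omega) (by omega) hG
  obtain ⟨hP, e', he2, hed, ⟨T⟩⟩ := exists_data hnc (by omega) hfac P
  have hC : Nat.card (Subgroup.centralizer ((P : Subgroup G) : Set G)) = p := by
    obtain ⟨x, hx, hxP⟩ := exists_zpowers P hP
    rw [← hxP, centralizer_zpowers]
    exact (cent_orders hp hr Nat.prime_two hp2 hpr hG hb hnc).1 x hx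
  have hn : Nat.card (Sylow p G) * e' = r * 2 ^ b := by
    have h := sylow_product P T.relIndex_eq
    rw [hC, hG] at h
    refine Nat.eq_of_mul_eq_mul_right hp.pos ?_
    rw [mul_assoc, h]
    ring
  have he'p : e' ≤ p - 1 := Nat.le_of_dvd (by omega) hed
  have hpodd : Odd p := hp.odd_of_ne_two (by omega)
  have he'2 : ∃ i, 1 ≤ i ∧ e' = 2 ^ i := by
    have h : e' ∣ r * 2 ^ b := hn ▸ dvd_mul_left _ _
    obtain ⟨i, -, hi | hi⟩ := dvd_cases hr Nat.prime_two h
    · exact ⟨i, Nat.one_le_iff_ne_zero.2 fun h0 => by rw [h0, pow_zero] at hi; omega, hi⟩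
    · exfalso
      have : r * 1 ≤ r * 2 ^ i := Nat.mul_le_mul_left _ (Nat.one_le_two_pow)
      omega
  -- the member of degree `r`
  have hm : Nat.card G = p * (r * 2 ^ b) := by rw [hG]; ring
  obtain ⟨χ, hχ, hχ1, hχodd⟩ : ∃ χ ∈ T.Z, χ ≠ one' G ∧ ¬ 2 ∣ charDegree (χ : G → ℂ) := by
    by_contra hcon
    push Not at hcon
    exact T.not_all_even hcon
  have hdr : charDegree (χ : G → ℂ) = r := by
    obtain ⟨k, -, h | h⟩ := dvd_cases hr Nat.prime_two (T.deg_dvd hm hχ)
    all_goals
      rcases Nat.eq_zero_or_pos k with rfl | hk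
      · first
          | (have := two_le_charDegree hnc hχ1; rw [h, pow_zero] at this; omega)
          | (rw [h, pow_zero, mul_one])
      · exfalso
        apply hχodd
        rw [h]
        first
          | exact dvd_pow_self 2 hk.ne'
          | exact dvd_mul_of_dvd_right (dvd_pow_self 2 hk.ne') _
  have hge : 2 ≤ 2 ^ c := by
    calc 2 = 2 ^ 1 := by norm_num
      _ ≤ 2 ^ c := Nat.pow_le_pow_right two_pos hc
  have hep' : e ≤ p - 1 := Nat.le_of_dvd (by omega) hep
  have key : e' = e := by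
    rcases T.mem_Z.1 hχ with rfl | hX
    · have h := (ZMod.intCast_eq_intCast_iff _ _ p).2 T.congθ
      rw [hdr, ← hre] at h
      rcases T.sign _ hχ with hs | hs <;> rw [hs] at h <;> push_cast at h <;>
        rw [ZMod.natCast_self, zero_add] at h
      · exfalso
        have h3 : ((e + e' : ℕ) : ZMod p) = 0 := by push_cast; linear_combination h
        rw [ZMod.natCast_eq_zero_iff] at h3
        obtain ⟨t, ht⟩ := h3
        obtain ⟨i, hi, hie⟩ := he'2
        have hev : 2 ∣ e + e' := by
          rw [he, hie]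
          exact dvd_add (dvd_pow_self 2 (by omega)) (dvd_pow_self 2 (by omega))
        rcases t with _ | _ | t
        · omega
        · obtain ⟨u, hu⟩ := hpodd
          omega
        · have : p * 2 ≤ p * (t + 1 + 1) := Nat.mul_le_mul_left _ (by omega)
          omega
      · have h3 : ((e' : ℕ) : ZMod p) = ((e : ℕ) : ZMod p) := by linear_combination h
        rwa [ZMod.natCast_eq_natCast_iff', Nat.mod_eq_of_lt (by omega),
          Nat.mod_eq_of_lt (by omega)] at h3
    · have h := (ZMod.intCast_eq_intCast_iff _ _ p).2 (T.cong χ hX)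
      rw [hdr, ← hre] at h
      rcases T.sign _ hχ with hs | hs <;> rw [hs] at h <;> push_cast at h <;>
        rw [ZMod.natCast_self, zero_add] at h
      · exfalso
        have h3 : ((e - 1 : ℕ) : ZMod p) = 0 := by
          rw [Nat.cast_sub (by omega)]; push_cast; linear_combination h
        rw [ZMod.natCast_eq_zero_iff] at h3
        have := Nat.le_of_dvd (by omega) h3
        omega
      · have h3 : ((e + 1 : ℕ) : ZMod p) = 0 := by push_cast; linear_combination -h
        rw [ZMod.natCast_eq_zero_iff] at h3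
        have := Nat.le_of_dvd (by omega) h3
        obtain ⟨rfl, -, rfl⟩ := fermat_pair hc hp hr (by omega) (by omega)
        have := Nat.le_of_dvd (by norm_num) hed
        omega
  have hmod := (ZMod.natCast_eq_natCast_iff _ _ p).2 (card_sylow_modEq_one p G)
  have hn' := congrArg (fun n : ℕ => (n : ZMod p)) hn
  push_cast at hn' hmod
  rw [hmod, one_mul, key, ← hre] at hn'
  push_cast at hn'
  rw [ZMod.natCast_self, zero_add] at hn'
  have he0 : (e : ZMod p) ≠ 0 := fun h => by
    rw [ZMod.natCast_eq_zero_iff] at h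
    have := Nat.le_of_dvd (by omega) h
    omega
  have h1 : ((2 ^ b : ℕ) : ZMod p) = ((1 : ℕ) : ZMod p) := by
    push_cast
    exact mul_left_cancel₀ he0 (by rw [mul_one]; exact hn'.symm)
  rw [ZMod.natCast_eq_natCast_iff', Nat.one_mod_eq_one.2 (by omega)] at h1
  exact h1

/-- The automizer of order a power of two. -/
theorem power_two (R : Sylow r G) [Fact r.Prime] {e : ℕ} (S : Shape R e) (he2 : 2 ≤ e)
    (hθ : charDegree (S.θ : G → ℂ) = p) (hone : one' G ∈ S.X) (hs : S.σ S.θ = 1) (hre : p + e = r)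
    (hed : e ∣ r - 1) (hn : Nat.card (Sylow r G) * e = p * 2 ^ b) : Nat.card G = 60 := by
  classical
  haveI := Fact.mk hp
  have hpodd : Odd p := hp.odd_of_ne_two (by omega)
  obtain ⟨c, hcb, hc1, he⟩ : ∃ c, c ≤ b ∧ 1 ≤ c ∧ e = 2 ^ c := by
    obtain ⟨c, hcb, hc | hc⟩ := dvd_cases hp Nat.prime_two (hn ▸ dvd_mul_left e _)
    · exact ⟨c, hcb, Nat.one_le_iff_ne_zero.2 fun h => by rw [h, pow_zero] at hc; omega, hc⟩
    · exfalso
      have : p ∣ r := by rw [← hre, hc]; exact dvd_add dvd_rfl (dvd_mul_right p _)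
      have := (Nat.prime_dvd_prime_iff_eq hp hr).1 this
      omega
  have hep : e ∣ p - 1 := by
    have h : e ∣ p - 1 + e := (show p - 1 + e = r - 1 by omega) ▸ hed
    exact (Nat.dvd_add_left dvd_rfl).1 h
  have hbp := small_prime hp hr hp2 hpr hG hb hnc hc1 he hre hep
  have hep' : e ≤ p - 1 := Nat.le_of_dvd (by omega) hep
  have hm : Nat.card G = r * (p * 2 ^ b) := by rw [hG]; ring
  set X' := S.X.erase (one' G)
  have hX' : ∀ χ ∈ X', χ ∈ S.X ∧ χ ≠ one' G := fun χ h =>
    ⟨Finset.mem_of_mem_erase h, Finset.ne_of_mem_erase h⟩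
  have hcard' : X'.card = e - 1 := by rw [Finset.card_erase_of_mem hone, S.card_X]
  have hrel : ∑ χ ∈ X', S.σ χ * (charDegree (χ : G → ℂ) : ℤ) = -((p : ℤ) + 1) := by
    have h := S.rel_deg
    rw [S.Z_eq, Finset.sum_insert S.θ_notMem, ← Finset.add_sum_erase _ _ hone, hs, hθ, S.sign_one,
      charDegree_one'] at h
    push_cast at h
    linarith
  -- the member of degree prime to `p`
  have hA : ∀ χ ∈ X', ¬ p ∣ charDegree (χ : G → ℂ) → charDegree (χ : G → ℂ) = 2 ^ b := by
    intro χ h hnd
    obtain ⟨hX, hne⟩ := hX' χ h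
    obtain ⟨k, hkb, hk | hk⟩ := dvd_cases hp Nat.prime_two (S.deg_dvd hm (S.mem_Z.2 (Or.inr hX)))
    · rw [hk, two_power_degree hp hr Nat.prime_two hp2 hpr hG hb hnc rfl hne hkb hk]
    · exact absurd ⟨2 ^ k, hk⟩ hnd
  set A := X'.filter (fun χ : IrrCharacter G => ¬ p ∣ charDegree (χ : G → ℂ))
  set B := X'.filter (fun χ : IrrCharacter G => p ∣ charDegree (χ : G → ℂ))
  have hsplit : ∑ χ ∈ B, S.σ χ * (charDegree (χ : G → ℂ) : ℤ) +
      ∑ χ ∈ A, S.σ χ * (charDegree (χ : G → ℂ) : ℤ) = -((p : ℤ) + 1) := by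
    rw [← hrel]
    exact Finset.sum_filter_add_sum_filter_not _ _ _
  have hpB : (p : ℤ) ∣ ∑ χ ∈ B, S.σ χ * (charDegree (χ : G → ℂ) : ℤ) := Finset.dvd_sum fun χ h =>
    dvd_mul_of_dvd_right (Int.natCast_dvd_natCast.2 (Finset.mem_filter.1 h).2) _
  obtain ⟨χ₀, hχ₀⟩ : A.Nonempty := by
    rw [Finset.nonempty_iff_ne_empty]
    intro h
    rw [h, Finset.sum_empty, add_zero] at hsplit
    rw [hsplit, Int.dvd_neg] at hpB
    exact hp.not_dvd_one (by exact_mod_cast (Int.dvd_add_right (dvd_refl (p : ℤ))).1 hpB)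
  have hd₀ : charDegree (χ₀ : G → ℂ) = 2 ^ b :=
    hA χ₀ ((Finset.mem_filter.1 hχ₀).1) (Finset.mem_filter.1 hχ₀).2
  have hX₀ : χ₀ ∈ S.X := (hX' χ₀ ((Finset.mem_filter.1 hχ₀).1)).1
  have hcg : ∀ χ ∈ S.X, (S.σ χ : ZMod r) * (charDegree (χ : G → ℂ) : ZMod r) = 1 := by
    intro χ h
    have h2 := (ZMod.intCast_eq_intCast_iff _ _ r).2 (S.cong χ h)
    push_cast at h2
    exact h2
  have hsA : ∀ χ ∈ A, S.σ χ * (charDegree (χ : G → ℂ) : ℤ) = S.σ χ₀ * 2 ^ b := by
    intro χ h
    have hX := (hX' χ ((Finset.mem_filter.1 h).1)).1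
    have hd := hA χ ((Finset.mem_filter.1 h).1) (Finset.mem_filter.1 h).2
    have h1 := hcg χ hX
    have h2 := hcg χ₀ hX₀
    rw [hd] at h1
    rw [hd₀] at h2
    rw [hd]
    push_cast at h1 h2 ⊢
    congr 1
    rcases S.sign χ (S.mem_Z.2 (Or.inr hX)) with ha | ha <;>
      rcases S.sign χ₀ (S.mem_Z.2 (Or.inr hX₀)) with hb' | hb' <;>
      rw [ha, hb'] <;> exfalso
    all_goals
      rw [ha] at h1
      rw [hb'] at h2
      push_cast at h1 h2
      have h0 : ((2 : ℕ) : ZMod r) = 0 := by
        push_cast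
        first
          | linear_combination -h1 - h2
      rw [ZMod.natCast_eq_zero_iff] at h0
      have := Nat.le_of_dvd two_pos h0
      omega
  have hb1 : (2 : ZMod p) ^ b = 1 := by
    have : ((2 ^ b : ℕ) : ZMod p) = ((1 : ℕ) : ZMod p) := by
      rw [ZMod.natCast_eq_natCast_iff', hbp, Nat.one_mod_eq_one.2 (by omega)]
    push_cast at this
    exact this
  rw [Finset.sum_congr rfl hsA, Finset.sum_const, nsmul_eq_mul] at hsplit
  have hAcard : A.card ≤ e - 1 := hcard' ▸ Finset.card_filter_le _ _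
  have hA1 : A.card = 1 ∧ S.σ χ₀ = -1 := by
    have h := congrArg (fun z : ℤ => (z : ZMod p)) hsplit
    rw [← ZMod.intCast_zmod_eq_zero_iff_dvd] at hpB
    push_cast at h hpB
    rw [hpB, hb1, mul_one, zero_add, ZMod.natCast_self, zero_add] at h
    have hpos : 0 < A.card := Finset.card_pos.2 ⟨χ₀, hχ₀⟩
    rcases S.sign χ₀ (S.mem_Z.2 (Or.inr hX₀)) with hb' | hb' <;> rw [hb'] at h <;> push_cast at h
    · exfalso
      have h0 : ((A.card + 1 : ℕ) : ZMod p) = 0 := by push_cast; linear_combination h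
      rw [ZMod.natCast_eq_zero_iff] at h0
      have := Nat.le_of_dvd (by omega) h0
      omega
    · refine ⟨?_, hb'⟩
      have h0 : ((A.card - 1 : ℕ) : ZMod p) = 0 := by
        rw [Nat.cast_sub (by omega)]; push_cast; linear_combination -h
      rw [ZMod.natCast_eq_zero_iff] at h0
      by_contra hne
      have := Nat.le_of_dvd (by omega) h0
      omega
  have hbr : (2 : ZMod r) ^ b = -1 := by
    have h := hcg χ₀ hX₀
    rw [hd₀, hA1.2] at h
    push_cast at h
    linear_combination -h
  have hsq : 2 ^ b < p * r := by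
    have h1 : charDegree (χ₀ : G → ℂ) ^ 2 ≤ ∑ ψ ∈ S.X, charDegree (ψ : G → ℂ) ^ 2 :=
      Finset.single_le_sum (f := fun ψ : IrrCharacter G => charDegree (ψ : G → ℂ) ^ 2)
        (fun _ _ => Nat.zero_le _) hX₀
    have h2 := S.sum_sq
    rw [hG] at h2
    rw [hd₀] at h1
    refine lt_of_le_of_ne (Nat.le_of_mul_le_mul_right ?_ (Nat.two_pow_pos b)) fun h => ?_
    · rw [← pow_two]
      omega
    · have : p ∣ 2 ^ b := h ▸ dvd_mul_right p r
      have := (Nat.prime_dvd_prime_iff_eq hp Nat.prime_two).1 (hp.dvd_of_dvd_pow this)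
      omega
  -- the members of degree divisible by `p`
  haveI := Fact.mk Nat.prime_two
  obtain ⟨z, hz, hzc, hzi⟩ :=
    exists_central_involution hp hr Nat.prime_two hp2 hpr hG hb hnc rfl
  obtain ⟨M, hM⟩ := Block.exists_isPModular Nat.prime_two
  have hB : ∀ χ ∈ B, S.σ χ * (charDegree (χ : G → ℂ) : ℤ) = ((p * 2 ^ (b - c) : ℕ) : ℤ) := by
    intro χ h
    obtain ⟨hX, hne⟩ := hX' χ ((Finset.mem_filter.1 h).1)
    obtain ⟨k, hkb, hk | hk⟩ := dvd_cases hp Nat.prime_two (S.deg_dvd hm (S.mem_Z.2 (Or.inr hX)))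
    · exfalso
      have h1 := (Finset.mem_filter.1 h).2
      rw [hk] at h1
      have := (Nat.prime_dvd_prime_iff_eq hp Nat.prime_two).1 (hp.dvd_of_dvd_pow h1)
      omega
    have hkb' : k < b := by
      refine lt_of_le_of_ne hkb fun hkeq => ?_
      subst hkeq
      have h1 : charDegree (χ : G → ℂ) ^ 2 ≤ ∑ ψ ∈ S.X, charDegree (ψ : G → ℂ) ^ 2 :=
        Finset.single_le_sum (f := fun ψ : IrrCharacter G => charDegree (ψ : G → ℂ) ^ 2)
          (fun _ _ => Nat.zero_le _) hX
      have h2 := S.sum_sq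
      rw [hG] at h2
      rw [hk] at h1
      have h3 : p * 2 ^ k ≤ r := by
        refine Nat.le_of_mul_le_mul_right ?_ (show 0 < p * 2 ^ k by positivity)
        calc p * 2 ^ k * (p * 2 ^ k) = (p * 2 ^ k) ^ 2 := by ring
          _ ≤ p * r * 2 ^ k := by omega
          _ = r * (p * 2 ^ k) := by ring
      have h4 : p * 2 ≤ p * 2 ^ k := Nat.mul_le_mul_left _ (Nat.le_self_pow (by omega) 2)
      omega
    -- the value at a central involution is a nonzero multiple of `2 ^ k`
    have hv0 : (χ : G → ℂ) z ≠ 0 := by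
      refine apply_ne_zero_of_principal hM (principal_of_small_part hM (2 ^ b)
        (fun g h1 h2 => dvd_class hp hr Nat.prime_two hp2 hpr hG hb hnc h1 h2) χ ?_) ?_
      · rw [hk]
        intro hd
        have := (Nat.pow_dvd_pow_iff_le_right (by norm_num : 1 < 2)).1
          ((Nat.Coprime.pow_left b (Nat.coprime_two_left.2 hpodd)).dvd_of_dvd_mul_left hd)
        omega
      · rw [hzi]
        intro hd
        rcases Nat.prime_two.dvd_mul.1 hd with hd | hd
        · have := (Nat.prime_dvd_prime_iff_eq Nat.prime_two hp).1 hd; omega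
        · have := (Nat.prime_dvd_prime_iff_eq Nat.prime_two hr).1 hd; omega
    obtain ⟨v, hv⟩ := Block.int_value_involution χ hz
    have hvk : (2 : ℤ) ^ k ∣ v := by
      have hi := χ.2.isIntegral_class z
      rw [Char.card_classFinset, hzi, Block.apply_one_eq_charDegree, hk, hv] at hi
      have e1 : ((p * r : ℕ) : ℂ) * (v : ℂ) / ((p * 2 ^ k : ℕ) : ℂ) =
          (((r : ℚ) * v / 2 ^ k : ℚ) : ℂ) := by
        have hp0 : (p : ℂ) ≠ 0 := Nat.cast_ne_zero.2 hp.ne_zero
        push_cast
        field_simp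
      rw [e1] at hi
      obtain ⟨m, hm'⟩ := Char.exists_int_of_isIntegral_rat hi
      rw [div_eq_iff (by positivity)] at hm'
      have h2 : (r : ℤ) * v = m * 2 ^ k := by exact_mod_cast hm'
      refine (IsCoprime.pow_left (?_ : IsCoprime (2 : ℤ) (r : ℤ))).dvd_of_dvd_mul_left
        ⟨m, by rw [h2]; ring⟩
      have := (Nat.coprime_primes Nat.prime_two hr).2 (by omega)
      exact Int.isCoprime_iff_gcd_eq_one.2 this
    have hk2 : 2 * k < b := by
      have hv1 : v ≠ 0 := fun h0 => hv0 (by rw [hv, h0, Int.cast_zero])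
      have hle : (2 : ℝ) ^ k ≤ ‖(χ : G → ℂ) z‖ := by
        rw [hv, Complex.norm_intCast, ← Int.cast_abs]
        have := Int.le_of_dvd (abs_pos.2 hv1) ((dvd_abs _ _).2 hvk)
        exact_mod_cast this
      have horth := S.orth_le z
      have hpair : ({one' G, χ} : Finset (IrrCharacter G)) ⊆ S.Z := by
        intro ψ hψ
        rcases Finset.mem_insert.1 hψ with rfl | hψ
        · exact S.one_mem
        · rw [Finset.mem_singleton.1 hψ]; exact S.mem_Z.2 (Or.inr hX)
      have h2 := (Finset.sum_le_sum_of_subset_of_nonneg hpair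
        (fun _ _ _ => by positivity)).trans horth
      rw [Finset.sum_pair hne.symm, hzc, one'_apply, norm_one] at h2
      have h3 : ((2 : ℝ) ^ k) ^ 2 ≤ ‖(χ : G → ℂ) z‖ ^ 2 := by gcongr
      have h4 : (2 : ℝ) ^ (2 * k) < (2 : ℝ) ^ b := by
        rw [mul_comm 2 k, pow_mul]
        push_cast at h2
        linarith
      exact (pow_lt_pow_iff_right₀ one_lt_two).1 h4
    have h2 : (2 : ZMod r) ^ (c + k) = -(S.σ χ : ZMod r) := by
      have h1 := hcg χ hX
      rw [hk] at h1
      push_cast at h1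
      have hp0 : ((p + e : ℕ) : ZMod r) = 0 := by rw [hre, ZMod.natCast_self]
      rw [he] at hp0
      push_cast at hp0
      have hss : (S.σ χ : ZMod r) * (S.σ χ : ZMod r) = 1 := by
        rcases S.sign χ (S.mem_Z.2 (Or.inr hX)) with h | h <;> rw [h] <;> push_cast <;> ring
      rw [pow_add]
      linear_combination -(S.σ χ : ZMod r) * h1 + (2 : ZMod r) ^ k * hp0 +
        (p : ZMod r) * (2 : ZMod r) ^ k * hss
    obtain ⟨h3, h4⟩ := exponent_eq hr (by omega) hsq hc1 hcb hk2
      (S.sign χ (S.mem_Z.2 (Or.inr hX))) hbr h2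
    rw [hk, h3, one_mul, show k = b - c by omega]
  rw [Finset.sum_congr rfl hB, Finset.sum_const, nsmul_eq_mul, hA1.1, hA1.2] at hsplit
  have hBcard : B.card = e - 2 := by
    have := Finset.card_filter_add_card_filter_not (s := X')
      (fun χ => p ∣ charDegree (χ : G → ℂ))
    change B.card + A.card = _ at this
    omega
  rw [hBcard] at hsplit
  have heu : e * 2 ^ (b - c) = 2 ^ b := by rw [he, ← pow_add]; congr 1; omega
  set u := 2 ^ (b - c) with hu
  have hfin : (p : ℤ) * ((2 : ℤ) ^ b - 2 * u + 1) = 2 ^ b - 1 := by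
    have heu' : (e : ℤ) * (u : ℤ) = 2 ^ b := by exact_mod_cast heu
    rw [Nat.cast_sub he2] at hsplit
    push_cast at hsplit
    rw [← heu']
    rw [← heu'] at hsplit
    linarith
  have hc2 : c = 1 := by
    by_contra hne
    have h4 : 4 * u ≤ 2 ^ b := by
      rw [← heu, he]
      refine Nat.mul_le_mul_right _ ?_
      calc 4 = 2 ^ 2 := by norm_num
        _ ≤ 2 ^ c := Nat.pow_le_pow_right two_pos (by omega)
    have h5 : (4 : ℤ) * u ≤ 2 ^ b := by exact_mod_cast h4
    have h6 : (3 : ℤ) ≤ p := by exact_mod_cast (show 3 ≤ p by omega)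
    nlinarith
  subst hc2
  rw [pow_one] at he
  have hu2 : (2 : ℤ) * u = 2 ^ b := by
    rw [he] at heu
    exact_mod_cast heu
  rw [← hu2, sub_self, zero_add, mul_one] at hfin
  have hp' : p + 1 = 2 * u := by omega
  have hu3 : 2 * u = 2 ^ b := by rw [he] at heu; exact heu
  obtain ⟨rfl, rfl, rfl⟩ := mersenne_pair hp hr (by omega) (hp'.trans hu3) (by omega)
  rw [hG]
  norm_num

end Even

/-- A noncyclic simple group of order `p * r * q ^ b` has order 60 or 168. -/
theorem card_cases (hnc : ¬ IsCyclic G) (hp : p.Prime) (hq : q.Prime) (hr : r.Prime) (hpq : p ≠ q)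
    (hpr : p < r) (hqr : q ≠ r) (hG : Nat.card G = p * r * q ^ b) :
    Nat.card G = 60 ∨ Nat.card G = 168 := by
  classical
  -- the Sylow subgroup of the least prime is not cyclic
  haveI := Fact.mk (Nat.minFac_prime (show Nat.card G ≠ 1 from Finite.one_lt_card.ne'))
  obtain ⟨T⟩ : Nonempty (Sylow (Nat.card G).minFac G) := inferInstance
  have hnot : ¬ IsCyclic (T : Subgroup G) := fun h =>
    not_normalizer_le_centralizer hnc T (fun hb => by
      have h1 := T.dvd_card_of_dvd_card (Nat.minFac_dvd _)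
      rw [hb, Subgroup.card_bot] at h1
      exact (Fact.out : Nat.Prime _).not_dvd_one h1) (h.normalizer_le_centralizer rfl)
  have hfac2 : 2 ≤ (Nat.card G).factorization (Nat.card G).minFac := by
    by_contra hlt
    push Not at hlt
    refine hnot ?_
    have hcard := T.card_eq_multiplicity
    rcases Nat.le_one_iff_eq_zero_or_eq_one.1 (Nat.lt_succ_iff.1 hlt) with h | h <;>
      rw [h] at hcard
    · rw [pow_zero] at hcard
      haveI : Subsingleton (T : Subgroup G) := (Nat.card_eq_one_iff_unique.1 hcard).1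
      infer_instance
    · rw [pow_one] at hcard
      exact isCyclic_of_prime_card hcard
  have hmin : (Nat.card G).minFac = q := by
    have hl : (Nat.card G).minFac.Prime := Fact.out
    have hd : (Nat.card G).minFac ∣ p * r * q ^ b := hG ▸ Nat.minFac_dvd _
    rcases hl.dvd_mul.1 hd with h | h
    · exfalso
      rcases hl.dvd_mul.1 h with h | h
      · rw [(Nat.prime_dvd_prime_iff_eq hl hp).1 h,
          fac_eq hp hq hr hpq hpr.ne hG] at hfac2
        omega
      · rw [(Nat.prime_dvd_prime_iff_eq hl hr).1 h,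
          fac_eq (G := G) (b := b) hr hq hp (Ne.symm hqr) hpr.ne' (by rw [hG]; ring)]
          at hfac2
        omega
    · exact (Nat.prime_dvd_prime_iff_eq hl hq).1 (hl.dvd_of_dvd_pow h)
  have hqp : q < p := lt_of_le_of_ne
    (hmin ▸ Nat.minFac_le_of_dvd hp.two_le (hG ▸ dvd_mul_of_dvd_left (dvd_mul_right p r) _))
    (Ne.symm hpq)
  have hb : 2 ≤ b := by
    rw [hmin, hG, Nat.factorization_mul (Nat.mul_ne_zero hp.ne_zero hr.ne_zero)
      (pow_ne_zero _ hq.ne_zero), Finsupp.add_apply, hq.factorization_pow, Finsupp.single_eq_same,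
      Nat.factorization_eq_zero_of_not_dvd (fun h => by
        rcases hq.dvd_mul.1 h with h | h
        · exact hpq ((Nat.prime_dvd_prime_iff_eq hq hp).1 h).symm
        · exact hqr ((Nat.prime_dvd_prime_iff_eq hq hr).1 h)), zero_add] at hfac2
    exact hfac2
  obtain ⟨_, R, e, S, he2, hed, hθ, hone, -, hn, hcase⟩ :=
    exists_large hp hr hq hqp hpr hG hb hnc
  rcases hcase with ⟨hs, he⟩ | ⟨hs, hre⟩
  · exact Or.inr (half hp hr hq hqp hpr hG hb hnc R S hθ hone hs he hn hed)
  · left
    have hq2 : q = 2 := by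
      have hev : 2 ∣ e := by
        obtain ⟨u, hu⟩ := hp.odd_of_ne_two (by have := hq.two_le; omega)
        obtain ⟨v, hv⟩ := hr.odd_of_ne_two (by have := hq.two_le; omega)
        omega
      have h2 : 2 ∣ p * q ^ b := hn ▸ dvd_mul_of_dvd_right hev _
      rcases Nat.prime_two.dvd_mul.1 h2 with h | h
      · have := (Nat.prime_dvd_prime_iff_eq Nat.prime_two hp).1 h
        have := hq.two_le
        omega
      · exact ((Nat.prime_dvd_prime_iff_eq Nat.prime_two hq).1
          (Nat.prime_two.dvd_of_dvd_pow h)).symm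
    subst hq2
    exact power_two hp hr hqp hpr hG hb hnc R S he2 hθ hone hs hre hed hn

end Cfsg.Lib.Small.ThreePrime
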