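import Cfsg.Agent.Lib.Small.BrauerTuanTools
import Cfsg.Agent.Lib.Small.BrauerTuanArith
import Cfsg.Agent.Lib.Small.ThreePrime

/-!
# The theorem of Brauer and Tuan

A noncyclic simple group of order `p * d * q ^ B` with `d < p - 1` prime to `q`:

* `setup`: the principal `p`-block has an exceptional character of degree `d`, which is the
  automizer order `e` or `p - e`, and elements of order `p` are self-centralizing;
* `minus_case`: when `d = e`, the tensor square `θ θ̄` has a constituent of degree `p + 1`, so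
  `q = 2` and `p` is a Mersenne prime;
* `plus_case`: when `d = p - e`, `q = 2` and `e = 2` or `p` is a Fermat prime;
* `finish`: in the Mersenne and Fermat cases the characters of the principal 2-block and those of
  two-power degree force `q ^ B = 2 ^ m`, the order of `PSL(2, p)`.
-/

set_option autoImplicit false
set_option linter.unusedSectionVars false
set_option linter.style.haveILetI false

namespace Cfsg.Lib.Small.BrauerTuan

open Cfsg Cfsg.Lib
open Cfsg.Lib.Small.ThreePrime (dvd_cases sylow_product exists_zpowers exists_data)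
open scoped ComplexConjugate

universe u

noncomputable local instance (priority := high) fintypeSubgroupBrauerTuan {A : Type u}
    [Group A] [Fintype A] (H : Subgroup A) : Fintype H := Fintype.ofFinite H

variable {G : Type u} [Group G] [Fintype G] [IsSimpleGroup G]

/-- A divisor of `d * q ^ b` splits. -/
theorem dvd_split {q b d D : ℕ} (hq : q.Prime) (h : D ∣ d * q ^ b) :
    ∃ d' k, d' ∣ d ∧ k ≤ b ∧ D = d' * q ^ k := by
  obtain ⟨u, v, hu, hv, rfl⟩ := Nat.dvd_mul.1 h
  obtain ⟨k, hk, rfl⟩ := (Nat.dvd_prime_pow hq).1 hv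
  exact ⟨u, k, hu, hk, rfl⟩

variable {p q B d : ℕ}

/-- The data from the principal `p`-block. -/
theorem member [Fact p.Prime] (hq : q.Prime) (hnc : ¬ IsCyclic G) (hp2 : 2 < p)
    (hG : Nat.card G = p * d * q ^ B) (hdp : d < p - 1) (hd0 : 0 < d)
    (hfac : (Nat.card G).factorization p = 1) (P : Sylow p G) :
    ∃ (e : ℕ) (S : Shape P e), 2 ≤ e ∧ e ∣ p - 1 ∧ one' G ∈ S.X ∧
      charDegree (S.θ : G → ℂ) = d ∧ 2 ≤ d ∧
      Nat.card (Subgroup.centralizer ((P : Subgroup G) : Set G)) = p ∧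
      (S.σ S.θ = -1 ∧ e = d ∧ p = 2 * d + 1 ∧ q ∣ d - 1 ∨
        S.σ S.θ = 1 ∧ d + e = p ∧ q ∣ d + 1) := by
  classical
  have hp : p.Prime := Fact.out
  obtain ⟨-, e, he2, hed, ⟨S⟩⟩ := exists_data hnc (by omega) hfac P
  have hep : e ≤ p - 1 := Nat.le_of_dvd (by omega) hed
  have hm : Nat.card G = p * (d * q ^ B) := by rw [hG]; ring
  have hdiv : ∀ χ ∈ S.Z, ¬ q ∣ charDegree (χ : G → ℂ) → charDegree (χ : G → ℂ) ∣ d := by
    intro χ hχ hn
    exact (Nat.Coprime.pow_right B ((hq.coprime_iff_not_dvd.2 hn).symm)).dvd_of_dvd_mul_right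
      (S.deg_dvd hm hχ)
  obtain ⟨χ, hχ, hχ1, hχq⟩ : ∃ χ ∈ S.Z, χ ≠ one' G ∧ ¬ q ∣ charDegree (χ : G → ℂ) := by
    by_contra hcon
    push Not at hcon
    have hrel := S.rel_deg
    rw [← Finset.add_sum_erase _ _ S.one_mem, S.sign_one, charDegree_one'] at hrel
    have hd : (q : ℤ) ∣ ∑ χ ∈ S.Z.erase (one' G), S.σ χ * (charDegree (χ : G → ℂ) : ℤ) :=
      Finset.dvd_sum fun χ h => dvd_mul_of_dvd_right (Int.natCast_dvd_natCast.2
        (hcon χ (Finset.mem_of_mem_erase h) (Finset.ne_of_mem_erase h))) _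
    have h1 : (q : ℤ) ∣ 1 := by
      have h2 : (1 : ℤ) = -(∑ χ ∈ S.Z.erase (one' G), S.σ χ * (charDegree (χ : G → ℂ) : ℤ)) := by
        push_cast at hrel
        linarith
      rw [h2]
      exact hd.neg_right
    exact hq.not_dvd_one (by exact_mod_cast h1)
  set D := charDegree (χ : G → ℂ) with hD
  have hd2 : 2 ≤ D := two_le_charDegree hnc hχ1
  have hDd : D ∣ d := hdiv χ hχ hχq
  have hDle : D ≤ d := Nat.le_of_dvd hd0 hDd
  have hχX : ∀ ψ ∈ S.X, 2 ≤ charDegree (ψ : G → ℂ) → p - 1 ≤ charDegree (ψ : G → ℂ) := by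
    intro ψ h h2
    by_contra hlt
    push Not at hlt
    have hc := (ZMod.intCast_eq_intCast_iff _ _ p).2 (S.cong ψ h)
    rcases S.sign ψ (S.mem_Z.2 (Or.inr h)) with hs | hs <;> rw [hs] at hc <;> push_cast at hc
    · have h3 : ((charDegree (ψ : G → ℂ) - 1 : ℕ) : ZMod p) = 0 := by
        rw [Nat.cast_sub (by omega)]; push_cast; linear_combination hc
      rw [ZMod.natCast_eq_zero_iff] at h3
      have := Nat.le_of_dvd (by omega) h3
      omega
    · have h3 : ((charDegree (ψ : G → ℂ) + 1 : ℕ) : ZMod p) = 0 := by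
        push_cast; linear_combination -hc
      rw [ZMod.natCast_eq_zero_iff] at h3
      have := Nat.le_of_dvd (by omega) h3
      omega
  have hχθ : χ = S.θ := by
    rcases S.mem_Z.1 hχ with h | h
    · exact h
    · have := hχX χ h hd2
      omega
  subst hχθ
  have hone : one' G ∈ S.X := (S.mem_Z.1 S.one_mem).resolve_left fun h => hχ1 h.symm
  have hC := S.small hnc (fun hd' => by
    rw [hp.pow_dvd_iff_le_factorization Nat.card_pos.ne', hfac] at hd'
    omega) hχ hχ1 (by omega)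
  have hlow : p ≤ 2 * D + 1 := by
    refine Cfsg.Agent.S4503.result (G := G) p hp (hG ▸ ⟨d * q ^ B, by ring⟩) (fun h => by
        rw [hp.pow_dvd_iff_le_factorization Nat.card_pos.ne', hfac] at h
        omega) (fun H hH hc => ?_) (S.θ : G → ℂ) S.θ.2.isCharacter
      (fun g => eq_one_of_apply_eq hχ1)
    rcases hH.eq_bot_or_eq_top with h | h
    · rw [h, Subgroup.card_bot] at hc; omega
    · rw [h, Subgroup.card_top] at hc
      exact hnc (isCyclic_of_prime_card hc)
  have hDeq : D = d := by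
    obtain ⟨t, ht⟩ := hDd
    rcases t with _ | _ | t
    · omega
    · simp at ht
      omega
    · exfalso
      have : D * 2 ≤ D * (t + 1 + 1) := Nat.mul_le_mul_left _ (by omega)
      omega
  have hrel := S.rel_deg
  rw [S.Z_eq, Finset.sum_insert S.θ_notMem, ← Finset.add_sum_erase _ _ hone, S.sign_one,
    charDegree_one', ← hD, hDeq] at hrel
  have hqX : (q : ℤ) ∣ ∑ ψ ∈ S.X.erase (one' G), S.σ ψ * (charDegree (ψ : G → ℂ) : ℤ) := by
    refine Finset.dvd_sum fun ψ h => dvd_mul_of_dvd_right (Int.natCast_dvd_natCast.2 ?_) _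
    by_contra hn
    have hX := Finset.mem_of_mem_erase h
    have h1 := hχX ψ hX (two_le_charDegree hnc (Finset.ne_of_mem_erase h))
    have h2 := Nat.le_of_dvd hd0 (hdiv ψ (S.mem_Z.2 (Or.inr hX)) hn)
    omega
  refine ⟨e, S, he2, hed, hone, hDeq, hDeq ▸ hd2, hC, ?_⟩
  have hc := (ZMod.intCast_eq_intCast_iff _ _ p).2 S.congθ
  rw [← hD, hDeq] at hc
  rcases S.sign _ hχ with hs | hs <;> rw [hs] at hc hrel <;> push_cast at hc hrel
  · right
    refine ⟨hs, ?_, ?_⟩
    · have h3 : ((d + e : ℕ) : ZMod p) = 0 := by push_cast; linear_combination hc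
      rw [ZMod.natCast_eq_zero_iff] at h3
      obtain ⟨t, ht⟩ := h3
      rcases t with _ | _ | t
      · omega
      · omega
      · exfalso
        have : p * 2 ≤ p * (t + 1 + 1) := Nat.mul_le_mul_left _ (by omega)
        omega
    · have h4 : (q : ℤ) ∣ ((d + 1 : ℕ) : ℤ) := by
        rw [← dvd_neg, show -((d + 1 : ℕ) : ℤ) = ∑ ψ ∈ S.X.erase (one' G),
          S.σ ψ * (charDegree (ψ : G → ℂ) : ℤ) by push_cast at hrel ⊢; linarith]
        exact hqX
      exact Int.natCast_dvd_natCast.1 h4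
  · left
    have h3 : e = d := by
      have h3 : ((d : ℕ) : ZMod p) = ((e : ℕ) : ZMod p) := by linear_combination -hc
      rw [ZMod.natCast_eq_natCast_iff', Nat.mod_eq_of_lt (by omega),
        Nat.mod_eq_of_lt (by omega)] at h3
      exact h3.symm
    refine ⟨hs, h3, ?_, ?_⟩
    · obtain ⟨t, ht⟩ := hed
      rw [h3] at ht
      rcases t with _ | _ | _ | t
      · omega
      · omega
      · omega
      · exfalso
        have : d * 3 ≤ d * (t + 1 + 1 + 1) := Nat.mul_le_mul_left _ (by omega)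
        omega
    · have h4 : (q : ℤ) ∣ ((d - 1 : ℕ) : ℤ) := by
        rw [Nat.cast_sub (by omega), show (d : ℤ) - ((1 : ℕ) : ℤ) = ∑ ψ ∈ S.X.erase (one' G),
          S.σ ψ * (charDegree (ψ : G → ℂ) : ℤ) by push_cast at hrel ⊢; linarith]
        exact hqX
      exact Int.natCast_dvd_natCast.1 h4

/-- The standing configuration. -/
structure Config (G : Type u) [Group G] [Fintype G] (p q B d : ℕ) [Fact p.Prime] : Type u where
  hq : q.Prime
  hqd : ¬ q ∣ d
  hG : Nat.card G = p * d * q ^ B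
  hnc : ¬ IsCyclic G
  hd2 : 2 ≤ d
  hdp : d < p - 1
  P : Sylow p G
  e : ℕ
  S : Shape P e
  he2 : 2 ≤ e
  hed : e ∣ p - 1
  hone : one' G ∈ S.X
  hθ : charDegree (S.θ : G → ℂ) = d
  cent : ∀ x : G, orderOf x = p → Nat.card (Subgroup.centralizer ({x} : Set G)) = p
  centP : Nat.card (Subgroup.centralizer ((P : Subgroup G) : Set G)) = p
  count : Nat.card (Sylow p G) * e = d * q ^ B
  alt : S.σ S.θ = -1 ∧ e = d ∧ p = 2 * d + 1 ∧ q ∣ d - 1 ∨ S.σ S.θ = 1 ∧ d + e = p ∧ q ∣ d + 1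

theorem exists_config [Fact p.Prime] (hq : q.Prime) (hpq : p ≠ q) (hnc : ¬ IsCyclic G)
    (hG : Nat.card G = p * d * q ^ B) (hqd : ¬ q ∣ d) (hdp : d < p - 1) :
    Nonempty (Config G p q B d) := by
  have hp : p.Prime := Fact.out
  have hd0 : 0 < d := Nat.pos_of_ne_zero fun h => hqd (h ▸ dvd_zero q)
  have hp2 : 2 < p := by omega
  have hnd : ¬ p ∣ d * q ^ B := fun h => by
    rcases hp.dvd_mul.1 h with h | h
    · have := Nat.le_of_dvd hd0 h; omega
    · exact hpq ((Nat.prime_dvd_prime_iff_eq hp hq).1 (hp.dvd_of_dvd_pow h))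
  have hfac : (Nat.card G).factorization p = 1 := by
    rw [hG, mul_assoc, Nat.factorization_mul hp.ne_zero (fun h0 => hnd (by rw [h0]; exact dvd_zero p)),
      Finsupp.add_apply, hp.factorization_self, Nat.factorization_eq_zero_of_not_dvd hnd]
  obtain ⟨P⟩ : Nonempty (Sylow p G) := inferInstance
  obtain ⟨e, S, he2, hed, hone, hθ, hd2, hC, halt⟩ := member hq hnc hp2 hG hdp hd0 hfac P
  refine ⟨⟨hq, hqd, hG, hnc, hd2, hdp, P, e, S, he2, hed, hone, hθ, fun x hx => ?_, hC, ?_, halt⟩⟩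
  · obtain ⟨R, hR⟩ := exists_sylow_eq_zpowers (G := G) (p := p)
      (fun T => by rw [T.card_eq_multiplicity, hfac, pow_one]) hx
    obtain ⟨-, -, -, -, -, -, -, h, -⟩ := member hq hnc hp2 hG hdp hd0 hfac R
    rwa [hR, centralizer_zpowers] at h
  · have h := sylow_product P S.relIndex_eq
    rw [hC, hG] at h
    refine Nat.eq_of_mul_eq_mul_right hp.pos ?_
    rw [mul_assoc, h]
    ring

namespace Config

variable [Fact p.Prime] (c : Config G p q B d)
include c

theorem five_le : 5 ≤ p := by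
  have hp : p.Prime := Fact.out
  have := c.hd2
  have := c.hdp
  by_contra h
  have hp3 : p = 3 ∨ p = 4 := by omega
  rcases hp3 with h3 | h3
  · omega
  · rw [h3] at hp
    norm_num at hp

theorem deg_dvd {χ : IrrCharacter G} (h : χ ∈ c.S.Z) : charDegree (χ : G → ℂ) ∣ d * q ^ B :=
  c.S.deg_dvd (show Nat.card G = p * (d * q ^ B) by rw [c.hG]; ring) h

theorem not_dvd_d : ¬ p ∣ d * q ^ B := fun h => by
  have hp : p.Prime := Fact.out
  have hpC := c.S.card_P
  have h2 : p ^ 2 ∣ Nat.card G := by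
    rw [c.hG, pow_two, mul_assoc]
    exact mul_dvd_mul_left p h
  have := c.P.pow_dvd_card_of_pow_dvd_card h2
  rw [hpC] at this
  have := Nat.le_of_dvd hp.pos this
  nlinarith [hp.two_le]

theorem theta_ne : c.S.θ ≠ one' G := fun h => by
  have := c.hθ
  rw [h, charDegree_one'] at this
  have := c.hd2
  omega

end Config

/-- When `d = e` there is a constituent of degree `p + 1` of `θ θ̄`. -/
theorem exists_succ_member [Fact p.Prime] (c : Config G p q B d) (hs : c.S.σ c.S.θ = -1)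
    (he : c.e = d) (hpd : p = 2 * d + 1) :
    ∃ χ ∈ c.S.X, charDegree (χ : G → ℂ) = p + 1 := by
  classical
  have hp : p.Prime := Fact.out
  have hp0 : (p : ℂ) ≠ 0 := Nat.cast_ne_zero.2 hp.ne_zero
  have hd2 := c.hd2
  set f : G → ℂ := fun g => (c.S.θ : G → ℂ) g * conj ((c.S.θ : G → ℂ) g) with hf
  have hfc : IsCharacter G f := c.S.θ.2.isCharacter.mul c.S.θ.2.isCharacter.conjFn
  choose m hm using fun ψ : IrrCharacter G => hfc.exists_nat_classInner ψ.2.isCharacter
  have hexp : ∀ g, f g = ∑ ψ : IrrCharacter G, (m ψ : ℂ) * (ψ : G → ℂ) g := by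
    intro g
    have h := congrFun (Char.eq_sum_classInner hfc.isClassFunction) g
    simp only [Finset.sum_apply, Pi.smul_apply, smul_eq_mul, hm] at h
    exact h
  -- the weight of each constituent on `P`
  let w : IrrCharacter G → ℤ := fun ψ => if ψ ∈ c.S.X then 2 * c.S.σ ψ else if ψ ∈ c.S.Y then -1 else 0
  have hYdeg : ∀ θ' ∈ c.S.Y, charDegree (θ' : G → ℂ) = d := by
    intro θ' h
    have h1 := c.S.agree θ' h 1 (by rw [orderOf_one]; exact hp.not_dvd_one)
    rw [Block.apply_one_eq_charDegree, Block.apply_one_eq_charDegree, c.hθ] at h1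
    exact_mod_cast h1
  have hPsum : ∀ ψ : IrrCharacter G, ∑ u : (c.P : Subgroup G), (ψ : G → ℂ) u =
      (charDegree (ψ : G → ℂ) : ℂ) + (d : ℂ) * (w ψ : ℂ) := by
    intro ψ
    have hone : (((1 : (c.P : Subgroup G)) : (c.P : Subgroup G)) : G) = 1 := rfl
    have hcard : Fintype.card (c.P : Subgroup G) = p := by
      rw [← Nat.card_eq_fintype_card, c.S.card_P]
    by_cases hX : ψ ∈ c.S.X
    · rw [← Finset.add_sum_erase _ _ (Finset.mem_univ (1 : (c.P : Subgroup G))), hone,
        Block.apply_one_eq_charDegree]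
      rw [Finset.sum_congr rfl (g := fun _ => (c.S.σ ψ : ℂ)) fun u hu => by
        have := c.S.val ψ hX u u.2 (fun h => Finset.ne_of_mem_erase hu (Subtype.ext h)) 1
          (Subgroup.one_mem _) (by rw [orderOf_one]; exact hp.not_dvd_one)
        rwa [mul_one] at this, Finset.sum_const, Finset.card_erase_of_mem (Finset.mem_univ _),
        Finset.card_univ, hcard, nsmul_eq_mul]
      simp only [w, if_pos hX]
      rw [show p - 1 = 2 * d by omega]
      push_cast
      ring
    by_cases hY : ψ ∈ c.S.Y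
    · have hne : ψ ≠ one' G := fun h => by
        have := hYdeg ψ hY
        rw [h, charDegree_one'] at this
        omega
      rw [(half_values c.S hne ((hYdeg ψ hY).trans he.symm)).1, hYdeg ψ hY]
      simp only [w, if_neg hX, if_pos hY]
      push_cast
      ring
    · rw [← Finset.add_sum_erase _ _ (Finset.mem_univ (1 : (c.P : Subgroup G))), hone,
        Block.apply_one_eq_charDegree, Finset.sum_eq_zero fun u hu => ?_]
      · simp only [w, if_neg hX, if_neg hY, Int.cast_zero, mul_zero]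
      · exact apply_eq_zero_of_outside c.S c.centP u.2
          (fun h => Finset.ne_of_mem_erase hu (Subtype.ext h))
          (fun h => ((c.S.mem_block ψ).1 h).elim hX hY)
  have hf1 : f 1 = ((d * d : ℕ) : ℂ) := by
    simp only [hf]
    rw [Block.apply_one_eq_charDegree, c.hθ, Complex.conj_natCast]
    push_cast
    rfl
  have hdeg : ∑ ψ : IrrCharacter G, (m ψ : ℤ) * (charDegree (ψ : G → ℂ) : ℤ) = (d : ℤ) * d := by
    have h := hexp 1
    rw [hf1] at h
    simp only [Block.apply_one_eq_charDegree] at h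
    exact_mod_cast h.symm
  have hwt : ∑ ψ : IrrCharacter G, (m ψ : ℤ) * w ψ = (d : ℤ) + 1 := by
    have h := (half_values c.S c.theta_ne (c.hθ.trans he.symm)).2
    have h' : ∑ u : (c.P : Subgroup G), f u = (p : ℂ) * d := by rw [h, he]
    rw [Finset.sum_congr rfl (g := fun u : (c.P : Subgroup G) => ∑ ψ : IrrCharacter G,
      (m ψ : ℂ) * (ψ : G → ℂ) u) fun u _ => hexp (u : G), Finset.sum_comm,
      Finset.sum_congr rfl fun ψ _ => by rw [← Finset.mul_sum, hPsum ψ, mul_add],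
      Finset.sum_add_distrib] at h'
    have h1 : ((∑ ψ : IrrCharacter G, (m ψ : ℤ) * (charDegree (ψ : G → ℂ) : ℤ) : ℤ) : ℂ) =
        (((d : ℤ) * d : ℤ) : ℂ) := by rw [hdeg]
    push_cast at h1
    rw [h1, Finset.sum_congr rfl fun ψ _ => mul_left_comm _ _ _, ← Finset.mul_sum, hpd] at h'
    have hd0 : (d : ℂ) ≠ 0 := Nat.cast_ne_zero.2 (by omega)
    have h2 : ((∑ ψ : IrrCharacter G, (m ψ : ℤ) * w ψ : ℤ) : ℂ) = (((d : ℤ) + 1 : ℤ) : ℂ) := by
      push_cast at h' ⊢
      refine mul_left_cancel₀ hd0 ?_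
      linear_combination h'
    exact_mod_cast h2
  -- the trivial character occurs once
  have hm1 : m (one' G) = 1 := by
    have h : classInner f ((one' G : IrrCharacter G) : G → ℂ) = 1 := by
      have h1 := Char.classInner_irr_self c.S.θ.2
      rw [← h1]
      simp only [classInner, hf, one'_apply, map_one, mul_one]
    rw [hm] at h
    exact_mod_cast h
  set v : IrrCharacter G → ℤ := fun ψ =>
    (charDegree (ψ : G → ℂ) : ℤ) - ((d : ℤ) + 1) * w ψ with hv
  have hvsum : ∑ ψ ∈ Finset.univ.erase (one' G), (m ψ : ℤ) * v ψ = 0 := by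
    have h : ∑ ψ : IrrCharacter G, (m ψ : ℤ) * v ψ = (d : ℤ) * d - ((d : ℤ) + 1) * ((d : ℤ) + 1) := by
      simp only [hv, mul_sub, Finset.sum_sub_distrib, mul_left_comm _ ((d : ℤ) + 1),
        ← Finset.mul_sum, hdeg, hwt]
    rw [← Finset.add_sum_erase _ _ (Finset.mem_univ (one' G)), hm1] at h
    simp only [hv, w, if_pos c.hone, c.S.sign_one, charDegree_one'] at h ⊢
    push_cast at h ⊢
    linarith
  have hplus : ∀ ψ ∈ c.S.X, ψ ≠ one' G → c.S.σ ψ = 1 → p + 1 ≤ charDegree (ψ : G → ℂ) := by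
    intro ψ h hne hσ
    have h2 := two_le_charDegree c.hnc hne
    by_contra hlt
    push Not at hlt
    have hc := (ZMod.intCast_eq_intCast_iff _ _ p).2 (c.S.cong ψ h)
    rw [hσ] at hc
    push_cast at hc
    have h3 : ((charDegree (ψ : G → ℂ) - 1 : ℕ) : ZMod p) = 0 := by
      rw [Nat.cast_sub (by omega)]; push_cast; linear_combination hc
    rw [ZMod.natCast_eq_zero_iff] at h3
    have := Nat.le_of_dvd (by omega) h3
    omega
  have hpos : ∀ ψ : IrrCharacter G, ψ ≠ one' G → 0 ≤ v ψ ∧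
      (v ψ = 0 → ψ ∈ c.S.X ∧ charDegree (ψ : G → ℂ) = p + 1) := by
    intro ψ hne
    have hD : (1 : ℤ) ≤ (charDegree (ψ : G → ℂ) : ℤ) := by
      exact_mod_cast Block.charDegree_pos ψ
    simp only [hv, w]
    split_ifs with hX hY
    · rcases c.S.sign ψ (c.S.mem_Z.2 (Or.inr hX)) with hσ | hσ <;> rw [hσ]
      · have := hplus ψ hX hne hσ
        exact ⟨by omega, fun h0 => ⟨hX, by omega⟩⟩
      · exact ⟨by omega, fun h0 => by omega⟩
    · exact ⟨by omega, fun h0 => by omega⟩
    · exact ⟨by omega, fun h0 => by omega⟩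
  have hall := (Finset.sum_eq_zero_iff_of_nonneg fun ψ hψ =>
    mul_nonneg (Int.natCast_nonneg _) (hpos ψ (Finset.ne_of_mem_erase hψ)).1).1 hvsum
  by_contra hcon
  push Not at hcon
  have hz : ∀ ψ : IrrCharacter G, ψ ≠ one' G → (m ψ : ℤ) = 0 := by
    intro ψ hne
    have h := hall ψ (Finset.mem_erase.2 ⟨hne, Finset.mem_univ _⟩)
    rcases mul_eq_zero.1 h with h | h
    · exact h
    · obtain ⟨hX, hD⟩ := (hpos ψ hne).2 h
      exact absurd hD (hcon ψ hX)
  rw [← Finset.add_sum_erase _ _ (Finset.mem_univ (one' G)), hm1, charDegree_one',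
    Finset.sum_eq_zero fun ψ hψ => by rw [hz ψ (Finset.ne_of_mem_erase hψ), zero_mul]] at hdeg
  push_cast at hdeg
  nlinarith

/-- When `d = e`: `q = 2` and `p` is a Mersenne prime. -/
theorem minus_case [Fact p.Prime] (c : Config G p q B d) (hs : c.S.σ c.S.θ = -1) (he : c.e = d)
    (hpd : p = 2 * d + 1) (hqd1 : q ∣ d - 1) : q = 2 ∧ Odd d ∧ ∃ m, Special p d m := by
  have hq := c.hq
  have hd2 := c.hd2
  obtain ⟨χ, hX, hD⟩ := exists_succ_member c hs he hpd
  obtain ⟨d', k, hd', -, hk⟩ := dvd_split hq (hD ▸ c.deg_dvd (c.S.mem_Z.2 (Or.inr hX)))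
  have hd'2 : d' ∣ 2 := by
    have h1 : d' ∣ p + 1 := hk ▸ dvd_mul_right d' _
    have h2 : d' ∣ 2 * d := dvd_mul_of_dvd_right hd' 2
    rw [show p + 1 = 2 * d + 2 by omega] at h1
    exact (Nat.dvd_add_right h2).1 h1
  have hk0 : k ≠ 0 := fun h0 => by
    rw [h0, pow_zero, mul_one] at hk
    have := Nat.le_of_dvd two_pos hd'2
    omega
  have hq2 : q = 2 := by
    have h1 : q ∣ 2 * (d + 1) := by
      rw [show 2 * (d + 1) = d' * q ^ k by omega]
      exact dvd_mul_of_dvd_right (dvd_pow_self q hk0) d'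
    rcases hq.dvd_mul.1 h1 with h | h
    · exact (Nat.prime_dvd_prime_iff_eq hq Nat.prime_two).1 h
    · have h2 : q ∣ (d + 1) - (d - 1) := Nat.dvd_sub h hqd1
      rw [show d + 1 - (d - 1) = 2 by omega] at h2
      exact (Nat.prime_dvd_prime_iff_eq hq Nat.prime_two).1 h2
  subst hq2
  have hodd : Odd d := Nat.not_even_iff_odd.1 fun h => c.hqd (even_iff_two_dvd.1 h)
  refine ⟨rfl, hodd, k, ?_⟩
  have hd1 : d' = 1 := by
    rcases (Nat.dvd_prime Nat.prime_two).1 hd'2 with h | h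
    · exact h
    · exact absurd (h ▸ hd') c.hqd
  rw [hd1, one_mul] at hk
  refine ⟨?_, hd2, Or.inl ⟨hk, hpd.symm⟩⟩
  by_contra hlt
  have : 2 ^ k ≤ 2 ^ 1 := Nat.pow_le_pow_right two_pos (by omega)
  omega

/-- When `d = p - e`: `q = 2`, and `e = 2` or `p` is a Fermat prime. -/
theorem plus_case [Fact p.Prime] (c : Config G p q B d) (hs : c.S.σ c.S.θ = 1) (hde : d + c.e = p)
    (hqd1 : q ∣ d + 1) : q = 2 ∧ Odd d ∧ ((c.e = 2 ∧ 5 < p) ∨ ∃ m, Special p d m) := by
  classical
  have hp : p.Prime := Fact.out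
  have hq := c.hq
  have hd2 := c.hd2
  have he2 := c.he2
  have hp5 := c.five_le
  have hcop : Nat.Coprime c.e d := by
    refine Nat.coprime_of_dvd fun l hl h1 h2 => ?_
    have h3 : l ∣ p := hde ▸ dvd_add h2 h1
    rw [Nat.prime_dvd_prime_iff_eq hl hp] at h3
    subst h3
    have := Nat.le_of_dvd (by omega) h2
    omega
  obtain ⟨j, -, hj⟩ := (Nat.dvd_prime_pow hq).1
    (hcop.dvd_of_dvd_mul_left (c.count ▸ dvd_mul_left c.e _))
  have hj0 : j ≠ 0 := fun h => by rw [h, pow_zero] at hj; omega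
  have hq2 : q = 2 := by
    have h1 : q ∣ c.e := hj ▸ dvd_pow_self q hj0
    have h2 : q ∣ p + 1 := by
      rw [← hde, show d + c.e + 1 = (d + 1) + c.e by ring]
      exact dvd_add hqd1 h1
    have h3 : q ∣ p - 1 := h1.trans c.hed
    have h4 : q ∣ (p + 1) - (p - 1) := Nat.dvd_sub h2 h3
    rw [show p + 1 - (p - 1) = 2 by omega] at h4
    exact (Nat.prime_dvd_prime_iff_eq hq Nat.prime_two).1 h4
  subst hq2
  have hodd : Odd d := Nat.not_even_iff_odd.1 fun h => c.hqd (even_iff_two_dvd.1 h)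
  refine ⟨rfl, hodd, ?_⟩
  by_cases he : c.e = 2
  · by_cases hp' : 5 < p
    · exact Or.inl ⟨he, hp'⟩
    · exact Or.inr ⟨2, le_rfl, hd2, Or.inr ⟨by omega, by omega⟩⟩
  right
  have hj2 : 2 ≤ j := by
    by_contra hlt
    rw [show j = 1 by omega, pow_one] at hj
    exact he hj
  have h4e : 4 ∣ c.e := by
    rw [hj]
    exact (show (4 : ℕ) = 2 ^ 2 by norm_num) ▸ pow_dvd_pow 2 hj2
  have h4p : 4 ∣ p - 1 := h4e.trans c.hed
  -- some member has two-part exactly two
  obtain ⟨χ, hX, hne, d', hd', hD⟩ : ∃ χ, χ ∈ c.S.X ∧ χ ≠ one' G ∧ ∃ d', d' ∣ d ∧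
      (charDegree (χ : G → ℂ) = d' * 2 ∨ charDegree (χ : G → ℂ) = d') := by
    by_contra hcon
    push Not at hcon
    have hrel := c.S.rel_deg
    rw [c.S.Z_eq, Finset.sum_insert c.S.θ_notMem, ← Finset.add_sum_erase _ _ c.hone, c.S.sign_one,
      charDegree_one', hs, c.hθ] at hrel
    have h4 : (4 : ℤ) ∣ ∑ χ ∈ c.S.X.erase (one' G), c.S.σ χ * (charDegree (χ : G → ℂ) : ℤ) := by
      refine Finset.dvd_sum fun χ h => dvd_mul_of_dvd_right ?_ _
      have hX := Finset.mem_of_mem_erase h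
      obtain ⟨d', k, hd', -, hk⟩ := dvd_split Nat.prime_two (c.deg_dvd (c.S.mem_Z.2 (Or.inr hX)))
      obtain ⟨h1, h2⟩ := hcon χ hX (Finset.ne_of_mem_erase h) d' hd'
      rcases k with _ | _ | k
      · exact absurd (by rw [hk, pow_zero, mul_one]) h2
      · exact absurd (by rw [hk]; ring) h1
      · rw [hk]
        push_cast
        exact ⟨d' * 2 ^ k, by ring⟩
    have h5 : (4 : ℤ) ∣ ((d + 1 : ℕ) : ℤ) := by
      rw [← dvd_neg, show -((d + 1 : ℕ) : ℤ) = ∑ χ ∈ c.S.X.erase (one' G),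
        c.S.σ χ * (charDegree (χ : G → ℂ) : ℤ) by push_cast at hrel ⊢; linarith]
      exact h4
    have h5' : 4 ∣ d + 1 := by exact_mod_cast h5
    obtain ⟨a, ha⟩ := h4e
    obtain ⟨a', ha'⟩ := h4p
    obtain ⟨a'', ha''⟩ := h5'
    omega
  have h2le := two_le_charDegree c.hnc hne
  have hd'le : d' ≤ d := Nat.le_of_dvd (by omega) hd'
  have hc := (ZMod.intCast_eq_intCast_iff _ _ p).2 (c.S.cong χ hX)
  have hdp := c.hdp
  have hdd : ¬ (charDegree (χ : G → ℂ) < p - 1) := by
    intro hlt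
    rcases c.S.sign χ (c.S.mem_Z.2 (Or.inr hX)) with hσ | hσ <;> rw [hσ] at hc <;> push_cast at hc
    · have h3 : ((charDegree (χ : G → ℂ) - 1 : ℕ) : ZMod p) = 0 := by
        rw [Nat.cast_sub (by omega)]; push_cast; linear_combination hc
      rw [ZMod.natCast_eq_zero_iff] at h3
      have := Nat.le_of_dvd (by omega) h3
      omega
    · have h3 : ((charDegree (χ : G → ℂ) + 1 : ℕ) : ZMod p) = 0 := by
        push_cast; linear_combination -hc
      rw [ZMod.natCast_eq_zero_iff] at h3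
      have := Nat.le_of_dvd (by omega) h3
      omega
  rcases hD with hD | hD
  swap
  · omega
  have hD2 : 2 * d' = p + 1 ∨ 2 * d' = p - 1 := by
    rcases c.S.sign χ (c.S.mem_Z.2 (Or.inr hX)) with hσ | hσ <;> rw [hσ, hD] at hc <;>
      push_cast at hc
    · left
      have h3 : ((2 * d' - 1 : ℕ) : ZMod p) = 0 := by
        rw [Nat.cast_sub (by omega)]; push_cast; linear_combination hc
      rw [ZMod.natCast_eq_zero_iff] at h3
      obtain ⟨t, ht⟩ := h3
      rcases t with _ | _ | t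
      · omega
      · omega
      · exfalso
        have : p * 2 ≤ p * (t + 1 + 1) := Nat.mul_le_mul_left _ (by omega)
        omega
    · right
      have h3 : ((2 * d' + 1 : ℕ) : ZMod p) = 0 := by push_cast; linear_combination -hc
      rw [ZMod.natCast_eq_zero_iff] at h3
      obtain ⟨t, ht⟩ := h3
      rcases t with _ | _ | t
      · omega
      · omega
      · exfalso
        have : p * 2 ≤ p * (t + 1 + 1) := Nat.mul_le_mul_left _ (by omega)
        omega
  have hdeq : d' = d := by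
    obtain ⟨t, ht⟩ := hd'
    rcases t with _ | _ | t
    · omega
    · simp at ht
      omega
    · exfalso
      have : d' * 2 ≤ d' * (t + 1 + 1) := Nat.mul_le_mul_left _ (by omega)
      omega
  rcases hD2 with h | h
  · refine ⟨j + 1, by omega, hd2, Or.inr ⟨?_, by omega⟩⟩
    rw [pow_succ, ← hj]
    omega
  · exfalso
    obtain ⟨a, ha⟩ := h4e
    obtain ⟨a', ha'⟩ := h4p
    obtain ⟨v, hv⟩ := hodd
    omega

/-- The Mersenne and Fermat cases. -/
theorem finish [Fact p.Prime] (c : Config G p 2 B d) (hodd : Odd d) {m : ℕ} (h : Special p d m) :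
    2 * Nat.card G = p * (p ^ 2 - 1) ∧ Nat.card (Sylow p G) = p + 1 := by
  classical
  haveI := Fact.mk Nat.prime_two
  have hp : p.Prime := Fact.out
  have hd2 := c.hd2
  have hdp := c.hdp
  have hp5 := c.five_le
  obtain ⟨h4, hhalf, hlow, hhigh⟩ := h.bounds
  obtain ⟨hm2, -, hcase⟩ := id h
  -- the order of the automizer
  have he : 2 * c.e + 1 = p := by
    rcases c.alt with ⟨-, h1, h2, -⟩ | ⟨-, h1, -⟩
    · omega
    · rcases hcase with ⟨h2, h3⟩ | ⟨h2, h3⟩
      · exfalso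
        -- `e = d + 1` does not divide `p - 1 = 2 d`
        have h5 : c.e ∣ 2 * d := by
          rw [show 2 * d = p - 1 by omega]
          exact c.hed
        have h6 : c.e = d + 1 := by omega
        rw [h6] at h5
        have h7 : Nat.Coprime (d + 1) d := by simp
        have := Nat.le_of_dvd two_pos (h7.dvd_of_dvd_mul_right h5)
        omega
      · omega
  set n := Nat.card (Sylow p G) with hn
  have hcount : n * c.e = d * 2 ^ B := c.count
  have hpm1 : (p - 1) * n = 2 * (d * 2 ^ B) := by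
    rw [← hcount, show p - 1 = 2 * c.e by omega]; ring
  -- `2 ^ B` is `± 1` modulo `p`, so `m` divides `B`
  have hsig : c.S.σ c.S.θ = 1 ∨ c.S.σ c.S.θ = -1 := c.S.sign _ (c.S.mem_Z.2 (Or.inl rfl))
  have hnmod : ((n : ℕ) : ZMod p) = 1 := by
    have := (ZMod.natCast_eq_natCast_iff _ _ p).2 (card_sylow_modEq_one p G)
    push_cast at this
    exact this
  have h2B : (2 : ZMod p) ^ B = 1 ∨ (2 : ZMod p) ^ B = -1 := by
    have h5 := congrArg (fun n : ℕ => (n : ZMod p)) hpm1
    rw [Nat.cast_mul, Nat.cast_mul, Nat.cast_mul, Nat.cast_pow, Nat.cast_sub (by omega),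
      ZMod.natCast_self, hnmod] at h5
    push_cast at h5
    rcases hcase with ⟨-, h6⟩ | ⟨-, h6⟩
    · left
      have h7 : ((2 * d + 1 : ℕ) : ZMod p) = 0 := by rw [h6, ZMod.natCast_self]
      push_cast at h7
      linear_combination h5 + (2 : ZMod p) ^ B * h7
    · right
      have h7 : ((p + 1 : ℕ) : ZMod p) = ((2 * d : ℕ) : ZMod p) := by rw [h6]
      push_cast at h7
      rw [ZMod.natCast_self] at h7
      linear_combination -h5 + (2 : ZMod p) ^ B * h7
  have hmB : m ∣ B := by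
    rcases h2B with h5 | h5
    · exact h.dvd_of_pow (Or.inl rfl) (by rw [h5, Int.cast_one])
    · exact h.dvd_of_pow (Or.inr rfl) (by rw [h5]; push_cast; ring)
  have hB0 : B ≠ 0 := by
    intro h0
    have hcount : n * c.e = d := by rw [hcount, show 2 ^ B = 1 by rw [h0, pow_zero], mul_one]
    rcases Nat.lt_or_ge n 2 with h5 | h5
    · have hN : Subgroup.normalizer ((c.P : Subgroup G) : Set G) = ⊤ := by
        have hni : (Subgroup.normalizer ((c.P : Subgroup G) : Set G)).index = n :=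
          c.P.card_eq_index_normalizer.symm
        rw [← Subgroup.index_eq_one, hni]
        have : 0 < n := Nat.card_pos
        omega
      rcases (Subgroup.normalizer_eq_top_iff.1 hN).eq_bot_or_eq_top with h6 | h6
      · exact hp.ne_one (by rw [← c.S.card_P, h6, Subgroup.card_bot])
      · exact c.hnc (isCyclic_of_prime_card (p := p) (by rw [← c.S.card_P, h6, Subgroup.card_top]))
    · have h8 := (ZMod.natCast_eq_natCast_iff' n 1 p).1 (by rw [hnmod, Nat.cast_one])
      rw [Nat.one_mod_eq_one.2 hp.ne_one] at h8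
      have h9 : p ≤ n := by
        by_contra hlt
        rw [Nat.mod_eq_of_lt (by omega)] at h8
        omega
      have := c.he2
      have : p * 2 ≤ n * c.e := Nat.mul_le_mul h9 (by omega)
      omega
  have hBm : m ≤ B := Nat.le_of_dvd (Nat.pos_of_ne_zero hB0) hmB
  -- the forms of the degrees
  have hform : ∀ χ ∈ c.S.X, ∃ k ≤ B, (charDegree (χ : G → ℂ) = 2 ^ k ∧ m ∣ k) ∨
      charDegree (χ : G → ℂ) = d * 2 ^ k := by
    intro χ hX
    obtain ⟨d', k, hd', hk, hD⟩ := dvd_split Nat.prime_two (c.deg_dvd (c.S.mem_Z.2 (Or.inr hX)))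
    have hc := (ZMod.intCast_eq_intCast_iff _ _ p).2 (c.S.cong χ hX)
    have hu : ((d' * 2 ^ k : ℕ) : ZMod p) = (c.S.σ χ : ZMod p) := by
      rw [← hD]
      rcases c.S.sign χ (c.S.mem_Z.2 (Or.inr hX)) with hσ | hσ <;> rw [hσ] at hc ⊢ <;>
        push_cast at hc ⊢
      · linear_combination hc
      · linear_combination -hc
    rcases h.odd_part hodd hd2 hd' (c.S.sign χ (c.S.mem_Z.2 (Or.inr hX))) hu with ⟨h1, h2⟩ | h1
    · exact ⟨k, hk, Or.inl ⟨by rw [hD, h1, one_mul], h2⟩⟩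
    · exact ⟨k, hk, Or.inr (by rw [hD, h1])⟩
  -- characters of degree divisible by `d` vanish on the elements meeting `d`
  have hvan : ∀ χ : IrrCharacter G, d ∣ charDegree (χ : G → ℂ) → ∀ g : G, g ≠ 1 →
      ¬ 2 ∣ orderOf g → (χ : G → ℂ) g ≠ 0 → orderOf g = p := by
    intro χ hdχ g hg hg2 hne
    by_cases hpg : p ∣ orderOf g
    · obtain ⟨t, ht⟩ := hpg
      have ht0 : t ≠ 0 := fun h0 => (orderOf_pos g).ne' (by rw [ht, h0, mul_zero])
      have hx : orderOf (g ^ t) = p := by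
        rw [orderOf_pow_of_dvd ht0 (ht ▸ dvd_mul_left t p), ht, Nat.mul_div_cancel _ (by omega)]
      have hmem : g ∈ Subgroup.centralizer ({g ^ t} : Set G) :=
        Subgroup.mem_centralizer_singleton_iff.2 (Commute.self_pow g t).eq
      have h5 := Subgroup.orderOf_dvd_natCard _ hmem
      rw [c.cent _ hx] at h5
      rcases (Nat.dvd_prime hp).1 h5 with h6 | h6
      · exact absurd (orderOf_eq_one_iff.1 h6) hg
      · exact h6
    · exfalso
      obtain ⟨l, hl, hlg⟩ := Nat.exists_prime_and_dvd (show orderOf g ≠ 1 by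
        rwa [Ne, orderOf_eq_one_iff])
      haveI := Fact.mk hl
      have hl2 : l ≠ 2 := fun h5 => hg2 (h5 ▸ hlg)
      have hlp : l ≠ p := fun h5 => hpg (h5 ▸ hlg)
      apply hne
      refine Cfsg.Lib.MEleven.apply_eq_zero_of_defectZero χ ?_ hlg
      refine le_antisymm ((Nat.factorization_le_iff_dvd (Block.charDegree_pos χ).ne'
        Nat.card_pos.ne').2 (Block.charDegree_dvd_card χ) l) ?_
      rw [c.hG, Nat.factorization_mul (Nat.mul_ne_zero hp.ne_zero (by omega)) (by positivity),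
        Nat.factorization_mul hp.ne_zero (by omega), Finsupp.add_apply, Finsupp.add_apply,
        hp.factorization, Finsupp.single_apply, if_neg (Ne.symm hlp), zero_add,
        Nat.prime_two.factorization_pow, Finsupp.single_apply, if_neg (Ne.symm hl2), add_zero]
      exact (Nat.factorization_le_iff_dvd (by omega) (Block.charDegree_pos χ).ne').2 hdχ l
  obtain ⟨M, hM⟩ := Block.exists_isPModular Nat.prime_two
  -- the sums over the 2-regular elements
  have hsum : ∀ χ : IrrCharacter G, d ∣ charDegree (χ : G → ℂ) →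
      ∑ g, pRegularPart 2 (χ : G → ℂ) g = (charDegree (χ : G → ℂ) : ℂ) +
        (n : ℂ) * ((∑ u : (c.P : Subgroup G), (χ : G → ℂ) u) - (charDegree (χ : G → ℂ) : ℂ)) := by
    intro χ hdχ
    have h5 := sum_orderOf_eq_prime c.P c.S.card_P χ.2.isClassFunction
    rw [Block.apply_one_eq_charDegree] at h5
    rw [← Finset.add_sum_erase _ _ (Finset.mem_univ (1 : G)),
      Block.pRegularPart_of_reg (show IsPRegular 2 (1 : G) by simp [IsPRegular]),
      Block.apply_one_eq_charDegree, hn, ← h5]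
    congr 1
    symm
    refine (Finset.sum_congr rfl fun g hg => ?_).trans (Finset.sum_subset (fun g hg => ?_)
      fun g hg hg' => ?_)
    · refine (Block.pRegularPart_of_reg ?_).symm
      rw [IsPRegular, (Finset.mem_filter.1 hg).2, Nat.prime_dvd_prime_iff_eq Nat.prime_two hp]
      omega
    · refine Finset.mem_erase.2 ⟨fun h6 => ?_, Finset.mem_univ _⟩
      have := (Finset.mem_filter.1 hg).2
      rw [h6, orderOf_one] at this
      omega
    · by_cases hreg : IsPRegular 2 g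
      · rw [Block.pRegularPart_of_reg hreg]
        by_contra hne
        exact hg' (Finset.mem_filter.2 ⟨Finset.mem_univ _,
          hvan χ hdχ g (Finset.ne_of_mem_erase hg) hreg hne⟩)
      · exact Block.pRegularPart_of_sing hreg
  have hYmem : ∀ θ' ∈ c.S.Y, charDegree (θ' : G → ℂ) = d ∧ θ' ∈ principalBlock M G := by
    intro θ' hY
    have h1 := c.S.agree θ' hY 1 (by rw [orderOf_one]; exact hp.not_dvd_one)
    rw [Block.apply_one_eq_charDegree, Block.apply_one_eq_charDegree, c.hθ] at h1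
    have hdeg : charDegree (θ' : G → ℂ) = d := by exact_mod_cast h1
    refine ⟨hdeg, Block.mem_principal_of_regSum_ne hM θ' fun h0 => ?_⟩
    rw [hsum θ' (hdeg ▸ dvd_rfl), hdeg] at h0
    obtain ⟨M', hM'⟩ := (θ'.2.isCharacter.comp (c.P : Subgroup G).subtype).exists_nat_classInner
      (Char.isIrrCharacter_one (G := (c.P : Subgroup G))).isCharacter
    have h5 : classInner (fun u : (c.P : Subgroup G) => (θ' : G → ℂ) u) (fun _ => 1) = (M' : ℂ) :=
      hM'
    rw [Char.classInner_one_right] at h5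
    rw [c.S.card_P] at h5
    have h6 : ∑ u : (c.P : Subgroup G), (θ' : G → ℂ) u = (p : ℂ) * M' := by
      rw [← h5, ← mul_assoc, mul_inv_cancel₀ (Nat.cast_ne_zero.2 hp.ne_zero), one_mul]
    rw [h6] at h0
    have h7 : (d : ℤ) + (n : ℤ) * ((p : ℤ) * M' - d) = 0 := by exact_mod_cast h0
    have hneven : Even n := by
      rcases Nat.even_or_odd n with h8 | h8
      · exact h8
      exfalso
      have h9 : 2 ^ B ∣ c.e := (Nat.Coprime.pow_left B
        (Nat.coprime_two_left.2 h8)).dvd_of_dvd_mul_left ⟨d, by rw [hcount]; ring⟩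
      have h10 : 2 ^ m ≤ 2 ^ B := Nat.pow_le_pow_right two_pos hBm
      have := Nat.le_of_dvd (by omega) h9
      omega
    obtain ⟨a, ha⟩ := hneven
    obtain ⟨b', hb'⟩ := hodd
    rw [ha, hb'] at h7
    push_cast at h7
    have h11 : (2 : ℤ) ∣ 1 := ⟨-((b' : ℤ) + (a : ℤ) * ((p : ℤ) * M' - (2 * b' + 1))), by linarith⟩
    norm_num at h11
  have hXmem : ∀ χ ∈ c.S.X, ∀ k ≤ B, charDegree (χ : G → ℂ) = d * 2 ^ k →
      χ ∈ principalBlock M G := by
    intro χ hX k hk hD
    refine Block.mem_principal_of_regSum_ne hM χ fun h0 => ?_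
    rw [hsum χ (hD ▸ dvd_mul_right d _), hD] at h0
    have h5 : ∑ u : (c.P : Subgroup G), (χ : G → ℂ) u =
        ((d * 2 ^ k : ℕ) : ℂ) + ((p - 1 : ℕ) : ℂ) * (c.S.σ χ : ℂ) := by
      have hcard : Fintype.card (c.P : Subgroup G) = p := by
        rw [← Nat.card_eq_fintype_card, c.S.card_P]
      rw [← Finset.add_sum_erase _ _ (Finset.mem_univ (1 : (c.P : Subgroup G))),
        OneMemClass.coe_one, Block.apply_one_eq_charDegree, hD,
        Finset.sum_congr rfl (g := fun _ => (c.S.σ χ : ℂ)) fun u hu => by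
          have := c.S.val χ hX u u.2 (fun h => Finset.ne_of_mem_erase hu (Subtype.ext h)) 1
            (Subgroup.one_mem _) (by rw [orderOf_one]; exact hp.not_dvd_one)
          rwa [mul_one] at this, Finset.sum_const, Finset.card_erase_of_mem (Finset.mem_univ _),
        Finset.card_univ, hcard, nsmul_eq_mul]
    rw [h5, add_sub_cancel_left] at h0
    have h6 : ((d * 2 ^ k : ℕ) : ℂ) + ((2 * (d * 2 ^ B) : ℕ) : ℂ) * (c.S.σ χ : ℂ) = 0 := by
      rw [← hpm1, Nat.cast_mul (p - 1) n]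
      linear_combination h0
    have h7 : ((d * 2 ^ k : ℕ) : ℤ) + ((2 * (d * 2 ^ B) : ℕ) : ℤ) * c.S.σ χ = 0 := by
      exact_mod_cast h6
    have h8 : d * 2 ^ k = 2 * (d * 2 ^ B) := by
      rcases c.S.sign χ (c.S.mem_Z.2 (Or.inr hX)) with hσ | hσ <;> rw [hσ] at h7 <;> omega
    have h9 : d * 2 ^ k ≤ d * 2 ^ B := Nat.mul_le_mul_left _ (Nat.pow_le_pow_right two_pos hk)
    have : 0 < d * 2 ^ B := by positivity
    omega
  -- characters of small two-power degree are outside
  obtain ⟨Q⟩ : Nonempty (Sylow 2 G) := inferInstance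
  have hQ : Nat.card (Q : Subgroup G) = 2 ^ B := by
    refine card_sylow B (p * d) (by rw [c.hG]; ring) (fun h5 => ?_) Q
    rcases Nat.prime_two.dvd_mul.1 h5 with h5 | h5
    · have := (Nat.prime_dvd_prime_iff_eq Nat.prime_two hp).1 h5; omega
    · exact c.hqd h5
  obtain ⟨z, hz1, hzi⟩ : ∃ z : G, z ≠ 1 ∧ ¬ 2 ∣ (Subgroup.centralizer ({z} : Set G)).index := by
    haveI : Nontrivial (Q : Subgroup G) := by
      rw [← Finite.one_lt_card_iff_nontrivial, hQ]
      exact Nat.one_lt_two_pow hB0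
    haveI := Q.2.center_nontrivial
    obtain ⟨⟨⟨z, hzQ⟩, hzc⟩, hz⟩ := exists_ne (1 : Subgroup.center (Q : Subgroup G))
    refine ⟨z, fun h5 => hz (Subtype.ext (Subtype.ext h5)), fun h5 => Q.not_dvd_index (h5.trans
      (Subgroup.index_dvd_of_le fun y hy => Subgroup.mem_centralizer_singleton_iff.2
        (congrArg Subtype.val (Subgroup.mem_center_iff.1 hzc ⟨y, hy⟩))))⟩
  have hout : ∀ χ ∈ c.S.X, χ ≠ one' G → ∀ k < B, charDegree (χ : G → ℂ) = 2 ^ k →
      χ ∉ principalBlock M G := by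
    intro χ _ hne k _ hD hmem
    refine ThreePrime.apply_ne_zero_of_principal hM hmem hzi
      (ThreePrime.apply_eq_zero_of_coprime c.hnc hne hz1 ?_)
    rw [hD]
    exact (Nat.prime_two.coprime_iff_not_dvd.2 hzi).pow_left k
  -- the congruence of the intersection of the two principal blocks
  obtain ⟨x, hx, hxP⟩ := exists_zpowers c.P c.S.card_P
  have hxmem : x ∈ (c.P : Subgroup G) := hxP ▸ Subgroup.mem_zpowers x
  have hx1 : x ≠ 1 := fun h5 => hp.ne_one (by rw [← hx, h5, orderOf_one])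
  have hBlock : ∀ g : G, ¬ p ∣ orderOf g →
      ∑ χ ∈ c.S.X ∪ c.S.Y, (χ : G → ℂ) g * conj ((χ : G → ℂ) x) = 0 := by
    intro g hg
    have h5 := Block.sum_block_mul_conj_eq_zero c.S.hM
      (Block.vInt_indVec c.S.hM Block.isPBlock_principal) (g := g) (h := x)
      (Block.not_isConj_pPt_of_dvd hg (hx ▸ dvd_rfl))
    rw [finsum_mem_eq_finite_toFinset_sum _ (principalBlock c.S.M G).toFinite,
      show (principalBlock c.S.M G).toFinite.toFinset = c.S.X ∪ c.S.Y by
        ext χ; rw [Set.Finite.mem_toFinset, Finset.mem_union]; exact c.S.mem_block χ] at h5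
    exact h5
  have hconjX : ∀ χ ∈ c.S.X, conj ((χ : G → ℂ) x) = (c.S.σ χ : ℂ) := fun χ hX => by
    have := c.S.val χ hX x hxmem hx1 1 (Subgroup.one_mem _)
      (by rw [orderOf_one]; exact hp.not_dvd_one)
    rw [mul_one] at this
    rw [this, map_intCast]
  have hθY : ∑ θ' ∈ c.S.Y, conj ((θ' : G → ℂ) x) * (θ' : G → ℂ) 1 =
      (c.S.σ c.S.θ : ℂ) * (d : ℂ) := by
    have h5 := hBlock 1 (by rw [orderOf_one]; exact hp.not_dvd_one)
    rw [Finset.sum_union c.S.disj, Finset.sum_congr rfl fun χ hX => by rw [hconjX χ hX]] at h5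
    have h6 := c.S.rel 1 (by rw [orderOf_one]; exact hp.not_dvd_one)
    rw [c.S.Z_eq, Finset.sum_insert c.S.θ_notMem, Block.apply_one_eq_charDegree, c.hθ] at h6
    rw [Finset.sum_congr rfl fun θ' _ => mul_comm _ _]
    have h7 : ∑ χ ∈ c.S.X, (χ : G → ℂ) 1 * (c.S.σ χ : ℂ) =
        ∑ χ ∈ c.S.X, (c.S.σ χ : ℂ) * (χ : G → ℂ) 1 := Finset.sum_congr rfl fun _ _ => mul_comm _ _
    rw [h7] at h5
    linear_combination h5 - h6
  obtain ⟨α, hα, hsum2⟩ := intersection_congr hM (c.S.X ∪ c.S.Y)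
    (fun χ => conj ((χ : G → ℂ) x))
    (fun χ _ => by rw [← χ.2.isCharacter.apply_inv]; exact χ.2.isCharacter.isIntegral _)
    (fun g hg => by
      rw [Finset.sum_congr rfl fun χ _ => mul_comm _ _]
      refine hBlock g fun hpg => ?_
      obtain ⟨t, ht⟩ := hpg
      have ht0 : t ≠ 0 := fun h0 => (orderOf_pos g).ne' (by rw [ht, h0, mul_zero])
      have hxt : orderOf (g ^ t) = p := by
        rw [orderOf_pow_of_dvd ht0 (ht ▸ dvd_mul_left t p), ht, Nat.mul_div_cancel _ (by omega)]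
      have hmem : g ∈ Subgroup.centralizer ({g ^ t} : Set G) :=
        Subgroup.mem_centralizer_singleton_iff.2 (Commute.self_pow g t).eq
      have h5 := Subgroup.orderOf_dvd_natCard _ hmem
      rw [c.cent _ hxt] at h5
      have h6 := hg.trans h5
      rw [Nat.prime_dvd_prime_iff_eq Nat.prime_two hp] at h6
      omega) Q
  rw [Finset.filter_union, Finset.sum_union (Finset.disjoint_filter_filter c.S.disj),
    Finset.filter_true_of_mem (s := c.S.Y) (fun θ' hY => (hYmem θ' hY).2), hθY, hQ,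
    Finset.sum_congr rfl (g := fun χ : IrrCharacter G =>
      ((c.S.σ χ * (charDegree (χ : G → ℂ) : ℤ) : ℤ) : ℂ)) fun χ hχ => by
      rw [hconjX χ (Finset.mem_filter.1 hχ).1, Block.apply_one_eq_charDegree]; push_cast; rfl]
    at hsum2
  -- the integer congruence for the members outside
  set X₀ := c.S.X.filter (fun χ : IrrCharacter G => χ ∉ principalBlock M G) with hX₀
  have hout2 : (2 : ℤ) ^ B ∣ ∑ χ ∈ X₀, c.S.σ χ * (charDegree (χ : G → ℂ) : ℤ) := by
    have hrel : ∑ χ ∈ c.S.X, c.S.σ χ * (charDegree (χ : G → ℂ) : ℤ) + c.S.σ c.S.θ * (d : ℤ) = 0 := by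
      have h5 := c.S.rel_deg
      rw [c.S.Z_eq, Finset.sum_insert c.S.θ_notMem, c.hθ] at h5
      linarith
    have hsplit := Finset.sum_filter_add_sum_filter_not c.S.X
      (fun χ : IrrCharacter G => χ ∈ principalBlock M G)
      (fun χ => c.S.σ χ * (charDegree (χ : G → ℂ) : ℤ))
    have hval : ((-(∑ χ ∈ X₀, c.S.σ χ * (charDegree (χ : G → ℂ) : ℤ)) : ℤ) : ℂ) =
        ((2 ^ B : ℕ) : ℂ) * α := by
      rw [← hsum2, ← Int.cast_sum]
      rw [show -(∑ χ ∈ X₀, c.S.σ χ * (charDegree (χ : G → ℂ) : ℤ)) =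
        ∑ χ ∈ c.S.X.filter (fun χ : IrrCharacter G => χ ∈ principalBlock M G),
          c.S.σ χ * (charDegree (χ : G → ℂ) : ℤ) + c.S.σ c.S.θ * (d : ℤ) by
        simp only [hX₀]
        linarith]
      push_cast
      rfl
    set S0 := ∑ χ ∈ X₀, c.S.σ χ * (charDegree (χ : G → ℂ) : ℤ)
    have h5 : ((((-S0 : ℤ) : ℚ) / ((2 : ℚ) ^ B) : ℚ) : ℂ) = α := by
      push_cast at hval ⊢
      rw [hval, mul_div_cancel_left₀]
      exact pow_ne_zero _ two_ne_zero
    obtain ⟨z', hz'⟩ := Char.exists_int_of_isIntegral_rat (h5 ▸ hα)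
    rw [div_eq_iff (pow_ne_zero _ two_ne_zero)] at hz'
    have h6 : -S0 = z' * 2 ^ B := by exact_mod_cast hz'
    exact ⟨-z', by linarith⟩
  -- no member of small two-power degree
  set L := c.S.X.filter (fun χ : IrrCharacter G =>
    χ ≠ one' G ∧ ∃ k, k < B ∧ charDegree (χ : G → ℂ) = 2 ^ k) with hL
  have hLX : L ⊆ X₀ := by
    intro χ hχ
    rw [hL, Finset.mem_filter] at hχ
    obtain ⟨hX, hne, k, hk, hD⟩ := hχ
    exact Finset.mem_filter.2 ⟨hX, hout χ hX hne k hk hD⟩
  have hrest : ∀ χ ∈ X₀ \ L, (2 : ℤ) ^ B ∣ c.S.σ χ * (charDegree (χ : G → ℂ) : ℤ) := by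
    intro χ hχ
    obtain ⟨hχ1, hχ2⟩ := Finset.mem_sdiff.1 hχ
    obtain ⟨hX, hnp⟩ := Finset.mem_filter.1 hχ1
    have hne : χ ≠ one' G := fun h5 => hnp (h5 ▸ Block.trivChar_mem_principal hM)
    obtain ⟨k, hk, ⟨hD, -⟩ | hD⟩ := hform χ hX
    · rcases Nat.lt_or_eq_of_le hk with hk' | rfl
      · exact absurd (Finset.mem_filter.2 ⟨hX, hne, k, hk', hD⟩) hχ2
      · exact dvd_mul_of_dvd_right (by rw [hD]; push_cast; exact dvd_rfl) _
    · exact absurd (hXmem χ hX k hk hD) hnp
  have hLdvd : (2 : ℤ) ^ B ∣ ∑ χ ∈ L, c.S.σ χ * (charDegree (χ : G → ℂ) : ℤ) := by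
    rw [← Finset.sum_sdiff hLX] at hout2
    exact (Int.dvd_add_right (Finset.dvd_sum hrest)).1 hout2
  have hLempty : L = ∅ := by
    by_contra hne
    obtain ⟨χ₀, hχ₀, hmin⟩ := Finset.exists_min_image L (fun χ => charDegree (χ : G → ℂ))
      (Finset.nonempty_iff_ne_empty.2 hne)
    have hLk : ∀ χ ∈ L, χ ∈ c.S.X ∧ χ ≠ one' G ∧
        ∃ k, k < B ∧ m ∣ k ∧ charDegree (χ : G → ℂ) = 2 ^ k := by
      intro χ hχ
      rw [hL, Finset.mem_filter] at hχ
      obtain ⟨hX, hne, k, hk, hD⟩ := hχ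
      refine ⟨hX, hne, k, hk, ?_, hD⟩
      obtain ⟨k', -, ⟨hD', hmk⟩ | hD'⟩ := hform χ hX
      · rwa [Nat.pow_right_injective le_rfl (hD.symm.trans hD')]
      · exfalso
        have h5 : d ∣ 2 ^ k := by rw [← hD, hD']; exact dvd_mul_right d _
        have h6 : Nat.Coprime d (2 ^ k) := (Nat.coprime_two_right.2 hodd).pow_right k
        have := Nat.eq_one_of_dvd_coprimes h6 dvd_rfl h5
        omega
    obtain ⟨hX₀', -, k₀, hk₀, hmk₀, hD₀⟩ := hLk χ₀ hχ₀
    set L₀ := L.filter (fun χ : IrrCharacter G => charDegree (χ : G → ℂ) = 2 ^ k₀) with hL₀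
    have hsame : ∀ χ ∈ L₀, c.S.σ χ * (charDegree (χ : G → ℂ) : ℤ) = c.S.σ χ₀ * 2 ^ k₀ := by
      intro χ hχ
      obtain ⟨hχL, hD⟩ := Finset.mem_filter.1 hχ
      have hX := (hLk χ hχL).1
      have h1 := (ZMod.intCast_eq_intCast_iff _ _ p).2 (c.S.cong χ hX)
      have h2 := (ZMod.intCast_eq_intCast_iff _ _ p).2 (c.S.cong χ₀ hX₀')
      rw [hD] at h1 ⊢
      rw [hD₀] at h2
      push_cast at h1 h2 ⊢
      congr 1
      rcases c.S.sign χ (c.S.mem_Z.2 (Or.inr hX)) with ha | ha <;>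
        rcases c.S.sign χ₀ (c.S.mem_Z.2 (Or.inr hX₀')) with hb | hb <;>
        rw [ha, hb] <;> exfalso
      all_goals
        rw [ha] at h1
        rw [hb] at h2
        push_cast at h1 h2
        have h0 : ((2 : ℕ) : ZMod p) = 0 := by
          push_cast
          linear_combination -h1 - h2
        rw [ZMod.natCast_eq_zero_iff] at h0
        have := Nat.le_of_dvd two_pos h0
        omega
    have hkm : k₀ + m ≤ B := by
      obtain ⟨a, ha⟩ := hmk₀
      obtain ⟨b', hb'⟩ := hmB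
      have : a < b' := Nat.lt_of_mul_lt_mul_left (a := m) (by omega)
      have : m * (a + 1) ≤ m * b' := Nat.mul_le_mul_left m this
      rw [mul_add, mul_one] at this
      omega
    have hbig : ∀ χ ∈ L \ L₀, (2 : ℤ) ^ (k₀ + m) ∣ c.S.σ χ * (charDegree (χ : G → ℂ) : ℤ) := by
      intro χ hχ
      obtain ⟨hχL, hχn⟩ := Finset.mem_sdiff.1 hχ
      obtain ⟨-, -, k, -, hmk, hD⟩ := hLk χ hχL
      have hle := hmin χ hχL
      rw [hD₀, hD] at hle
      have hkk : k₀ < k := by
        refine lt_of_le_of_ne ((Nat.pow_le_pow_iff_right (by norm_num : 1 < 2)).1 hle) fun h5 => hχn ?_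
        exact Finset.mem_filter.2 ⟨hχL, by rw [hD, h5]⟩
      refine dvd_mul_of_dvd_right ?_ _
      rw [hD]
      push_cast
      refine pow_dvd_pow 2 ?_
      obtain ⟨a, ha⟩ := hmk₀
      obtain ⟨b', hb'⟩ := hmk
      have : a < b' := Nat.lt_of_mul_lt_mul_left (a := m) (by omega)
      have : m * (a + 1) ≤ m * b' := Nat.mul_le_mul_left m this
      rw [mul_add, mul_one] at this
      omega
    have h5 : (2 : ℤ) ^ (k₀ + m) ∣ ∑ χ ∈ L₀, c.S.σ χ * (charDegree (χ : G → ℂ) : ℤ) := by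
      have h6 := (pow_dvd_pow (2 : ℤ) hkm).trans hLdvd
      rw [← Finset.sum_sdiff (show L₀ ⊆ L from Finset.filter_subset _ _)] at h6
      exact (Int.dvd_add_right (Finset.dvd_sum hbig)).1 h6
    rw [Finset.sum_congr rfl hsame, Finset.sum_const, nsmul_eq_mul] at h5
    have h6 : ((2 : ℤ) ^ m) ∣ (L₀.card : ℤ) := by
      rcases c.S.sign χ₀ (c.S.mem_Z.2 (Or.inr hX₀')) with hb | hb <;> rw [hb] at h5 <;>
        rw [pow_add, mul_comm ((2 : ℤ) ^ k₀)] at h5
      · rw [one_mul] at h5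
        exact (mul_dvd_mul_iff_right (pow_ne_zero _ (two_ne_zero' ℤ))).1 h5
      · rw [neg_one_mul, mul_neg, dvd_neg] at h5
        exact (mul_dvd_mul_iff_right (pow_ne_zero _ (two_ne_zero' ℤ))).1 h5
    have h7 : 2 ^ m ∣ L₀.card := by exact_mod_cast h6
    have h8 : L₀.card < 2 ^ m := by
      have h9 : L₀.card ≤ c.S.X.card :=
        Finset.card_le_card ((Finset.filter_subset _ _).trans (Finset.filter_subset _ _))
      rw [c.S.card_X] at h9
      omega
    have h10 : 0 < L₀.card :=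
      Finset.card_pos.2 ⟨χ₀, Finset.mem_filter.2 ⟨hχ₀, hD₀⟩⟩
    have := Nat.le_of_dvd h10 h7
    omega
  -- some member has degree `2 ^ B`
  obtain ⟨χ, hX, hD⟩ : ∃ χ ∈ c.S.X, charDegree (χ : G → ℂ) = 2 ^ B := by
    by_contra hcon
    push Not at hcon
    have h5 := c.S.rel_deg
    rw [c.S.Z_eq, Finset.sum_insert c.S.θ_notMem, ← Finset.add_sum_erase _ _ c.hone, c.S.sign_one,
      charDegree_one', c.hθ] at h5
    have h6 : (d : ℤ) ∣ ∑ χ ∈ c.S.X.erase (one' G), c.S.σ χ * (charDegree (χ : G → ℂ) : ℤ) := by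
      refine Finset.dvd_sum fun χ hχ => dvd_mul_of_dvd_right (Int.natCast_dvd_natCast.2 ?_) _
      obtain ⟨hne, hX⟩ := Finset.mem_erase.1 hχ
      obtain ⟨k, hk, ⟨hD, -⟩ | hD⟩ := hform χ hX
      · rcases Nat.lt_or_eq_of_le hk with hk' | rfl
        · have : χ ∈ L := Finset.mem_filter.2 ⟨hX, hne, k, hk', hD⟩
          rw [hLempty] at this
          exact absurd this (Finset.notMem_empty χ)
        · exact absurd hD (hcon χ hX)
      · exact hD ▸ dvd_mul_right d _
    have h7 : (d : ℤ) ∣ 1 := by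
      have h8 : (1 : ℤ) = -(c.S.σ c.S.θ * (d : ℤ) +
          ∑ χ ∈ c.S.X.erase (one' G), c.S.σ χ * (charDegree (χ : G → ℂ) : ℤ)) := by
        push_cast at h5
        linarith
      rw [h8, dvd_neg]
      exact dvd_add (dvd_mul_left _ _) h6
    have h9 : d ∣ 1 := by exact_mod_cast h7
    have := Nat.le_of_dvd one_pos h9
    omega
  have hBlt : B < 2 * m := by
    have h5 : charDegree (χ : G → ℂ) ^ 2 ≤ ∑ ψ ∈ c.S.X, charDegree (ψ : G → ℂ) ^ 2 :=
      Finset.single_le_sum (f := fun ψ : IrrCharacter G => charDegree (ψ : G → ℂ) ^ 2)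
        (fun _ _ => Nat.zero_le _) hX
    have h6 := c.S.sum_sq
    rw [c.hG] at h6
    rw [hD] at h5
    have h7 : 2 ^ B ≤ p * d := by
      refine Nat.le_of_mul_le_mul_right ?_ (Nat.two_pow_pos B)
      rw [← pow_two]
      omega
    exact (Nat.pow_lt_pow_iff_right (by norm_num : 1 < 2)).1 (lt_of_le_of_lt h7 h.mul_lt)
  have hBeq : B = m := by
    obtain ⟨a, ha⟩ := hmB
    rcases a with _ | _ | a
    · omega
    · simp at ha
      omega
    · exfalso
      have : m * 2 ≤ m * (a + 1 + 1) := Nat.mul_le_mul_left _ (by omega)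
      omega
  have hkey : d * 2 ^ m = (p + 1) * c.e ∧ 2 * (d * 2 ^ m) = (p - 1) * (p + 1) := by
    rw [show p - 1 = 2 * c.e by omega]
    rcases hcase with ⟨h5, h6⟩ | ⟨h5, h6⟩
    · rw [show c.e = d by omega, ← h5]
      exact ⟨by ring, by ring⟩
    · rw [show 2 ^ m = 2 * c.e by omega, h6]
      exact ⟨by ring, by ring⟩
  refine ⟨?_, ?_⟩
  · rw [c.hG, hBeq, show p ^ 2 - 1 = (p - 1) * (p + 1) by
      rw [mul_comm, ← Nat.sq_sub_sq, one_pow], ← hkey.2]
    ring
  · show n = p + 1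
    have hcount : n * c.e = (p + 1) * c.e := by rw [hcount, show 2 ^ B = 2 ^ m by rw [hBeq], hkey.1]
    exact Nat.eq_of_mul_eq_mul_right (by omega) hcount

end Cfsg.Lib.Small.BrauerTuan
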