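import Mathlib.Tactic
import Mathlib.Data.Fintype.BigOperators

/-!
# Five integral vectors with a prescribed Gram matrix

The decomposition of the exceptional virtual characters attached to an involution with centralizer
`GL(2, 3)`, and the resulting Diophantine problem.
-/

set_option autoImplicit false

namespace Cfsg.Lib.Small.CentralizerGL23

variable {ι : Type*} [Fintype ι] [DecidableEq ι]

theorem sum_sq_le (n : ι → ℤ) (S : Finset ι) : ∑ i ∈ S, n i * n i ≤ ∑ i, n i * n i :=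
  Finset.sum_le_univ_sum_of_nonneg fun _ => mul_self_nonneg _

theorem vanish (n : ι → ℤ) (S : Finset ι) (h : ∑ i, n i * n i ≤ ∑ i ∈ S, n i * n i) {i : ι}
    (hi : i ∉ S) : n i = 0 := by
  have h1 := sum_sq_le n (insert i S)
  rw [Finset.sum_insert hi] at h1
  exact mul_self_eq_zero.mp (le_antisymm (by omega) (mul_self_nonneg _))

theorem exists_new (n : ι → ℤ) (S : Finset ι) (h : ∑ i ∈ S, n i * n i < ∑ i, n i * n i)
    (h3 : ∑ i, n i * n i ≤ ∑ i ∈ S, n i * n i + 3) : ∃ i ∉ S, n i = 1 ∨ n i = -1 := by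
  by_contra hne
  push Not at hne
  refine h.ne (Finset.sum_subset (Finset.subset_univ S) fun i _ hi => ?_)
  have h1 := sum_sq_le n (insert i S)
  rw [Finset.sum_insert hi] at h1
  have h2 : n i * n i ≤ 3 := by omega
  have h4 : -1 ≤ n i ∧ n i ≤ 1 := by constructor <;> nlinarith
  obtain ⟨hl, hu⟩ := h4
  rcases (show n i = -1 ∨ n i = 0 ∨ n i = 1 by omega) with h' | h' | h'
  · exact absurd h' (hne i hi).2
  · simp [h']
  · exact absurd h' (hne i hi).1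

theorem sum_on (F : ι → ℤ) (S : Finset ι) (h : ∀ i ∉ S, F i = 0) : ∑ i, F i = ∑ i ∈ S, F i :=
  (Finset.sum_subset (Finset.subset_univ S) fun i _ hi => h i hi).symm

/-- The five vectors at one index. -/
def vec (n1 n2 n3 n4 n5 : ι → ℤ) (i : ι) : ℤ × ℤ × ℤ × ℤ × ℤ := (n1 i, n2 i, n3 i, n4 i, n5 i)

theorem arith_five {a b d e c : ℤ} (h1 : a + b = -2) (h2 : a + d + e = -2)
    (h : 2 * (c * c) + (c + 1) * (c + 1) + (a * a + b * b + d * d + e * e) ≤ 4) :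
    c = 0 ∧ a = -1 ∧ b = -1 ∧ ((d = -1 ∧ e = 0) ∨ (d = 0 ∧ e = -1)) := by
  have hc : -1 ≤ c ∧ c ≤ 0 := by constructor <;> nlinarith
  have ha : -2 ≤ a ∧ a ≤ 2 := by constructor <;> nlinarith
  have hd : -2 ≤ d ∧ d ≤ 2 := by constructor <;> nlinarith
  obtain rfl : b = -2 - a := by omega
  obtain rfl : e = -2 - a - d := by omega
  obtain ⟨hcl, hcu⟩ := hc
  obtain ⟨hal, hau⟩ := ha
  obtain ⟨hdl, hdu⟩ := hd
  interval_cases c <;> interval_cases a <;> interval_cases d <;> omega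


set_option maxHeartbeats 2000000 in
theorem decomposition (o : ι) (D : ι → ℤ) (hD : ∀ i, 0 < D i) (n1 n2 n3 n4 n5 : ι → ℤ)
    (g11 : ∑ i, n1 i * n1 i = 2) (g44 : ∑ i, n4 i * n4 i = 2) (g14 : ∑ i, n1 i * n4 i = -1)
    (g22 : ∑ i, n2 i * n2 i = 3) (g33 : ∑ i, n3 i * n3 i = 3) (g55 : ∑ i, n5 i * n5 i = 4)
    (g12 : ∑ i, n1 i * n2 i = 0) (g42 : ∑ i, n4 i * n2 i = 0)
    (g13 : ∑ i, n1 i * n3 i = 0) (g43 : ∑ i, n4 i * n3 i = 0)
    (g15 : ∑ i, n1 i * n5 i = 0) (g45 : ∑ i, n4 i * n5 i = 1)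
    (g23 : ∑ i, n2 i * n3 i = 1) (g25 : ∑ i, n2 i * n5 i = -2) (g35 : ∑ i, n3 i * n5 i = -2)
    (z1 : ∑ i, n1 i * D i = 0) (z4 : ∑ i, n4 i * D i = 0) (z3 : ∑ i, n3 i * D i = 0)
    (ho : vec n1 n2 n3 n4 n5 o = (0, 1, 0, 0, 0)) :
    ∃ (A B P E p q r : ι) (α β δ ε ω : ℤ),
      (α = 1 ∨ α = -1) ∧ (β = 1 ∨ β = -1) ∧ (δ = 1 ∨ δ = -1) ∧ (ε = 1 ∨ ε = -1) ∧
      (ω = 1 ∨ ω = -1) ∧ D q = D p ∧ D r = D p ∧
      [o, A, B, P, E, p, q, r].Nodup ∧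
      vec n1 n2 n3 n4 n5 A = (0, α, α, 0, -α) ∧ vec n1 n2 n3 n4 n5 B = (0, β, 0, 0, -β) ∧
      vec n1 n2 n3 n4 n5 P = (0, 0, δ, 0, -δ) ∧ vec n1 n2 n3 n4 n5 E = (0, 0, ε, 0, 0) ∧
      vec n1 n2 n3 n4 n5 p = (ω, 0, 0, -ω, 0) ∧ vec n1 n2 n3 n4 n5 q = (-ω, 0, 0, 0, 0) ∧
      vec n1 n2 n3 n4 n5 r = (0, 0, 0, ω, ω) ∧
      ∀ i ∉ [o, A, B, P, E, p, q, r], vec n1 n2 n3 n4 n5 i = (0, 0, 0, 0, 0) := by
  simp only [vec, Prod.mk.injEq] at ho ⊢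
  obtain ⟨o1, o2, o3, o4, o5⟩ := ho
  -- the first vector
  obtain ⟨p₀, -, hp₀⟩ := exists_new n1 ∅ (by simp [g11]) (by simp [g11])
  have hs0 : n1 p₀ * n1 p₀ = 1 := by rcases hp₀ with h | h <;> simp [h]
  obtain ⟨q₀, hq₀', hq₀⟩ := exists_new n1 {p₀} (by simp [g11, hs0]) (by simp [g11, hs0])
  have hs1 : n1 q₀ * n1 q₀ = 1 := by rcases hq₀ with h | h <;> simp [h]
  have hpq₀ : p₀ ≠ q₀ := fun h => hq₀' (by simp [h])
  have hv1₀ : ∀ i ∉ ({p₀, q₀} : Finset ι), n1 i = 0 := fun i hi =>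
    vanish n1 {p₀, q₀} (by rw [Finset.sum_pair hpq₀, hs0, hs1, g11]; norm_num) hi
  rw [sum_on _ {p₀, q₀} (fun i hi => by rw [hv1₀ i hi, zero_mul]), Finset.sum_pair hpq₀] at z1
  have hDq : D q₀ = D p₀ ∧ n1 q₀ = -n1 p₀ := by
    have := hD p₀; have := hD q₀
    rcases hp₀ with h | h <;> rcases hq₀ with h' | h' <;> rw [h, h'] at z1 ⊢ <;> omega
  rw [sum_on _ {p₀, q₀} (fun i hi => by rw [hv1₀ i hi, zero_mul]), Finset.sum_pair hpq₀, hDq.2] at g14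
  obtain ⟨p, q, ω, hω, hpq, hn1p, hn1q, hn4p, hn4q, hDpq, hv1⟩ : ∃ (p q : ι) (ω : ℤ),
      (ω = 1 ∨ ω = -1) ∧ p ≠ q ∧ n1 p = ω ∧ n1 q = -ω ∧ n4 p = -ω ∧ n4 q = 0 ∧ D q = D p ∧
      ∀ i ∉ ({p, q} : Finset ι), n1 i = 0 := by
    have h2 := sum_sq_le n4 {p₀, q₀}
    rw [Finset.sum_pair hpq₀, g44] at h2
    have ha : -1 ≤ n4 p₀ ∧ n4 p₀ ≤ 1 := by constructor <;> nlinarith
    have hb : -1 ≤ n4 q₀ ∧ n4 q₀ ≤ 1 := by constructor <;> nlinarith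
    have : (n4 p₀ = -n1 p₀ ∧ n4 q₀ = 0) ∨ (n4 q₀ = n1 p₀ ∧ n4 p₀ = 0) := by
      rcases hp₀ with h | h <;> rw [h] at g14 ⊢ <;> omega
    rcases this with ⟨h, h'⟩ | ⟨h, h'⟩
    · exact ⟨p₀, q₀, n1 p₀, hp₀, hpq₀, rfl, hDq.2, h, h', hDq.1, hv1₀⟩
    · refine ⟨q₀, p₀, -n1 p₀, by omega, hpq₀.symm, hDq.2, (neg_neg _).symm, by omega, h', hDq.1.symm,
        fun i hi => hv1₀ i (by rwa [Finset.pair_comm])⟩
  have hω2 : ω * ω = 1 := by rcases hω with h | h <;> simp [h]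
  -- the fourth vector
  have hs : n4 p * n4 p = 1 := by rw [hn4p, neg_mul_neg, hω2]
  obtain ⟨r, hr', hr⟩ := exists_new n4 {p} (by simp [g44, hs]) (by simp [g44, hs])
  have hs2 : n4 r * n4 r = 1 := by rcases hr with h | h <;> simp [h]
  have hpr : p ≠ r := fun h => hr' (by simp [h])
  have hqr : q ≠ r := by rintro rfl; omega
  have hv4 : ∀ i ∉ ({p, r} : Finset ι), n4 i = 0 := fun i hi =>
    vanish n4 {p, r} (by rw [Finset.sum_pair hpr, hs, hs2, g44]; norm_num) hi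
  rw [sum_on _ {p, r} (fun i hi => by rw [hv4 i hi, zero_mul]), Finset.sum_pair hpr, hn4p] at z4
  have hn4r : n4 r = ω ∧ D r = D p := by
    have := hD p; have := hD r
    rcases hω with h | h <;> rcases hr with h' | h' <;> rw [h, h'] at z4 <;> omega
  obtain ⟨hn4r, hDr⟩ := hn4r
  have hn1r : n1 r = 0 := hv1 r (by simp [hpr.symm, hqr.symm])
  have s1 : ∀ m : ι → ℤ, ∑ i, n1 i * m i = ω * m p - ω * m q := fun m => by
    rw [sum_on _ {p, q} (fun i hi => by rw [hv1 i hi, zero_mul]), Finset.sum_pair hpq, hn1p, hn1q]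
    ring
  have s4 : ∀ m : ι → ℤ, ∑ i, n4 i * m i = ω * m r - ω * m p := fun m => by
    rw [sum_on _ {p, r} (fun i hi => by rw [hv4 i hi, zero_mul]), Finset.sum_pair hpr, hn4p, hn4r]
    ring
  have hω0 : ω ≠ 0 := by omega
  have hop : o ≠ p := by rintro rfl; omega
  have hoq : o ≠ q := by rintro rfl; omega
  have hor : o ≠ r := by rintro rfl; omega
  -- the second vector
  rw [s1] at g12 g13 g15; rw [s4] at g42 g43 g45
  have e2q : n2 q = n2 p := mul_left_cancel₀ hω0 (by linarith)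
  have e2r : n2 r = n2 p := mul_left_cancel₀ hω0 (by linarith)
  have h2p : n2 p = 0 := by
    have h := sum_sq_le n2 {o, p, q, r}
    rw [Finset.sum_insert (by simp [hop, hoq, hor]), Finset.sum_insert (by simp [hpq, hpr]),
      Finset.sum_pair hqr, o2, e2q, e2r, g22] at h
    exact mul_self_eq_zero.mp (by have := mul_self_nonneg (n2 p); omega)
  rw [h2p] at e2q e2r
  obtain ⟨A₀, hA₀', hA₀⟩ := exists_new n2 {o, p, q, r}
    (by simp [Finset.sum_insert, hop, hoq, hor, hpq, hpr, hqr, o2, h2p, e2q, e2r, g22])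
    (by simp [Finset.sum_insert, hop, hoq, hor, hpq, hpr, hqr, o2, h2p, e2q, e2r, g22])
  simp only [Finset.mem_insert, Finset.mem_singleton, not_or] at hA₀'
  have hsA : n2 A₀ * n2 A₀ = 1 := by rcases hA₀ with h | h <;> simp [h]
  obtain ⟨B₀, hB₀', hB₀⟩ := exists_new n2 {o, p, q, r, A₀}
    (by simp [Finset.sum_insert, hop, hoq, hor, hpq, hpr, hqr, hA₀'.1, Ne.symm hA₀'.1, Ne.symm hA₀'.2.1,
      Ne.symm hA₀'.2.2.1, Ne.symm hA₀'.2.2.2, o2, h2p, e2q, e2r, g22, hsA])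
    (by simp [Finset.sum_insert, hop, hoq, hor, hpq, hpr, hqr, hA₀'.1, Ne.symm hA₀'.1, Ne.symm hA₀'.2.1,
      Ne.symm hA₀'.2.2.1, Ne.symm hA₀'.2.2.2, o2, h2p, e2q, e2r, g22, hsA])
  simp only [Finset.mem_insert, Finset.mem_singleton, not_or] at hB₀'
  have hsB : n2 B₀ * n2 B₀ = 1 := by rcases hB₀ with h | h <;> simp [h]
  have hAB₀ : A₀ ≠ B₀ := fun h => hB₀'.2.2.2.2 h.symm
  have hv2₀ : ∀ i ∉ ({o, A₀, B₀} : Finset ι), n2 i = 0 := fun i hi =>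
    vanish n2 {o, A₀, B₀} (by
      rw [Finset.sum_insert (by simp [Ne.symm hA₀'.1, Ne.symm hB₀'.1]), Finset.sum_pair hAB₀, hsA, hsB, o2, g22]
      norm_num) hi
  -- the third vector
  have e3q : n3 q = n3 p := mul_left_cancel₀ hω0 (by linarith)
  have e3r : n3 r = n3 p := mul_left_cancel₀ hω0 (by linarith)
  have h3p : n3 p = 0 := by
    by_contra hc
    have hpos : 0 < n3 p * n3 p := mul_self_pos.mpr hc
    have hv := fun i hi => vanish n3 {p, q, r} (i := i) (by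
      rw [Finset.sum_insert (by simp [hpq, hpr]), Finset.sum_pair hqr, e3q, e3r, g33]; omega) hi
    rw [sum_on _ {p, q, r} (fun i hi => by rw [hv i hi, zero_mul]),
      Finset.sum_insert (by simp [hpq, hpr]), Finset.sum_pair hqr, e3q, e3r, hDpq, hDr] at z3
    exact mul_ne_zero hc (hD p).ne' (by linarith)
  rw [h3p] at e3q e3r
  obtain ⟨A, B, hA, hB, hAB, hoA, hoB, hAp, hAq, hAr, hBp, hBq, hBr, hn3A, hn3B, hv2⟩ : ∃ A B : ι,
      (n2 A = 1 ∨ n2 A = -1) ∧ (n2 B = 1 ∨ n2 B = -1) ∧ A ≠ B ∧ A ≠ o ∧ B ≠ o ∧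
      A ≠ p ∧ A ≠ q ∧ A ≠ r ∧ B ≠ p ∧ B ≠ q ∧ B ≠ r ∧ n3 A = n2 A ∧ n3 B = 0 ∧
      ∀ i ∉ ({o, A, B} : Finset ι), n2 i = 0 := by
    rw [sum_on _ {o, A₀, B₀} (fun i hi => by rw [hv2₀ i hi, zero_mul]),
      Finset.sum_insert (by simp [Ne.symm hA₀'.1, Ne.symm hB₀'.1]), Finset.sum_pair hAB₀, o2, o3] at g23
    have h := sum_sq_le n3 {A₀, B₀}
    rw [Finset.sum_pair hAB₀, g33] at h
    have ha : -1 ≤ n3 A₀ ∧ n3 A₀ ≤ 1 := by constructor <;> nlinarith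
    have hb : -1 ≤ n3 B₀ ∧ n3 B₀ ≤ 1 := by constructor <;> nlinarith
    have : (n3 A₀ = n2 A₀ ∧ n3 B₀ = 0) ∨ (n3 B₀ = n2 B₀ ∧ n3 A₀ = 0) := by
      rcases hA₀ with h1 | h1 <;> rcases hB₀ with h2 | h2 <;> rw [h1, h2] at g23 ⊢ <;> omega
    rcases this with ⟨h1, h2⟩ | ⟨h1, h2⟩
    · exact ⟨A₀, B₀, hA₀, hB₀, hAB₀, hA₀'.1, hB₀'.1, hA₀'.2.1, hA₀'.2.2.1, hA₀'.2.2.2, hB₀'.2.1,
        hB₀'.2.2.1, hB₀'.2.2.2.1, h1, h2, hv2₀⟩
    · exact ⟨B₀, A₀, hB₀, hA₀, hAB₀.symm, hB₀'.1, hA₀'.1, hB₀'.2.1, hB₀'.2.2.1, hB₀'.2.2.2.1,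
        hA₀'.2.1, hA₀'.2.2.1, hA₀'.2.2.2, h1, h2, fun i hi => hv2₀ i (by rwa [Finset.pair_comm])⟩
  have hsA : n2 A * n2 A = 1 := by rcases hA with h | h <;> simp [h]
  have hsB : n2 B * n2 B = 1 := by rcases hB with h | h <;> simp [h]
  have hsA3 : n3 A * n3 A = 1 := by rw [hn3A, hsA]
  obtain ⟨P₀, hP₀', hP₀⟩ := exists_new n3 {o, p, q, r, A, B}
    (by simp [Finset.sum_insert, hop, hoq, hor, hpq, hpr, hqr, Ne.symm hoA, Ne.symm hoB, Ne.symm hAp,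
      Ne.symm hAq, Ne.symm hAr, Ne.symm hBp, Ne.symm hBq, Ne.symm hBr, hAB, o3, h3p, e3q, e3r, g33, hsA3, hn3B])
    (by simp [Finset.sum_insert, hop, hoq, hor, hpq, hpr, hqr, Ne.symm hoA, Ne.symm hoB, Ne.symm hAp,
      Ne.symm hAq, Ne.symm hAr, Ne.symm hBp, Ne.symm hBq, Ne.symm hBr, hAB, o3, h3p, e3q, e3r, g33, hsA3, hn3B])
  simp only [Finset.mem_insert, Finset.mem_singleton, not_or] at hP₀'
  have hsP : n3 P₀ * n3 P₀ = 1 := by rcases hP₀ with h | h <;> simp [h]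
  obtain ⟨E₀, hE₀', hE₀⟩ := exists_new n3 {o, p, q, r, A, B, P₀}
    (by simp [Finset.sum_insert, hop, hoq, hor, hpq, hpr, hqr, Ne.symm hoA, Ne.symm hoB, Ne.symm hAp,
      Ne.symm hAq, Ne.symm hAr, Ne.symm hBp, Ne.symm hBq, Ne.symm hBr, hAB, o3, h3p, e3q, e3r, g33, hsA3, hn3B,
      Ne.symm hP₀'.1, Ne.symm hP₀'.2.1, Ne.symm hP₀'.2.2.1, Ne.symm hP₀'.2.2.2.1, Ne.symm hP₀'.2.2.2.2.1,
      Ne.symm hP₀'.2.2.2.2.2, hsP])
    (by simp [Finset.sum_insert, hop, hoq, hor, hpq, hpr, hqr, Ne.symm hoA, Ne.symm hoB, Ne.symm hAp,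
      Ne.symm hAq, Ne.symm hAr, Ne.symm hBp, Ne.symm hBq, Ne.symm hBr, hAB, o3, h3p, e3q, e3r, g33, hsA3, hn3B,
      Ne.symm hP₀'.1, Ne.symm hP₀'.2.1, Ne.symm hP₀'.2.2.1, Ne.symm hP₀'.2.2.2.1, Ne.symm hP₀'.2.2.2.2.1,
      Ne.symm hP₀'.2.2.2.2.2, hsP])
  simp only [Finset.mem_insert, Finset.mem_singleton, not_or] at hE₀'
  obtain ⟨-, -, -, -, hAP₀, hBP₀⟩ := hP₀'
  obtain ⟨-, -, -, -, hAE₀, hBE₀, hPE₀⟩ := hE₀'
  have hsE : n3 E₀ * n3 E₀ = 1 := by rcases hE₀ with h | h <;> simp [h]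
  have hv3 : ∀ i ∉ ({A, P₀, E₀} : Finset ι), n3 i = 0 := fun i hi =>
    vanish n3 {A, P₀, E₀} (by
      rw [Finset.sum_insert (by simp [Ne.symm hAP₀, Ne.symm hAE₀]), Finset.sum_pair (Ne.symm hPE₀), hsA3, hsP,
        hsE, g33]
      norm_num) hi
  -- the fifth vector
  rw [sum_on _ {o, A, B} (fun i hi => by rw [hv2 i hi, zero_mul]),
    Finset.sum_insert (by simp [Ne.symm hoA, Ne.symm hoB]), Finset.sum_pair hAB, o2, o5] at g25
  rw [sum_on _ {A, P₀, E₀} (fun i hi => by rw [hv3 i hi, zero_mul]),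
    Finset.sum_insert (by simp [Ne.symm hAP₀, Ne.symm hAE₀]), Finset.sum_pair (Ne.symm hPE₀), hn3A] at g35
  have e5q : n5 q = n5 p := mul_left_cancel₀ hω0 (by linarith)
  have e5r : n5 r = n5 p + ω := mul_left_cancel₀ hω0 (by rw [mul_add, hω2]; linarith)
  have hoP : P₀ ≠ o := by rintro rfl; simp [o3] at hsP
  have hoE : E₀ ≠ o := by rintro rfl; simp [o3] at hsE
  have hPp : P₀ ≠ p := by rintro rfl; simp [h3p] at hsP
  have hPq : P₀ ≠ q := by rintro rfl; simp [e3q] at hsP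
  have hPr : P₀ ≠ r := by rintro rfl; simp [e3r] at hsP
  have hEp : E₀ ≠ p := by rintro rfl; simp [h3p] at hsE
  have hEq : E₀ ≠ q := by rintro rfl; simp [e3q] at hsE
  have hEr : E₀ ≠ r := by rintro rfl; simp [e3r] at hsE
  have h5 := sum_sq_le n5 {p, q, r, A, B, P₀, E₀}
  rw [g55] at h5
  simp only [Finset.sum_insert, Finset.mem_insert, Finset.mem_singleton, Finset.sum_singleton, hpq, hpr, hqr,
    Ne.symm hAp, Ne.symm hAq, Ne.symm hAr, Ne.symm hBp, Ne.symm hBq, Ne.symm hBr, hAB, Ne.symm hPp,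
    Ne.symm hPq, Ne.symm hPr, Ne.symm hEp, Ne.symm hEq, Ne.symm hEr, Ne.symm hAP₀, Ne.symm hAE₀,
    Ne.symm hBP₀, Ne.symm hBE₀, Ne.symm hPE₀, or_self, not_false_eq_true, e5q, e5r] at h5
  have key := arith_five (a := n2 A * n5 A) (b := n2 B * n5 B) (d := n3 P₀ * n5 P₀) (e := n3 E₀ * n5 E₀)
    (c := ω * n5 p) (by linarith) (by linarith) (by
      have h := h5
      linear_combination h + (3 * (n5 p) ^ 2 - 1) * hω2 + (n5 A) ^ 2 * hsA + (n5 B) ^ 2 * hsB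
        + (n5 P₀) ^ 2 * hsP + (n5 E₀) ^ 2 * hsE)
  obtain ⟨k0, kA, kB, kPE⟩ := key
  have hp5 : n5 p = 0 := (mul_eq_zero.mp k0).resolve_left hω0
  have cancel : ∀ {u v k : ℤ}, u * u = 1 → u * v = k → v = u * k := fun {u v k} h1 h2 => by
    rw [← h2, ← mul_assoc, h1, one_mul]
  have hA5 : n5 A = -n2 A := by rw [cancel hsA kA]; ring
  have hB5 : n5 B = -n2 B := by rw [cancel hsB kB]; ring
  rw [hp5] at e5q e5r
  rw [zero_add] at e5r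
  obtain ⟨P, E, hP, hE, hPE, hPo, hEo, hPp, hPq, hPr, hEp, hEq, hEr, hAP, hAE, hBP, hBE, hP5, hE5, hv3'⟩ :
      ∃ P E : ι, (n3 P = 1 ∨ n3 P = -1) ∧ (n3 E = 1 ∨ n3 E = -1) ∧ P ≠ E ∧ P ≠ o ∧ E ≠ o ∧ P ≠ p ∧ P ≠ q ∧
      P ≠ r ∧ E ≠ p ∧ E ≠ q ∧ E ≠ r ∧ P ≠ A ∧ E ≠ A ∧ P ≠ B ∧ E ≠ B ∧ n5 P = -n3 P ∧ n5 E = 0 ∧
      ∀ i ∉ ({A, P, E} : Finset ι), n3 i = 0 := by
    rcases kPE with ⟨h1, h2⟩ | ⟨h1, h2⟩
    · exact ⟨P₀, E₀, hP₀, hE₀, Ne.symm hPE₀, hoP, hoE, hPp, hPq, hPr, hEp, hEq, hEr, hAP₀, hAE₀, hBP₀, hBE₀,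
        by rw [cancel hsP h1]; ring, by rw [cancel hsE h2]; ring, hv3⟩
    · exact ⟨E₀, P₀, hE₀, hP₀, hPE₀, hoE, hoP, hEp, hEq, hEr, hPp, hPq, hPr, hAE₀, hAP₀, hBE₀, hBP₀,
        by rw [cancel hsE h2]; ring, by rw [cancel hsP h1]; ring,
        fun i hi => hv3 i (by rwa [Finset.pair_comm])⟩
  have hsP : n3 P * n3 P = 1 := by rcases hP with h | h <;> simp [h]
  have hv5 : ∀ i ∉ ({r, A, B, P} : Finset ι), n5 i = 0 := fun i hi => vanish n5 {r, A, B, P} (by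
    rw [Finset.sum_insert (by simp [Ne.symm hAr, Ne.symm hBr, Ne.symm hPr]),
      Finset.sum_insert (by simp [hAB, Ne.symm hAP]), Finset.sum_pair (Ne.symm hBP), g55, e5r, hA5, hB5, hP5]
    simp only [neg_mul_neg, hω2, hsA, hsB, hsP]; norm_num) hi
  refine ⟨A, B, P, E, p, q, r, n2 A, n2 B, n3 P, n3 E, ω, hA, hB, hP, hE, hω, hDpq, hDr, ?_, ?_⟩
  · simp [Ne.symm hoA, Ne.symm hoB, Ne.symm hPo, Ne.symm hEo, hop, hoq, hor, hAB, Ne.symm hAP, Ne.symm hAE,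
      hAp, hAq, hAr, Ne.symm hBP, Ne.symm hBE, hBp, hBq, hBr, hPE, hPp, hPq, hPr, hEp, hEq, hEr, hpq, hpr, hqr]
  refine ⟨⟨?_, rfl, hn3A, ?_, hA5⟩, ⟨?_, rfl, hn3B, ?_, hB5⟩, ⟨?_, ?_, rfl, ?_, hP5⟩,
    ⟨?_, ?_, rfl, ?_, hE5⟩, ⟨hn1p, h2p, h3p, hn4p, hp5⟩, ⟨hn1q, e2q, e3q, hn4q, e5q⟩,
    ⟨hn1r, e2r, e3r, hn4r, e5r⟩, fun i hi => ?_⟩
  case refine_11 =>
    simp only [List.mem_cons, List.not_mem_nil, or_false, not_or] at hi
    exact ⟨hv1 i (by simp [hi]), hv2 i (by simp [hi]), hv3' i (by simp [hi]), hv4 i (by simp [hi]),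
      hv5 i (by simp [hi])⟩
  all_goals first
    | exact hv1 _ (by simp [*])
    | exact hv4 _ (by simp [*])
    | exact hv2 _ (by simp [*])

/-- The Diophantine problem. -/
theorem dioph {a d : ℤ} (ha : a % 8 = 4) (hd : d % 8 = 3)
    (h1 : (-1 - a) * d * (-a - d) + 9 * d * (-a - d) - 9 * (-1 - a) * (-a - d) - (-1 - a) * d = 0)
    (h2 : 16 * (-1 - a) * d * (d - 1) + 9 * a * d * (d - 1) + 18 * a * (-1 - a) * (d - 1)
      - 8 * a * (-1 - a) * d = a * (-1 - a) * d * (d - 1)) :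
    (a = 12 ∧ d = 27) ∨ (a = 44 ∧ d = 11) ∨ (a = -4 ∧ d = 3) := by
  by_cases hA : -60 ≤ a ∧ a ≤ 60
  · by_cases hD : -61 ≤ d ∧ d ≤ 60
    · have key : ∀ i j : Fin 16,
          (fun a d : ℤ => (-1 - a) * d * (-a - d) + 9 * d * (-a - d) - 9 * (-1 - a) * (-a - d) - (-1 - a) * d = 0 →
            16 * (-1 - a) * d * (d - 1) + 9 * a * d * (d - 1) + 18 * a * (-1 - a) * (d - 1)
              - 8 * a * (-1 - a) * d = a * (-1 - a) * d * (d - 1) →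
            (a = 12 ∧ d = 27) ∨ (a = 44 ∧ d = 11) ∨ (a = -4 ∧ d = 3))
            (8 * ((i : ℕ) : ℤ) - 60) (8 * ((j : ℕ) : ℤ) - 61) := by decide +kernel
      have := key ⟨((a + 60) / 8).toNat, by omega⟩ ⟨((d + 61) / 8).toNat, by omega⟩
      beta_reduce at this
      simp only [show 8 * ((((a + 60) / 8).toNat : ℕ) : ℤ) - 60 = a by omega,
        show 8 * ((((d + 61) / 8).toNat : ℕ) : ℤ) - 61 = d by omega] at this
      exact this h1 h2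
    · exfalso
      obtain ⟨hl, hu⟩ := hA
      rcases (show a = -60 ∨ a = -52 ∨ a = -44 ∨ a = -36 ∨ a = -28 ∨ a = -20 ∨ a = -12 ∨ a = -4 ∨ a = 4 ∨
          a = 12 ∨ a = 20 ∨ a = 28 ∨ a = 36 ∨ a = 44 ∨ a = 52 ∨ a = 60 by omega) with
        rfl | rfl | rfl | rfl | rfl | rfl | rfl | rfl | rfl | rfl | rfl | rfl | rfl | rfl | rfl | rfl <;>
      · norm_num at h2
        rcases (show d ≤ -62 ∨ 61 ≤ d by omega) with h | h <;> nlinarith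
  · exfalso
    by_cases hD : -61 ≤ d ∧ d ≤ 60
    · obtain ⟨hl, hu⟩ := hD
      rcases (show d = -61 ∨ d = -53 ∨ d = -45 ∨ d = -37 ∨ d = -29 ∨ d = -21 ∨ d = -13 ∨ d = -5 ∨ d = 3 ∨
          d = 11 ∨ d = 19 ∨ d = 27 ∨ d = 35 ∨ d = 43 ∨ d = 51 ∨ d = 59 by omega) with
        rfl | rfl | rfl | rfl | rfl | rfl | rfl | rfl | rfl | rfl | rfl | rfl | rfl | rfl | rfl | rfl <;>
      · norm_num at h2
        rcases (show a ≤ -61 ∨ 61 ≤ a by omega) with h | h <;> nlinarith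
    · have hQ : 16 / (a : ℚ) + 9 / ((-1 - a : ℤ) : ℚ) + 18 / (d : ℚ) - 8 / ((d - 1 : ℤ) : ℚ) = 1 := by
        have x1 : (a : ℚ) ≠ 0 := by exact_mod_cast (show a ≠ 0 by omega)
        have x2 : ((-1 - a : ℤ) : ℚ) ≠ 0 := by exact_mod_cast (show -1 - a ≠ 0 by omega)
        have x3 : (d : ℚ) ≠ 0 := by exact_mod_cast (show d ≠ 0 by omega)
        have x4 : ((d - 1 : ℤ) : ℚ) ≠ 0 := by exact_mod_cast (show d - 1 ≠ 0 by omega)
        have h2' : 16 * ((-1 - a : ℤ) : ℚ) * d * ((d - 1 : ℤ) : ℚ) + 9 * a * d * ((d - 1 : ℤ) : ℚ) +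
            18 * a * ((-1 - a : ℤ) : ℚ) * ((d - 1 : ℤ) : ℚ) - 8 * a * ((-1 - a : ℤ) : ℚ) * d =
            a * ((-1 - a : ℤ) : ℚ) * d * ((d - 1 : ℤ) : ℚ) := by exact_mod_cast h2
        field_simp
        linear_combination h2'
      have bd : ∀ (k : ℚ) (z : ℤ), 0 ≤ k → 60 ≤ |z| → |k / (z : ℚ)| ≤ k / 60 := by
        intro k z hk hz
        rw [abs_div, abs_of_nonneg hk]
        exact div_le_div_of_nonneg_left hk (by norm_num) (by exact_mod_cast hz)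
      have b1 := bd 16 a (by norm_num) (by rcases abs_cases a with h | h <;> omega)
      have b2 := bd 9 (-1 - a) (by norm_num) (by rcases abs_cases (-1 - a) with h | h <;> omega)
      have b3 := bd 18 d (by norm_num) (by rcases abs_cases d with h | h <;> omega)
      have b4 := bd 8 (d - 1) (by norm_num) (by rcases abs_cases (d - 1) with h | h <;> omega)
      rw [abs_le] at b1 b2 b3 b4
      linarith

end Cfsg.Lib.Small.CentralizerGL23
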