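import Mathlib.LinearAlgebra.Matrix.GeneralLinearGroup.Defs
import Mathlib.LinearAlgebra.Matrix.Notation
import Mathlib.Data.ZMod.Basic
import Mathlib.Tactic

/-!
# The conjugacy classes of `GL(2, 3)`
-/

set_option autoImplicit false

namespace Cfsg.Lib.Small.CentralizerGL23

open Matrix

/-- The matrices over the field with three elements. -/
abbrev Mat := Matrix (Fin 2) (Fin 2) (ZMod 3)

/-- The group `GL(2, 3)`. -/
abbrev GL23 := GL (Fin 2) (ZMod 3)

/-- The class number of an invertible matrix: `1, -1, u, -u, w, s, ρ, -ρ`. -/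
def cls (M : Mat) : Fin 8 :=
  if M 0 0 * M 1 1 - M 0 1 * M 1 0 = 1 then
    if M = 1 then 0 else if M = -1 then 1
    else if M 0 0 + M 1 1 = 2 then 2 else if M 0 0 + M 1 1 = 1 then 3 else 4
  else
    if M 0 0 + M 1 1 = 0 then 5 else if M 0 0 + M 1 1 = 1 then 6 else 7

/-- Representatives of the classes. -/
def rep : Fin 8 → Mat :=
  ![1, -1, !![1, 1; 0, 1], !![2, 2; 0, 2], !![0, 2; 1, 0], !![1, 0; 0, 2], !![0, 1; 1, 1], !![0, 2; 2, 2]]

/-- Representatives as units. -/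
def repU : Fin 8 → GL23 :=
  ![1, -1, ⟨!![1, 1; 0, 1], !![1, 2; 0, 1], by decide +kernel, by decide +kernel⟩,
    ⟨!![2, 2; 0, 2], !![2, 1; 0, 2], by decide +kernel, by decide +kernel⟩,
    ⟨!![0, 2; 1, 0], !![0, 1; 2, 0], by decide +kernel, by decide +kernel⟩,
    ⟨!![1, 0; 0, 2], !![1, 0; 0, 2], by decide +kernel, by decide +kernel⟩,
    ⟨!![0, 1; 1, 1], !![2, 1; 1, 0], by decide +kernel, by decide +kernel⟩,
    ⟨!![0, 2; 2, 2], !![1, 2; 2, 0], by decide +kernel, by decide +kernel⟩]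

theorem repU_val : ∀ k, (repU k : Mat) = rep k := by decide +kernel

theorem cls_rep : ∀ k, cls (rep k) = k := by decide +kernel

theorem cls_repU (k : Fin 8) : cls (repU k : Mat) = k := by rw [repU_val, cls_rep]

theorem conj_key : ∀ M : Mat, M 0 0 * M 1 1 - M 0 1 * M 1 0 ≠ 0 → ∃ C : Mat,
    C 0 0 * C 1 1 - C 0 1 * C 1 0 ≠ 0 ∧ C * rep (cls M) = M * C := by decide +kernel

theorem det_ne (x : GL23) : (x : Mat) 0 0 * (x : Mat) 1 1 - (x : Mat) 0 1 * (x : Mat) 1 0 ≠ 0 := by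
  rw [← det_fin_two]
  exact (x.isUnit.map Matrix.detMonoidHom).ne_zero

theorem gl_forall {P : Mat → Prop}
    (h : ∀ M : Mat, M 0 0 * M 1 1 - M 0 1 * M 1 0 ≠ 0 → P M) (x : GL23) : P x :=
  h _ (det_ne x)

theorem isConj_repU (x : GL23) : IsConj (repU (cls (x : Mat))) x := by
  obtain ⟨C, hC, h⟩ := conj_key _ (det_ne x)
  have hC' : IsUnit C := (Matrix.isUnit_iff_isUnit_det C).mpr (by
    rw [det_fin_two]; exact isUnit_iff_ne_zero.mpr hC)
  obtain ⟨c, rfl⟩ := hC'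
  refine isConj_iff.mpr ⟨c, mul_inv_eq_iff_eq_mul.mpr (Units.ext ?_)⟩
  simpa [repU_val] using h

theorem cls_conj_key : ∀ M N : Mat, M 0 0 * M 1 1 - M 0 1 * M 1 0 ≠ 0 →
    N 0 0 * N 1 1 - N 0 1 * N 1 0 ≠ 0 → cls (N * M) = cls (M * N) := by decide +kernel

theorem cls_eq_of_isConj {x y : GL23} (h : IsConj x y) : cls (x : Mat) = cls (y : Mat) := by
  obtain ⟨c, rfl⟩ := isConj_iff.mp h
  have := cls_conj_key ((c : Mat) * x) ((c⁻¹ : GL23) : Mat)
    (det_ne (c * x)) (det_ne c⁻¹)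
  rw [← Units.val_mul, ← Units.val_mul, ← Units.val_mul] at this
  simpa [mul_assoc] using this

theorem mem_center_iff_scalar : ∀ M : Mat, M 0 0 * M 1 1 - M 0 1 * M 1 0 ≠ 0 →
    !![0, 2; 1, 0] * M = M * !![0, 2; 1, 0] → !![1, 1; 1, 2] * M = M * !![1, 1; 1, 2] → M = 1 ∨ M = -1 := by
  decide +kernel

theorem card_gl : Fintype.card GL23 = 48 := by decide +kernel

theorem card_class : ∀ k, (Finset.univ.filter fun x : GL23 => cls (x : Mat) = k).card =
    ![1, 1, 8, 8, 6, 12, 6, 6] k := by decide +kernel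

theorem card_cent_rep : ∀ k, (Finset.univ.filter fun x : GL23 => x * repU k = repU k * x).card =
    ![48, 48, 6, 6, 8, 4, 8, 8] k := by decide +kernel

/-- The number of involutions `x` with `repU k * x` an involution. -/
theorem card_pairs : (Finset.univ.filter fun x : GL23 =>
      x * x = 1 ∧ x ≠ 1 ∧ repU 1 * x * (repU 1 * x) = 1 ∧ repU 1 * x ≠ 1).card = 12 ∧
    (Finset.univ.filter fun x : GL23 =>
      x * x = 1 ∧ x ≠ 1 ∧ repU 3 * x * (repU 3 * x) = 1 ∧ repU 3 * x ≠ 1).card = 6 ∧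
    (Finset.univ.filter fun x : GL23 =>
      x * x = 1 ∧ x ≠ 1 ∧ repU 6 * x * (repU 6 * x) = 1 ∧ repU 6 * x ≠ 1).card = 0 ∧
    (Finset.univ.filter fun x : GL23 =>
      x * x = 1 ∧ x ≠ 1 ∧ repU 7 * x * (repU 7 * x) = 1 ∧ repU 7 * x ≠ 1).card = 0 := by decide +kernel

end Cfsg.Lib.Small.CentralizerGL23
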