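import Cfsg.Agent.Lib.Char.InvolutionSum
import Cfsg.Agent.Lib.Char.Central
import Cfsg.Agent.Lib.Char.Linear
import Cfsg.Agent.S0111
import Cfsg.Agent.Lib.Small.CentralizerGL23Decomp
import Cfsg.Agent.Lib.Small.CentralizerGL23Model
import Mathlib.Analysis.Complex.Polynomial.Basic

/-!
# An involution with centralizer `GL(2, 3)`
-/

set_option autoImplicit false
set_option linter.style.haveILetI false
set_option linter.unusedSectionVars false
set_option synthInstance.maxHeartbeats 200000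
set_option maxRecDepth 4000
set_option synthInstance.maxSize 2048

namespace Cfsg.Lib.Small.CentralizerGL23

open Subgroup Cfsg Cfsg.Lib.Char
open scoped ComplexConjugate commutatorElement

universe u

/-- The determinant as a sign. -/
def sgn : GL23 →* ℤˣ :=
  (⟨⟨fun a : (ZMod 3)ˣ => if a = 1 then 1 else -1, by decide +kernel⟩, by decide +kernel⟩ :
    (ZMod 3)ˣ →* ℤˣ).comp Matrix.GeneralLinearGroup.det

theorem sgn_apply : ∀ x : GL23, (sgn x : ℤ) = ![1, 1, 1, 1, 1, -1, -1, -1] (cls (x : Mat)) := by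
  decide +kernel

/-- The classes whose elements have a power equal to `-1`. -/
def dk : Fin 5 → Fin 8 := ![1, 3, 4, 6, 7]

theorem dk_injective : Function.Injective dk := by decide +kernel

theorem dk_pow : ∀ i, ∃ m : Fin 5, repU (dk i) ^ (m : ℕ) = -1 := by decide +kernel

theorem dk_pow_sq : ∀ i, ∀ m : Fin 5,
    (repU (dk i) ^ (m : ℕ)) * (repU (dk i) ^ (m : ℕ)) = 1 →
      repU (dk i) ^ (m : ℕ) = 1 ∨ repU (dk i) ^ (m : ℕ) = -1 := by decide +kernel

theorem rep_six_pow : ∀ j : Fin 8, cls ((repU 6 ^ (j : ℕ) : GL23) : Mat) = ![0, 6, 4, 6, 1, 7, 4, 7] j := by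
  decide +kernel

theorem rep_six_pow' (j : ZMod 8) :
    cls ((repU 6 ^ j.val : GL23) : Mat) = ![0, 6, 4, 6, 1, 7, 4, 7] j := rep_six_pow j

/-- The cyclic subgroup of order eight. -/
def cyc : Multiplicative (ZMod 8) →* GL23 :=
  ⟨⟨fun j => repU 6 ^ j.toAdd.val, by decide +kernel⟩, by decide +kernel⟩

/-- The stabilizer of a line. -/
def borel : Subgroup GL23 where
  carrier := {x | (x : Mat) 1 0 = 0}
  one_mem' := by simp
  mul_mem' := by
    intro a b ha hb
    simp only [Set.mem_setOf_eq] at ha hb ⊢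
    simp [Matrix.mul_apply, ha, hb]
  inv_mem' := by
    intro x
    revert x
    show ∀ x : GL23, (x : Mat) 1 0 = 0 → ((x⁻¹ : GL23) : Mat) 1 0 = 0
    decide +kernel

/-- The stabilizer of a vector. -/
def vecStab : Subgroup GL23 where
  carrier := {x | (x : Mat) 1 0 = 0 ∧ (x : Mat) 0 0 = 1}
  one_mem' := by simp
  mul_mem' := by
    intro a b ha hb
    simp only [Set.mem_setOf_eq] at ha hb ⊢
    simp [Matrix.mul_apply, ha.1, ha.2, hb.1, hb.2]
  inv_mem' := by
    intro x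
    revert x
    show ∀ x : GL23, (x : Mat) 1 0 = 0 ∧ (x : Mat) 0 0 = 1 →
      ((x⁻¹ : GL23) : Mat) 1 0 = 0 ∧ ((x⁻¹ : GL23) : Mat) 0 0 = 1
    decide +kernel

/-- The normal quaternion subgroup. -/
def quat : Subgroup GL23 where
  carrier := {x | cls (x : Mat) = 0 ∨ cls (x : Mat) = 1 ∨ cls (x : Mat) = 4}
  one_mem' := Or.inl (by decide +kernel)
  mul_mem' := by
    intro a b
    revert a b
    show ∀ a b : GL23, (cls (a : Mat) = 0 ∨ cls (a : Mat) = 1 ∨ cls (a : Mat) = 4) →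
      (cls (b : Mat) = 0 ∨ cls (b : Mat) = 1 ∨ cls (b : Mat) = 4) →
      cls ((a * b : GL23) : Mat) = 0 ∨ cls ((a * b : GL23) : Mat) = 1 ∨ cls ((a * b : GL23) : Mat) = 4
    decide +kernel
  inv_mem' := by
    intro x
    revert x
    show ∀ x : GL23, (cls (x : Mat) = 0 ∨ cls (x : Mat) = 1 ∨ cls (x : Mat) = 4) →
      cls ((x⁻¹ : GL23) : Mat) = 0 ∨ cls ((x⁻¹ : GL23) : Mat) = 1 ∨ cls ((x⁻¹ : GL23) : Mat) = 4
    decide +kernel

instance quat_normal : quat.Normal := ⟨fun x hx g => by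
  have h : cls ((g * x * g⁻¹ : GL23) : Mat) = cls (x : Mat) :=
    (cls_eq_of_isConj (isConj_iff.mpr ⟨g, rfl⟩)).symm
  show cls ((g * x * g⁻¹ : GL23) : Mat) = 0 ∨ _ ∨ _
  rw [h]; exact hx⟩

theorem card_quat : Nat.card quat = 8 := by
  show Nat.card {x : GL23 // cls (x : Mat) = 0 ∨ cls (x : Mat) = 1 ∨ cls (x : Mat) = 4} = 8
  rw [Nat.card_eq_fintype_card]
  decide +kernel

theorem quat_invol : ∀ x : GL23, (cls (x : Mat) = 0 ∨ cls (x : Mat) = 1 ∨ cls (x : Mat) = 4) →
    x * x = 1 → x ≠ 1 → x = -1 := by decide +kernel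

theorem eq_neg_one_of_centralizes_quat {x : GL23} (h : ∀ a ∈ quat, a * x = x * a) (hx : x ≠ 1) : x = -1 := by
  have key : ∀ a : GL23, a ∈ quat → (a : Mat) * x = (x : Mat) * a := fun a ha => congrArg Units.val (h a ha)
  let i : GL23 := ⟨!![0, 2; 1, 0], !![0, 1; 2, 0], by decide +kernel, by decide +kernel⟩
  let j : GL23 := ⟨!![1, 1; 1, 2], !![2, 2; 2, 1], by decide +kernel, by decide +kernel⟩
  have hi : i ∈ quat := Or.inr (Or.inr (show cls !![0, 2; 1, 0] = 4 by decide +kernel))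
  have hj : j ∈ quat := Or.inr (Or.inr (show cls !![1, 1; 1, 2] = 4 by decide +kernel))
  rcases mem_center_iff_scalar _ (det_ne x) (key i hi) (key j hj) with h' | h'
  · exact absurd (Units.ext h') hx
  · exact Units.ext (h'.trans (by simp))

variable {G : Type u} [Group G] {t : G} (e : centralizer ({t} : Set G) ≃* GL23)
include e

/-- The centralizer as the image of `GL(2, 3)`. -/
def emb : GL23 →* G := (centralizer ({t} : Set G)).subtype.comp e.symm.toMonoidHom

theorem emb_injective : Function.Injective (emb e) :=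
  (centralizer ({t} : Set G)).subtype_injective.comp e.symm.injective

theorem emb_commute (d : GL23) : emb e d * t = t * emb e d := mem_centralizer_singleton_iff.mp (e.symm d).2

theorem exists_emb {x : G} (hx : x * t = t * x) : ∃ d, emb e d = x :=
  ⟨e ⟨x, mem_centralizer_singleton_iff.mpr hx⟩, by simp [emb]⟩

theorem emb_neg_one (ht : orderOf t = 2) : emb e (-1) = t := by
  obtain ⟨d, hd⟩ := exists_emb e (x := t) rfl
  have hne : d ≠ 1 := fun h => by rw [h, map_one] at hd; rw [← hd, orderOf_one] at ht; omega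
  rw [← eq_neg_one_of_centralizes_quat (x := d) (fun a _ => emb_injective e (by
    rw [map_mul, map_mul, hd]; exact emb_commute e a)) hne, hd]

theorem t_mul_t (ht : orderOf t = 2) : t * t = 1 := by rw [← sq, ← ht, pow_orderOf_eq_one]

/-- Conjugating an element of the exceptional classes back into the centralizer fixes `t`. -/
theorem commute_of_conj (ht : orderOf t = 2) {i : Fin 5} {c : G} {y : GL23}
    (h : c * emb e (repU (dk i)) * c⁻¹ = emb e y) (hy : ∃ j, IsConj (repU (dk j)) y) : c * t = t * c := by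
  obtain ⟨m, hm⟩ := dk_pow i
  obtain ⟨j, hj⟩ := hy
  obtain ⟨d, rfl⟩ := isConj_iff.mp hj
  have h1 : c * t * c⁻¹ = emb e (d * repU (dk j) ^ (m : ℕ) * d⁻¹) := by
    rw [← conj_pow, map_pow, ← h, conj_pow, ← map_pow, hm, emb_neg_one e ht]
  have h2 : repU (dk j) ^ (m : ℕ) * repU (dk j) ^ (m : ℕ) = 1 := by
    have hz : (d * repU (dk j) ^ (m : ℕ) * d⁻¹) * (d * repU (dk j) ^ (m : ℕ) * d⁻¹) = 1 :=
      emb_injective e (by
        rw [map_mul, ← h1, map_one, show c * t * c⁻¹ * (c * t * c⁻¹) = c * (t * t) * c⁻¹ by group,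
          t_mul_t e ht, mul_one, mul_inv_cancel])
    have hz' : d * (repU (dk j) ^ (m : ℕ) * repU (dk j) ^ (m : ℕ)) * d⁻¹ = 1 := by rw [← hz]; group
    exact conj_eq_one_iff.mp hz'
  rcases dk_pow_sq j m h2 with h3 | h3
  · rw [h3, mul_one, mul_inv_cancel, map_one] at h1
    have ht1 : t = 1 := conj_eq_one_iff.mp h1
    rw [ht1, orderOf_one] at ht; omega
  · rw [h3, mul_neg_one, neg_mul, mul_inv_cancel, emb_neg_one e ht] at h1
    exact mul_inv_eq_iff_eq_mul.mp h1

theorem isConj_iff_eq (ht : orderOf t = 2) (i j : Fin 5) :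
    IsConj (emb e (repU (dk i))) (emb e (repU (dk j))) ↔ i = j := by
  refine ⟨fun h => ?_, fun h => h ▸ IsConj.refl _⟩
  obtain ⟨c, hc⟩ := isConj_iff.mp h
  obtain ⟨d, rfl⟩ := exists_emb e (commute_of_conj e ht hc ⟨j, IsConj.refl _⟩)
  rw [← map_inv, ← map_mul, ← map_mul] at hc
  have := cls_eq_of_isConj (isConj_iff.mpr ⟨d, emb_injective e hc⟩)
  rw [cls_repU, cls_repU] at this
  exact dk_injective this

theorem card_centralizer (ht : orderOf t = 2) (i : Fin 5) :
    Nat.card (centralizer ({emb e (repU (dk i))} : Set G)) = ![48, 6, 8, 8, 8] i := by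
  classical
  have hbij : Function.Bijective (fun k : {d : GL23 // d * repU (dk i) = repU (dk i) * d} =>
      (⟨emb e k.1, mem_centralizer_singleton_iff.mpr (by rw [← map_mul, ← map_mul, k.2])⟩ :
        centralizer ({emb e (repU (dk i))} : Set G))) := by
    refine ⟨fun a b h => Subtype.ext (emb_injective e (show emb e a.1 = emb e b.1 from
      congrArg (fun z : centralizer ({emb e (repU (dk i))} : Set G) => (z : G)) h)), ?_⟩
    rintro ⟨x, hx⟩
    have hx' := mem_centralizer_singleton_iff.mp hx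
    obtain ⟨d, rfl⟩ := exists_emb e (commute_of_conj e ht (c := x) (i := i)
      (by rw [hx', mul_inv_cancel_right]) ⟨i, IsConj.refl _⟩)
    exact ⟨⟨d, emb_injective e (by rw [map_mul, map_mul, hx'])⟩, rfl⟩
  rw [← Nat.card_eq_of_bijective _ hbij, Nat.card_eq_fintype_card, Fintype.card_subtype, card_cent_rep]
  fin_cases i <;> rfl

theorem not_isConj_one (i : Fin 5) : ¬ IsConj (emb e (repU (dk i))) 1 := by
  intro h
  rw [isConj_comm, isConj_one_right] at h
  have h' : repU (dk i) = 1 := emb_injective e (h.trans (map_one _).symm)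
  exact absurd h' ((by decide +kernel : ∀ i, repU (dk i) ≠ 1) i)

theorem card_centralizer_t : Nat.card (centralizer ({t} : Set G)) = 48 := by
  rw [Nat.card_congr e.toEquiv, Nat.card_eq_fintype_card, card_gl]

theorem not_comm : ∃ a b : G, a * b ≠ b * a :=
  ⟨emb e (repU 4), emb e (repU 6), fun h => by
    have h' : repU 4 * repU 6 = repU 6 * repU 4 := emb_injective e (by rw [map_mul, map_mul, h])
    revert h'
    decide +kernel⟩

theorem perfect [IsSimpleGroup G] : commutator G = ⊤ := by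
  refine (IsSimpleGroup.eq_bot_or_eq_top_of_normal (commutator G) inferInstance).resolve_left fun h => ?_
  obtain ⟨a, b, hab⟩ := not_comm e
  apply hab
  have hm : ⁅a, b⁆ ∈ commutator G := by
    rw [commutator_eq_closure]; exact subset_closure ⟨a, b, rfl⟩
  rw [h, mem_bot, commutatorElement_eq_one_iff_commute] at hm
  exact hm

/-- A Sylow subgroup of `C(t)` is Sylow in the group. -/
theorem exists_sylow_image [Finite G] (ht : orderOf t = 2) :
    ∃ (P : Sylow 2 GL23) (S : Sylow 2 G), Nat.card (P : Subgroup GL23) = 16 ∧ quat ≤ (P : Subgroup GL23) ∧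
      (S : Subgroup G) = (P : Subgroup GL23).map (emb e) := by
  classical
  haveI : Fact (Nat.Prime 2) := ⟨Nat.prime_two⟩
  obtain ⟨P⟩ : Nonempty (Sylow 2 GL23) := inferInstance
  have hPcard : Nat.card (P : Subgroup GL23) = 16 := by
    rw [P.card_eq_multiplicity, Nat.card_eq_fintype_card, card_gl, Nat.factorization_def _ Nat.prime_two]
    norm_num
    rw [show (48 : ℕ) = 2 ^ 4 * 3 by norm_num, padicValNat.mul (by norm_num) (by norm_num),
      padicValNat.prime_pow, padicValNat.eq_zero_of_not_dvd (by norm_num)]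
    norm_num
  have hQP : quat ≤ (P : Subgroup GL23) := by
    obtain ⟨R, hR⟩ := (IsPGroup.of_card (n := 3) (by rw [card_quat]; rfl) : IsPGroup 2 quat).exists_le_sylow
    obtain ⟨g, hg⟩ := MulAction.exists_smul_eq GL23 R P
    intro a ha
    rw [← hg]
    have : g⁻¹ * a * g⁻¹⁻¹ ∈ (R : Subgroup GL23) := hR (quat_normal.conj_mem a ha g⁻¹)
    refine ⟨_, this, ?_⟩
    show g * (g⁻¹ * a * g⁻¹⁻¹) * g⁻¹ = a
    group
  set K := (P : Subgroup GL23).map (emb e) with hK
  obtain ⟨S, hS⟩ := (P.isPGroup'.map (emb e) : IsPGroup 2 K).exists_le_sylow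
  have hKS : (S : Subgroup G) = K := by
    refine le_antisymm ?_ hS
    have htK : t ∈ K := ⟨-1, hQP (Or.inr (Or.inl (by decide +kernel))), emb_neg_one e ht⟩
    have htne : t ≠ 1 := fun h => by rw [h, orderOf_one] at ht; omega
    haveI : Nontrivial ↥(S : Subgroup G) := ⟨⟨t, hS htK⟩, 1, fun h => htne (congrArg Subtype.val h)⟩
    haveI := S.isPGroup'.center_nontrivial
    obtain ⟨z, hz⟩ := exists_ne (1 : center ↥(S : Subgroup G))
    have hzc : ∀ x ∈ (S : Subgroup G), x * (z : G) = (z : G) * x := fun x hx =>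
      congrArg Subtype.val (mem_center_iff.mp z.2 ⟨x, hx⟩)
    obtain ⟨d, hd⟩ := exists_emb e (x := (z : G)) (hzc t (hS htK)).symm
    have hd1 : d ≠ 1 := fun h => hz (by
      rw [h, map_one] at hd
      exact Subtype.ext (Subtype.ext hd.symm))
    have hzt : (z : G) = t := by
      rw [← hd, eq_neg_one_of_centralizes_quat (fun a ha => emb_injective e (by
        rw [map_mul, map_mul, hd]; exact hzc _ (hS ⟨a, hQP ha, rfl⟩))) hd1, emb_neg_one e ht]
    let T : Subgroup GL23 := (S : Subgroup G).comap (emb e)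
    have hT : IsPGroup 2 T := S.isPGroup'.comap_of_injective _ (emb_injective e)
    have hTP : T = (P : Subgroup GL23) := P.is_maximal' hT fun a ha => hS ⟨a, ha, rfl⟩
    intro x hx
    obtain ⟨a, rfl⟩ := exists_emb e (hzt ▸ hzc x hx)
    exact ⟨a, hTP ▸ (hx : a ∈ T), rfl⟩
  exact ⟨P, S, hPcard, hQP, hKS⟩

/-- Without a subgroup of index two all involutions are conjugate. -/
theorem one_class_of_no_index_two [Finite G] (ht : orderOf t = 2)
    (h2 : ∀ M : Subgroup G, M.Normal → M.index ≠ 2) {x : G} (hx : orderOf x = 2) : IsConj x t := by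
  classical
  haveI : Fact (Nat.Prime 2) := ⟨Nat.prime_two⟩
  obtain ⟨P, S, hPcard, hQP, hKS⟩ := exists_sylow_image e ht
  set K := (P : Subgroup GL23).map (emb e) with hK
  obtain ⟨Q, hQ⟩ := (IsPGroup.of_card (n := 1) (by rw [Nat.card_zpowers, hx, pow_one]) :
    IsPGroup 2 (zpowers x)).exists_le_sylow
  obtain ⟨g, hg⟩ := MulAction.exists_smul_eq G Q S
  have hmem : g * x * g⁻¹ ∈ (S : Subgroup G) := by
    rw [← hg]
    exact smul_mem_pointwise_smul x (MulAut.conj g) _ (hQ (mem_zpowers x))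
  refine (isConj_iff.mpr ⟨g, rfl⟩ : IsConj x (g * x * g⁻¹)).trans ?_
  have hy : orderOf (g * x * g⁻¹) = 2 := by rw [← MulAut.conj_apply, MulEquiv.orderOf_eq, hx]
  generalize g * x * g⁻¹ = y at hmem hy
  set Q' := quat.map (emb e) with hQ'
  have hQS : Q' ≤ (S : Subgroup G) := by rw [hKS]; exact map_mono hQP
  have hidx : Q'.relIndex (S : Subgroup G) = 2 := by
    rw [hKS, hQ', hK, relIndex_map_map_of_injective _ _ (emb_injective e)]
    have h := card_mul_index (quat.subgroupOf (P : Subgroup GL23))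
    rw [Nat.card_congr (subgroupOfEquivOfLe hQP).toEquiv, card_quat, hPcard] at h
    rw [relIndex]; omega
  have hin : ∀ z ∈ Q', orderOf z = 2 → z = t := by
    rintro _ ⟨a, ha, rfl⟩ hz
    rw [orderOf_injective _ (emb_injective e)] at hz
    rw [quat_invol a ha (by have := pow_orderOf_eq_one a; rwa [hz, sq] at this) (fun h => by rw [h, orderOf_one] at hz; omega),
      emb_neg_one e ht]
  by_cases hyQ : y ∈ Q'
  · rw [hin y hyQ hy]
  · rcases Cfsg.Agent.S0111.result S Q' hQS hidx y hy hmem hyQ with ⟨M, hM, hMi, -⟩ | ⟨k, hk⟩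
    · exact absurd hMi (h2 M hM)
    · refine (isConj_iff.mpr ⟨k, rfl⟩ : IsConj y (k * y * k⁻¹)).trans ?_
      rw [hin _ hk (by rw [← MulAut.conj_apply, MulEquiv.orderOf_eq, hy])]

/-- All involutions are conjugate. -/
theorem one_class [Finite G] [IsSimpleGroup G] (ht : orderOf t = 2) {x : G} (hx : orderOf x = 2) :
    IsConj x t := by
  refine one_class_of_no_index_two e ht ?_ hx
  intro M hM hi
  haveI := hM
  rcases IsSimpleGroup.eq_bot_or_eq_top_of_normal M hM with rfl | rfl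
  · rw [index_bot] at hi
    have h := card_subgroup_dvd_card (centralizer ({t} : Set G))
    rw [card_centralizer_t e, hi] at h
    omega
  · rw [index_top] at hi; omega

/-- The value on a class. -/
def val (χ : G → ℂ) (k : Fin 8) : ℂ := χ (emb e (repU k))

theorem apply_emb {χ : G → ℂ} (hχ : IsClassFunction G χ) (x : GL23) : χ (emb e x) = val e χ (cls (x : Mat)) := by
  obtain ⟨c, hc⟩ := isConj_iff.mp (isConj_repU x)
  conv_lhs => rw [← hc, map_mul, map_mul, map_inv, hχ]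
  rfl

/-- A character twisted by a linear character of a finite group mapped into the centralizer. -/
theorem exists_twisted_sum [Finite G] {χ : G → ℂ} (hχ : IsCharacter G χ) {A : Type} [Group A] [Fintype A]
    (φ : A →* GL23) (l : A →* ℂˣ) :
    ∃ n : ℕ, ∑ a, χ (emb e (φ a)) * conj (l a : ℂ) = (Fintype.card A : ℂ) * n := by
  let up : ULift.{u} A ≃* A := MulEquiv.ulift
  obtain ⟨n, hn⟩ := (hχ.comp ((emb e).comp (φ.comp up.toMonoidHom))).exists_nat_classInner
    (isIrrCharacter_linear (l.comp up.toMonoidHom)).isCharacter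
  refine ⟨n, ?_⟩
  simp only [classInner, Nat.card_eq_fintype_card, Fintype.card_ulift] at hn
  rw [inv_mul_eq_iff_eq_mul₀ (Nat.cast_ne_zero.mpr Fintype.card_ne_zero)] at hn
  rw [← hn]
  exact (Fintype.sum_equiv up.toEquiv (fun a => χ (emb e (φ (up a))) * conj (l (up a) : ℂ))
    (fun a => χ (emb e (φ a)) * conj (l a : ℂ)) fun a => rfl).symm

theorem sum_subgroup [Finite G] {χ : G → ℂ} (hχ : IsCharacter G χ) (K : Subgroup GL23)
    [DecidablePred (· ∈ K)] (j : Bool) :
    ∃ n : ℕ, ∑ k : Fin 8, ((Finset.univ.filter fun x : GL23 => x ∈ K ∧ cls (x : Mat) = k).card : ℂ) *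
      ((if j then ((![1, 1, 1, 1, 1, -1, -1, -1] k : ℤ) : ℂ) else 1) * val e χ k) =
      ((Finset.univ.filter fun x : GL23 => x ∈ K).card : ℂ) * n := by
  let l : K →* ℂˣ := if j then (Units.map (Int.castRingHom ℂ).toMonoidHom).comp (sgn.comp K.subtype) else 1
  obtain ⟨n, hn⟩ := exists_twisted_sum e hχ K.subtype l
  refine ⟨n, ?_⟩
  rw [← Fintype.card_subtype, ← hn]
  have hterm : ∀ a : K, χ (emb e a) * conj (l a : ℂ) =
      (fun x : GL23 => (if j then ((![1, 1, 1, 1, 1, -1, -1, -1] (cls (x : Mat)) : ℤ) : ℂ) else 1) *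
        val e χ (cls (x : Mat))) a := by
    intro a
    rw [apply_emb e hχ.isClassFunction, mul_comm]
    congr 1
    cases j
    · simp [l]
    · simp [l, ← sgn_apply]
  simp only [Subgroup.coe_subtype, hterm]
  rw [← Finset.sum_subtype (p := (· ∈ K)) (Finset.univ.filter fun x : GL23 => x ∈ K) (fun x => by simp)
      (fun x : GL23 => (if j = true then ((![1, 1, 1, 1, 1, -1, -1, -1] (cls (x : Mat)) : ℤ) : ℂ) else 1) *
        val e χ (cls (x : Mat))),
    ← Finset.sum_fiberwise (Finset.univ.filter fun x : GL23 => x ∈ K) (fun x => cls (x : Mat))]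
  refine Finset.sum_congr rfl fun k _ => ?_
  rw [Finset.filter_filter, ← nsmul_eq_mul, ← Finset.sum_const]
  exact Finset.sum_congr rfl fun x hx => by rw [(Finset.mem_filter.mp hx).2.2]

theorem sum_cyclic [Finite G] {χ : G → ℂ} (hχ : IsCharacter G χ) {ζ : ℂ} (hζ : ζ ^ 4 = -1) :
    ∃ n : ℕ, val e χ 0 + val e χ 6 * ζ + val e χ 4 * ζ ^ 2 + val e χ 6 * ζ ^ 3 + val e χ 1 * (-1) +
      val e χ 7 * (-ζ) + val e χ 4 * (-ζ ^ 2) + val e χ 7 * (-ζ ^ 3) = 8 * (n : ℂ) := by
  have h8 : conj ζ ^ 8 = 1 := by rw [← map_pow, show ζ ^ 8 = (ζ ^ 4) ^ 2 by ring, hζ]; simp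
  let z : ℂˣ := Units.mk0 (conj ζ) fun h => by simp [h] at h8
  have hz : z ^ 8 = 1 := Units.ext (by simpa [z] using h8)
  let l : Multiplicative (ZMod 8) →* ℂˣ :=
    ⟨⟨fun j => z ^ j.toAdd.val, by simp⟩, fun a b => by
      show z ^ (a.toAdd + b.toAdd).val = z ^ a.toAdd.val * z ^ b.toAdd.val
      rw [← pow_add, ZMod.val_add, ← pow_eq_pow_mod _ hz]⟩
  obtain ⟨n, hn⟩ := exists_twisted_sum e hχ cyc l
  refine ⟨n, ?_⟩
  rw [← Fintype.sum_equiv (Multiplicative.ofAdd : ZMod 8 ≃ _)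
    (fun j => χ (emb e (cyc (Multiplicative.ofAdd j))) * conj (l (Multiplicative.ofAdd j) : ℂ)) _
    (fun j => rfl)] at hn
  have hterm : ∀ j : ZMod 8, χ (emb e (cyc (Multiplicative.ofAdd j))) *
      conj (l (Multiplicative.ofAdd j) : ℂ) = val e χ (![0, 6, 4, 6, 1, 7, 4, 7] j) * ζ ^ j.val := by
    intro j
    rw [apply_emb e hχ.isClassFunction, show cyc (Multiplicative.ofAdd j) = repU 6 ^ j.val from rfl,
      rep_six_pow' j]
    congr 1
    show conj ((z ^ j.val : ℂˣ) : ℂ) = _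
    simp [z]
  simp only [hterm, Fintype.card_multiplicative, ZMod.card] at hn
  have hn' : ∑ j : Fin 8, val e χ (![0, 6, 4, 6, 1, 7, 4, 7] j) * ζ ^ (j : ℕ) = 8 * (n : ℂ) := by
    rw [show ((8 : ℕ) : ℂ) = 8 by norm_num] at hn
    exact hn
  have hv : ∀ j : Fin 8, (j : ℕ) = j.val := fun _ => rfl
  simp only [Fin.sum_univ_eight] at hn'
  simp only [show ((0 : Fin 8) : ℕ) = 0 by rfl, show ((1 : Fin 8) : ℕ) = 1 by rfl,
    show ((2 : Fin 8) : ℕ) = 2 by rfl, show ((3 : Fin 8) : ℕ) = 3 by rfl,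
    show ((4 : Fin 8) : ℕ) = 4 by rfl, show ((5 : Fin 8) : ℕ) = 5 by rfl,
    show ((6 : Fin 8) : ℕ) = 6 by rfl, show ((7 : Fin 8) : ℕ) = 7 by rfl] at hn'
  simp (config := { decide := true }) only [Matrix.cons_val, pow_zero, mul_one, pow_one] at hn'
  rw [show ζ ^ 5 = ζ ^ 4 * ζ by ring, show ζ ^ 6 = ζ ^ 4 * ζ ^ 2 by ring,
    show ζ ^ 7 = ζ ^ 4 * ζ ^ 3 by ring, hζ] at hn'
  linear_combination hn'

/-- The coefficients of the five exceptional functions on the five exceptional classes. -/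
noncomputable def cf (s : ℂ) : Fin 5 → Fin 5 → ℂ :=
  ![![0, 0, 0, -s / 4, s / 4], ![1 / 6, 1 / 3, 0, 1 / 4, 1 / 4], ![1 / 6, 1 / 3, 0, -1 / 4, -1 / 4],
    ![1 / 12, -1 / 3, 1 / 4, s / 8, -s / 8], ![-1 / 6, -1 / 3, 1 / 2, 0, 0]]

omit e in
/-- The value at `t`. -/
def tv (n : Fin 5 → ℤ) : ℤ := n 1 + n 2 - 2 * n 4 + 4 * n 3 + 2 * n 0

omit e in
/-- The value at the class of order six. -/
def uv (n : Fin 5 → ℤ) : ℤ := n 1 + n 2 + n 4 - 2 * n 3 - n 0

omit e in
/-- The value at the class of order four. -/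
def wv (n : Fin 5 → ℤ) : ℤ := 2 * n 4 + n 1 + n 2

set_option maxHeartbeats 2000000 in
theorem coeffs [Finite G] {χ : G → ℂ} (hχ : IsIrrCharacter G χ) {ζ : ℂ} (hζ : ζ ^ 4 = -1)
    (hζc : conj ζ = -ζ ^ 3) :
    ∃ (D : ℤ) (n : Fin 5 → ℤ), 0 < D ∧ χ 1 = D ∧
      (∀ i, (n i : ℂ) = ∑ k, cf (ζ + ζ ^ 3) i k * val e χ (dk k)) ∧
      val e χ 1 = tv n ∧ val e χ 3 = uv n ∧ val e χ 6 + val e χ 7 = ((2 * (n 1 - n 2) : ℤ) : ℂ) ∧
      (8 : ℤ) ∣ D + tv n + 2 * wv n + 4 * (n 1 - n 2) := by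
  classical
  obtain ⟨d, hd0, hd⟩ := hχ.exists_degree
  obtain ⟨w1, hw1⟩ := sum_subgroup e hχ.isCharacter ⊤ false
  obtain ⟨we, hwe⟩ := sum_subgroup e hχ.isCharacter ⊤ true
  haveI : DecidablePred (· ∈ borel) := fun x => decidable_of_iff ((x : Mat) 1 0 = 0) Iff.rfl
  haveI : DecidablePred (· ∈ vecStab) := fun x =>
    decidable_of_iff ((x : Mat) 1 0 = 0 ∧ (x : Mat) 0 0 = 1) Iff.rfl
  obtain ⟨p1, hp1⟩ := sum_subgroup e hχ.isCharacter borel false
  obtain ⟨pe, hpe⟩ := sum_subgroup e hχ.isCharacter borel true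
  obtain ⟨q1, hq1⟩ := sum_subgroup e hχ.isCharacter vecStab false
  have cT : ∀ k, (Finset.univ.filter fun x : GL23 => x ∈ (⊤ : Subgroup GL23) ∧ cls (x : Mat) = k).card =
      ![1, 1, 8, 8, 6, 12, 6, 6] k := fun k => by
    rw [← card_class k]; congr 1; simp
  have cT' : (Finset.univ.filter fun x : GL23 => x ∈ (⊤ : Subgroup GL23)).card = 48 := by
    rw [← card_gl]; simp
  have cB : ∀ k, (Finset.univ.filter fun x : GL23 => x ∈ borel ∧ cls (x : Mat) = k).card =
      ![1, 1, 2, 2, 0, 6, 0, 0] k := fun k => by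
    have h : ∀ k, (Finset.univ.filter fun x : GL23 => (x : Mat) 1 0 = 0 ∧ cls (x : Mat) = k).card =
      ![1, 1, 2, 2, 0, 6, 0, 0] k := by decide +kernel
    rw [← h k]; congr 1; ext x; simp only [Finset.mem_filter]; rfl
  have cB' : (Finset.univ.filter fun x : GL23 => x ∈ borel).card = 12 := by
    have h : (Finset.univ.filter fun x : GL23 => (x : Mat) 1 0 = 0).card = 12 := by decide +kernel
    rw [← h]; congr 1; ext x; simp only [Finset.mem_filter]; rfl
  have cV : ∀ k, (Finset.univ.filter fun x : GL23 => x ∈ vecStab ∧ cls (x : Mat) = k).card =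
      ![1, 0, 2, 0, 0, 3, 0, 0] k := fun k => by
    have h : ∀ k, (Finset.univ.filter fun x : GL23 =>
      ((x : Mat) 1 0 = 0 ∧ (x : Mat) 0 0 = 1) ∧ cls (x : Mat) = k).card =
      ![1, 0, 2, 0, 0, 3, 0, 0] k := by decide +kernel
    rw [← h k]; congr 1; ext x; simp only [Finset.mem_filter]; rfl
  have cV' : (Finset.univ.filter fun x : GL23 => x ∈ vecStab).card = 6 := by
    have h : (Finset.univ.filter fun x : GL23 => (x : Mat) 1 0 = 0 ∧ (x : Mat) 0 0 = 1).card = 6 := by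
      decide +kernel
    rw [← h]; congr 1; ext x; simp only [Finset.mem_filter]; rfl
  simp only [cT, cT', Fin.sum_univ_eight] at hw1 hwe
  simp only [cB, cB', Fin.sum_univ_eight] at hp1 hpe
  simp only [cV, cV', Fin.sum_univ_eight] at hq1
  simp only [Matrix.cons_val, Bool.false_eq_true, if_false, if_true, Nat.cast_ofNat, Nat.cast_one,
    Nat.cast_zero, Int.cast_one, Int.cast_neg, one_mul, zero_mul, neg_mul, mul_neg] at hw1 hwe hp1 hpe hq1
  obtain ⟨cl, hcl⟩ := sum_cyclic e hχ.isCharacter (ζ := conj ζ) (by rw [← map_pow, hζ]; simp)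
  obtain ⟨cl', hcl'⟩ := sum_cyclic e hχ.isCharacter hζ
  obtain ⟨c₁, hc₁⟩ := exists_twisted_sum e hχ.isCharacter cyc 1
  have hc0 : val e χ 0 + val e χ 1 + 2 * val e χ 4 + 2 * val e χ 6 + 2 * val e χ 7 = 8 * (c₁ : ℂ) := by
    rw [← Fintype.sum_equiv (Multiplicative.ofAdd : ZMod 8 ≃ _)
      (fun j => val e χ (![0, 6, 4, 6, 1, 7, 4, 7] j)) _ (fun j => by
        rw [apply_emb e hχ.isClassFunction, show cyc (Multiplicative.ofAdd j) = repU 6 ^ j.val from rfl,
          rep_six_pow' j]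
        simp)] at hc₁
    simp only [Fintype.card_multiplicative, ZMod.card, Nat.cast_ofNat] at hc₁
    have h' : ∑ j : Fin 8, val e χ (![0, 6, 4, 6, 1, 7, 4, 7] j) = 8 * (c₁ : ℂ) := hc₁
    simp only [Fin.sum_univ_eight, Matrix.cons_val] at h'
    linear_combination h'
  set s := ζ + ζ ^ 3 with hs
  have hclS : val e χ 0 - val e χ 1 - s * val e χ 6 + s * val e χ 7 = 8 * (cl : ℂ) := by
    rw [hζc] at hcl
    have h9 : (-ζ ^ 3) ^ 3 = -ζ := by linear_combination (-ζ ^ 5 + ζ) * hζ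
    rw [h9] at hcl
    rw [hs]; linear_combination hcl
  have hclS' : val e χ 0 - val e χ 1 + s * val e χ 6 - s * val e χ 7 = 8 * (cl' : ℂ) := by
    rw [hs]; linear_combination hcl'
  let n : Fin 5 → ℤ := ![(cl : ℤ) - cl', (w1 : ℤ) - we + pe - q1 + p1, (we : ℤ) - w1 + 2 * p1 - q1,
    (c₁ : ℤ) - w1 - pe + we - cl + q1 - p1, (c₁ : ℤ) - 2 * pe + 2 * we + q1 - 2 * p1]
  have hn : ∀ i, (n i : ℂ) = ∑ k, cf s i k * val e χ (dk k) := by
    intro i
    fin_cases i <;>
      simp only [n, cf, dk, Fin.sum_univ_five, Fin.zero_eta, Fin.mk_one, Fin.reduceFinMk, Matrix.cons_val] <;>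
      push_cast
    · linear_combination (-1 / 8 : ℂ) * hclS + (1 / 8 : ℂ) * hclS'
    · linear_combination (-1 / 48 : ℂ) * hw1 + (1 / 48 : ℂ) * hwe + (-1 / 12 : ℂ) * hpe + (1 / 6 : ℂ) * hq1
        + (-1 / 12 : ℂ) * hp1
    · linear_combination (1 / 48 : ℂ) * hw1 + (-1 / 48 : ℂ) * hwe + (1 / 6 : ℂ) * hq1 + (-1 / 6 : ℂ) * hp1
    · linear_combination (-1 / 8 : ℂ) * hc0 + (1 / 48 : ℂ) * hw1 + (1 / 12 : ℂ) * hpe + (-1 / 48 : ℂ) * hwe
        + (1 / 8 : ℂ) * hclS + (-1 / 6 : ℂ) * hq1 + (1 / 12 : ℂ) * hp1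
    · linear_combination (-1 / 8 : ℂ) * hc0 + (1 / 6 : ℂ) * hpe + (-1 / 24 : ℂ) * hwe + (-1 / 6 : ℂ) * hq1
        + (1 / 6 : ℂ) * hp1
  have e0 := hn 0; have e1 := hn 1; have e2 := hn 2; have e3 := hn 3; have e4 := hn 4
  simp only [cf, dk, Fin.sum_univ_five, Matrix.cons_val] at e0 e1 e2 e3 e4
  have hv0 : val e χ 0 = d := by
    rw [val, show repU 0 = 1 from rfl, map_one, hd]
  have hT : val e χ 1 = tv n := by rw [tv]; push_cast; linear_combination -e1 - e2 + 2 * e4 - 4 * e3 - 2 * e0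
  have hW : val e χ 4 = wv n := by rw [wv]; push_cast; linear_combination -2 * e4 - e1 - e2
  have hP : val e χ 6 + val e χ 7 = ((2 * (n 1 - n 2) : ℤ) : ℂ) := by
    push_cast; linear_combination -2 * e1 + 2 * e2
  refine ⟨(d : ℤ), n, by exact_mod_cast hd0, by rw [hd]; norm_cast, hn, hT, ?_, hP, ⟨c₁, ?_⟩⟩
  · rw [uv]; push_cast; linear_combination -e1 - e2 - e4 + 2 * e3 + e0
  · have : (((d : ℤ) + tv n + 2 * wv n + 4 * (n 1 - n 2) : ℤ) : ℂ) = ((8 * (c₁ : ℤ) : ℤ) : ℂ) := by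
      push_cast
      rw [← hc0, ← hT, ← hW, hv0]
      push_cast at hP
      linear_combination -2 * hP
    exact_mod_cast this

end Cfsg.Lib.Small.CentralizerGL23
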