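import Cfsg.Agent.Lib.Small.LargePrimeValues

/-!
# Self-centralizing subgroups of prime order with few conjugates: degrees

Brauer's hypothesis: a perfect group `G`, a self-centralizing subgroup `P` of prime order `p` with
`k p + 1` conjugates, `2 k ≤ p + 1`.

* `isSimpleGroup_of_few`: such a group is simple;
* `few_degrees`: the degrees in the principal block.
-/

set_option autoImplicit false
set_option linter.unusedSectionVars false
set_option linter.style.haveILetI false

namespace Cfsg.Lib.Small

open Cfsg Cfsg.Lib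
open scoped commutatorElement

universe u

/-- A divisor of `e (k p + 1)` congruent to `1` modulo `p`, below Brauer's bound. -/
theorem divisor_plus {p e t k u s : ℤ} (hp : 3 ≤ p) (ht : 1 ≤ t) (het : e * t = p - 1) (hk : 1 ≤ k)
    (hkle : 2 * k ≤ p + 1) (hu : 0 ≤ u) (hs : 1 ≤ s) (h : (u * p + 1) * s = e * (k * p + 1)) :
    u = 0 ∨ u = k := by
  rcases eq_or_lt_of_le hu with h0 | hu1
  · exact Or.inl h0.symm
  right
  set X := t * s with hX
  have hX1 : 1 ≤ X := one_le_mul_of_one_le_of_one_le ht hs
  have h1 : (u * p + 1) * X = (p - 1) * (k * p + 1) := by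
    rw [hX, ← het]; linear_combination t * h
  obtain ⟨v, hv⟩ : ∃ v, X = v * p - 1 :=
    ⟨k * p + 1 - k - u * X, by linear_combination h1⟩
  have hv1 : 1 ≤ v := by
    by_contra hcon
    have : v * p ≤ 0 := mul_nonpos_of_nonpos_of_nonneg (by omega) (by omega)
    omega
  have key : v = 1 - k + u + (k - u * v) * p := by
    rw [hv] at h1
    have h2 : p * (v - (1 - k + u + (k - u * v) * p)) = 0 := by linear_combination h1
    rcases mul_eq_zero.1 h2 with h3 | h3 <;> omega
  rcases lt_trichotomy (k - u * v) 0 with hh | hh | hh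
  · exfalso
    have hvu : u ≥ k + p := by
      have : (k - u * v) * p ≤ -1 * p := mul_le_mul_of_nonneg_right (by omega) (by omega)
      omega
    have h3 : u - k ≤ u * v - k := by nlinarith
    have h4 : (k - u * v) * p ≤ (k - u) * p := mul_le_mul_of_nonneg_right (by omega) (by omega)
    nlinarith
  · rw [hh, zero_mul, add_zero] at key
    have h5 : (u + 1) * (u - k) = 0 := by rw [key] at hh; linear_combination -hh
    rcases mul_eq_zero.1 h5 with h3 | h3 <;> omega
  · exfalso
    have : 1 * p ≤ (k - u * v) * p := mul_le_mul_of_nonneg_right (by omega) (by omega)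
    have h3 : k + 1 ≤ v := by omega
    nlinarith

/-- A divisor of `e (k p + 1)` congruent to `-1` modulo `p`, below Brauer's bound. -/
theorem divisor_minus {p e t k u s : ℤ} (hp : 3 ≤ p) (ht : 1 ≤ t) (het : e * t = p - 1) (hk : 1 ≤ k)
    (hkle : 2 * k ≤ p + 1) (hu : 1 ≤ u) (hs : 1 ≤ s) (h : (u * p - 1) * s = e * (k * p + 1)) :
    u = 1 ∨ (t = 1 ∧ s = 1) := by
  set X := t * s with hX
  have hX1 : 1 ≤ X := one_le_mul_of_one_le_of_one_le ht hs
  have h1 : (u * p - 1) * X = (p - 1) * (k * p + 1) := by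
    rw [hX, ← het]; linear_combination t * h
  obtain ⟨v, hv⟩ : ∃ v, X = v * p + 1 :=
    ⟨u * X - k * p - 1 + k, by linear_combination -h1⟩
  have hv0 : 0 ≤ v := by
    by_contra hcon
    have : v * p ≤ -1 * p := mul_le_mul_of_nonneg_right (by omega) (by omega)
    omega
  rcases eq_or_lt_of_le hv0 with hv1 | hv1
  · right
    rw [← hv1, zero_mul, zero_add, hX] at hv
    constructor
    · by_contra hne
      have : 2 * 1 ≤ t * s := mul_le_mul (by omega) hs one_pos.le (by omega)
      omega
    · by_contra hne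
      have : 1 * 2 ≤ t * s := mul_le_mul ht (by omega) (by omega) (by omega)
      omega
  left
  have key : u - v = 1 - k + (k - u * v) * p := by
    rw [hv] at h1
    have h2 : p * ((u - v) - (1 - k + (k - u * v) * p)) = 0 := by linear_combination h1
    rcases mul_eq_zero.1 h2 with h3 | h3 <;> omega
  rcases lt_trichotomy (k - u * v) 0 with hh | hh | hh
  · exfalso
    have h2 : (k - u * v) * p ≤ -1 * p := mul_le_mul_of_nonneg_right (by omega) (by omega)
    have h3 : p + 1 ≤ v := by omega
    have h4 : (p + 1) * (p - 1) ≤ v * (u * p - 1) :=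
      mul_le_mul h3 (by nlinarith) (by omega) (by omega)
    nlinarith
  · rw [hh, zero_mul, add_zero] at key
    have hv' : v = u + k - 1 := by omega
    have h5 : (u - 1) * (u + k) = 0 := by rw [hv'] at hh; linear_combination -hh
    rcases mul_eq_zero.1 h5 with h3 | h3 <;> omega
  · exfalso
    have : 1 * p ≤ (k - u * v) * p := mul_le_mul_of_nonneg_right (by omega) (by omega)
    have h3 : k + 1 ≤ u := by omega
    nlinarith

variable {G : Type u} [Group G] [Fintype G] {p : ℕ} [hp : Fact p.Prime]

/-- The automorphisms of a cyclic group commute. -/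
theorem mulAut_comm {H : Type*} [Group H] [Finite H] [IsCyclic H] (a b : MulAut H) : a * b = b * a :=
  (IsCyclic.mulAutMulEquiv H).injective (by rw [map_mul, map_mul, mul_comm])

/-- The Sylow data of a self-centralizing subgroup of prime order in a perfect group. -/
theorem few_setup [Nontrivial G] (hperf : commutator G = ⊤) {z : G} (hz : orderOf z = p)
    (hC : Subgroup.centralizer ({z} : Set G) = Subgroup.zpowers z)
    (hn : 2 * Nat.card (Sylow p G) < (p + 1) * (p + 2)) :
    ∃ (P : Sylow p G) (e t k : ℕ),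
      Nat.card (P : Subgroup G) = p ∧
      Subgroup.centralizer ((P : Subgroup G) : Set G) = (P : Subgroup G) ∧
      (Subgroup.centralizer ((P : Subgroup G) : Set G)).relIndex
        (Subgroup.normalizer ((P : Subgroup G) : Set G)) = e ∧
      2 ≤ e ∧ p = e * t + 1 ∧ Nat.card G = p * (e * (k * p + 1)) ∧ 1 ≤ k ∧ 2 * k ≤ p + 1 ∧
      Nat.card (Sylow p G) = k * p + 1 := by
  have hpp : p.Prime := hp.out
  obtain ⟨P, hP⟩ := (IsPGroup.of_card (G := ↥(Subgroup.zpowers z)) (p := p) (n := 1)
    (by rw [Nat.card_zpowers, hz, pow_one])).exists_le_sylow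
  have hzP : z ∈ (P : Subgroup G) := hP (Subgroup.mem_zpowers z)
  have hcen : ∀ c ∈ (P : Subgroup G), (∀ y ∈ (P : Subgroup G), y * c = c * y) →
      c ∈ Subgroup.zpowers z := fun c _ h => by
    rw [← hC, Subgroup.mem_centralizer_singleton_iff]
    exact (h z hzP).symm
  have hPz : (P : Subgroup G) = Subgroup.zpowers z := by
    refine le_antisymm (fun x hx => ?_) hP
    haveI : Nontrivial (P : Subgroup G) := by
      refine ⟨⟨⟨z, hzP⟩, 1, fun h => hpp.ne_one ?_⟩⟩
      rw [← hz, show z = 1 from congrArg Subtype.val h, orderOf_one]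
    haveI := P.isPGroup'.center_nontrivial
    obtain ⟨⟨⟨c, hcP⟩, hcc⟩, hc1⟩ := exists_ne (1 : Subgroup.center (P : Subgroup G))
    have hcomm : ∀ y ∈ (P : Subgroup G), y * c = c * y := fun y hy =>
      congrArg Subtype.val (Subgroup.mem_center_iff.1 hcc ⟨y, hy⟩)
    have hc : c ∈ Subgroup.zpowers z := hcen c hcP hcomm
    have hc1' : c ≠ 1 := fun h => hc1 (Subtype.ext (Subtype.ext h))
    have hzc : z ∈ Subgroup.zpowers c := by
      rw [zpowers_eq_of_prime_card (p := p) (by rw [Nat.card_zpowers, hz]) hc hc1']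
      exact Subgroup.mem_zpowers z
    rw [← hC, Subgroup.mem_centralizer_singleton_iff]
    obtain ⟨i, rfl⟩ := Subgroup.mem_zpowers_iff.1 hzc
    exact ((show Commute x c from hcomm x hx).zpow_right i).eq
  have hcard : Nat.card (P : Subgroup G) = p := by rw [hPz, Nat.card_zpowers, hz]
  have hCP : Subgroup.centralizer ((P : Subgroup G) : Set G) = (P : Subgroup G) := by
    rw [hPz, centralizer_zpowers, hC]
  set e := (Subgroup.centralizer ((P : Subgroup G) : Set G)).relIndex
    (Subgroup.normalizer ((P : Subgroup G) : Set G)) with he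
  have hed : e ∣ p - 1 := relIndex_centralizer_dvd (P : Subgroup G) hcard
  obtain ⟨t, ht⟩ := hed
  have hp2 := hpp.two_le
  have he0 : e ≠ 0 := fun h => by rw [h, zero_mul] at ht; omega
  have hN : Nat.card ↥(Subgroup.normalizer ((P : Subgroup G) : Set G)) = p * e := by
    have h2 := Subgroup.card_mul_index ((Subgroup.centralizer ((P : Subgroup G) : Set G)).subgroupOf
      (Subgroup.normalizer ((P : Subgroup G) : Set G)))
    rw [Nat.card_congr (Subgroup.subgroupOfEquivOfLe (Subgroup.centralizer_le_normalizer _)).toEquiv,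
      hCP, hcard] at h2
    rw [← h2, he, hCP]
    rfl
  have he1 : e ≠ 1 := by
    intro h1
    have hle : Subgroup.normalizer ((P : Subgroup G) : Set G) ≤
        Subgroup.centralizer ((P : Subgroup G) : Set G) := Subgroup.relIndex_eq_one.1 h1
    have hc := MonoidHom.ker_transferSylow_isComplement' P hle
    haveI : IsMulCommutative (P : Subgroup G) :=
      (isCyclic_of_prime_card hcard).isMulCommutative
    have hker : (MonoidHom.transferSylow P hle).ker = ⊤ := by
      rw [eq_top_iff, ← hperf, commutator_def, Subgroup.commutator_le]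
      intro a _ b _
      rw [MonoidHom.mem_ker, map_commutatorElement, commutatorElement_eq_one_iff_mul_comm]
      exact IsMulCommutative.is_comm.comm _ _
    have hd := hc.disjoint
    rw [hker, top_disjoint] at hd
    rw [hd, Subgroup.card_bot] at hcard
    omega
  have hS := card_normalizer_mul P
  rw [hN] at hS
  set n := Nat.card (Sylow p G) with hndef
  have hmod : n % p = 1 := by
    have h := card_sylow_modEq_one p G
    rw [Nat.ModEq, Nat.one_mod_eq_one.2 hpp.ne_one] at h
    exact h
  obtain ⟨k, hk⟩ : ∃ k, n = k * p + 1 :=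
    ⟨n / p, by have := Nat.div_add_mod n p; rw [hmod] at this; linarith⟩
  refine ⟨P, e, t, k, hcard, hCP, he.symm, by omega, by omega, ?_, ?_, ?_, hk⟩
  · rw [← hS, hk]; ring
  · rcases Nat.eq_zero_or_pos k with hk0 | hk0
    · exfalso
      have hn1 : n = 1 := by rw [hk, hk0, zero_mul]
      haveI : Subsingleton (Sylow p G) := (Nat.card_eq_one_iff_unique.1 hn1).1
      haveI := Sylow.normal_of_subsingleton P
      have hab : ∀ a b : G, a * b * a⁻¹ * b⁻¹ ∈ (P : Subgroup G) := fun a b => by
        haveI : IsCyclic (P : Subgroup G) := isCyclic_of_prime_card hcard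
        let φ : G →* MulAut (P : Subgroup G) := MulAut.conjNormal
        have h1 : φ (a * b * a⁻¹ * b⁻¹) = 1 := by
          rw [map_mul, map_mul, map_mul, map_inv, map_inv,
            mulAut_comm (φ a) (φ b),
            mul_inv_cancel_right, mul_inv_cancel]
        rw [← hCP, Subgroup.mem_centralizer_iff]
        intro y hy
        have h2 : a * b * a⁻¹ * b⁻¹ * y * (a * b * a⁻¹ * b⁻¹)⁻¹ = y :=
          congrArg Subtype.val (DFunLike.congr_fun h1 (⟨y, hy⟩ : (P : Subgroup G)))
        exact (mul_inv_eq_iff_eq_mul.1 h2).symm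
      have htop : (P : Subgroup G) = ⊤ := by
        rw [eq_top_iff, ← hperf, commutator_def, Subgroup.commutator_le]
        exact fun a _ b _ => hab a b
      rw [hn1, one_mul] at hS
      rw [htop, Subgroup.card_top] at hcard
      rw [hcard] at hS
      exact he1 ((Nat.mul_eq_left hpp.ne_zero).1 hS)
    · exact hk0
  · by_contra hcon
    push Not at hcon
    have h1 : (p + 2) * p ≤ 2 * k * p := Nat.mul_le_mul_right p hcon
    rw [hk] at hn
    have h2 : (p + 1) * (p + 2) = (p + 2) * p + (p + 2) := by ring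
    have h3 : (p + 2) * p + p ≤ 2 * k * p := by
      rcases Nat.lt_or_ge (2 * k) (p + 3) with h | h
      · exfalso
        have h4 : 2 * k = p + 2 := by omega
        rcases hpp.eq_two_or_odd with h5 | h5
        · subst h5
          have : e * t = 1 := by omega
          exact he1 (Nat.eq_one_of_mul_eq_one_right this)
        · omega
      · calc (p + 2) * p + p = (p + 3) * p := by ring
          _ ≤ 2 * k * p := Nat.mul_le_mul_right p h
    rw [show 2 * (k * p + 1) = 2 * k * p + 2 by ring] at hn
    omega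

/-- Such a group is simple. -/
theorem isSimpleGroup_of_few [Nontrivial G] (hperf : commutator G = ⊤) (P : Sylow p G) {e t k : ℕ}
    (hP : Nat.card (P : Subgroup G) = p)
    (hCP : Subgroup.centralizer ((P : Subgroup G) : Set G) = (P : Subgroup G))
    (he : 2 ≤ e) (het : p = e * t + 1) (hG : Nat.card G = p * (e * (k * p + 1))) (hk : 1 ≤ k)
    (hkle : 2 * k ≤ p + 1) : IsSimpleGroup G := by
  classical
  have hpp : p.Prime := hp.out
  haveI : IsCyclic (P : Subgroup G) := isCyclic_of_prime_card hP
  have ht : 1 ≤ t := by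
    rcases Nat.eq_zero_or_pos t with h | h
    · rw [h, mul_zero] at het; exact absurd het hpp.ne_one
    · exact h
  have hep : e < p := by have := Nat.le_mul_of_pos_right e ht; omega
  refine { eq_bot_or_eq_top_of_normal := fun N hN => ?_ }
  -- a normal subgroup containing `P` is everything
  have hfull : ∀ M : Subgroup G, M.Normal → (P : Subgroup G) ≤ M → M = ⊤ := by
    intro M hM hPM
    haveI := hM
    have hF : Subgroup.normalizer ((P : Subgroup G) : Set G) ⊔ M = ⊤ := by
      have h := Sylow.normalizer_sup_eq_top (P.subtype hPM)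
      rwa [Sylow.coe_subtype, Subgroup.map_subgroupOf_eq_of_le hPM] at h
    rw [eq_top_iff, ← hperf, commutator_def, Subgroup.commutator_le]
    have key : ∀ a : G, ∃ u ∈ Subgroup.normalizer ((P : Subgroup G) : Set G), a * u⁻¹ ∈ M := fun a => by
      have : a ∈ M ⊔ Subgroup.normalizer ((P : Subgroup G) : Set G) := by
        rw [sup_comm, hF]; exact Subgroup.mem_top a
      rw [Subgroup.mem_sup_of_normal_left] at this
      obtain ⟨y, hy, z, hz, rfl⟩ := this
      exact ⟨z, hz, by rwa [mul_inv_cancel_right]⟩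
    intro a _ b _
    obtain ⟨u, hu, hau⟩ := key a
    obtain ⟨v, hv, hbv⟩ := key b
    have huv : u * v * u⁻¹ * v⁻¹ ∈ (P : Subgroup G) := by
      let φ := (P : Subgroup G).normalizerMonoidHom
      have h1 : φ ((⟨u, hu⟩ * ⟨v, hv⟩ * ⟨u, hu⟩⁻¹ * ⟨v, hv⟩⁻¹ :
          Subgroup.normalizer ((P : Subgroup G) : Set G))) = 1 := by
        rw [map_mul, map_mul, map_mul, map_inv, map_inv,
          mulAut_comm (φ ⟨u, hu⟩) (φ ⟨v, hv⟩),
          mul_inv_cancel_right, mul_inv_cancel]
      have h2 := MonoidHom.mem_ker.2 h1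
      rw [Subgroup.normalizerMonoidHom_ker, Subgroup.mem_subgroupOf, hCP] at h2
      exact h2
    have h1 : ((⁅a, b⁆ : G) : G ⧸ M) = (((u * v * u⁻¹ * v⁻¹ : G)) : G ⧸ M) := by
      have ha : (a : G ⧸ M) = (u : G ⧸ M) :=
        (QuotientGroup.eq_iff_div_mem).2 (by rwa [div_eq_mul_inv])
      have hb : (b : G ⧸ M) = (v : G ⧸ M) :=
        (QuotientGroup.eq_iff_div_mem).2 (by rwa [div_eq_mul_inv])
      rw [commutatorElement_def]
      simp only [QuotientGroup.mk_mul, QuotientGroup.mk_inv, ha, hb]
    rw [← QuotientGroup.eq_one_iff, h1, QuotientGroup.eq_one_iff]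
    exact hPM huv
  by_cases hpN : p ∣ Nat.card N
  · right
    refine hfull N hN ?_
    obtain ⟨⟨x, hxN⟩, hxo⟩ := exists_prime_orderOf_dvd_card' (G := N) p hpN
    rw [Subgroup.orderOf_mk] at hxo
    obtain ⟨Q, hQ⟩ := exists_sylow_eq_zpowers (G := G) (fun Q => by
      rw [Q.card_eq_multiplicity, ← P.card_eq_multiplicity, hP]) hxo
    obtain ⟨g, hg⟩ := MulAction.exists_smul_eq G Q P
    rw [← hg, Sylow.coe_subgroup_smul]
    rintro _ ⟨y, hy, rfl⟩
    exact hN.conj_mem y (Subgroup.zpowers_le.2 hxN (hQ ▸ hy)) g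
  -- fixed point free action
  by_cases hNb : N = ⊥
  · exact Or.inl hNb
  exfalso
  have hcop : (Nat.card (P : Subgroup G)).Coprime (Nat.card N) := by
    rw [hP]; exact (hpp.coprime_iff_not_dvd).2 hpN
  have hle : (P : Subgroup G) ≤ Subgroup.normalizer (N : Set G) := by
    rw [Subgroup.normalizer_eq_top]; exact le_top
  letI : MulAction (P : Subgroup G) N := MulAction.compHom N
    (N.normalizerMonoidHom.comp (Subgroup.inclusion hle))
  have hfix : Nat.card (MulAction.fixedPoints (P : Subgroup G) N) = 1 := by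
    rw [Nat.card_eq_one_iff_unique]
    refine ⟨⟨?_⟩, ⟨⟨1, fun g => Subtype.ext ?_⟩⟩⟩
    · have key : ∀ w : MulAction.fixedPoints (P : Subgroup G) N, ((w : N) : G) = 1 := by
        rintro ⟨⟨w, hwN⟩, hw⟩
        have hwC : w ∈ (P : Subgroup G) := by
          rw [← hCP, Subgroup.mem_centralizer_iff]
          intro y hy
          have h1 : y * w * y⁻¹ = w := congrArg Subtype.val (hw ⟨y, hy⟩)
          exact mul_inv_eq_iff_eq_mul.1 h1
        exact orderOf_eq_one_iff.1 (Nat.eq_one_of_dvd_coprimes hcop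
          (Subgroup.orderOf_dvd_natCard _ hwC) (Subgroup.orderOf_dvd_natCard _ hwN))
      exact fun w w' => Subtype.ext (Subtype.ext ((key w).trans (key w').symm))
    · show (g : G) * 1 * (g : G)⁻¹ = 1
      rw [mul_one, mul_inv_cancel]
  have hmod := P.isPGroup'.card_modEq_card_fixedPoints N
  rw [hfix, Nat.ModEq, Nat.one_mod_eq_one.2 hpp.ne_one] at hmod
  obtain ⟨u, hu⟩ : ∃ u, Nat.card N = u * p + 1 :=
    ⟨Nat.card N / p, by have := Nat.div_add_mod (Nat.card N) p; rw [hmod] at this; linarith⟩
  obtain ⟨s, hs⟩ : Nat.card N ∣ e * (k * p + 1) := by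
    refine Nat.Coprime.dvd_of_dvd_mul_left ?_ (hG ▸ Subgroup.card_subgroup_dvd_card N)
    rw [hP] at hcop
    exact hcop.symm
  have hs1 : 1 ≤ s := by
    rcases Nat.eq_zero_or_pos s with h | h
    · rw [h, mul_zero] at hs
      rcases Nat.mul_eq_zero.1 hs with h' | h' <;> omega
    · exact h
  have hp3 : 3 ≤ p := by have := hpp.two_le; omega
  have hdiv := divisor_plus (p := (p : ℤ)) (e := e) (t := t) (k := k) (u := u) (s := s)
    (by exact_mod_cast hp3) (by exact_mod_cast ht) (by omega) (by exact_mod_cast hk)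
    (by exact_mod_cast hkle) (Int.natCast_nonneg u) (by exact_mod_cast hs1)
    (by rw [hu] at hs; exact_mod_cast hs.symm)
  have hu0 : u ≠ 0 := by
    rintro rfl
    rw [zero_mul, zero_add] at hu
    exact hNb (Subgroup.card_eq_one.1 hu)
  obtain rfl : u = k := by
    rcases hdiv with h | h
    · exact absurd (by exact_mod_cast h) hu0
    · exact_mod_cast h
  -- the quotient has a normal Sylow subgroup
  haveI := hN
  have hQc : Nat.card (G ⧸ N) = p ^ 1 * e := by
    have h := Subgroup.card_eq_card_quotient_mul_card_subgroup N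
    rw [hG, hu, ← mul_assoc] at h
    rw [pow_one]
    exact (Nat.eq_of_mul_eq_mul_right (by omega) h).symm
  have hpe : ¬ p ∣ e := fun h => by have := Nat.le_of_dvd (by omega) h; omega
  obtain ⟨h1, h2⟩ := sylow_facts (G := G ⧸ N) 1 e hQc hpe
  have h3 := Nat.le_of_dvd (by omega) h1
  rw [Nat.mod_eq_of_lt (by omega)] at h2
  haveI : Subsingleton (Sylow p (G ⧸ N)) := (Nat.card_eq_one_iff_unique.1 h2).1
  have hsurj := QuotientGroup.mk'_surjective N
  have hn := Sylow.normal_of_subsingleton (P.mapSurjective hsurj)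
  rw [Sylow.coe_mapSurjective] at hn
  have hM := hn.comap (QuotientGroup.mk' N)
  rw [Subgroup.comap_map_eq, QuotientGroup.ker_mk'] at hM
  have htop := hfull _ hM le_sup_left
  have h4 : Nat.card ((P : Subgroup G).map (QuotientGroup.mk' N)) ≤ p :=
    le_trans (Nat.le_of_dvd Nat.card_pos (Subgroup.card_map_dvd _ _)) hP.le
  have h5 : (P : Subgroup G).map (QuotientGroup.mk' N) = ⊤ := by
    refine Subgroup.comap_injective hsurj ?_
    rw [Subgroup.comap_map_eq, QuotientGroup.ker_mk', htop, Subgroup.comap_top]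
  rw [h5, Subgroup.card_top, hQc, pow_one] at h4
  have := Nat.mul_le_mul_left p he
  omega

/-- The degrees in the principal block. -/
theorem few_degrees [IsSimpleGroup G] (hnc : ¬ IsCyclic G) {P : Sylow p G} {e t k : ℕ}
    (S : Shape P e) (he : 2 ≤ e) (het : p = e * t + 1)
    (hG : Nat.card G = p * (e * (k * p + 1))) (hk : 1 ≤ k) (hkle : 2 * k ≤ p + 1) :
    (∀ χ ∈ S.Z, χ ≠ one' G → (χ ∈ S.X ∨ t = 1) →
      (S.σ χ = 1 ∧ charDegree (χ : G → ℂ) = k * p + 1) ∨
        (S.σ χ = -1 ∧ charDegree (χ : G → ℂ) = p - 1)) ∧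
    (2 ≤ t → (S.σ S.θ = -1 ∧ charDegree (S.θ : G → ℂ) = e) ∨
      (S.σ S.θ = 1 ∧ t * charDegree (S.θ : G → ℂ) = k * p + 1)) := by
  classical
  have hpp : p.Prime := hp.out
  have ht : 1 ≤ t := by
    rcases Nat.eq_zero_or_pos t with h | h
    · rw [h, mul_zero] at het; exact absurd het hpp.ne_one
    · exact h
  have hp3 : 3 ≤ p := by have := Nat.le_mul_of_pos_right e ht; omega
  have hp3z : (3 : ℤ) ≤ p := by exact_mod_cast hp3
  have hetz : (e : ℤ) * t = (p : ℤ) - 1 := by
    have : (p : ℤ) = (e : ℤ) * t + 1 := by exact_mod_cast het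
    linarith
  have hkz : (1 : ℤ) ≤ k := by exact_mod_cast hk
  have hklez : 2 * (k : ℤ) ≤ p + 1 := by exact_mod_cast hkle
  have htz : (1 : ℤ) ≤ t := by exact_mod_cast ht
  have hsq : ∀ χ : IrrCharacter G, charDegree (χ : G → ℂ) ^ 2 ≤ Nat.card G := fun χ => by
    have h := Char.sum_sq_degree (G := G)
    simp only [Block.apply_one_eq_charDegree] at h
    have h' : ∑ χ : IrrCharacter G, charDegree (χ : G → ℂ) ^ 2 = Nat.card G := by exact_mod_cast h
    rw [← h']
    exact Finset.single_le_sum (f := fun χ : IrrCharacter G => charDegree (χ : G → ℂ) ^ 2)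
      (fun _ _ => Nat.zero_le _) (Finset.mem_univ χ)
  have hlarge : ∀ d : ℕ, d = e * (k * p + 1) → ¬ d ^ 2 ≤ Nat.card G := fun d hd h => by
    rw [hG, ← hd, pow_two] at h
    have h1 : d ≤ p := Nat.le_of_mul_le_mul_right h (by rw [hd]; exact Nat.mul_pos (by omega) (by omega))
    have h2 : p < d := by
      rw [hd]
      have := Nat.le_mul_of_pos_left p hk
      have := Nat.le_mul_of_pos_left (k * p + 1) (show 0 < e by omega)
      omega
    omega
  have hcof : ∀ χ ∈ S.Z, ∃ s : ℕ, 1 ≤ s ∧ charDegree (χ : G → ℂ) * s = e * (k * p + 1) := by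
    intro χ hχ
    obtain ⟨s, hs⟩ := S.deg_dvd hG hχ
    refine ⟨s, ?_, hs.symm⟩
    rcases Nat.eq_zero_or_pos s with h | h
    · rw [h, mul_zero] at hs
      rcases Nat.mul_eq_zero.1 hs with h' | h' <;> omega
    · exact h
  refine ⟨fun χ hχ hne hor => ?_, fun ht2 => ?_⟩
  · have hcg : S.σ χ * (charDegree (χ : G → ℂ) : ℤ) ≡ 1 [ZMOD p] := by
      rcases hor with h | h
      · exact S.cong χ h
      · exact S.cong_all (by rw [h, mul_one] at het; omega) hχ
    have hd2 := two_le_charDegree hnc hne
    obtain ⟨s, hs1, hs⟩ := hcof χ hχ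
    set d := charDegree (χ : G → ℂ) with hddef
    have hsz : (d : ℤ) * s = (e : ℤ) * ((k : ℤ) * p + 1) := by exact_mod_cast hs
    rcases S.sign χ hχ with hσ | hσ <;> rw [hσ] at hcg ⊢
    · left
      refine ⟨rfl, ?_⟩
      obtain ⟨u, hu⟩ := Int.modEq_iff_dvd.1 hcg.symm
      have hdu : (d : ℤ) = u * p + 1 := by linarith
      have hu0 : 0 ≤ u := by
        by_contra hcon
        have : u * (p : ℤ) ≤ -1 * p := mul_le_mul_of_nonneg_right (by omega) (by omega)
        omega
      rw [hdu] at hsz
      rcases divisor_plus hp3z htz hetz hkz hklez hu0 (by exact_mod_cast hs1) hsz with h | h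
      · rw [h, zero_mul, zero_add] at hdu; omega
      · rw [h] at hdu; exact_mod_cast hdu
    · right
      refine ⟨rfl, ?_⟩
      obtain ⟨u, hu⟩ := Int.modEq_iff_dvd.1 hcg
      have hdu : (d : ℤ) = u * p - 1 := by linarith
      have hu1 : 1 ≤ u := by
        by_contra hcon
        have : u * (p : ℤ) ≤ 0 := mul_nonpos_of_nonpos_of_nonneg (by omega) (by omega)
        omega
      rw [hdu] at hsz
      rcases divisor_minus hp3z htz hetz hkz hklez hu1 (by exact_mod_cast hs1) hsz with h | ⟨-, h⟩
      · rw [h, one_mul] at hdu; omega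
      · exfalso
        have : s = 1 := by exact_mod_cast h
        rw [this, mul_one] at hs
        exact hlarge _ hs (hsq χ)
  · have hθZ : S.θ ∈ S.Z := S.mem_Z.2 (Or.inl rfl)
    obtain ⟨s, hs1, hs⟩ := hcof S.θ hθZ
    set f := charDegree (S.θ : G → ℂ) with hfdef
    have hsz : (f : ℤ) * s = (e : ℤ) * ((k : ℤ) * p + 1) := by exact_mod_cast hs
    have hsθ : (s : ℤ) ≡ -(S.σ S.θ) [ZMOD p] := by
      obtain ⟨j, hj⟩ := Int.modEq_iff_dvd.1 S.congθ
      rw [← hfdef] at hj
      have hne : ¬ (p : ℤ) ∣ (e : ℤ) := fun h => by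
        have := Nat.le_of_dvd (by omega) (Int.natCast_dvd_natCast.1 h)
        have := S.e_lt
        omega
      have hd : (p : ℤ) ∣ (e : ℤ) * (-(S.σ S.θ) - s) := by
        refine ⟨s * j + S.σ S.θ * ((e : ℤ) * k), ?_⟩
        rcases S.sign S.θ hθZ with hσ | hσ <;> rw [hσ] at hj ⊢
        · linear_combination (s : ℤ) * hj + hsz
        · linear_combination (s : ℤ) * hj - hsz
      exact Int.modEq_iff_dvd.2 (((Nat.prime_iff_prime_int.1 hpp).dvd_or_dvd hd).resolve_left hne)
    rcases S.sign S.θ hθZ with hσ | hσ <;> rw [hσ] at hsθ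
    · right
      refine ⟨hσ, ?_⟩
      obtain ⟨u, hu⟩ := Int.modEq_iff_dvd.1 hsθ.symm
      have hsu : (s : ℤ) = u * p - 1 := by linarith
      have hu1 : 1 ≤ u := by
        by_contra hcon
        have : u * (p : ℤ) ≤ 0 := mul_nonpos_of_nonpos_of_nonneg (by omega) (by omega)
        omega
      rw [hsu, mul_comm] at hsz
      rcases divisor_minus hp3z htz hetz hkz hklez hu1
        (by exact_mod_cast (Nat.one_le_iff_ne_zero.2 fun h => by
          rw [h, zero_mul] at hs
          rcases Nat.mul_eq_zero.1 hs.symm with h' | h' <;> omega)) hsz with h | ⟨h, -⟩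
      · rw [h, one_mul] at hsz
        have : ((t * f : ℕ) : ℤ) = ((k * p + 1 : ℕ) : ℤ) := by
          push_cast
          refine mul_left_cancel₀ (show (e : ℤ) ≠ 0 by omega) ?_
          linear_combination hsz + (f : ℤ) * hetz
        exact_mod_cast this
      · omega
    · left
      refine ⟨hσ, ?_⟩
      obtain ⟨u, hu⟩ := Int.modEq_iff_dvd.1 hsθ.symm
      have hsu : (s : ℤ) = u * p + 1 := by linarith
      have hu0 : 0 ≤ u := by
        by_contra hcon
        have : u * (p : ℤ) ≤ -1 * p := mul_le_mul_of_nonneg_right (by omega) (by omega)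
        omega
      rw [hsu, mul_comm] at hsz
      have hf1 : 1 ≤ f := Block.charDegree_pos S.θ
      rcases divisor_plus hp3z htz hetz hkz hklez hu0 (by exact_mod_cast hf1) hsz with h | h
      · exfalso
        rw [h, zero_mul, zero_add] at hsu
        have : s = 1 := by exact_mod_cast hsu
        rw [this, mul_one] at hs
        exact hlarge _ hs (hsq S.θ)
      · rw [h] at hsz
        have : (f : ℤ) = e := by
          refine mul_left_cancel₀ (show (k : ℤ) * p + 1 ≠ 0 by positivity) ?_
          linear_combination hsz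
        exact_mod_cast this

end Cfsg.Lib.Small
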