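import Cfsg.Agent.Lib.Small.FewSylow

/-!
# Self-centralizing subgroups of prime order with few conjugates: values

A `Layout` abstracts the principal block in the three shapes that occur: the characters in `A` have
`wt • deg = k p + 1`, those in `B` have `wt • deg = p - 1` and vanish on the complement.

* `Layout.count_involution`: with `e` even the centralizer of the involution has order `e w`,
  `w (w - 1) = k t`;
* `Layout.vanish`: the members of `A` vanish off `P` and the complement;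
* `Layout.average`: the centralizer orders on the complement;
* `Layout.small_bound`: bound from a member of `B` of degree `e`.
-/

set_option autoImplicit false
set_option linter.unusedSectionVars false
set_option linter.style.haveILetI false

namespace Cfsg.Lib.Small

open Cfsg Cfsg.Lib
open scoped ComplexConjugate

universe u

variable {G : Type u} [Group G] [Fintype G] {p : ℕ} [hp : Fact p.Prime]

noncomputable local instance (priority := high) fintypeSubgroupFewSylowLayout {A : Type u}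
    [Group A] [Fintype A] (H : Subgroup A) : Fintype H := Fintype.ofFinite H

/-- A generator of a complement in the normalizer, with eigenvalues on the fixed spaces. -/
structure Frame (P : Sylow p G) (e : ℕ) where
  g : G
  mem : g ∈ Subgroup.normalizer ((P : Subgroup G) : Set G)
  ord : orderOf g = e
  free : ∀ s : ℕ, ¬ e ∣ s → g ^ s ∉ (P : Subgroup G)
  dim : IrrCharacter G → ℕ
  μ : (χ : IrrCharacter G) → Fin (dim χ) → ℂ
  μ_pow : ∀ χ j, μ χ j ^ e = 1
  dim_eq : ∀ χ, (p : ℂ) * dim χ = ∑ x : (P : Subgroup G), (χ : G → ℂ) x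
  value : ∀ χ : IrrCharacter G, ∀ s : ℕ, ¬ e ∣ s → (χ : G → ℂ) (g ^ s) = ∑ j, μ χ j ^ s

theorem exists_few_frame (P : Sylow p G) (hP : Nat.card (P : Subgroup G) = p)
    (hCP : Subgroup.centralizer ((P : Subgroup G) : Set G) = (P : Subgroup G)) {e : ℕ}
    (he : (Subgroup.centralizer ((P : Subgroup G) : Set G)).relIndex
      (Subgroup.normalizer ((P : Subgroup G) : Set G)) = e) (he1 : e ≠ 0) (hep : e < p) :
    Nonempty (Frame P e) := by
  classical
  have hpp : p.Prime := hp.out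
  set N := Subgroup.normalizer ((P : Subgroup G) : Set G) with hN
  have hle : (P : Subgroup G) ≤ N := Subgroup.le_normalizer
  set Q := (P : Subgroup G).subgroupOf N with hQ
  haveI : Q.Normal := Subgroup.normal_in_normalizer
  have hQc : Nat.card Q = p := by
    rw [hQ, Nat.card_congr (Subgroup.subgroupOfEquivOfLe hle).toEquiv, hP]
  have hQi : Q.index = e := by
    rw [hCP] at he
    exact he
  obtain ⟨H, hH⟩ := Subgroup.exists_right_complement'_of_coprime (N := Q) (by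
    rw [hQc, hQi]
    exact (Nat.coprime_of_lt_prime he1 hep hpp))
  have hHc : Nat.card H = e := hH.symm.index_eq_card.symm.trans hQi
  have hHP : ∀ a ∈ H, (a : G) ∈ (P : Subgroup G) → a = 1 := fun a ha haP => by
    have : a ∈ Q ⊓ H := ⟨Subgroup.mem_subgroupOf.2 haP, ha⟩
    rw [hH.disjoint.eq_bot] at this
    exact Subgroup.mem_bot.1 this
  haveI : Fact (Nat.card (P : Subgroup G)).Prime := ⟨hP.symm ▸ hpp⟩
  haveI : IsCyclic (P : Subgroup G) := isCyclic_of_prime_card hP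
  let φ : H →* (ZMod (Nat.card (P : Subgroup G)))ˣ :=
    ((IsCyclic.mulAutMulEquiv (P : Subgroup G)).toMonoidHom.comp
      (P : Subgroup G).normalizerMonoidHom).comp H.subtype
  have hinj : Function.Injective φ := by
    rw [← MonoidHom.ker_eq_bot_iff, Subgroup.eq_bot_iff_forall]
    rintro ⟨a, ha⟩ hk
    have h1 : a ∈ (P : Subgroup G).normalizerMonoidHom.ker :=
      MonoidHom.mem_ker.2 ((IsCyclic.mulAutMulEquiv (P : Subgroup G)).injective
        ((MonoidHom.mem_ker.1 hk).trans (map_one _).symm))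
    rw [Subgroup.normalizerMonoidHom_ker, Subgroup.mem_subgroupOf, hCP] at h1
    exact Subtype.ext (hHP a ha h1)
  haveI : IsCyclic H := isCyclic_of_injective φ hinj
  obtain ⟨⟨⟨g, hgN⟩, hgH⟩, hgen⟩ := IsCyclic.exists_ofOrder_eq_natCard (α := H)
  rw [Subgroup.orderOf_mk, Subgroup.orderOf_mk, hHc] at hgen
  have hfree : ∀ s : ℕ, ¬ e ∣ s → g ^ s ∉ (P : Subgroup G) := fun s hs hmem => by
    refine hs (hgen ▸ orderOf_dvd_of_pow_eq_one ?_)
    exact congrArg Subtype.val (hHP (⟨g, hgN⟩ ^ s) (pow_mem hgH s) hmem)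
  choose dim μ hμ hdim hval using fun χ => fixed_eigen hP hCP hgN χ
  exact ⟨⟨g, hgN, hgen, hfree, dim, μ, fun χ j => by rw [← hgen]; exact hμ χ j, hdim,
    fun χ s hs => hval χ s (hfree s hs)⟩⟩

namespace Frame

variable {P : Sylow p G} {e : ℕ} (F : Frame P e)

/-- The trace on the fixed space. -/
noncomputable def v (χ : IrrCharacter G) (s : ℕ) : ℂ := ∑ j, F.μ χ j ^ s

theorem v_zero (χ : IrrCharacter G) : F.v χ 0 = (F.dim χ : ℂ) := by simp [v]

theorem norm_v_le (he : e ≠ 0) (χ : IrrCharacter G) (s : ℕ) : ‖F.v χ s‖ ≤ F.dim χ := by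
  refine (norm_sum_le _ _).trans (le_of_eq ?_)
  simp [fun j => Complex.norm_eq_one_of_pow_eq_one (F.μ_pow χ j) he]

theorem regular (he : e ≠ 0) (hep : e < p) (s : ℕ) : ¬ p ∣ orderOf (F.g ^ s) := fun h => by
  have h1 : p ∣ e := F.ord ▸ h.trans (orderOf_pow_dvd s)
  have := Nat.le_of_dvd (Nat.pos_of_ne_zero he) h1
  omega

theorem pair_sum (he : e ≠ 0) (χ χ' : IrrCharacter G) :
    ∃ N : ℕ, (χ = χ' → F.dim χ ≤ N) ∧
      ∑ s ∈ Finset.range e, F.v χ s * conj (F.v χ' s) = ((e * N : ℕ) : ℂ) := by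
  classical
  refine ⟨∑ l, (Finset.univ.filter fun j => F.μ χ j = F.μ χ' l).card, ?_, ?_⟩
  · rintro rfl
    calc F.dim χ = ∑ _l : Fin (F.dim χ), 1 := by simp
      _ ≤ _ := Finset.sum_le_sum fun l _ =>
        (Finset.card_pos.2 ⟨l, Finset.mem_filter.2 ⟨Finset.mem_univ l, rfl⟩⟩ :
          0 < (Finset.univ.filter fun j => F.μ χ j = F.μ χ l).card)
  have hconj : ∀ l, conj (F.μ χ' l) = (F.μ χ' l)⁻¹ := fun l =>
    (Complex.inv_eq_conj (Complex.norm_eq_one_of_pow_eq_one (F.μ_pow χ' l) he)).symm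
  simp only [v, map_sum, map_pow, hconj, Finset.mul_sum]
  rw [Finset.sum_comm]
  push_cast
  refine Finset.sum_congr rfl fun l _ => ?_
  rw [← sum_pow_inv_mul (F.μ χ) (F.μ_pow χ) (F.μ_pow χ' l)]
  exact Finset.sum_congr rfl fun s _ => mul_comm _ _

theorem trivial_sum (χ : IrrCharacter G) :
    ∃ N : ℕ, ∑ s ∈ Finset.range e, F.v χ s = ((e * N : ℕ) : ℂ) := by
  classical
  refine ⟨(Finset.univ.filter fun j => F.μ χ j = 1).card, ?_⟩
  push_cast
  rw [← sum_pow_inv_mul (F.μ χ) (F.μ_pow χ) (one_pow e)]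
  exact Finset.sum_congr rfl fun s _ => by rw [inv_one, one_pow, one_mul]; rfl

end Frame

/-- A value functional that only depends on the restriction to the `p`-regular elements. -/
def RegularInvariant (p : ℕ) (Φ : IrrCharacter G → ℂ) : Prop :=
  ∀ χ χ' : IrrCharacter G, (∀ g : G, ¬ p ∣ orderOf g → (χ : G → ℂ) g = (χ' : G → ℂ) g) → Φ χ = Φ χ'

/-- The principal block, abstractly. -/
structure Layout (G : Type u) [Group G] [Fintype G] (p : ℕ) [Fact p.Prime] where
  P : Sylow p G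
  e : ℕ
  t : ℕ
  k : ℕ
  S : Shape P e
  F : Frame P e
  two_le_e : 2 ≤ e
  p_eq : p = e * t + 1
  one_le_k : 1 ≤ k
  card_G : Nat.card G = p * (e * (k * p + 1))
  card_C : Nat.card (Subgroup.centralizer ((P : Subgroup G) : Set G)) = p
  A : Finset (IrrCharacter G)
  B : Finset (IrrCharacter G)
  R : Finset (IrrCharacter G)
  wt : IrrCharacter G → ℕ
  split : ∀ Φ : IrrCharacter G → ℂ, RegularInvariant p Φ →
    ∑ χ, Φ χ = Φ (one' G) + ∑ χ ∈ A, (wt χ : ℂ) * Φ χ + ∑ χ ∈ B, (wt χ : ℂ) * Φ χ + ∑ χ ∈ R, Φ χ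
  zsum : ∀ Φ : IrrCharacter G → ℂ, RegularInvariant p Φ →
    ∑ χ ∈ S.Z, (S.σ χ : ℂ) * Φ χ = Φ (one' G) + ∑ χ ∈ A, Φ χ - ∑ χ ∈ B, Φ χ
  A_deg : ∀ χ ∈ A, wt χ * charDegree (χ : G → ℂ) = k * p + 1
  A_dim : ∀ χ ∈ A, wt χ * F.dim χ = k + 1
  B_deg : ∀ χ ∈ B, wt χ * charDegree (χ : G → ℂ) = p - 1
  B_zero : ∀ χ ∈ B, ∀ s : ℕ, ¬ e ∣ s → (χ : G → ℂ) (F.g ^ s) = 0
  R_zero : ∀ χ ∈ R, ∀ x ∈ (P : Subgroup G), x ≠ 1 → (χ : G → ℂ) x = 0
  sum_dim : ∑ χ ∈ A, F.dim χ + 1 = e

namespace Layout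

variable (L : Layout G p)

theorem t_pos : 1 ≤ L.t := by
  rcases Nat.eq_zero_or_pos L.t with h | h
  · have := L.p_eq; rw [h, mul_zero] at this; exact absurd this hp.out.ne_one
  · exact h

theorem e_lt : L.e < p := by
  have := Nat.le_mul_of_pos_right L.e L.t_pos
  have := L.p_eq
  omega

theorem e_ne : L.e ≠ 0 := by have := L.two_le_e; omega

theorem regular (s : ℕ) : ¬ p ∣ orderOf (L.F.g ^ s) := L.F.regular L.e_ne L.e_lt s

include L in
theorem regular_one : ¬ p ∣ orderOf (1 : G) := by rw [orderOf_one]; exact hp.out.not_dvd_one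

theorem p_cast : (p : ℂ) = (L.e : ℂ) * L.t + 1 := by
  exact_mod_cast L.p_eq

theorem p_ne : (p : ℂ) ≠ 0 := Nat.cast_ne_zero.2 hp.out.ne_zero

theorem p_sub : ((p - 1 : ℕ) : ℂ) = (p : ℂ) - 1 := by
  rw [Nat.cast_sub hp.out.one_le, Nat.cast_one]

theorem dim_cast : ∑ χ ∈ L.A, (L.F.dim χ : ℂ) = (L.e : ℂ) - 1 := by
  rw [eq_sub_iff_add_eq, ← Nat.cast_sum]
  exact_mod_cast L.sum_dim

theorem A_dim_cast {χ : IrrCharacter G} (h : χ ∈ L.A) :
    (L.wt χ : ℂ) * (L.F.dim χ : ℂ) = (L.k : ℂ) + 1 := by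
  exact_mod_cast L.A_dim χ h

theorem A_one {χ : IrrCharacter G} (h : χ ∈ L.A) :
    (L.wt χ : ℂ) * (χ : G → ℂ) 1 = (L.k : ℂ) * p + 1 := by
  rw [Block.apply_one_eq_charDegree]
  exact_mod_cast L.A_deg χ h

theorem B_one {χ : IrrCharacter G} (h : χ ∈ L.B) :
    (L.wt χ : ℂ) * (χ : G → ℂ) 1 = (p : ℂ) - 1 := by
  rw [Block.apply_one_eq_charDegree, ← Nat.cast_mul, L.B_deg χ h, p_sub]

theorem wt_pos {χ : IrrCharacter G} (h : χ ∈ L.A) : 0 < L.wt χ := by
  rcases Nat.eq_zero_or_pos (L.wt χ) with h' | h'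
  · have := L.A_dim χ h; rw [h', zero_mul] at this; omega
  · exact h'

theorem dim_pos {χ : IrrCharacter G} (h : χ ∈ L.A) : 0 < L.F.dim χ := by
  rcases Nat.eq_zero_or_pos (L.F.dim χ) with h' | h'
  · have := L.A_dim χ h; rw [h', mul_zero] at this; omega
  · exact h'

theorem deg_dim {χ : IrrCharacter G} (h : χ ∈ L.A) :
    (χ : G → ℂ) 1 * ((L.k : ℂ) + 1) = ((L.k : ℂ) * p + 1) * L.F.dim χ := by
  rw [← L.A_dim_cast h, ← L.A_one h]; ring

/-- The relation in the block. -/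
theorem relation {g : G} (hg : ¬ p ∣ orderOf g) :
    1 + ∑ χ ∈ L.A, (χ : G → ℂ) g - ∑ χ ∈ L.B, (χ : G → ℂ) g = 0 := by
  have h := L.zsum (fun χ => (χ : G → ℂ) g) (fun _ _ h => h g hg)
  rw [L.S.rel g hg, one'_apply] at h
  exact h.symm

theorem rel_pow {s : ℕ} (hs : ¬ L.e ∣ s) : ∑ χ ∈ L.A, L.F.v χ s = -1 := by
  have h := L.relation (L.regular s)
  rw [Finset.sum_eq_zero (fun χ h => L.B_zero χ h s hs), sub_zero,
    Finset.sum_congr rfl (fun χ _ => L.F.value χ s hs)] at h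
  show ∑ χ ∈ L.A, ∑ j, L.F.μ χ j ^ s = -1
  linear_combination h

theorem sum_A_v {s : ℕ} (hs : s ∈ Finset.range L.e) :
    ∑ χ ∈ L.A, L.F.v χ s = (if s = 0 then (L.e : ℂ) else 0) - 1 := by
  by_cases h0 : s = 0
  · subst h0
    rw [if_pos rfl, Finset.sum_congr rfl fun χ _ => L.F.v_zero χ, L.dim_cast]
  · rw [if_neg h0, L.rel_pow, zero_sub]
    intro hd
    have := Nat.le_of_dvd (Nat.pos_of_ne_zero h0) hd
    rw [Finset.mem_range] at hs
    omega

/-- No trivial constituent on the fixed spaces. -/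
theorem sum_range_v {χ : IrrCharacter G} (h : χ ∈ L.A) :
    ∑ s ∈ Finset.range L.e, L.F.v χ s = 0 := by
  choose N hN using L.F.trivial_sum
  have h1 : ∑ ψ ∈ L.A, ((L.e * N ψ : ℕ) : ℂ) = 0 := by
    rw [Finset.sum_congr rfl fun ψ _ => (hN ψ).symm, Finset.sum_comm,
      Finset.sum_congr rfl fun s hs => L.sum_A_v hs, Finset.sum_sub_distrib, Finset.sum_ite_eq',
      if_pos (Finset.mem_range.2 (Nat.pos_of_ne_zero L.e_ne)), Finset.sum_const, Finset.card_range,
      nsmul_eq_mul, mul_one, sub_self]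
  rw [← Nat.cast_sum, Nat.cast_eq_zero, Finset.sum_eq_zero_iff] at h1
  rw [hN χ, h1 χ h, Nat.cast_zero]

/-- The fixed spaces are multiplicity free and pairwise disjoint. -/
theorem orthonormal {χ χ' : IrrCharacter G} [Decidable (χ = χ')] (h : χ ∈ L.A) (h' : χ' ∈ L.A) :
    ∑ s ∈ Finset.range L.e, L.F.v χ s * conj (L.F.v χ' s) =
      if χ = χ' then ((L.e : ℂ) * L.F.dim χ) else 0 := by
  classical
  choose N hNd hN using L.F.pair_sum L.e_ne
  have htot : ∑ a ∈ L.A, ∑ b ∈ L.A, L.e * N a b = L.e * (∑ a ∈ L.A, L.F.dim a) := by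
    have h2 : ((∑ a ∈ L.A, ∑ b ∈ L.A, L.e * N a b : ℕ) : ℂ) =
        ((L.e * (∑ a ∈ L.A, L.F.dim a) : ℕ) : ℂ) := by
      rw [Nat.cast_sum, Finset.sum_congr rfl fun a _ => Nat.cast_sum _ _,
        Finset.sum_congr rfl fun a _ => Finset.sum_congr rfl fun b _ => (hN a b).symm]
      rw [Finset.sum_congr rfl fun a _ => Finset.sum_comm, Finset.sum_comm]
      rw [Finset.sum_congr rfl (g := fun s => (if s = 0 then (L.e : ℂ) * L.e - 2 * L.e else 0) + 1)
        fun s hs => by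
          rw [Finset.sum_congr rfl fun a _ => (Finset.mul_sum _ _ _).symm, ← Finset.sum_mul,
            ← map_sum, L.sum_A_v hs]
          split_ifs
          · rw [map_sub, map_natCast, map_one]; ring
          · simp,
        Finset.sum_add_distrib, Finset.sum_ite_eq',
        if_pos (Finset.mem_range.2 (Nat.pos_of_ne_zero L.e_ne)), Finset.sum_const, Finset.card_range,
        nsmul_eq_mul, mul_one]
      push_cast
      rw [L.dim_cast]
      ring
    exact_mod_cast h2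
  have hle : ∀ a ∈ L.A, L.e * L.F.dim a ≤ ∑ b ∈ L.A, L.e * N a b := fun a ha =>
    (Nat.mul_le_mul_left _ (hNd a a rfl)).trans
      (Finset.single_le_sum (f := fun b => L.e * N a b) (fun _ _ => Nat.zero_le _) ha)
  rw [Finset.mul_sum] at htot
  have heq := (Finset.sum_eq_sum_iff_of_le hle).1 htot.symm χ h
  rw [← Finset.add_sum_erase _ _ h] at heq
  have h1 : L.e * L.F.dim χ ≤ L.e * N χ χ := Nat.mul_le_mul_left _ (hNd χ χ rfl)
  rw [hN]
  split_ifs with hχ
  · subst hχ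
    rw [show L.e * N χ χ = L.e * L.F.dim χ by omega]
    push_cast; ring
  · have h2 : L.e * N χ χ' ≤ ∑ b ∈ L.A.erase χ, L.e * N χ b :=
      Finset.single_le_sum (f := fun b => L.e * N χ b) (fun _ _ => Nat.zero_le _)
        (Finset.mem_erase.2 ⟨Ne.symm hχ, h'⟩)
    rw [show L.e * N χ χ' = 0 by omega, Nat.cast_zero]

/-- The restriction to the fixed spaces separates the members of `A`. -/
theorem independent (α : IrrCharacter G → ℂ)
    (hα : ∀ s ∈ Finset.range L.e, ∑ χ ∈ L.A, α χ * L.F.v χ s = 0) {χ : IrrCharacter G}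
    (h : χ ∈ L.A) : α χ = 0 := by
  classical
  have h1 : ∑ s ∈ Finset.range L.e, (∑ ψ ∈ L.A, α ψ * L.F.v ψ s) * conj (L.F.v χ s) = 0 :=
    Finset.sum_eq_zero fun s hs => by rw [hα s hs, zero_mul]
  simp only [Finset.sum_mul, mul_assoc] at h1
  rw [Finset.sum_comm, Finset.sum_congr rfl fun ψ _ => (Finset.mul_sum _ _ _).symm,
    Finset.sum_congr rfl fun ψ hψ => by rw [L.orthonormal hψ h]] at h1
  simp only [mul_ite, mul_zero] at h1
  rw [Finset.sum_ite_eq', if_pos h] at h1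
  refine (mul_eq_zero.1 h1).resolve_right (mul_ne_zero (Nat.cast_ne_zero.2 L.e_ne) ?_)
  exact Nat.cast_ne_zero.2 (L.dim_pos h).ne'

theorem rest_one {χ : IrrCharacter G} (h : χ ∈ L.R) :
    (χ : G → ℂ) 1 = (p : ℂ) * L.F.dim χ := by
  classical
  rw [L.F.dim_eq, ← Finset.add_sum_erase _ _ (Finset.mem_univ (1 : (L.P : Subgroup G))),
    OneMemClass.coe_one, Finset.sum_eq_zero fun (x : (L.P : Subgroup G)) hx =>
      L.R_zero χ h x x.2 (fun h' => (Finset.mem_erase.1 hx).1 (Subtype.ext h')), add_zero]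

theorem rest_pos {χ : IrrCharacter G} (h : χ ∈ L.R) : 0 < L.F.dim χ :=
  Nat.pos_of_ne_zero fun h0 => χ.2.apply_one_ne_zero (by rw [L.rest_one h, h0]; simp)

theorem sum_rest_sq : ((∑ χ ∈ L.R, L.F.dim χ ^ 2 : ℕ) : ℂ) = (L.k : ℂ) := by
  have hone := L.regular_one
  have h := Char.sum_sq_degree (G := G)
  rw [L.split (fun χ => (χ : G → ℂ) 1 ^ 2) (fun χ χ' h => by simp only [h 1 hone]), one'_apply,
    Finset.sum_congr (rfl : L.A = L.A) (g := fun χ : IrrCharacter G => ((L.k : ℂ) * p + 1) * (χ : G → ℂ) 1)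
      fun χ hχ => by rw [← L.A_one hχ]; ring,
    Finset.sum_congr (rfl : L.B = L.B) (g := fun χ : IrrCharacter G => ((p : ℂ) - 1) * (χ : G → ℂ) 1)
      fun χ hχ => by rw [← L.B_one hχ]; ring,
    Finset.sum_congr (rfl : L.R = L.R) fun χ h => by rw [L.rest_one h, mul_pow],
    ← Finset.mul_sum, ← Finset.mul_sum, ← Finset.mul_sum, L.card_G] at h
  have hrel := L.relation hone
  have hA : (∑ χ ∈ L.A, (χ : G → ℂ) 1) * ((L.k : ℂ) + 1) = ((L.k : ℂ) * p + 1) * ((L.e : ℂ) - 1) := by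
    rw [Finset.sum_mul, Finset.sum_congr rfl fun χ hχ => L.deg_dim hχ, ← Finset.mul_sum, L.dim_cast]
  push_cast at h ⊢
  refine mul_left_cancel₀ (pow_ne_zero 2 (Layout.p_ne (p := p))) ?_
  linear_combination h + ((p : ℂ) - 1) * hrel - (p : ℂ) * hA

/-- Column orthogonality at two regular elements. -/
theorem orth {g h : G} [Decidable (IsConj g h)] (hg : ¬ p ∣ orderOf g) (hh : ¬ p ∣ orderOf h) :
    1 + ∑ χ ∈ L.A, (L.wt χ : ℂ) * ((χ : G → ℂ) g * conj ((χ : G → ℂ) h)) +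
        ∑ χ ∈ L.B, (L.wt χ : ℂ) * ((χ : G → ℂ) g * conj ((χ : G → ℂ) h)) +
        ∑ χ ∈ L.R, (χ : G → ℂ) g * conj ((χ : G → ℂ) h) =
      if IsConj g h then (Nat.card (Subgroup.centralizer ({g} : Set G)) : ℂ) else 0 := by
  rw [← Char.column_orthogonality g h,
    L.split _ (fun χ χ' h' => by rw [h' g hg, h' h hh])]
  simp only [one'_apply, map_one, mul_one]

/-- Column orthogonality against the identity. -/
theorem orth_one {g : G} (hg : ¬ p ∣ orderOf g) (hg1 : g ≠ 1) :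
    1 + ((L.k : ℂ) * p + 1) * ∑ χ ∈ L.A, (χ : G → ℂ) g + ((p : ℂ) - 1) * ∑ χ ∈ L.B, (χ : G → ℂ) g +
      (p : ℂ) * ∑ χ ∈ L.R, (L.F.dim χ : ℂ) * (χ : G → ℂ) g = 0 := by
  classical
  have h := L.orth hg L.regular_one
  rw [if_neg (fun h' => hg1 (isConj_one_left.1 h'))] at h
  have hconj : ∀ χ : IrrCharacter G, conj ((χ : G → ℂ) 1) = (χ : G → ℂ) 1 := fun χ => by
    rw [Block.apply_one_eq_charDegree, map_natCast]
  simp only [hconj] at h
  rw [Finset.sum_congr (rfl : L.A = L.A) (g := fun χ : IrrCharacter G => ((L.k : ℂ) * p + 1) * (χ : G → ℂ) g)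
      fun χ hχ => by rw [← L.A_one hχ]; ring,
    Finset.sum_congr (rfl : L.B = L.B) (g := fun χ : IrrCharacter G => ((p : ℂ) - 1) * (χ : G → ℂ) g)
      fun χ hχ => by rw [← L.B_one hχ]; ring,
    Finset.sum_congr (rfl : L.R = L.R)
      (g := fun χ : IrrCharacter G => (p : ℂ) * ((L.F.dim χ : ℂ) * (χ : G → ℂ) g))
      fun χ hχ => by rw [L.rest_one hχ]; ring,
    ← Finset.mul_sum, ← Finset.mul_sum, ← Finset.mul_sum] at h
  exact h

/-- The characters outside the block are constant on the complement. -/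
theorem rest_value {s : ℕ} (hs : ¬ L.e ∣ s) {χ : IrrCharacter G} (hχ : χ ∈ L.R) :
    (χ : G → ℂ) (L.F.g ^ s) = (L.F.dim χ : ℂ) := by
  refine eq_of_sum_extremal L.R L.F.dim (fun χ => (χ : G → ℂ) (L.F.g ^ s))
    (fun χ hχ => L.rest_pos hχ) (fun χ _ => by
      rw [L.F.value χ s hs]; exact L.F.norm_v_le L.e_ne χ s) ?_ χ hχ
  rw [L.sum_rest_sq]
  have h := L.orth_one (L.regular s) (fun h => L.F.free s hs (by rw [h]; exact one_mem _))
  rw [Finset.sum_eq_zero (s := L.B) (fun χ hχ => L.B_zero χ hχ s hs),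
    Finset.sum_congr (rfl : L.A = L.A) (fun χ _ => L.F.value χ s hs),
    show ∑ χ ∈ L.A, ∑ j, L.F.μ χ j ^ s = -1 from L.rel_pow hs] at h
  refine mul_left_cancel₀ (Layout.p_ne (p := p)) ?_
  linear_combination h

theorem card_centralizer_pow {s : ℕ} (hs : ¬ L.e ∣ s) :
    (Nat.card (Subgroup.centralizer ({L.F.g ^ s} : Set G)) : ℂ) =
      (L.k : ℂ) + 1 + ∑ χ ∈ L.A, (L.wt χ : ℂ) * (L.F.v χ s * conj (L.F.v χ s)) := by
  classical
  have h := L.orth (L.regular s) (L.regular s) (g := L.F.g ^ s) (h := L.F.g ^ s)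
  rw [if_pos (IsConj.refl _),
    Finset.sum_congr (rfl : L.A = L.A) (g := fun χ => (L.wt χ : ℂ) * (L.F.v χ s * conj (L.F.v χ s)))
      fun χ _ => by rw [L.F.value χ s hs]; rfl,
    Finset.sum_eq_zero (s := L.B) (fun χ hχ => by rw [L.B_zero χ hχ s hs, zero_mul, mul_zero]),
    Finset.sum_congr (rfl : L.R = L.R) (g := fun χ => ((L.F.dim χ ^ 2 : ℕ) : ℂ))
      fun χ hχ => by rw [L.rest_value hs hχ, map_natCast]; push_cast; ring,
    ← Nat.cast_sum, L.sum_rest_sq] at h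
  linear_combination -h

theorem dvd_card_centralizer (s : ℕ) :
    L.e ∣ Nat.card (Subgroup.centralizer ({L.F.g ^ s} : Set G)) := by
  have h := Subgroup.card_dvd_of_le (Subgroup.zpowers_le.2
    (Subgroup.mem_centralizer_singleton_iff.2 (Commute.self_pow L.F.g s)))
  rwa [Nat.card_zpowers, L.F.ord] at h

theorem not_dvd_of_mem {s : ℕ} (hs : s ∈ (Finset.range L.e).erase 0) : ¬ L.e ∣ s := fun hd => by
  obtain ⟨h0, h1⟩ := Finset.mem_erase.1 hs
  rw [Finset.mem_range] at h1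
  have := Nat.le_of_dvd (Nat.pos_of_ne_zero h0) hd
  omega

theorem zero_mem : (0 : ℕ) ∈ Finset.range L.e :=
  Finset.mem_range.2 (Nat.pos_of_ne_zero L.e_ne)

/-- The centralizer orders on the complement. -/
theorem average : ∑ s ∈ (Finset.range L.e).erase 0,
    Nat.card (Subgroup.centralizer ({L.F.g ^ s} : Set G)) = (L.k + 1) * L.A.card * L.e := by
  classical
  have h : ((∑ s ∈ (Finset.range L.e).erase 0,
      Nat.card (Subgroup.centralizer ({L.F.g ^ s} : Set G)) : ℕ) : ℂ) =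
      (((L.k + 1) * L.A.card * L.e : ℕ) : ℂ) := by
    rw [Nat.cast_sum, Finset.sum_congr rfl fun s hs => L.card_centralizer_pow (L.not_dvd_of_mem hs),
      Finset.sum_add_distrib, Finset.sum_const, Finset.card_erase_of_mem L.zero_mem, Finset.card_range,
      nsmul_eq_mul, Finset.sum_comm,
      Finset.sum_congr (rfl : L.A = L.A)
        (g := fun χ => ((L.k : ℂ) + 1) * ((L.e : ℂ) - (L.F.dim χ : ℂ))) fun χ hχ => by
        rw [← Finset.mul_sum, Finset.sum_erase_eq_sub L.zero_mem, L.orthonormal hχ hχ, if_pos rfl,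
          L.F.v_zero, map_natCast, ← L.A_dim_cast hχ]
        ring,
      ← Finset.mul_sum, Finset.sum_sub_distrib, Finset.sum_const, nsmul_eq_mul, L.dim_cast,
      Nat.cast_sub (Nat.one_le_iff_ne_zero.2 L.e_ne)]
    push_cast
    ring
  exact_mod_cast h

/-- The members of `A` vanish off `P` and the complement. -/
theorem vanish {v : G} (hv : ¬ p ∣ orderOf v) (hv1 : v ≠ 1)
    (hnc : ∀ s, ¬ L.e ∣ s → ¬ IsConj (L.F.g ^ s) v) {χ : IrrCharacter G} (hχ : χ ∈ L.A) :
    (χ : G → ℂ) v = 0 := by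
  classical
  set M := ∑ ψ ∈ L.R, (L.F.dim ψ : ℂ) * conj ((ψ : G → ℂ) v) with hM
  set α : IrrCharacter G → ℂ := fun ψ => (L.wt ψ : ℂ) * conj ((ψ : G → ℂ) v) with hα
  have hs : ∀ s ∈ (Finset.range L.e).erase 0, ∑ ψ ∈ L.A, α ψ * L.F.v ψ s = -(1 + M) := by
    intro s hs
    have hsd := L.not_dvd_of_mem hs
    have h := L.orth (L.regular s) hv (g := L.F.g ^ s) (h := v)
    rw [if_neg (hnc s hsd),
      Finset.sum_congr (rfl : L.A = L.A) (g := fun ψ => α ψ * L.F.v ψ s)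
        fun ψ _ => by rw [L.F.value ψ s hsd, hα]; show _ = _ * (∑ j, L.F.μ ψ j ^ s); ring,
      Finset.sum_eq_zero (s := L.B) (fun ψ hψ => by rw [L.B_zero ψ hψ s hsd, zero_mul, mul_zero]),
      Finset.sum_congr (rfl : L.R = L.R)
        (g := fun ψ : IrrCharacter G => (L.F.dim ψ : ℂ) * conj ((ψ : G → ℂ) v))
        fun ψ hψ => by rw [L.rest_value hsd hψ]] at h
    linear_combination h
  have hsum : ∑ ψ ∈ L.A, α ψ * (L.F.dim ψ : ℂ) =
      ((L.k : ℂ) + 1) * conj (∑ ψ ∈ L.A, (ψ : G → ℂ) v) := by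
    rw [map_sum, Finset.mul_sum]
    refine Finset.sum_congr rfl fun ψ hψ => ?_
    rw [← L.A_dim_cast hψ, hα]; ring
  have h1 : ∑ s ∈ (Finset.range L.e).erase 0, ∑ ψ ∈ L.A, α ψ * L.F.v ψ s =
      -∑ ψ ∈ L.A, α ψ * (L.F.dim ψ : ℂ) := by
    rw [Finset.sum_comm, ← Finset.sum_neg_distrib]
    refine Finset.sum_congr rfl fun ψ hψ => ?_
    rw [← Finset.mul_sum, Finset.sum_erase_eq_sub L.zero_mem, L.sum_range_v hψ, L.F.v_zero]
    ring
  rw [Finset.sum_congr rfl hs, Finset.sum_const, Finset.card_erase_of_mem L.zero_mem,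
    Finset.card_range, nsmul_eq_mul, Nat.cast_sub (Nat.one_le_iff_ne_zero.2 L.e_ne), hsum,
    Nat.cast_one] at h1
  have h2 := congrArg conj (L.orth_one hv hv1)
  have h3 := congrArg conj (L.relation hv)
  simp only [map_add, map_sub, map_mul, map_one, map_zero, map_natCast, map_sum] at h2 h3
  set A' := ∑ ψ ∈ L.A, conj ((ψ : G → ℂ) v) with hA'
  rw [map_sum, ← hA'] at h1
  rw [← hM] at h2
  have hA0 : A' = 0 := by
    have : (((L.k + 1) * L.e : ℕ) : ℂ) * A' = 0 := by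
      push_cast
      refine (mul_eq_zero.1 (show (p : ℂ) * (((L.k : ℂ) + 1) * (L.e : ℂ) * A') = 0 from ?_)).resolve_left
        (Layout.p_ne (p := p))
      linear_combination ((L.e : ℂ) - 1) * h2 + ((L.e : ℂ) - 1) * ((p : ℂ) - 1) * h3 + (p : ℂ) * h1
    exact (mul_eq_zero.1 this).resolve_left (Nat.cast_ne_zero.2 (Nat.mul_ne_zero (by omega) L.e_ne))
  have hM0 : 1 + M = 0 := by
    rw [hA0, mul_zero, neg_zero] at h1
    have he1 : (L.e : ℂ) - 1 ≠ 0 := by
      rw [sub_ne_zero, ← Nat.cast_one, Ne, Nat.cast_inj]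
      have := L.two_le_e; omega
    linear_combination -((mul_eq_zero.1 h1).resolve_left he1)
  have hind := L.independent α (fun s hs' => by
    by_cases h0 : s = 0
    · subst h0
      rw [Finset.sum_congr rfl fun ψ _ => by rw [L.F.v_zero], hsum, map_sum, ← hA', hA0, mul_zero]
    · rw [hs s (Finset.mem_erase.2 ⟨h0, hs'⟩), hM0, neg_zero]) hχ
  have hw : (L.wt χ : ℂ) ≠ 0 := Nat.cast_ne_zero.2 (L.wt_pos hχ).ne'
  exact (map_eq_zero _).1 ((mul_eq_zero.1 hind).resolve_left hw)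

theorem half (he : Even L.e) : ¬ L.e ∣ L.e / 2 ∧ L.e / 2 + L.e / 2 = L.e := by
  obtain ⟨l, hl⟩ := he
  have := L.two_le_e
  refine ⟨fun h => ?_, by omega⟩
  have := Nat.le_of_dvd (by omega) h
  omega

theorem y_sq (he : Even L.e) : (L.F.g ^ (L.e / 2)) ^ 2 = 1 := by
  rw [← pow_mul, show L.e / 2 * 2 = L.e by have := (L.half he).2; omega]
  have h := pow_orderOf_eq_one L.F.g
  rwa [L.F.ord] at h

theorem v_real (he : Even L.e) (χ : IrrCharacter G) :
    conj (L.F.v χ (L.e / 2)) = L.F.v χ (L.e / 2) := by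
  rw [Frame.v, map_sum]
  refine Finset.sum_congr rfl fun j _ => ?_
  have h : (L.F.μ χ j ^ (L.e / 2)) ^ 2 = 1 := by
    rw [← pow_mul, show L.e / 2 * 2 = L.e by have := (L.half he).2; omega, L.F.μ_pow]
  rcases sq_eq_one_iff.1 h with h' | h' <;> rw [h']
  · rw [map_one]
  · rw [map_neg, map_one]

open Classical in
/-- The centralizer of the involution. -/
theorem count_involution (he : Even L.e) :
    ∃ w : ℕ, Nat.card (Subgroup.centralizer ({L.F.g ^ (L.e / 2)} : Set G)) = L.e * w ∧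
      w * w = w + L.k * L.t ∧
      (∑ χ ∈ L.A, (L.wt χ : ℂ) * (L.F.v χ (L.e / 2) * L.F.v χ (L.e / 2))) =
        (L.e : ℂ) * w - L.k - 1 := by
  set h := L.e / 2 with hh
  obtain ⟨hhd, -⟩ := L.half he
  rw [← hh] at hhd
  set y := L.F.g ^ h with hy
  have hy2 : y ^ 2 = 1 := L.y_sq he
  have hcard := L.S.card_P
  have hCP : Subgroup.centralizer ((L.P : Subgroup G) : Set G) = (L.P : Subgroup G) :=
    (Subgroup.eq_of_le_of_card_ge (Block.le_centralizer_self hcard)
      (by rw [L.card_C, hcard])).symm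
  obtain ⟨u, x, hx, hx1, -, hinv, hcount, -, -, -⟩ := exists_inverting (G := G)
    (show p ≠ 2 by
      have := L.p_eq; have := Nat.le_mul_of_pos_right L.e L.t_pos; have := L.two_le_e; omega)
    L.P hcard L.card_C L.S.relIndex_eq he.two_dvd
  have hyN : y ∈ Subgroup.normalizer ((L.P : Subgroup G) : Set G) := pow_mem L.F.mem h
  have hyP := L.F.free h hhd
  have hyu : IsConj y u := by
    have hyy : y⁻¹ = y := inv_eq_of_mul_eq_one_right (by rw [← pow_two, hy2])
    have hyx : ∀ z ∈ (L.P : Subgroup G), y * z * y⁻¹ = z⁻¹ := fun z hz => by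
      obtain ⟨c, hc⟩ := isConj_iff.1 (isConj_mul_of_normalizer hcard hCP hyN hyP hz)
      have h2 : y * z * (y * z) = 1 := by
        rw [← pow_two, ← hc, conj_pow, hy2, mul_one, mul_inv_cancel]
      rw [hyy]
      exact eq_inv_of_mul_eq_one_left (by rw [mul_assoc]; exact h2)
    have hmem : y⁻¹ * u ∈ (L.P : Subgroup G) := by
      rw [← hCP, Subgroup.mem_centralizer_iff]
      intro z hz
      have h1 : u * z * u⁻¹ = z⁻¹ := hinv z hz
      have h2 : y⁻¹ * z⁻¹ * y = z := by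
        rw [← hyx z hz]; group
      calc z * (y⁻¹ * u) = y⁻¹ * z⁻¹ * y * (y⁻¹ * u) := by rw [h2]
        _ = y⁻¹ * u * z := by rw [← h1]; group
    have h' := isConj_mul_of_normalizer hcard hCP hyN hyP hmem
    rwa [mul_inv_cancel_left] at h'
  have hcl : Char.classFinset y = Char.classFinset u := by
    ext z
    rw [Char.mem_classFinset, Char.mem_classFinset]
    exact ⟨hyu.symm.trans, hyu.trans⟩
  have hform := L.S.formula_int L.card_C (L.regular h) (L.regular h) hx hx1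
  rw [← hy, hcl, hcount, L.zsum (fun χ => (χ : G → ℂ) y * (χ : G → ℂ) y / (χ : G → ℂ) 1)
    (fun χ χ' h' => by simp only [h' y (L.regular h), h' 1 L.regular_one]), one'_apply, one'_apply,
    Finset.sum_eq_zero (s := L.B) (fun χ hχ => by rw [hy, L.B_zero χ hχ h hhd, zero_mul, zero_div]),
    Finset.sum_congr (rfl : L.A = L.A)
      (g := fun χ => (L.wt χ : ℂ) * (L.F.v χ h * L.F.v χ h) / ((L.k : ℂ) * p + 1))
      fun χ hχ => by
        rw [← L.A_one hχ, hy, L.F.value χ h hhd, mul_div_mul_left _ _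
          (Nat.cast_ne_zero.2 (L.wt_pos hχ).ne')]
        rfl,
    ← Finset.sum_div, L.card_G] at hform
  set X := ∑ χ ∈ L.A, (L.wt χ : ℂ) * (L.F.v χ h * L.F.v χ h) with hX
  set C := Nat.card (Subgroup.centralizer ({y} : Set G)) with hC
  obtain ⟨w, hw⟩ : L.e ∣ C := L.dvd_card_centralizer h
  have hCX : (C : ℂ) = (L.k : ℂ) + 1 + X := by
    rw [hC, hy, L.card_centralizer_pow hhd, hX]
    congr 1
    refine Finset.sum_congr rfl fun χ _ => ?_
    rw [L.v_real he]
  refine ⟨w, hw, ?_, by rw [hw] at hCX; push_cast at hCX; linear_combination -hCX⟩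
  have hn0 : (L.k : ℂ) * p + 1 ≠ 0 := by exact_mod_cast Nat.succ_ne_zero (L.k * p)
  have h1 : (C : ℂ) * C = (L.e : ℂ) * ((L.k : ℂ) * p + 1 + X) := by
    refine mul_left_cancel₀ (Layout.p_ne (p := p)) ?_
    rw [← mul_assoc, hform]
    push_cast
    generalize hn : (L.k : ℂ) * p + 1 = n at hn0 ⊢
    field_simp
    ring
  have h2 : ((w * w : ℕ) : ℂ) = ((w + L.k * L.t : ℕ) : ℂ) := by
    have he0 : (L.e : ℂ) * L.e ≠ 0 := mul_ne_zero (Nat.cast_ne_zero.2 L.e_ne) (Nat.cast_ne_zero.2 L.e_ne)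
    refine mul_left_cancel₀ he0 ?_
    rw [show X = (C : ℂ) - L.k - 1 by linear_combination -hCX, hw, L.p_cast] at h1
    push_cast at h1 ⊢
    linear_combination h1
  exact_mod_cast h2

/-- The factorizations of elements of the complement into two involutions conjugate to `y`. -/
theorem count_bound (he : Even L.e) {w : ℕ}
    (hw : Nat.card (Subgroup.centralizer ({L.F.g ^ (L.e / 2)} : Set G)) = L.e * w)
    (hX : (∑ χ ∈ L.A, (L.wt χ : ℂ) * (L.F.v χ (L.e / 2) * L.F.v χ (L.e / 2))) =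
        (L.e : ℂ) * w - L.k - 1) :
    ((L.e : ℤ) - 1) * (L.k * p + 1) * (p + L.k) - p * (L.k + 1) * (L.e * w - L.k - 1) ≤
      (L.e : ℤ) * w * w * ((L.k + 1) * L.A.card * L.e) := by
  classical
  set h := L.e / 2 with hh
  obtain ⟨hhd, -⟩ := L.half he
  rw [← hh] at hhd
  set y := L.F.g ^ h with hy
  have hy2 : y ^ 2 = 1 := L.y_sq he
  have hreal : ∀ χ, conj (L.F.v χ h) = L.F.v χ h := L.v_real he
  set N : ℕ → ℕ := fun s =>
    ((Char.classFinset y ×ˢ Char.classFinset y).filter fun q => q.1 * q.2 = L.F.g ^ s).card with hN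
  have hNle : ∀ s, N s ≤ Nat.card (Subgroup.centralizer ({L.F.g ^ s} : Set G)) := by
    intro s
    obtain ⟨U, hUc, hU⟩ := exists_inverting_finset hy2 (L.F.g ^ s)
    show ((Char.classFinset y ×ˢ Char.classFinset y).filter fun q => q.1 * q.2 = L.F.g ^ s).card ≤ _
    rw [← hUc]
    rcases U.eq_empty_or_nonempty with hU0 | ⟨u₀, hu₀⟩
    · rw [hU0]; exact Nat.zero_le _
    rw [Nat.card_eq_fintype_card, ← Finset.card_univ]
    refine Finset.card_le_card_of_injOn (fun u =>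
      if hu : u₀ * u ∈ Subgroup.centralizer ({L.F.g ^ s} : Set G)
      then ⟨u₀ * u, hu⟩ else 1) (fun _ _ => Finset.mem_univ _) ?_
    have hcen : ∀ u ∈ U, u₀ * u ∈ Subgroup.centralizer ({L.F.g ^ s} : Set G) := fun u hu => by
      rw [Subgroup.mem_centralizer_singleton_iff]
      have h1 := (hU u hu).2.2
      have h2 := (hU u₀ hu₀).2.2
      have : u₀ * u * L.F.g ^ s * (u₀ * u)⁻¹ = L.F.g ^ s := by
        calc u₀ * u * L.F.g ^ s * (u₀ * u)⁻¹ = u₀ * (u * L.F.g ^ s * u⁻¹) * u₀⁻¹ := by group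
          _ = L.F.g ^ s := by rw [h1, ← conj_inv, h2, inv_inv]
      exact mul_inv_eq_iff_eq_mul.1 this
    intro u hu w hw huw
    simp only [dif_pos (hcen u hu), dif_pos (hcen w hw)] at huw
    exact mul_left_cancel (congrArg Subtype.val huw)
  -- the value of `N`
  have hcval : ∀ s ∈ (Finset.range L.e).erase 0, (N s : ℂ) * ((L.e : ℂ) * w * w) =
      ((L.k : ℂ) * p + 1) * ((p : ℂ) + L.k) +
        (p : ℂ) * ∑ χ ∈ L.A, ((L.wt χ : ℂ) * L.wt χ * (L.F.v χ h * L.F.v χ h)) * conj (L.F.v χ s) := by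
    intro s hs
    have hsd := L.not_dvd_of_mem hs
    have hcp := class_product_int y y (L.F.g ^ s)
    rw [hw, L.split _ (fun χ χ' h' => by
      rw [h' y (L.regular h), h' (L.F.g ^ s) (L.regular s), h' 1 L.regular_one]),
      one'_apply, one'_apply, one'_apply,
      Finset.sum_congr (rfl : L.A = L.A) (g := fun χ =>
        ((L.wt χ : ℂ) * L.wt χ * (L.F.v χ h * L.F.v χ h)) * conj (L.F.v χ s) / ((L.k : ℂ) * p + 1))
        fun χ hχ => by
          have h1 := L.A_one hχ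
          have hn0 : (L.k : ℂ) * p + 1 ≠ 0 := by exact_mod_cast Nat.succ_ne_zero (L.k * p)
          have hd0 := χ.2.apply_one_ne_zero
          rw [hy, L.F.value χ h hhd, L.F.value χ s hsd]
          change (L.wt χ : ℂ) * (L.F.v χ h * L.F.v χ h * conj (L.F.v χ s) / (χ : G → ℂ) 1) = _
          rw [← h1]
          have hw0 : (L.wt χ : ℂ) ≠ 0 := Nat.cast_ne_zero.2 (L.wt_pos hχ).ne'
          field_simp,
      ← Finset.sum_div,
      Finset.sum_eq_zero (s := L.B) (fun χ hχ => by rw [hy, L.B_zero χ hχ h hhd]; ring),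
      Finset.sum_congr (rfl : L.R = L.R) (g := fun χ => ((L.F.dim χ ^ 2 : ℕ) : ℂ) / (p : ℂ))
        fun χ hχ => by
          rw [hy, L.rest_value hhd hχ, L.rest_value hsd hχ, L.rest_one hχ, map_natCast]
          have hd0 : (L.F.dim χ : ℂ) ≠ 0 := Nat.cast_ne_zero.2 (L.rest_pos hχ).ne'
          have hp0 := Layout.p_ne (p := p)
          push_cast
          field_simp,
      ← Finset.sum_div L.R, ← Nat.cast_sum, L.sum_rest_sq, L.card_G, map_one] at hcp
    have hp0 := Layout.p_ne (p := p)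
    have hn0 : (L.k : ℂ) * p + 1 ≠ 0 := by exact_mod_cast Nat.succ_ne_zero (L.k * p)
    refine mul_left_cancel₀ (Nat.cast_ne_zero.2 L.e_ne : (L.e : ℂ) ≠ 0) ?_
    push_cast at hcp
    generalize hn : (L.k : ℂ) * p + 1 = n at hcp hn0 ⊢
    generalize (∑ χ ∈ L.A, ((L.wt χ : ℂ) * L.wt χ * (L.F.v χ h * L.F.v χ h)) * conj (L.F.v χ s)) = Sg
      at hcp ⊢
    field_simp at hcp
    linear_combination hcp
  have hsum : ((∑ s ∈ (Finset.range L.e).erase 0, N s : ℕ) : ℂ) * ((L.e : ℂ) * w * w) =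
      ((L.e : ℂ) - 1) * ((L.k : ℂ) * p + 1) * ((p : ℂ) + L.k) -
        (p : ℂ) * ((L.k : ℂ) + 1) * ((L.e : ℂ) * w - L.k - 1) := by
    rw [Nat.cast_sum, Finset.sum_mul, Finset.sum_congr rfl hcval, Finset.sum_add_distrib,
      Finset.sum_const, Finset.card_erase_of_mem L.zero_mem, Finset.card_range, nsmul_eq_mul,
      Nat.cast_sub (Nat.one_le_iff_ne_zero.2 L.e_ne), ← Finset.mul_sum, Finset.sum_comm,
      Finset.sum_congr (rfl : L.A = L.A) (g := fun χ =>
        -(((L.k : ℂ) + 1) * ((L.wt χ : ℂ) * (L.F.v χ h * L.F.v χ h)))) fun χ hχ => by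
        rw [← Finset.mul_sum, ← map_sum, Finset.sum_erase_eq_sub L.zero_mem, L.sum_range_v hχ,
          L.F.v_zero, zero_sub, map_neg, map_natCast, ← L.A_dim_cast hχ]
        ring,
      Finset.sum_neg_distrib, ← Finset.mul_sum, hX, Nat.cast_one]
    ring
  have hsumz : ((∑ s ∈ (Finset.range L.e).erase 0, N s : ℕ) : ℤ) * ((L.e : ℤ) * w * w) =
      ((L.e : ℤ) - 1) * (L.k * p + 1) * (p + L.k) - p * (L.k + 1) * (L.e * w - L.k - 1) := by
    exact_mod_cast hsum
  rw [← hsumz]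
  have hle : ∑ s ∈ (Finset.range L.e).erase 0, N s ≤ (L.k + 1) * L.A.card * L.e :=
    L.average ▸ Finset.sum_le_sum fun s _ => hNle s
  have hle' : ((∑ s ∈ (Finset.range L.e).erase 0, N s : ℕ) : ℤ) ≤
      ((L.k + 1) * L.A.card * L.e : ℤ) := by exact_mod_cast hle
  rw [mul_comm ((L.e : ℤ) * w * w)]
  exact mul_le_mul_of_nonneg_right hle' (by positivity)

end Layout

end Cfsg.Lib.Small
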