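import Cfsg.Agent.Lib.Small.FewSylowLayout

/-!
# Self-centralizing subgroups of prime order with few conjugates

Under Brauer's bound `2 k ≤ p + 1` only `|G| = p (p² - 1) / 2` with `p + 1` Sylow subgroups, or the
configuration `LargeData`, remain.
-/

set_option autoImplicit false
set_option linter.unusedSectionVars false
set_option linter.style.haveILetI false

namespace Cfsg.Lib.Small

open Cfsg Cfsg.Lib
open scoped ComplexConjugate

universe u

variable {G : Type u} [Group G] [Fintype G] {p : ℕ} [hp : Fact p.Prime]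

noncomputable local instance (priority := high) fintypeSubgroupFewSylowMain {A : Type u}
    [Group A] [Fintype A] (H : Subgroup A) : Fintype H := Fintype.ofFinite H

namespace Shape

variable {P : Sylow p G} {e : ℕ} (S : Shape P e)

/-- The characters outside the block vanish on a self-centralizing subgroup of order `p`. -/
theorem apply_eq_zero_outside
    (hCP : Subgroup.centralizer ((P : Subgroup G) : Set G) = (P : Subgroup G))
    {χ : IrrCharacter G} (hX : χ ∉ S.X) (hY : χ ∉ S.Y) {x : G} (hx : x ∈ (P : Subgroup G))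
    (hx1 : x ≠ 1) : (χ : G → ℂ) x = 0 := by
  classical
  have hpp : p.Prime := hp.out
  have hxo : orderOf x = p := by
    rw [← Nat.card_zpowers, zpowers_eq_of_prime_card S.card_P hx hx1, S.card_P]
  have hone : ¬ p ∣ orderOf (1 : G) := by rw [orderOf_one]; exact hpp.not_dvd_one
  have hxdvd : p ∣ orderOf x := hxo ▸ dvd_rfl
  have hχ : χ ∉ principalBlock S.M G := fun h' => ((S.mem_block χ).1 h').elim hX hY
  have hB : IsPBlock S.M (blockOf S.M (χ : G → ℂ)) := Block.isPBlock_blockOf χ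
  have hd0 : blockDefect p (blockOf S.M (χ : G → ℂ)) = 0 := by
    by_contra hd
    have h1 := Block.isDefectGroup_of_pos S.hM P S.card_P hB hd
    have h2 := Block.isDefectGroup_principal_sylow S.hM P
    have hsub : Subsingleton {C : ConjClasses (Subgroup.normalizer ((P : Subgroup G) : Set G)) //
        ∀ n : Subgroup.normalizer ((P : Subgroup G) : Set G), ConjClasses.mk n = C →
          ¬ p ∣ orderOf n ∧ (n : G) ∈ Subgroup.centralizer ((P : Subgroup G) : Set G)} := by
      refine ⟨fun C C' => Subtype.ext ?_⟩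
      have key : ∀ C : {C : ConjClasses (Subgroup.normalizer ((P : Subgroup G) : Set G)) //
        ∀ n : Subgroup.normalizer ((P : Subgroup G) : Set G), ConjClasses.mk n = C →
          ¬ p ∣ orderOf n ∧ (n : G) ∈ Subgroup.centralizer ((P : Subgroup G) : Set G)},
          C.1 = ConjClasses.mk 1 := by
        rintro ⟨C, hC'⟩
        obtain ⟨n, rfl⟩ := ConjClasses.mk_surjective C
        obtain ⟨h3, h4⟩ := hC' n rfl
        rw [hCP] at h4
        have h5 : orderOf n ∣ p := by
          rw [← Subgroup.orderOf_coe]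
          exact (Subgroup.orderOf_dvd_natCard _ h4).trans S.card_P.dvd
        rcases (Nat.dvd_prime hpp).1 h5 with h6 | h6
        · exact congrArg ConjClasses.mk (orderOf_eq_one_iff.1 h6)
        · exact absurd h6.symm.dvd h3
      rw [key C, key C']
    have hle : Nat.card {B : Set (IrrCharacter G) // IsPBlock S.M B ∧
        IsDefectGroup p S.M B (P : Subgroup G)} ≤ 1 := by
      rw [Cfsg.Agent.S0953.result p S.M S.hM P]
      exact Finite.card_le_one_iff_subsingleton.2 hsub
    have := Finite.card_le_one_iff_subsingleton.1 hle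
    have h3 := congrArg Subtype.val (@Subsingleton.elim _ this
      ⟨_, hB, h1⟩ ⟨_, Block.isPBlock_principal, h2⟩)
    have h3' : blockOf S.M (χ : G → ℂ) = principalBlock S.M G := h3
    exact hχ (h3' ▸ Block.self_mem_blockOf S.hM χ)
  obtain ⟨ψ, hψ, -⟩ := (Block.blockDefect_eq_zero_iff S.hM hB).1 hd0
  have h4 := Block.sum_block_mul_conj_eq_zero S.hM (Block.vInt_indVec S.hM hB) (g := 1) (h := x)
    (Block.not_isConj_pPt_of_dvd hone hxdvd)
  have hψ' : χ = ψ := by
    have := Block.self_mem_blockOf S.hM χ; rw [hψ] at this; exact this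
  rw [hψ, finsum_mem_singleton, ← hψ', mul_eq_zero] at h4
  simpa using h4.resolve_left χ.2.apply_one_ne_zero

/-- The sum over `Y` on the Sylow subgroup. -/
theorem sum_Y_apply {x : G} (hx : x ∈ (P : Subgroup G)) (hx1 : x ≠ 1) :
    ∑ θ' ∈ S.Y, (θ' : G → ℂ) x = (S.σ S.θ : ℂ) := by
  classical
  have hone : ¬ p ∣ orderOf (1 : G) := by rw [orderOf_one]; exact hp.out.not_dvd_one
  have hxo : orderOf x = p := by
    rw [← Nat.card_zpowers, zpowers_eq_of_prime_card S.card_P hx hx1, S.card_P]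
  have hX : ∀ χ ∈ S.X, conj ((χ : G → ℂ) x) = (S.σ χ : ℂ) := fun χ h => by
    have := S.val χ h x hx hx1 1 (Subgroup.one_mem _) hone
    rw [mul_one] at this
    rw [this, map_intCast]
  have h4 := Block.sum_block_mul_conj_eq_zero S.hM
    (Block.vInt_indVec S.hM Block.isPBlock_principal)
    (g := 1) (h := x) (Block.not_isConj_pPt_of_dvd hone (hxo ▸ dvd_rfl))
  rw [finsum_mem_eq_finite_toFinset_sum _ (principalBlock S.M G).toFinite,
    show (principalBlock S.M G).toFinite.toFinset = S.X ∪ S.Y by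
      ext χ; rw [Set.Finite.mem_toFinset, Finset.mem_union]; exact S.mem_block χ,
    Finset.sum_union S.disj, Finset.sum_congr rfl fun χ h => by rw [hX χ h, mul_comm],
    Finset.sum_congr (rfl : S.Y = S.Y) fun θ' h => by rw [S.agree θ' h 1 hone],
    ← Finset.mul_sum, ← map_sum] at h4
  have h5 := S.rel 1 hone
  rw [S.Z_eq, Finset.sum_insert S.θ_notMem] at h5
  have h6 : conj (∑ θ' ∈ S.Y, (θ' : G → ℂ) x) = (S.σ S.θ : ℂ) := by
    apply mul_left_cancel₀ S.θ.2.apply_one_ne_zero
    linear_combination h4 - h5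
  have h7 := congrArg conj h6
  rwa [Complex.conj_conj, map_intCast] at h7

end Shape

theorem sum_sylow_const (P : Sylow p G) (hP : Nat.card (P : Subgroup G) = p) (φ : G → ℂ) {c : ℂ}
    (hφ : ∀ x ∈ (P : Subgroup G), x ≠ 1 → φ x = c) :
    ∑ x : (P : Subgroup G), φ x = φ 1 + ((p : ℂ) - 1) * c := by
  classical
  rw [← Finset.add_sum_erase _ _ (Finset.mem_univ (1 : (P : Subgroup G))), OneMemClass.coe_one,
    Finset.sum_congr rfl (g := fun _ => c) fun (x : (P : Subgroup G)) hx =>
      hφ x x.2 (fun h => (Finset.mem_erase.1 hx).1 (Subtype.ext h)), Finset.sum_const,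
    Finset.card_erase_of_mem (Finset.mem_univ _), Finset.card_univ, ← Nat.card_eq_fintype_card,
    hP, nsmul_eq_mul, Nat.cast_sub hp.out.one_le, Nat.cast_one]

namespace Layout

variable (L : Layout G p)

theorem flat_card (hw : ∀ χ ∈ L.A, L.wt χ = 1) : L.A.card * (L.k + 1) + 1 = L.e := by
  have h : ∑ χ ∈ L.A, L.F.dim χ = ∑ χ ∈ L.A, (L.k + 1) := Finset.sum_congr rfl fun χ hχ => by
    have := L.A_dim χ hχ; rwa [hw χ hχ, one_mul] at this
  have h2 := L.sum_dim
  rw [h, Finset.sum_const, smul_eq_mul] at h2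
  exact h2

/-- With all weights one the complement has odd order. -/
theorem odd_of_flat (hw : ∀ χ ∈ L.A, L.wt χ = 1) : Odd L.e := by
  by_contra hodd
  rw [Nat.not_odd_iff_even] at hodd
  obtain ⟨w, hC, hww, -⟩ := L.count_involution hodd
  obtain ⟨hhd, -⟩ := L.half hodd
  have he := L.two_le_e
  have hmem : L.e / 2 ∈ (Finset.range L.e).erase 0 :=
    Finset.mem_erase.2 ⟨by omega, Finset.mem_range.2 (by omega)⟩
  have hge : ∀ s ∈ (Finset.range L.e).erase 0,
      L.e ≤ Nat.card (Subgroup.centralizer ({L.F.g ^ s} : Set G)) := fun s _ =>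
    Nat.le_of_dvd Nat.card_pos (L.dvd_card_centralizer s)
  have h1 : ∑ _s ∈ (Finset.range L.e).erase 0, L.e =
      ∑ s ∈ (Finset.range L.e).erase 0, Nat.card (Subgroup.centralizer ({L.F.g ^ s} : Set G)) := by
    have hfl := L.flat_card hw
    rw [L.average, Finset.sum_const, Finset.card_erase_of_mem L.zero_mem, Finset.card_range,
      smul_eq_mul, mul_comm (L.k + 1), show L.A.card * (L.k + 1) = L.e - 1 by omega]
  have h2 := (Finset.sum_eq_sum_iff_of_le hge).1 h1 _ hmem
  rw [hC] at h2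
  have hw1 : w = 1 := (Nat.mul_eq_left L.e_ne).1 h2.symm
  rw [hw1] at hww
  have := Nat.mul_pos L.one_le_k L.t_pos
  omega

/-- A character of degree `e` vanishing on the complement bounds the degrees in `A`. -/
theorem small_bound (hw : ∀ χ ∈ L.A, L.wt χ = 1)
    (hval : ∀ χ ∈ L.A, ∀ x ∈ (L.P : Subgroup G), x ≠ 1 → (χ : G → ℂ) x = 1)
    (θ : IrrCharacter G) (hθ : ∀ s, ¬ L.e ∣ s → (θ : G → ℂ) (L.F.g ^ s) = 0)
    (hdeg : charDegree (θ : G → ℂ) = L.e) : 1 + (L.k * p + 1) * L.A.card ≤ L.e * L.e := by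
  classical
  have hpp : p.Prime := hp.out
  have hcard := L.S.card_P
  have hCP : Subgroup.centralizer ((L.P : Subgroup G) : Set G) = (L.P : Subgroup G) :=
    (Subgroup.eq_of_le_of_card_ge (Block.le_centralizer_self hcard) (by rw [L.card_C, hcard])).symm
  have hθ1 : (θ : G → ℂ) 1 = (L.e : ℂ) := by rw [Block.apply_one_eq_charDegree, hdeg]
  set f : G → ℂ := fun g => (θ : G → ℂ) g * conj ((θ : G → ℂ) g) with hf
  have hfc : IsCharacter G f := θ.2.isCharacter.mul θ.2.isCharacter.conjFn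
  choose c hc using fun ψ : IrrCharacter G => hfc.exists_nat_classInner ψ.2.isCharacter
  have hS : ∀ Q : Sylow p G, Nat.card (Q : Subgroup G) = p := fun Q => by
    rw [Q.card_eq_multiplicity, ← L.P.card_eq_multiplicity, hcard]
  -- the `p`-singular elements
  have hsing : ∀ g : G, p ∣ orderOf g → ∃ Q : Sylow p G, g ∈ (Q : Subgroup G) ∧ g ≠ 1 := by
    intro g hg
    obtain ⟨j, hj⟩ := hg
    have ho := orderOf_pos g
    have hj0 : j ≠ 0 := by rintro rfl; rw [mul_zero] at hj; omega
    have hxo : orderOf (g ^ j) = p := by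
      rw [orderOf_pow' g hj0, hj, Nat.gcd_mul_left_left, Nat.mul_div_cancel _ (Nat.pos_of_ne_zero hj0)]
    obtain ⟨Q, hQ⟩ := exists_sylow_eq_zpowers hS hxo
    refine ⟨Q, ?_, fun h => by rw [h, orderOf_one] at hj; exact hpp.ne_one (Nat.eq_one_of_mul_eq_one_right hj.symm)⟩
    obtain ⟨a, ha⟩ := MulAction.exists_smul_eq G Q L.P
    have hgQ : g ∈ Subgroup.centralizer ((Q : Subgroup G) : Set G) := by
      rw [hQ, centralizer_zpowers, Subgroup.mem_centralizer_singleton_iff]
      exact (Commute.self_pow g j).eq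
    have h1 : a * g * a⁻¹ ∈ (L.P : Subgroup G) := by
      rw [← hCP, ← ha, Sylow.coe_subgroup_smul, Subgroup.mem_centralizer_iff]
      rintro _ ⟨y, hy, rfl⟩
      show a * y * a⁻¹ * (a * g * a⁻¹) = a * g * a⁻¹ * (a * y * a⁻¹)
      rw [conj_mul, conj_mul, Subgroup.mem_centralizer_iff.1 hgQ y hy]
    rw [← ha, Sylow.coe_subgroup_smul] at h1
    obtain ⟨y, hy, hya⟩ := h1
    have : y = g := (MulAut.conj a).injective (hya.trans rfl)
    exact this ▸ hy
  -- the members of `A` on the support of `θ`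
  set Φ : G → ℂ := fun g => ∑ χ ∈ L.A, conj ((χ : G → ℂ) g) with hΦ
  set T : ℂ := ∑ x : (L.P : Subgroup G), f x with hT
  have hΦsing : ∀ g : G, p ∣ orderOf g → Φ g = (L.A.card : ℂ) := by
    intro g hg
    obtain ⟨Q, hgQ, hg1⟩ := hsing g hg
    obtain ⟨a, ha⟩ := MulAction.exists_smul_eq G Q L.P
    have h1 : a * g * a⁻¹ ∈ (L.P : Subgroup G) := by
      rw [← ha, Sylow.coe_subgroup_smul]
      exact ⟨g, hgQ, rfl⟩
    simp only [hΦ]
    rw [Finset.sum_congr rfl (g := fun _ => (1 : ℂ)) fun χ hχ => by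
      rw [← χ.2.isClassFunction g a, hval χ hχ _ h1 (by simpa using hg1), map_one],
      Finset.sum_const, nsmul_one]
  have hreg : ∀ g : G, ¬ p ∣ orderOf g → g ≠ 1 → f g * Φ g = 0 := by
    intro g hg hg1
    by_cases hc : ∃ s, ¬ L.e ∣ s ∧ IsConj (L.F.g ^ s) g
    · obtain ⟨s, hs, hsg⟩ := hc
      obtain ⟨a, rfl⟩ := isConj_iff.1 hsg
      simp only [hf]
      rw [θ.2.isClassFunction, hθ s hs, zero_mul, zero_mul]
    · push Not at hc
      simp only [hΦ]
      rw [Finset.sum_eq_zero (fun χ hχ => by rw [L.vanish hg hg1 hc hχ, map_zero]), mul_zero]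
  have hf1 : f 1 = (L.e : ℂ) * L.e := by simp only [hf]; rw [hθ1, map_natCast]
  -- the singular elements, by Sylow subgroups
  set Sg : Finset G := Finset.univ.filter fun g => p ∣ orderOf g with hSg
  have hSgU : Sg = Finset.univ.biUnion fun Q : Sylow p G =>
      Finset.univ.filter fun g : G => g ∈ (Q : Subgroup G) ∧ g ≠ 1 := by
    ext g
    simp only [hSg, Finset.mem_filter, Finset.mem_univ, true_and, Finset.mem_biUnion]
    refine ⟨hsing g, ?_⟩
    rintro ⟨Q, hgQ, hg1⟩
    rw [← Nat.card_zpowers, zpowers_eq_of_prime_card (hS Q) hgQ hg1, hS]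
  have hsylow : Nat.card (Sylow p G) = L.k * p + 1 := by
    have h2 := Subgroup.card_mul_index ((Subgroup.centralizer ((L.P : Subgroup G) : Set G)).subgroupOf
      (Subgroup.normalizer ((L.P : Subgroup G) : Set G)))
    rw [Nat.card_congr (Subgroup.subgroupOfEquivOfLe (Subgroup.centralizer_le_normalizer _)).toEquiv,
      L.card_C] at h2
    have h3 := card_normalizer_mul L.P
    rw [← h2, show ((Subgroup.centralizer ((L.P : Subgroup G) : Set G)).subgroupOf
      (Subgroup.normalizer ((L.P : Subgroup G) : Set G))).index = L.e from L.S.relIndex_eq, L.card_G,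
      show p * (L.e * (L.k * p + 1)) = (L.k * p + 1) * (p * L.e) by ring] at h3
    exact Nat.eq_of_mul_eq_mul_right (Nat.mul_pos hpp.pos (Nat.pos_of_ne_zero L.e_ne)) h3
  have hsingsum : ∑ g ∈ Sg, f g = ((L.k : ℂ) * p + 1) * (T - (L.e : ℂ) * L.e) := by
    rw [hSgU, Finset.sum_biUnion (fun Q _ Q' _ hne => Finset.disjoint_left.2 fun g hg hg' => by
      simp only [Finset.mem_filter, Finset.mem_univ, true_and] at hg hg'
      exact hne (Sylow.ext ((zpowers_eq_of_prime_card (hS Q) hg.1 hg.2).symm.trans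
        (zpowers_eq_of_prime_card (hS Q') hg'.1 hg'.2))))]
    rw [Finset.sum_congr rfl (g := fun _ => T - (L.e : ℂ) * L.e) fun Q _ => ?_, Finset.sum_const,
      Finset.card_univ, ← Nat.card_eq_fintype_card, hsylow, nsmul_eq_mul]
    · push_cast; ring
    obtain ⟨a, ha⟩ := MulAction.exists_smul_eq G Q L.P
    rw [eq_sub_iff_add_eq', ← hf1, hT]
    have hset : (Finset.univ.filter fun g : G => g ∈ (Q : Subgroup G) ∧ g ≠ 1) =
        (Finset.univ.filter fun g : G => g ∈ (Q : Subgroup G)).erase 1 := by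
      ext g; simp [and_comm]
    rw [hset, Finset.add_sum_erase _ _ (by simp)]
    refine Finset.sum_bij (fun g hg => (⟨a * g * a⁻¹, by
      rw [← ha, Sylow.coe_subgroup_smul]
      exact ⟨g, (Finset.mem_filter.1 hg).2, rfl⟩⟩ : (L.P : Subgroup G)))
      (fun _ _ => Finset.mem_univ _) ?_ ?_ ?_
    · intro g _ g' _ h
      exact (MulAut.conj a).injective (congrArg Subtype.val h)
    · rintro ⟨x, hx⟩ _
      rw [← ha, Sylow.coe_subgroup_smul] at hx
      obtain ⟨y, hy, rfl⟩ := hx
      exact ⟨y, Finset.mem_filter.2 ⟨Finset.mem_univ _, hy⟩, Subtype.ext rfl⟩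
    · intro g _
      simp only [hf]
      rw [θ.2.isClassFunction g a]
  -- the restriction of `θ` to `P`
  obtain ⟨N, hN, hN'⟩ : ∃ N : ℕ, L.e ≤ N ∧ T = ((p * N : ℕ) : ℂ) := by
    haveI : Nontrivial (L.P : Subgroup G) := by
      rw [← Finite.one_lt_card_iff_nontrivial, hcard]; exact hpp.one_lt
    obtain ⟨x₀, hx₀⟩ := exists_ne (1 : (L.P : Subgroup G))
    have hord : orderOf (x₀ : G) = p := by
      rw [← Nat.card_zpowers, zpowers_eq_of_prime_card hcard x₀.2 (fun h => hx₀ (Subtype.ext h)), hcard]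
    obtain ⟨M, μ, hμ, hk⟩ := Char.exists_sum_roots θ.2.isCharacter (x₀ : G)
    rw [hord] at hμ
    have hM : M = L.e := by
      have := hk 0
      simp only [pow_zero, Finset.sum_const, Finset.card_univ, Fintype.card_fin, nsmul_one, hθ1] at this
      exact_mod_cast this.symm
    refine ⟨∑ l, (Finset.univ.filter fun j => μ j = μ l).card, ?_, ?_⟩
    · calc L.e = ∑ _l : Fin M, 1 := by simp [hM]
        _ ≤ _ := Finset.sum_le_sum fun l _ =>
          (Finset.card_pos.2 ⟨l, Finset.mem_filter.2 ⟨Finset.mem_univ l, rfl⟩⟩ :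
            0 < (Finset.univ.filter fun j => μ j = μ l).card)
    have hT' : T = ∑ i ∈ Finset.range p, f ((x₀ : G) ^ i) := by
      rw [hT]
      refine (Finset.sum_bij (fun i _ => x₀ ^ i) (fun _ _ => Finset.mem_univ _) ?_ ?_ ?_).symm
      · intro i hi j hj h
        rw [Finset.mem_range] at hi hj
        have h' : (x₀ : G) ^ i = (x₀ : G) ^ j := by simpa using congrArg Subtype.val h
        exact pow_injOn_Iio_orderOf (Set.mem_Iio.2 (hord.symm ▸ hi)) (Set.mem_Iio.2 (hord.symm ▸ hj)) h'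
      · intro x _
        have hx : (x : G) ∈ Subgroup.zpowers (x₀ : G) := by
          rw [zpowers_eq_of_prime_card hcard x₀.2 (fun h => hx₀ (Subtype.ext h))]; exact x.2
        rw [mem_zpowers_iff_mem_range_orderOf, hord, Finset.mem_image] at hx
        obtain ⟨i, hi, hix⟩ := hx
        exact ⟨i, hi, Subtype.ext (by simpa using hix)⟩
      · intro i _
        simp
    rw [hT']
    simp only [hf, hk, map_sum, map_pow, Finset.mul_sum]
    rw [Finset.sum_comm]
    push_cast
    refine Finset.sum_congr rfl fun l _ => ?_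
    rw [← sum_pow_inv_mul μ hμ (hμ l)]
    refine Finset.sum_congr rfl fun s _ => ?_
    rw [Complex.inv_eq_conj (Complex.norm_eq_one_of_pow_eq_one (hμ l) hpp.ne_zero), mul_comm]
  -- the multiplicities
  have hinner : ((∑ χ ∈ L.A, c χ : ℕ) : ℂ) * ((p : ℂ) * L.e) = (L.A.card : ℂ) * ((p * N : ℕ) : ℂ) := by
    have h1 : ((∑ χ ∈ L.A, c χ : ℕ) : ℂ) * (Nat.card G : ℂ) = ∑ g, f g * Φ g := by
      rw [Nat.cast_sum, Finset.sum_congr rfl fun χ _ => (hc χ).symm]
      simp only [classInner, hΦ, Finset.mul_sum, Finset.sum_mul]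
      rw [Finset.sum_comm]
      refine Finset.sum_congr rfl fun g _ => Finset.sum_congr rfl fun χ _ => ?_
      have : (Nat.card G : ℂ) ≠ 0 := Nat.cast_ne_zero.2 Nat.card_pos.ne'
      field_simp
    rw [← Finset.sum_filter_add_sum_filter_not (Finset.univ : Finset G) (fun g => p ∣ orderOf g), ← hSg,
      Finset.sum_congr (rfl : Sg = Sg) fun g hg => by rw [hΦsing g (Finset.mem_filter.1 hg).2],
      ← Finset.sum_mul, hsingsum, Finset.sum_eq_single_of_mem (1 : G)
        (Finset.mem_filter.2 ⟨Finset.mem_univ _, L.regular_one⟩)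
        (fun g hg hg1 => hreg g (Finset.mem_filter.1 hg).2 hg1), hf1, hN', L.card_G] at h1
    have hΦ1 : Φ 1 = ((L.k : ℂ) * p + 1) * (L.A.card : ℂ) := by
      simp only [hΦ]
      rw [Finset.sum_congr rfl (g := fun _ => (L.k : ℂ) * p + 1) fun χ hχ => by
        rw [Block.apply_one_eq_charDegree, map_natCast]
        have := L.A_deg χ hχ
        rw [hw χ hχ, one_mul] at this
        rw [this]; push_cast; ring, Finset.sum_const, nsmul_eq_mul]
      ring
    rw [hΦ1] at h1
    have hn0 : (L.k : ℂ) * p + 1 ≠ 0 := by exact_mod_cast Nat.succ_ne_zero (L.k * p)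
    refine mul_left_cancel₀ hn0 ?_
    push_cast at h1 ⊢
    linear_combination h1
  have hcA : L.A.card ≤ ∑ χ ∈ L.A, c χ := by
    have h1 : (∑ χ ∈ L.A, c χ) * (p * L.e) = L.A.card * (p * N) := by exact_mod_cast hinner
    refine Nat.le_of_mul_le_mul_right ?_ (Nat.mul_pos hpp.pos (Nat.pos_of_ne_zero L.e_ne))
    rw [h1]
    exact Nat.mul_le_mul_left _ (Nat.mul_le_mul_left p hN)
  have hone : c (one' G) = 1 := by
    have h : ((c (one' G) : ℕ) : ℂ) = classInner (θ : G → ℂ) (θ : G → ℂ) := by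
      rw [← hc (one' G)]
      simp only [classInner, hf, one'_apply, map_one, mul_one]
    rw [Char.classInner_irr_self θ.2] at h
    exact_mod_cast h
  have hnot : one' G ∉ L.A := fun h => by
    have h1 := L.A_deg _ h
    rw [hw _ h, one_mul, charDegree_one'] at h1
    have := Nat.le_mul_of_pos_left p L.one_le_k
    have := hpp.two_le
    omega
  have hsum : ((∑ χ ∈ insert (one' G) L.A, c χ * charDegree (χ : G → ℂ) : ℕ) : ℝ) ≤ (L.e : ℝ) * L.e := by
    have h := congrFun (Char.eq_sum_classInner hfc.isClassFunction) 1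
    rw [Finset.sum_apply, hf1] at h
    have h' : ((∑ χ : IrrCharacter G, c χ * charDegree (χ : G → ℂ) : ℕ) : ℂ) = ((L.e * L.e : ℕ) : ℂ) := by
      push_cast
      rw [h]
      refine Finset.sum_congr rfl fun χ _ => ?_
      rw [Pi.smul_apply, smul_eq_mul, hc χ, Block.apply_one_eq_charDegree]
    have h'' : ∑ χ : IrrCharacter G, c χ * charDegree (χ : G → ℂ) = L.e * L.e := by exact_mod_cast h'
    exact_mod_cast h'' ▸ Finset.sum_le_sum_of_subset (Finset.subset_univ (insert (one' G) L.A))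
  have hsum' : ∑ χ ∈ insert (one' G) L.A, c χ * charDegree (χ : G → ℂ) ≤ L.e * L.e := by
    exact_mod_cast hsum
  rw [Finset.sum_insert hnot, hone, one_mul, charDegree_one', Finset.sum_congr rfl
    (g := fun χ => c χ * (L.k * p + 1)) fun χ hχ => by
      have := L.A_deg χ hχ; rw [hw χ hχ, one_mul] at this; rw [this], ← Finset.sum_mul,
    mul_comm (∑ χ ∈ L.A, c χ)] at hsum'
  have := Nat.mul_le_mul_left (L.k * p + 1) hcA
  omega

end Layout

open Classical in
set_option maxHeartbeats 1000000 in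
/-- The outcome of Brauer's analysis. -/
theorem cases_of_degrees [IsSimpleGroup G] (hnc : ¬ IsCyclic G) {P : Sylow p G} {e t k : ℕ}
    (hP : Nat.card (P : Subgroup G) = p)
    (hCP : Subgroup.centralizer ((P : Subgroup G) : Set G) = (P : Subgroup G))
    (her : (Subgroup.centralizer ((P : Subgroup G) : Set G)).relIndex
      (Subgroup.normalizer ((P : Subgroup G) : Set G)) = e)
    (he : 2 ≤ e) (het : p = e * t + 1) (hG : Nat.card G = p * (e * (k * p + 1))) (hk : 1 ≤ k)
    (hn : Nat.card (Sylow p G) = k * p + 1) (S : Shape P e)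
    (hdeg : ∀ χ ∈ S.Z, χ ≠ one' G → (χ ∈ S.X ∨ t = 1) →
      (S.σ χ = 1 ∧ charDegree (χ : G → ℂ) = k * p + 1) ∨
        (S.σ χ = -1 ∧ charDegree (χ : G → ℂ) = p - 1))
    (hdegθ : 2 ≤ t → (S.σ S.θ = -1 ∧ charDegree (S.θ : G → ℂ) = e) ∨
      (S.σ S.θ = 1 ∧ t * charDegree (S.θ : G → ℂ) = k * p + 1)) :
    (5 ≤ p ∧ 2 * Nat.card G = p * (p ^ 2 - 1) ∧ Nat.card (Sylow p G) = p + 1) ∨
      Nonempty (LargeData G p) := by
  have hpp : p.Prime := hp.out
  have ht : 1 ≤ t := by
    rcases Nat.eq_zero_or_pos t with h | h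
    · rw [h, mul_zero] at het; exact absurd het hpp.ne_one
    · exact h
  have hep : e < p := by have := Nat.le_mul_of_pos_right e ht; omega
  have hodd : p ≠ 2 := by omega
  obtain ⟨F⟩ := exists_few_frame P hP hCP her (by omega) hep
  have hCc : Nat.card (Subgroup.centralizer ((P : Subgroup G) : Set G)) = p := by rw [hCP, hP]
  have hone : ¬ p ∣ orderOf (1 : G) := by rw [orderOf_one]; exact hpp.not_dvd_one
  have hp0 : (p : ℂ) ≠ 0 := Nat.cast_ne_zero.2 hpp.ne_zero
  set R : Finset (IrrCharacter G) := Finset.univ \ (S.X ∪ S.Y) with hR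
  have hR0 : ∀ χ ∈ R, ∀ x ∈ (P : Subgroup G), x ≠ 1 → (χ : G → ℂ) x = 0 := fun χ hχ x hx hx1 => by
    rw [hR, Finset.mem_sdiff, Finset.mem_union, not_or] at hχ
    exact S.apply_eq_zero_outside hCP hχ.2.1 hχ.2.2 hx hx1
  have hdimval : ∀ χ : IrrCharacter G, ∀ c : ℤ, (∀ x ∈ (P : Subgroup G), x ≠ 1 → (χ : G → ℂ) x = (c : ℂ)) →
      (p : ℤ) * F.dim χ = charDegree (χ : G → ℂ) + ((p : ℤ) - 1) * c := by
    intro χ c h
    have h1 := F.dim_eq χ
    rw [sum_sylow_const P hP _ h, Block.apply_one_eq_charDegree] at h1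
    exact_mod_cast h1
  have hdimplus : ∀ χ : IrrCharacter G, (∀ x ∈ (P : Subgroup G), x ≠ 1 → (χ : G → ℂ) x = ((1 : ℤ) : ℂ)) →
      charDegree (χ : G → ℂ) = k * p + 1 → F.dim χ = k + 1 := by
    intro χ h hd
    have h1 := hdimval χ 1 h
    rw [hd] at h1
    have : ((F.dim χ : ℕ) : ℤ) = ((k + 1 : ℕ) : ℤ) := by
      push_cast at h1 ⊢
      refine mul_left_cancel₀ (show (p : ℤ) ≠ 0 by omega) ?_
      linear_combination h1
    exact_mod_cast this
  have hzero : ∀ χ : IrrCharacter G, (∀ x ∈ (P : Subgroup G), x ≠ 1 → (χ : G → ℂ) x = ((-1 : ℤ) : ℂ)) →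
      charDegree (χ : G → ℂ) = p - 1 → ∀ s, ¬ e ∣ s → (χ : G → ℂ) (F.g ^ s) = 0 := by
    intro χ h hd s hs
    have h1 := hdimval χ (-1) h
    rw [hd, Nat.cast_sub hpp.one_le] at h1
    have h2 : F.dim χ = 0 := by
      have : ((F.dim χ : ℕ) : ℤ) = 0 :=
        (mul_eq_zero.1 (show (p : ℤ) * F.dim χ = 0 by rw [h1]; push_cast; ring)).resolve_left (by omega)
      exact_mod_cast this
    rw [F.value χ s hs]
    exact Finset.sum_eq_zero fun j _ => absurd j.2 (by omega)
  have hvalX : ∀ χ ∈ S.X, ∀ x ∈ (P : Subgroup G), x ≠ 1 → (χ : G → ℂ) x = (S.σ χ : ℂ) :=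
    fun χ h x hx hx1 => by
      have := S.val χ h x hx hx1 1 (Subgroup.one_mem _) hone
      rwa [mul_one] at this
  by_cases ht1 : t = 1
  · -- automizer of order `p - 1`
    exfalso
    subst ht1
    have hep1 : e + 1 = p := by omega
    have hY : S.Y = {S.θ} := by
      have h1 : S.Y.card = 1 := by rw [S.card_Y, show p - 1 = e by omega, Nat.div_self S.e_pos]
      obtain ⟨w, hw⟩ := Finset.card_eq_one.1 h1
      have := S.θ_mem
      rw [hw, Finset.mem_singleton] at this
      rw [hw, this]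
    have hZ : S.X ∪ S.Y = S.Z := by rw [hY, S.Z_eq, Finset.union_comm, Finset.singleton_union]
    set A := (S.Z.erase (one' G)).filter fun χ => S.σ χ = 1 with hA
    set B := (S.Z.erase (one' G)).filter fun χ => ¬ S.σ χ = 1 with hB
    have hmemA : ∀ χ ∈ A, χ ∈ S.Z ∧ S.σ χ = 1 ∧ charDegree (χ : G → ℂ) = k * p + 1 := fun χ hχ => by
      obtain ⟨h1, h2⟩ := Finset.mem_filter.1 hχ
      obtain ⟨h3, h4⟩ := Finset.mem_erase.1 h1
      rcases hdeg χ h4 h3 (Or.inr rfl) with h | h
      · exact ⟨h4, h2, h.2⟩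
      · rw [h.1] at h2; norm_num at h2
    have hmemB : ∀ χ ∈ B, χ ∈ S.Z ∧ S.σ χ = -1 ∧ charDegree (χ : G → ℂ) = p - 1 := fun χ hχ => by
      obtain ⟨h1, h2⟩ := Finset.mem_filter.1 hχ
      obtain ⟨h3, h4⟩ := Finset.mem_erase.1 h1
      rcases hdeg χ h4 h3 (Or.inr rfl) with h | h
      · exact absurd h.1 h2
      · exact ⟨h4, h.1, h.2⟩
    have hdimA : ∀ χ ∈ A, F.dim χ = k + 1 := fun χ hχ => hdimplus χ
      (fun x hx hx1 => by rw [S.val_all hep1 (hmemA χ hχ).1 hx hx1, (hmemA χ hχ).2.1])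
      (hmemA χ hχ).2.2
    have hzsum : ∀ Φ : IrrCharacter G → ℂ, ∑ χ ∈ S.Z, (S.σ χ : ℂ) * Φ χ =
        Φ (one' G) + ∑ χ ∈ A, Φ χ - ∑ χ ∈ B, Φ χ := by
      intro Φ
      rw [← Finset.add_sum_erase _ _ S.one_mem, S.sign_one, Int.cast_one, one_mul,
        ← Finset.sum_filter_add_sum_filter_not (S.Z.erase (one' G)) (fun χ => S.σ χ = 1), ← hA, ← hB,
        Finset.sum_congr (rfl : A = A) fun χ hχ => by rw [(hmemA χ hχ).2.1, Int.cast_one, one_mul],
        Finset.sum_congr (rfl : B = B) fun χ hχ => by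
          rw [(hmemB χ hχ).2.1, Int.cast_neg, Int.cast_one, neg_one_mul], Finset.sum_neg_distrib]
      ring
    have hsumdim : ∑ χ ∈ A, F.dim χ + 1 = e := by
      rw [Finset.sum_congr rfl hdimA, Finset.sum_const, smul_eq_mul]
      have h := hzsum fun χ => (charDegree (χ : G → ℂ) : ℂ)
      have h0 : ∑ χ ∈ S.Z, (S.σ χ : ℂ) * (charDegree (χ : G → ℂ) : ℂ) = 0 := by
        exact_mod_cast S.rel_deg
      rw [h0, charDegree_one', Finset.sum_congr (rfl : A = A) fun χ hχ => by rw [(hmemA χ hχ).2.2],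
        Finset.sum_congr (rfl : B = B) fun χ hχ => by rw [(hmemB χ hχ).2.2],
        Finset.sum_const, Finset.sum_const, nsmul_eq_mul, nsmul_eq_mul] at h
      have hc := Finset.card_filter_add_card_filter_not (s := S.Z.erase (one' G)) (fun χ => S.σ χ = 1)
      rw [← hA, ← hB, Finset.card_erase_of_mem S.one_mem, S.card_Z, Nat.add_sub_cancel] at hc
      have hc' : (A.card : ℂ) + (B.card : ℂ) = (e : ℂ) := by exact_mod_cast hc
      rw [Nat.cast_sub hpp.one_le] at h
      push_cast at h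
      have he' : (e : ℂ) + 1 = p := by exact_mod_cast hep1
      have : ((A.card * (k + 1) + 1 : ℕ) : ℂ) = (e : ℂ) := by
        push_cast
        refine mul_left_cancel₀ hp0 ?_
        linear_combination -h + ((p : ℂ) - 1) * hc' - he'
      exact_mod_cast this
    let L : Layout G p :=
      { P := P, e := e, t := 1, k := k, S := S, F := F, two_le_e := he, p_eq := het
        one_le_k := hk, card_G := hG, card_C := hCc, A := A, B := B, R := R, wt := fun _ => 1
        split := fun Φ _ => by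
          simp only [Nat.cast_one, one_mul]
          rw [hR, ← Finset.sum_sdiff (Finset.subset_univ (S.X ∪ S.Y)), hZ,
            ← Finset.add_sum_erase S.Z _ S.one_mem,
            ← Finset.sum_filter_add_sum_filter_not (S.Z.erase (one' G)) (fun χ => S.σ χ = 1)]
          simp only [hA, hB]
          ring
        zsum := fun Φ _ => hzsum Φ
        A_deg := fun χ hχ => by rw [one_mul]; exact (hmemA χ hχ).2.2
        A_dim := fun χ hχ => by rw [one_mul]; exact hdimA χ hχ
        B_deg := fun χ hχ => by rw [one_mul]; exact (hmemB χ hχ).2.2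
        B_zero := fun χ hχ => hzero χ
          (fun x hx hx1 => by rw [S.val_all hep1 (hmemB χ hχ).1 hx hx1, (hmemB χ hχ).2.1])
          (hmemB χ hχ).2.2
        R_zero := hR0
        sum_dim := hsumdim }
    have h1 : Odd e := L.odd_of_flat fun _ _ => rfl
    rcases hpp.eq_two_or_odd with h2 | h2
    · omega
    · rw [Nat.odd_iff] at h1; omega
  -- automizer of order at most `(p - 1) / 2`
  have ht2 : 2 ≤ t := by omega
  have hep1 : e + 1 < p := by
    have := Nat.mul_le_mul_left e ht2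
    omega
  have h1X := S.one_mem_X hep1
  have hθ1 := S.θ_ne_one hep1
  have hθX := S.θ_notMem
  set A₁ := (S.X.erase (one' G)).filter fun χ => S.σ χ = 1 with hA₁
  set B₁ := (S.X.erase (one' G)).filter fun χ => ¬ S.σ χ = 1 with hB₁
  have hmemA : ∀ χ ∈ A₁, χ ∈ S.X ∧ S.σ χ = 1 ∧ charDegree (χ : G → ℂ) = k * p + 1 := fun χ hχ => by
    obtain ⟨h1, h2⟩ := Finset.mem_filter.1 hχ
    obtain ⟨h3, h4⟩ := Finset.mem_erase.1 h1
    rcases hdeg χ (S.mem_Z.2 (Or.inr h4)) h3 (Or.inl h4) with h | h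
    · exact ⟨h4, h2, h.2⟩
    · rw [h.1] at h2; norm_num at h2
  have hmemB : ∀ χ ∈ B₁, χ ∈ S.X ∧ S.σ χ = -1 ∧ charDegree (χ : G → ℂ) = p - 1 := fun χ hχ => by
    obtain ⟨h1, h2⟩ := Finset.mem_filter.1 hχ
    obtain ⟨h3, h4⟩ := Finset.mem_erase.1 h1
    rcases hdeg χ (S.mem_Z.2 (Or.inr h4)) h3 (Or.inl h4) with h | h
    · exact absurd h.1 h2
    · exact ⟨h4, h.1, h.2⟩
  have hdimA : ∀ χ ∈ A₁, F.dim χ = k + 1 := fun χ hχ => hdimplus χ
    (fun x hx hx1 => by rw [hvalX χ (hmemA χ hχ).1 x hx hx1, (hmemA χ hχ).2.1]) (hmemA χ hχ).2.2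
  have hzeroB : ∀ χ ∈ B₁, ∀ s, ¬ e ∣ s → (χ : G → ℂ) (F.g ^ s) = 0 := fun χ hχ => hzero χ
    (fun x hx hx1 => by rw [hvalX χ (hmemB χ hχ).1 x hx hx1, (hmemB χ hχ).2.1]) (hmemB χ hχ).2.2
  have hYc : S.Y.card = t := by
    rw [S.card_Y, het, Nat.add_sub_cancel, Nat.mul_div_cancel_left _ (by omega)]
  have hagree : ∀ Φ : IrrCharacter G → ℂ, RegularInvariant p Φ → ∀ χ ∈ S.Y, Φ χ = Φ S.θ :=
    fun Φ hΦ χ hχ => hΦ χ S.θ (fun g hg => S.agree χ hχ g hg)
  have hzsum : ∀ Φ : IrrCharacter G → ℂ, ∑ χ ∈ S.Z, (S.σ χ : ℂ) * Φ χ =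
      Φ (one' G) + ∑ χ ∈ A₁, Φ χ - ∑ χ ∈ B₁, Φ χ + (S.σ S.θ : ℂ) * Φ S.θ := by
    intro Φ
    rw [S.Z_eq, Finset.sum_insert hθX, ← Finset.add_sum_erase _ _ h1X, S.sign_one, Int.cast_one,
      one_mul, ← Finset.sum_filter_add_sum_filter_not (S.X.erase (one' G)) (fun χ => S.σ χ = 1),
      ← hA₁, ← hB₁,
      Finset.sum_congr (rfl : A₁ = A₁) fun χ hχ => by rw [(hmemA χ hχ).2.1, Int.cast_one, one_mul],
      Finset.sum_congr (rfl : B₁ = B₁) fun χ hχ => by
        rw [(hmemB χ hχ).2.1, Int.cast_neg, Int.cast_one, neg_one_mul], Finset.sum_neg_distrib]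
    ring
  have hsplit : ∀ Φ : IrrCharacter G → ℂ, RegularInvariant p Φ →
      ∑ χ, Φ χ = Φ (one' G) + ∑ χ ∈ A₁, Φ χ + ∑ χ ∈ B₁, Φ χ + (t : ℂ) * Φ S.θ + ∑ χ ∈ R, Φ χ := by
    intro Φ hΦ
    rw [hR, ← Finset.sum_sdiff (Finset.subset_univ (S.X ∪ S.Y)), Finset.sum_union S.disj,
      ← Finset.add_sum_erase S.X _ h1X,
      ← Finset.sum_filter_add_sum_filter_not (S.X.erase (one' G)) (fun χ => S.σ χ = 1),
      Finset.sum_congr (rfl : S.Y = S.Y) (hagree Φ hΦ), Finset.sum_const, hYc, nsmul_eq_mul]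
    simp only [hA₁, hB₁]
    ring
  have hcount : (A₁.card : ℤ) + B₁.card + 1 = e := by
    have hc := Finset.card_filter_add_card_filter_not (s := S.X.erase (one' G)) (fun χ => S.σ χ = 1)
    rw [← hA₁, ← hB₁, Finset.card_erase_of_mem h1X, S.card_X] at hc
    omega
  have hrel : 1 + (A₁.card : ℤ) * (k * p + 1) - (B₁.card : ℤ) * ((p : ℤ) - 1) +
      S.σ S.θ * (charDegree (S.θ : G → ℂ) : ℤ) = 0 := by
    have h := hzsum fun χ => (charDegree (χ : G → ℂ) : ℂ)
    have h0 : ∑ χ ∈ S.Z, (S.σ χ : ℂ) * (charDegree (χ : G → ℂ) : ℂ) = 0 := by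
      exact_mod_cast S.rel_deg
    rw [h0, charDegree_one', Finset.sum_congr (rfl : A₁ = A₁) fun χ hχ => by rw [(hmemA χ hχ).2.2],
      Finset.sum_congr (rfl : B₁ = B₁) fun χ hχ => by rw [(hmemB χ hχ).2.2],
      Finset.sum_const, Finset.sum_const, nsmul_eq_mul, nsmul_eq_mul, Nat.cast_sub hpp.one_le] at h
    push_cast at h
    have : ((1 + (A₁.card : ℤ) * (k * p + 1) - (B₁.card : ℤ) * ((p : ℤ) - 1) +
      S.σ S.θ * (charDegree (S.θ : G → ℂ) : ℤ) : ℤ) : ℂ) = ((0 : ℤ) : ℂ) := by
      push_cast; linear_combination -h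
    exact_mod_cast this
  have hpz : (p : ℤ) = (e : ℤ) * t + 1 := by exact_mod_cast het
  rcases hdegθ ht2 with ⟨hσ, hf⟩ | ⟨hσ, hf⟩
  · -- negative sign
    left
    rw [hσ, hf] at hrel
    have hsumA : A₁.card * (k + 1) + 1 = e := by
      have : (p : ℤ) * ((A₁.card : ℤ) * (k + 1) + 1 - e) = 0 := by
        linear_combination hrel + ((p : ℤ) - 1) * hcount
      rcases mul_eq_zero.1 this with h | h
      · omega
      · have h' : ((A₁.card * (k + 1) + 1 : ℕ) : ℤ) = (e : ℤ) := by push_cast; linarith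
        exact_mod_cast h'
    have hθB : S.θ ∉ B₁ := fun h => hθX (hmemB _ h).1
    have hθA : S.θ ∉ A₁ := fun h => hθX (hmemA _ h).1
    have hdimY : ∀ θ' ∈ S.Y, F.dim θ' = 0 := by
      have h1 : ∑ θ' ∈ S.Y, (p : ℂ) * F.dim θ' =
          ∑ x : (P : Subgroup G), ∑ θ' ∈ S.Y, (θ' : G → ℂ) x := by
        rw [Finset.sum_comm]; exact Finset.sum_congr rfl fun θ' _ => F.dim_eq θ'
      rw [← Finset.mul_sum, sum_sylow_const P hP (fun x => ∑ θ' ∈ S.Y, (θ' : G → ℂ) x)
        (fun x hx hx1 => S.sum_Y_apply hx hx1), hσ,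
        Finset.sum_congr rfl (fun θ' h => S.agree θ' h 1 hone), Finset.sum_const, hYc,
        Block.apply_one_eq_charDegree, hf, nsmul_eq_mul] at h1
      have h2 : ((∑ θ' ∈ S.Y, F.dim θ' : ℕ) : ℂ) = 0 := by
        refine (mul_eq_zero.1 (show (p : ℂ) * ((∑ θ' ∈ S.Y, F.dim θ' : ℕ) : ℂ) = 0 from ?_)).resolve_left hp0
        push_cast at h1 ⊢
        rw [h1, show (p : ℂ) = (e : ℂ) * t + 1 by exact_mod_cast het]
        ring
      exact fun θ' h => Finset.sum_eq_zero_iff.1 (by exact_mod_cast h2) θ' h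
    have hθzero : ∀ s, ¬ e ∣ s → (S.θ : G → ℂ) (F.g ^ s) = 0 := fun s hs => by
      rw [F.value S.θ s hs]
      exact Finset.sum_eq_zero fun j _ => absurd j.2 (by have := hdimY S.θ S.θ_mem; omega)
    let L : Layout G p :=
      { P := P, e := e, t := t, k := k, S := S, F := F, two_le_e := he, p_eq := het
        one_le_k := hk, card_G := hG, card_C := hCc, A := A₁, B := insert S.θ B₁, R := R
        wt := fun χ => if χ = S.θ then t else 1
        split := fun Φ hΦ => by
          rw [hsplit Φ hΦ, Finset.sum_insert hθB, if_pos rfl,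
            Finset.sum_congr (rfl : A₁ = A₁) (g := fun χ => ((if χ = S.θ then t else 1 : ℕ) : ℂ) * Φ χ)
              fun χ hχ => by rw [if_neg (fun h => hθA (by rwa [h] at hχ)), Nat.cast_one, one_mul],
            Finset.sum_congr (rfl : B₁ = B₁) (g := fun χ => ((if χ = S.θ then t else 1 : ℕ) : ℂ) * Φ χ)
              fun χ hχ => by rw [if_neg (fun h => hθB (by rwa [h] at hχ)), Nat.cast_one, one_mul]]
          ring
        zsum := fun Φ _ => by
          rw [hzsum Φ, Finset.sum_insert hθB, hσ]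
          push_cast
          ring
        A_deg := fun χ hχ => by
          rw [if_neg (fun h => hθA (by rwa [h] at hχ)), one_mul]; exact (hmemA χ hχ).2.2
        A_dim := fun χ hχ => by
          rw [if_neg (fun h => hθA (by rwa [h] at hχ)), one_mul]; exact hdimA χ hχ
        B_deg := fun χ hχ => by
          rcases Finset.mem_insert.1 hχ with rfl | h
          · rw [if_pos rfl, hf, het, Nat.add_sub_cancel, mul_comm]
          · rw [if_neg (fun h' => hθB (by rwa [h'] at h)), one_mul]; exact (hmemB χ h).2.2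
        B_zero := fun χ hχ => by
          rcases Finset.mem_insert.1 hχ with rfl | h
          · exact hθzero
          · exact hzeroB χ h
        R_zero := hR0
        sum_dim := by rw [Finset.sum_congr rfl hdimA, Finset.sum_const, smul_eq_mul]; exact hsumA }
    have hwt : ∀ χ ∈ L.A, L.wt χ = 1 := fun χ hχ => if_neg (fun h => hθA (by rwa [h] at hχ))
    have hbound : 1 + (k * p + 1) * A₁.card ≤ e * e := L.small_bound hwt
      (fun χ hχ x hx hx1 => by
        rw [hvalX χ (hmemA χ hχ).1 x hx hx1, (hmemA χ hχ).2.1, Int.cast_one]) S.θ hθzero hf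
    have hineq : (k * p + 1) ≤ (k + 1) * (e + 1) := by
      have ha : A₁.card * (k + 1) = e - 1 := by omega
      have h2 : (k * p + 1) * (e - 1) + (k + 1) ≤ e * e * (k + 1) := by
        have h1 := Nat.mul_le_mul_right (k + 1) hbound
        calc (k * p + 1) * (e - 1) + (k + 1) = (1 + (k * p + 1) * A₁.card) * (k + 1) := by
              rw [← ha]; ring
          _ ≤ e * e * (k + 1) := h1
      have he2 : e * e * (k + 1) = (k + 1) * (e + 1) * (e - 1) + (k + 1) := by
        obtain ⟨r, rfl⟩ : ∃ r, e = r + 1 := ⟨e - 1, by omega⟩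
        rw [Nat.add_sub_cancel]; ring
      rw [he2] at h2
      exact Nat.le_of_mul_le_mul_right (Nat.add_le_add_iff_right.1 h2) (by omega)
    have hk1 : k = 1 ∧ t = 2 := by
      rw [het] at hineq
      rcases Nat.lt_or_ge t 3 with h3 | h3
      · obtain rfl : t = 2 := by omega
        refine ⟨?_, rfl⟩
        by_contra hne
        have h1 := Nat.mul_le_mul_right e (show 2 ≤ k by omega)
        linarith
      · exfalso
        have h1 := Nat.mul_le_mul_left (k * e) h3
        have h2 := Nat.mul_le_mul_left k he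
        linarith [Nat.mul_le_mul_right e hk]
    obtain ⟨rfl, rfl⟩ := hk1
    refine ⟨by omega, ?_, by rw [hn, one_mul]⟩
    rw [hG, het, show (e * 2 + 1) ^ 2 - 1 = 4 * e * e + 4 * e by
      rw [show (e * 2 + 1) ^ 2 = 4 * e * e + 4 * e + 1 by ring]; omega]
    ring
  -- positive sign
  rw [hσ] at hrel
  have hfz : (t : ℤ) * (charDegree (S.θ : G → ℂ) : ℤ) = (k : ℤ) * p + 1 := by exact_mod_cast hf
  obtain ⟨l, hl⟩ : ∃ l : ℤ, (charDegree (S.θ : G → ℂ) : ℤ) + e = l * p := by
    have := S.congθ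
    rw [hσ, one_mul] at this
    obtain ⟨j, hj⟩ := Int.modEq_iff_dvd.1 this
    exact ⟨-j, by linarith⟩
  have hl0 : 0 ≤ l := by
    by_contra hcon
    have : l * (p : ℤ) ≤ -1 * p := mul_le_mul_of_nonneg_right (by omega) (by omega)
    omega
  obtain ⟨l, rfl⟩ : ∃ l' : ℕ, l = (l' : ℤ) := ⟨l.toNat, (Int.toNat_of_nonneg hl0).symm⟩
  have htl : t * l = k + 1 := by
    have : (p : ℤ) * ((t : ℤ) * l - (k + 1)) = 0 := by
      linear_combination hfz - (t : ℤ) * hl - hpz
    rcases mul_eq_zero.1 this with h | h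
    · omega
    · have h' : ((t * l : ℕ) : ℤ) = ((k + 1 : ℕ) : ℤ) := by push_cast; linarith
      exact_mod_cast h'
  have hl1 : 1 ≤ l := by
    rcases Nat.eq_zero_or_pos l with h | h
    · rw [h, mul_zero] at htl; omega
    · exact h
  have hsumA : A₁.card * (k + 1) + l + 1 = e := by
    have : (p : ℤ) * ((A₁.card : ℤ) * (k + 1) + l + 1 - e) = 0 := by
      linear_combination hrel + ((p : ℤ) - 1) * hcount - hl
    rcases mul_eq_zero.1 this with h | h
    · omega
    · have h' : ((A₁.card * (k + 1) + l + 1 : ℕ) : ℤ) = (e : ℤ) := by push_cast; linarith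
      exact_mod_cast h'
  by_cases hl2 : l = 1
  · subst hl2
    rw [mul_one] at htl
    by_cases hk2 : k = 1
    · left
      subst hk2
      obtain rfl : t = 2 := by omega
      refine ⟨by omega, ?_, by rw [hn, one_mul]⟩
      rw [hG, het, show (e * 2 + 1) ^ 2 - 1 = 4 * e * e + 4 * e by
        rw [show (e * 2 + 1) ^ 2 = 4 * e * e + 4 * e + 1 by ring]; omega]
      ring
    right
    subst htl
    have hkn : k * p + 1 = (k + 1) * (k * e + 1) := by rw [het]; ring
    refine ⟨⟨P, e, k, S, by omega, he, ?_, het, by rw [hG, hkn], hCc, hσ, ?_, h1X, ?_, ?_⟩⟩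
    · rcases Nat.even_or_odd e with h | h
      · exact h
      · exfalso
        have hev : Even (e * (k + 1)) := by
          rcases hpp.eq_two_or_odd with h' | h'
          · omega
          · rw [Nat.even_iff]; omega
        have hk' : Even (k + 1) := (Nat.even_mul.1 hev).resolve_left (Nat.not_even_iff_odd.2 h)
        have h2 : Even (A₁.card * (k + 1)) := hk'.mul_left _
        rw [Nat.even_iff] at h2
        rw [Nat.odd_iff] at h
        omega
    · have : (charDegree (S.θ : G → ℂ) : ℤ) = ((k * e + 1 : ℕ) : ℤ) := by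
        push_cast at hl hpz ⊢
        linear_combination hl + hpz
      exact_mod_cast this
    · intro χ hχ hne
      rcases hdeg χ (S.mem_Z.2 (Or.inr hχ)) hne (Or.inl hχ) with h | h
      · exact Or.inl ⟨h.1, h.2.trans hkn⟩
      · exact Or.inr h
    · show A₁.card * (k + 1) + 2 = e
      omega
  -- several dimensions: impossible
  exfalso
  obtain ⟨θ₀, hθ₀, hdim₀⟩ : ∃ θ₀ ∈ S.Y, F.dim θ₀ ≤ l := by
    by_contra hcon
    push Not at hcon
    have h1 : ∑ θ' ∈ S.Y, (p : ℂ) * F.dim θ' =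
        ∑ x : (P : Subgroup G), ∑ θ' ∈ S.Y, (θ' : G → ℂ) x := by
      rw [Finset.sum_comm]; exact Finset.sum_congr rfl fun θ' _ => F.dim_eq θ'
    rw [← Finset.mul_sum, sum_sylow_const P hP (fun x => ∑ θ' ∈ S.Y, (θ' : G → ℂ) x)
      (fun x hx hx1 => S.sum_Y_apply hx hx1), hσ,
      Finset.sum_congr rfl (fun θ' h => S.agree θ' h 1 hone), Finset.sum_const, hYc,
      Block.apply_one_eq_charDegree, nsmul_eq_mul] at h1
    have h2 : ((∑ θ' ∈ S.Y, F.dim θ' : ℕ) : ℂ) = ((k + 1 : ℕ) : ℂ) := by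
      refine mul_left_cancel₀ hp0 ?_
      have hfc : (t : ℂ) * (charDegree (S.θ : G → ℂ) : ℂ) = (k : ℂ) * p + 1 := by exact_mod_cast hf
      push_cast at h1 ⊢
      linear_combination h1 + hfc
    have h3 : ∑ θ' ∈ S.Y, F.dim θ' = k + 1 := by exact_mod_cast h2
    have h4 := Finset.card_nsmul_le_sum S.Y F.dim (l + 1) fun θ' h => hcon θ' h
    rw [hYc, h3, smul_eq_mul, mul_add, htl] at h4
    omega
  have hθ₀X : θ₀ ∉ S.X := fun h => Finset.disjoint_left.1 S.disj h hθ₀
  have hθ₀A : θ₀ ∉ A₁ := fun h => hθ₀X (hmemA _ h).1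
  have hθ₀v : ∀ s, ¬ e ∣ s → (S.θ : G → ℂ) (F.g ^ s) = (θ₀ : G → ℂ) (F.g ^ s) := fun s _ =>
    (S.agree θ₀ hθ₀ _ (F.regular (by omega) hep s)).symm
  have hdim0 : F.dim θ₀ = l := by
    choose N hN using F.trivial_sum
    have h : ∀ s ∈ Finset.range e, 1 + ∑ χ ∈ A₁, F.v χ s + F.v θ₀ s =
        if s = 0 then ((1 + A₁.card * (k + 1) + F.dim θ₀ : ℕ) : ℂ) else 0 := by
      intro s hs
      by_cases h0 : s = 0
      · subst h0
        rw [if_pos rfl, F.v_zero, Finset.sum_congr rfl fun χ hχ => by rw [F.v_zero, hdimA χ hχ],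
          Finset.sum_const, nsmul_eq_mul]
        push_cast; ring
      · rw [if_neg h0]
        have hsd : ¬ e ∣ s := fun hd => by
          have := Nat.le_of_dvd (by omega) hd; rw [Finset.mem_range] at hs; omega
        have h := hzsum fun χ => (χ : G → ℂ) (F.g ^ s)
        rw [S.rel _ (F.regular (by omega) hep s), one'_apply, hσ, Int.cast_one, one_mul,
          Finset.sum_eq_zero (s := B₁) (fun χ hχ => hzeroB χ hχ s hsd), sub_zero, hθ₀v s hsd,
          F.value θ₀ s hsd, Finset.sum_congr (rfl : A₁ = A₁) (fun χ _ => F.value χ s hsd)] at h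
        exact h.symm
    have h2 := Finset.sum_congr (s₁ := Finset.range e) rfl h
    rw [Finset.sum_add_distrib, Finset.sum_add_distrib, Finset.sum_comm, hN θ₀,
      Finset.sum_congr rfl fun χ _ => hN χ, Finset.sum_const, Finset.card_range, nsmul_one,
      Finset.sum_ite_eq', if_pos (Finset.mem_range.2 (by omega)), ← Nat.cast_sum, ← Nat.cast_add,
      ← Nat.cast_add, Nat.cast_inj, ← Finset.mul_sum] at h2
    have h3 : e * 1 + e * (∑ χ ∈ A₁, N χ) + e * N θ₀ ≥ e := by omega
    omega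
  let L : Layout G p :=
    { P := P, e := e, t := t, k := k, S := S, F := F, two_le_e := he, p_eq := het
      one_le_k := hk, card_G := hG, card_C := hCc, A := insert θ₀ A₁, B := B₁, R := R
      wt := fun χ => if χ = θ₀ then t else 1
      split := fun Φ hΦ => by
        rw [hsplit Φ hΦ, Finset.sum_insert hθ₀A, if_pos rfl, hagree Φ hΦ θ₀ hθ₀,
          Finset.sum_congr (rfl : A₁ = A₁) (g := fun χ => ((if χ = θ₀ then t else 1 : ℕ) : ℂ) * Φ χ)
            fun χ hχ => by rw [if_neg (fun h => hθ₀A (by rwa [h] at hχ)), Nat.cast_one, one_mul],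
          Finset.sum_congr (rfl : B₁ = B₁) (g := fun χ => ((if χ = θ₀ then t else 1 : ℕ) : ℂ) * Φ χ)
            fun χ hχ => by rw [if_neg (fun h => hθ₀X (by rw [← h]; exact (hmemB χ hχ).1)), Nat.cast_one, one_mul]]
        ring
      zsum := fun Φ hΦ => by
        rw [hzsum Φ, Finset.sum_insert hθ₀A, hσ, hagree Φ hΦ θ₀ hθ₀]
        push_cast
        ring
      A_deg := fun χ hχ => by
        rcases Finset.mem_insert.1 hχ with rfl | h
        · rw [if_pos rfl]
          have hd : charDegree (χ : G → ℂ) = charDegree (S.θ : G → ℂ) := by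
            have h := S.agree χ hθ₀ 1 hone
            rw [Block.apply_one_eq_charDegree, Block.apply_one_eq_charDegree] at h
            exact_mod_cast h
          rw [hd, hf]
        · rw [if_neg (fun h' => hθ₀A (by rwa [h'] at h)), one_mul]; exact (hmemA χ h).2.2
      A_dim := fun χ hχ => by
        rcases Finset.mem_insert.1 hχ with rfl | h
        · rw [if_pos rfl, hdim0]; exact htl
        · rw [if_neg (fun h' => hθ₀A (by rwa [h'] at h)), one_mul]; exact hdimA χ h
      B_deg := fun χ hχ => by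
        rw [if_neg (fun h => hθ₀X (by rw [← h]; exact (hmemB χ hχ).1)), one_mul]
        exact (hmemB χ hχ).2.2
      B_zero := hzeroB
      R_zero := hR0
      sum_dim := by
        rw [Finset.sum_insert hθ₀A, Finset.sum_congr rfl hdimA, Finset.sum_const, smul_eq_mul, hdim0]
        omega }
  have hl3 : 2 ≤ l := by omega
  rcases Nat.even_or_odd e with hev | hev
  swap
  · -- odd order: an involution forces an even degree
    haveI : Fact (Nat.Prime 2) := ⟨Nat.prime_two⟩
    have ht_even : 2 ∣ t := by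
      rcases hpp.eq_two_or_odd with h | h
      · omega
      · have hev' : Even (e * t) := by rw [Nat.even_iff]; omega
        exact ((Nat.even_mul.1 hev').resolve_left (Nat.not_even_iff_odd.2 hev)).two_dvd
    have hkodd : 2 ∣ k + 1 := htl ▸ dvd_mul_of_dvd_left ht_even l
    have hleven : 2 ∣ l := by
      have := dvd_mul_of_dvd_right hkodd A₁.card
      rw [Nat.odd_iff] at hev
      omega
    have hnev : 2 ∣ Nat.card G := by
      rw [hG]
      refine dvd_mul_of_dvd_right (dvd_mul_of_dvd_right ?_ e) p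
      have hk2 : Odd (k * p) := (Nat.odd_iff.2 (by omega)).mul (hpp.odd_of_ne_two hodd)
      rw [Nat.odd_iff] at hk2
      omega
    obtain ⟨v, hv⟩ := exists_prime_orderOf_dvd_card' (G := G) 2 hnev
    have hvreg : ¬ p ∣ orderOf v := by
      rw [hv]; intro h; have := Nat.le_of_dvd two_pos h; omega
    have hv1 : v ≠ 1 := fun h => by rw [h, orderOf_one] at hv; norm_num at hv
    have h0 := L.vanish hvreg hv1 (fun s _ hc => by
      obtain ⟨a, ha⟩ := isConj_iff.1 hc
      have h1 : orderOf (F.g ^ s) = 2 := by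
        rw [← hv, ← ha]; exact ((MulAut.conj a).orderOf_eq _).symm
      have h2 : 2 ∣ e := h1 ▸ (orderOf_pow_dvd s).trans F.ord.dvd
      rw [Nat.odd_iff] at hev
      omega) (χ := θ₀) (Finset.mem_insert_self _ _)
    obtain ⟨N, μ, hμ, hk'⟩ := Char.exists_sum_roots θ₀.2.isCharacter v
    rw [hv] at hμ
    have hN : (N : ℤ) = (charDegree (S.θ : G → ℂ) : ℤ) := by
      have h := hk' 0
      simp only [pow_zero, Finset.sum_const, Finset.card_univ, Fintype.card_fin, nsmul_one] at h
      rw [S.agree θ₀ hθ₀ 1 hone, Block.apply_one_eq_charDegree] at h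
      exact_mod_cast h.symm
    have h1 := hk' 1
    simp only [pow_one] at h1
    have hsign : ∀ j, μ j = 1 ∨ μ j = -1 := fun j => sq_eq_one_iff.1 (hμ j)
    have hc := Finset.card_filter_add_card_filter_not
      (s := (Finset.univ : Finset (Fin N))) (fun j => μ j = 1)
    rw [h0, ← Finset.sum_filter_add_sum_filter_not _ (fun j => μ j = 1),
      Finset.sum_congr rfl (g := fun _ => (1 : ℂ)) fun j hj => (Finset.mem_filter.1 hj).2,
      Finset.sum_congr rfl (g := fun _ => (-1 : ℂ)) fun j hj =>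
        (hsign j).resolve_left (Finset.mem_filter.1 hj).2,
      Finset.sum_const, Finset.sum_const, nsmul_eq_mul, nsmul_eq_mul, mul_one, mul_neg_one,
      ← sub_eq_add_neg] at h1
    have h2 : (0 : ℤ) = ((Finset.univ.filter fun j => μ j = 1).card : ℤ) -
        ((Finset.univ.filter fun j => ¬ μ j = 1).card : ℤ) := by exact_mod_cast h1
    rw [Finset.card_univ, Fintype.card_fin] at hc
    obtain ⟨l', rfl⟩ := hleven
    push_cast at hl
    have hlp : 2 * (l' : ℤ) * p = 2 * ((l' : ℤ) * p) := by ring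
    rw [Nat.odd_iff] at hev
    omega
  -- even order
  have hlodd : l % 2 = 1 := by
    have h1 : e = l * (A₁.card * t + 1) + 1 := by rw [← hsumA, ← htl]; ring
    rw [Nat.even_iff] at hev
    have h2 : (l * (A₁.card * t + 1)) % 2 = 1 := by omega
    rw [Nat.mul_mod] at h2
    rcases Nat.mod_two_eq_zero_or_one l with h | h
    · rw [h, zero_mul] at h2; omega
    · exact h
  have hl3 : 3 ≤ l := by omega
  by_cases ha : A₁.card = 0
  · rw [ha, zero_mul, zero_add] at hsumA
    obtain ⟨w, -, hww, hX⟩ := L.count_involution hev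
    have hA : L.A = {θ₀} := by
      show insert θ₀ A₁ = {θ₀}
      rw [Finset.card_eq_zero.1 ha, insert_empty_eq]
    have hv := L.rel_pow (L.half hev).1
    rw [hA, Finset.sum_singleton] at hv
    rw [hA, Finset.sum_singleton, hv] at hX
    change ((if θ₀ = θ₀ then t else 1 : ℕ) : ℂ) * (-1 * -1) = (e : ℂ) * w - k - 1 at hX
    rw [if_pos rfl] at hX
    change w * w = w + k * t at hww
    have hX' : t + (k + 1) = e * w := by
      have h : ((t + (k + 1) : ℕ) : ℂ) = ((e * w : ℕ) : ℂ) := by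
        push_cast
        linear_combination hX
      exact_mod_cast h
    have hwt : w = t := by
      refine (Nat.eq_of_mul_eq_mul_left (show 0 < e by omega) ?_).symm
      rw [← hX', ← htl, ← hsumA]
      ring
    subst hwt
    have h2 : w = k + 1 := by
      refine Nat.eq_of_mul_eq_mul_right (show 0 < w by omega) ?_
      rw [hww]; ring
    have h3 := Nat.mul_le_mul_left w hl3
    omega
  obtain ⟨w, hC, hww, hX⟩ := L.count_involution hev
  have hb := L.count_bound hev hC hX
  have hAcard : (L.A.card : ℤ) = (A₁.card : ℤ) + 1 := by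
    show (((insert θ₀ A₁).card : ℕ) : ℤ) = _
    rw [Finset.card_insert_of_notMem hθ₀A]; push_cast; ring
  rw [hAcard] at hb
  change ((e : ℤ) - 1) * (k * p + 1) * (p + k) - p * (k + 1) * (e * w - k - 1) ≤
    (e : ℤ) * w * w * (((k : ℤ) + 1) * ((A₁.card : ℤ) + 1) * e) at hb
  have hwwz : (w : ℤ) * w = w + k * t := by exact_mod_cast hww
  have htlz : (t : ℤ) * l = k + 1 := by exact_mod_cast htl
  have hsumz : (A₁.card : ℤ) * (k + 1) + l + 1 = e := by exact_mod_cast hsumA
  set a : ℤ := (A₁.card : ℤ) with hadef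
  have haz : 1 ≤ a := by rw [hadef]; exact_mod_cast Nat.one_le_iff_ne_zero.2 ha
  have ht2z : (2 : ℤ) ≤ t := by exact_mod_cast ht2
  have hl3z : (3 : ℤ) ≤ l := by exact_mod_cast hl3
  have hez : (2 : ℤ) ≤ e := by exact_mod_cast he
  have hkz : (1 : ℤ) ≤ k := by exact_mod_cast hk
  have hw0 : (0 : ℤ) ≤ w := Int.natCast_nonneg w
  have he1 : (l : ℤ) * (t + 1) ≤ e - 1 := by
    have : 1 * ((k : ℤ) + 1) ≤ a * (k + 1) := mul_le_mul_of_nonneg_right haz (by omega)
    linarith
  have hQ : ((k : ℤ) + 1) * (a + 1) * (t + 1) ≤ 2 * t * ((e : ℤ) - 1) := by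
    have h1 : ((k : ℤ) + 1) * (a + 1) = (e : ℤ) - 1 + l * (t - 1) := by
      linear_combination hsumz - htlz
    rw [h1]
    linarith [mul_le_mul_of_nonneg_left he1 (show (0 : ℤ) ≤ t - 1 by omega)]
  have hK : ((k : ℤ) + 1) * (t + 1) ≤ t * ((e : ℤ) - 1) := by
    rw [← htlz, mul_assoc]; exact mul_le_mul_of_nonneg_left he1 (by omega)
  have hlow : ((e : ℤ) - 1) * k * (e * t) * (e * t) ≤
      e * w * w * ((k + 1) * (a + 1) * e) + p * (k + 1) * (e * w) := by
    have hp0z : (0 : ℤ) ≤ p := Int.natCast_nonneg p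
    have hkp : (0 : ℤ) ≤ (k : ℤ) * p := mul_nonneg (by omega) hp0z
    have h1 : (k : ℤ) * p * p ≤ ((k : ℤ) * p + 1) * (p + k) :=
      mul_le_mul (by omega) (by omega) hp0z (by omega)
    have het0 : (0 : ℤ) ≤ (e : ℤ) * t := mul_nonneg (by omega) (by omega)
    have h1' : (k : ℤ) * ((e : ℤ) * t) * (e * t) ≤ (k : ℤ) * p * p :=
      mul_le_mul (mul_le_mul_of_nonneg_left (by omega) (by omega)) (by omega) het0 hkp
    have h2 := mul_le_mul_of_nonneg_left (h1'.trans h1) (show (0 : ℤ) ≤ (e : ℤ) - 1 by omega)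
    have h3 : 0 ≤ (p : ℤ) * (k + 1) * (k + 1) := by positivity
    linarith
  have hmul := mul_le_mul_of_nonneg_right hlow (show (0 : ℤ) ≤ (t : ℤ) + 1 by omega)
  have h4 : ((e : ℤ) - 1) * t * e * ((t + 1) * k * e * t) ≤
      ((e : ℤ) - 1) * t * e * (2 * e * (w * w) + p * w) := by
    have h5 := mul_le_mul_of_nonneg_left hQ (show (0 : ℤ) ≤ e * w * w * e by positivity)
    have h6 := mul_le_mul_of_nonneg_left hK (show (0 : ℤ) ≤ p * (e * w) by positivity)
    linarith
  have h7 : ((t : ℤ) + 1) * k * e * t ≤ 2 * e * (w * w) + p * w :=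
    le_of_mul_le_mul_left h4 (mul_pos (mul_pos (by omega) (by omega)) (by omega))
  have hwpos : (1 : ℤ) ≤ w := by
    rcases eq_or_lt_of_le hw0 with h | h
    · rw [← h] at hwwz; linarith [mul_pos (show (0 : ℤ) < k by omega) (show (0 : ℤ) < t by omega)]
    · omega
  have h8 : (e : ℤ) * w * ((w - 1) * (t - 1)) ≤ e * w * (t + 3) := by
    rw [hpz] at h7
    have h9 : (k : ℤ) * t = w * (w - 1) := by linear_combination -hwwz
    have h10 : (w : ℤ) ≤ e * w := le_mul_of_one_le_left hw0 (by omega)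
    have h12 : (e : ℤ) * (w * w) = e * (w + k * t) := by rw [hwwz]
    calc (e : ℤ) * w * ((w - 1) * (t - 1)) = e * (k * t) * (t - 1) := by rw [h9]; ring
      _ ≤ e * w * (t + 3) := by linarith
  have h11 : ((w : ℤ) - 1) * (t - 1) ≤ t + 3 :=
    le_of_mul_le_mul_left h8 (mul_pos (by omega) (by omega))
  have hkt : (w : ℤ) * (w - 1) = t * (t * l - 1) := by
    linear_combination hwwz - (t : ℤ) * htlz
  rcases (show (t : ℤ) = 2 ∨ 3 ≤ (t : ℤ) by omega) with h | h
  · have hw5 : w ≤ 6 := by rw [h] at h11; omega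
    rw [h] at hkt
    interval_cases w <;> norm_num at hkt <;> omega
  · have hw2 : (t : ℤ) + 2 ≤ w := by
      by_contra hcon
      have h12 : (w : ℤ) * (w - 1) ≤ (t + 1) * t :=
        mul_le_mul (by omega) (by omega) (by omega) (by omega)
      have h13 : (t : ℤ) * (3 * t - 1) ≤ t * (t * l - 1) := by
        refine mul_le_mul_of_nonneg_left (sub_le_sub_right ?_ 1) (by omega)
        rw [mul_comm (3 : ℤ)]
        exact mul_le_mul_of_nonneg_left hl3z (by omega)
      have h14 : (3 : ℤ) * t ≤ t * t := mul_le_mul_of_nonneg_right h (by omega)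
      linarith
    have h14 : (3 : ℤ) * t ≤ t * t := mul_le_mul_of_nonneg_right h (by omega)
    have h15 : ((t : ℤ) + 1) * (t - 1) ≤ (w - 1) * (t - 1) :=
      mul_le_mul_of_nonneg_right (by omega) (by omega)
    linarith

/-- Brauer's hypothesis leaves `PSL(2, p)` or the configuration `LargeData`. -/
theorem few_cases [IsSimpleGroup G] (hnc : ¬ IsCyclic G) {P : Sylow p G} {e t k : ℕ}
    (hP : Nat.card (P : Subgroup G) = p)
    (hCP : Subgroup.centralizer ((P : Subgroup G) : Set G) = (P : Subgroup G))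
    (her : (Subgroup.centralizer ((P : Subgroup G) : Set G)).relIndex
      (Subgroup.normalizer ((P : Subgroup G) : Set G)) = e)
    (he : 2 ≤ e) (het : p = e * t + 1) (hG : Nat.card G = p * (e * (k * p + 1))) (hk : 1 ≤ k)
    (hkle : 2 * k ≤ p + 1) (hn : Nat.card (Sylow p G) = k * p + 1) :
    (5 ≤ p ∧ 2 * Nat.card G = p * (p ^ 2 - 1) ∧ Nat.card (Sylow p G) = p + 1) ∨
      Nonempty (LargeData G p) := by
  have hodd : p ≠ 2 := by
    rcases Nat.eq_zero_or_pos t with h | h
    · subst h; have := hp.out.one_lt; omega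
    · have := Nat.le_mul_of_pos_right e h; omega
  obtain ⟨S⟩ := exists_shape hodd P hP her he
  obtain ⟨hdeg, hdegθ⟩ := few_degrees hnc S he het hG hk hkle
  exact cases_of_degrees hnc hP hCP her he het hG hk hn S hdeg hdegθ

end Cfsg.Lib.Small
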