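import Cfsg.Agent.Lib.Small.RepSymFour
import Cfsg.Agent.Lib.Small.CentralizerGL23Model
import Cfsg.Agent.S0016

/-!
# Groups of order 48 with the commuting graph of `GL(2, 3)`

A group with a commutation-preserving bijection onto `GL(2, 3)` in which the preimage of a reflection
is an involution is isomorphic to `GL(2, 3)`.
-/

set_option autoImplicit false
set_option linter.style.haveILetI false

namespace Cfsg.Lib.Small.GLTwoThreeCommuting

open Subgroup CentralizerGL23

universe u

theorem cent_card : ∀ a : GL23, a = 1 ∨ a = -1 ∨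
    ((Finset.univ.filter fun b : GL23 => b * a = a * b).card = 4 ∨
     (Finset.univ.filter fun b : GL23 => b * a = a * b).card = 6 ∨
     (Finset.univ.filter fun b : GL23 => b * a = a * b).card = 8) := by decide +kernel

theorem neg_one_comm : ∀ a : GL23, a * -1 = -1 * a := by decide +kernel

theorem refl_cent : (Finset.univ.filter fun b : GL23 => b * repU 5 = repU 5 * b).card = 4 ∧
    repU 5 ≠ 1 ∧ repU 5 ≠ -1 ∧ (-1 : GL23) ≠ 1 := by decide +kernel

/-- The four-group inside the symmetric group of degree four. -/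
def four : Subgroup (Equiv.Perm (Fin 4)) where
  carrier := {σ | σ * σ = 1 ∧ (σ = 1 ∨ ∀ i, σ i ≠ i)}
  one_mem' := ⟨one_mul 1, Or.inl rfl⟩
  mul_mem' := by
    intro a b ha hb
    revert ha hb; revert a b
    simp only [Set.mem_ofPred_eq]
    decide +kernel
  inv_mem' := by
    intro a ha
    rw [inv_eq_of_mul_eq_one_right ha.1]
    exact ha

theorem mem_four {σ : Equiv.Perm (Fin 4)} : σ ∈ four ↔ σ * σ = 1 ∧ (σ = 1 ∨ ∀ i, σ i ≠ i) := Iff.rfl

theorem four_facts :
    (Finset.univ.filter fun σ : Equiv.Perm (Fin 4) => σ * σ = 1 ∧ (σ = 1 ∨ ∀ i, σ i ≠ i)).card = 4 ∧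
    (∀ σ τ : Equiv.Perm (Fin 4), σ * σ = 1 ∧ (σ = 1 ∨ ∀ i, σ i ≠ i) →
      (τ * σ * τ⁻¹) * (τ * σ * τ⁻¹) = 1 ∧ (τ * σ * τ⁻¹ = 1 ∨ ∀ i, (τ * σ * τ⁻¹) i ≠ i)) ∧
    (∀ τ : Equiv.Perm (Fin 4), (∀ σ, σ * σ = 1 ∧ (σ = 1 ∨ ∀ i, σ i ≠ i) → σ * τ = τ * σ) →
      τ * τ = 1 ∧ (τ = 1 ∨ ∀ i, τ i ≠ i)) := by decide +kernel

theorem card_four : Nat.card four = 4 := by
  rw [show Nat.card four = Nat.card {σ : Equiv.Perm (Fin 4) // σ * σ = 1 ∧ (σ = 1 ∨ ∀ i, σ i ≠ i)} from rfl,
    Nat.card_eq_fintype_card, Fintype.card_subtype]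
  exact four_facts.1

instance four_normal : four.Normal := ⟨fun σ hσ τ => four_facts.2.1 σ τ hσ⟩

/-- A conjugacy class inside a normal subgroup, and a set outside the class, fit into it. -/
theorem index_add_ncard_le {G : Type u} [Group G] [Finite G] {N : Subgroup G} (hN : N.Normal) {q : G} (hq : q ∈ N)
    {S : Set G} (hS : S ⊆ N) (hd : ∀ g : G, g * q * g⁻¹ ∉ S) :
    (centralizer ({q} : Set G)).index + S.ncard ≤ Nat.card N := by
  have hclass : (centralizer ({q} : Set G)).index = Nat.card (Set.range fun g : G => g * q * g⁻¹) := by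
    rw [index_eq_card]
    refine Nat.card_congr (Equiv.ofBijective
      (Quotient.lift (fun g : G => (⟨g * q * g⁻¹, g, rfl⟩ : Set.range fun g : G => g * q * g⁻¹))
        fun g k hgk => ?_) ⟨?_, ?_⟩)
    · have h' := mem_centralizer_singleton_iff.mp (QuotientGroup.leftRel_apply.mp hgk)
      refine Subtype.ext ?_
      calc g * q * g⁻¹ = g * (q * (g⁻¹ * k)) * k⁻¹ := by group
        _ = g * ((g⁻¹ * k) * q) * k⁻¹ := by rw [h']
        _ = k * q * k⁻¹ := by group
    · rintro ⟨g⟩ ⟨k⟩ h
      refine Quotient.sound (QuotientGroup.leftRel_apply.mpr (mem_centralizer_singleton_iff.mpr ?_))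
      have h' : g * q * g⁻¹ = k * q * k⁻¹ := congrArg Subtype.val h
      calc g⁻¹ * k * q = g⁻¹ * (k * q * k⁻¹) * k := by group
        _ = g⁻¹ * (g * q * g⁻¹) * k := by rw [h']
        _ = q * (g⁻¹ * k) := by group
    · rintro ⟨_, g, rfl⟩; exact ⟨Quotient.mk _ g, rfl⟩
  have hle := Set.ncard_le_ncard (s := (Set.range fun g : G => g * q * g⁻¹) ∪ S) (t := (N : Set G))
    (Set.union_subset (Set.range_subset_iff.mpr fun g => hN.conj_mem q hq g) hS)
  rw [Set.ncard_union_eq (Set.disjoint_left.mpr (by rintro _ ⟨g, rfl⟩; exact hd g))] at hle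
  rw [hclass, Nat.card_coe_set_eq]
  exact hle.trans (le_of_eq (Nat.card_coe_set_eq _).symm)

variable {C : Type u} [Group C] [Finite C] (ε : C ≃ GL23) (h1 : ε 1 = 1)
  (hc : ∀ a b : C, a * b = b * a ↔ ε a * ε b = ε b * ε a)
include hc h1

omit h1 in
theorem card_cent (a : C) : Nat.card (centralizer ({a} : Set C)) =
    (Finset.univ.filter fun b : GL23 => b * ε a = ε a * b).card := by
  rw [← Fintype.card_subtype, ← Nat.card_eq_fintype_card]
  exact Nat.card_congr (ε.subtypeEquiv fun b => by rw [mem_centralizer_singleton_iff]; exact hc b a)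

omit h1 in
theorem central : ∀ a, a * ε.symm (-1) = ε.symm (-1) * a := fun a => by
  rw [hc, Equiv.apply_symm_apply]; exact neg_one_comm _

theorem x_ne : ε.symm (-1) ≠ 1 := fun h => by
  have := congrArg ε h
  rw [Equiv.apply_symm_apply, h1] at this
  exact refl_cent.2.2.2 this

theorem cent_small {a : C} (ha : a ≠ 1) (hax : a ≠ ε.symm (-1)) :
    Nat.card (centralizer ({a} : Set C)) ∈ ({4, 6, 8} : Set ℕ) := by
  rw [card_cent ε hc]
  rcases cent_card (ε a) with h | h | h
  · exact absurd (ε.injective (h.trans h1.symm)) ha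
  · exact absurd (by rw [← h, Equiv.symm_apply_apply]) hax
  · simpa using h

theorem mem_center {a : C} (ha : ∀ b, b * a = a * b) : a = 1 ∨ a = ε.symm (-1) := by
  by_contra h
  push Not at h
  have h48 : Nat.card C = 48 := (Nat.card_congr ε).trans (by rw [Nat.card_eq_fintype_card, card_gl])
  have ht : centralizer ({a} : Set C) = ⊤ := eq_top_iff.mpr fun b _ => mem_centralizer_singleton_iff.mpr (ha b)
  have hm := cent_small ε h1 hc h.1 h.2
  rw [ht, card_top, h48] at hm
  simp at hm

theorem x_sq : ε.symm (-1) * ε.symm (-1) = 1 := by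
  set x := ε.symm (-1) with hx
  have hcen : ∀ b, b * (x * x) = x * x * b := fun b => by
    rw [← mul_assoc, central ε hc b, mul_assoc, central ε hc b, mul_assoc]
  rcases mem_center ε h1 hc hcen with h | h
  · exact h
  · exact absurd (mul_eq_left.mp h) (x_ne ε h1 hc)

/-- The local recognition. -/
theorem nonempty_equiv (y : C) (hy : y * y = 1) (hεy : ε y = repU 5) : Nonempty (C ≃* GL23) := by
  classical
  haveI : Fact (Nat.Prime 3) := ⟨Nat.prime_three⟩
  haveI : Fact (Nat.Prime 2) := ⟨Nat.prime_two⟩
  set x := ε.symm (-1) with hx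
  have hxc : ∀ a, a * x = x * a := central ε hc
  have hxne : x ≠ 1 := x_ne ε h1 hc
  have hx2 : x * x = 1 := x_sq ε h1 hc
  have hxo : orderOf x = 2 := orderOf_eq_prime (by rw [sq, hx2]) hxne
  have h48 : Nat.card C = 48 := (Nat.card_congr ε).trans (by rw [Nat.card_eq_fintype_card, card_gl])
  have hy1 : y ≠ 1 := fun h => refl_cent.2.1 (by rw [← hεy, h, h1])
  have hyx : y ≠ x := fun h => refl_cent.2.2.1 (by rw [← hεy, h, hx, Equiv.apply_symm_apply])
  have hycard : Nat.card (centralizer ({y} : Set C)) = 4 := by rw [card_cent ε hc, hεy]; exact refl_cent.1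
  -- the action on the Sylow 3-subgroups
  have hPc : ∀ P : Sylow 3 C, Nat.card (P : Subgroup C) = 3 := by
    intro P
    rw [P.card_eq_multiplicity, h48, Nat.factorization_def _ (by norm_num),
      show (48 : ℕ) = 3 * 16 by norm_num, padicValNat.mul (by norm_num) (by norm_num),
      padicValNat.self (by norm_num), padicValNat.eq_zero_of_not_dvd (by norm_num)]
    norm_num
  have hcP : ∀ P : Sylow 3 C, Nat.card (centralizer ((P : Subgroup C) : Set C)) = 6 := by
    intro P
    obtain ⟨z, hz⟩ := exists_prime_orderOf_dvd_card' (G := (P : Subgroup C)) 3 (by rw [hPc])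
    have hz' : orderOf (z : C) = 3 := by rw [orderOf_coe, hz]
    have heq : zpowers (z : C) = (P : Subgroup C) :=
      eq_of_le_of_card_ge (zpowers_le.mpr z.2) (by rw [Nat.card_zpowers, hz', hPc])
    have hC : centralizer ((P : Subgroup C) : Set C) = centralizer ({(z : C)} : Set C) := by
      refine (congrArg (fun S : Subgroup C => centralizer (S : Set C)) heq.symm).trans ?_
      show centralizer (zpowers (z : C) : Set C) = _
      rw [zpowers_eq_closure, centralizer_closure]
    rw [hC]
    have hd : 3 ∣ Nat.card (centralizer ({(z : C)} : Set C)) := by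
      have h := orderOf_dvd_natCard (centralizer ({(z : C)} : Set C))
        (mem_centralizer_singleton_iff.mpr rfl : (z : C) ∈ centralizer ({(z : C)} : Set C))
      rwa [hz'] at h
    have hm := cent_small ε h1 hc (a := (z : C)) (fun h => by rw [h, orderOf_one] at hz'; omega)
      (fun h => by rw [h, ← hx, hxo] at hz'; omega)
    simp only [Set.mem_insert_iff, Set.mem_singleton_iff] at hm
    rcases hm with h | h | h <;> omega
  have hN : ∀ P : Sylow 3 C, Nat.card (normalizer ((P : Subgroup C) : Set C)) * Nat.card (Sylow 3 C) = 48 := by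
    intro P
    have := card_mul_index (normalizer (P : Set C))
    rw [h48, ← P.card_eq_index_normalizer] at this
    exact this
  have hdvd : ∀ P : Sylow 3 C, 6 ∣ Nat.card (normalizer ((P : Subgroup C) : Set C)) := fun P =>
    hcP P ▸ card_dvd_of_le (centralizer_le_normalizer _)
  let P₀ : Sylow 3 C := default
  have hn4 : Nat.card (Sylow 3 C) = 4 := by
    have hmod := card_sylow_modEq_one 3 C
    obtain ⟨k, hk⟩ := hdvd P₀
    have hmul := hN P₀
    rw [hk] at hmul
    have hd8 : Nat.card (Sylow 3 C) ∣ 8 := ⟨k, by rw [Nat.mul_comm]; linarith⟩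
    have : Nat.card (Sylow 3 C) ∈ ({1, 2, 4, 8} : Finset ℕ) :=
      (show (8 : ℕ).divisors = {1, 2, 4, 8} by decide) ▸ Nat.mem_divisors.mpr ⟨hd8, by norm_num⟩
    simp only [Finset.mem_insert, Finset.mem_singleton] at this
    unfold Nat.ModEq at hmod
    rcases this with h | h | h | h
    · exfalso
      haveI hnorm : (P₀ : Subgroup C).Normal := by
        haveI : Subsingleton (Sylow 3 C) := (Nat.card_eq_one_iff_unique.mp h).1
        exact P₀.normal_of_subsingleton
      have hle : Nat.card ((MulAut.conjNormal (H := (P₀ : Subgroup C))).range) ≤ 2 := by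
        haveI : IsCyclic (P₀ : Subgroup C) := isCyclic_of_prime_card (hPc P₀)
        refine (card_le_card_group _).trans ?_
        rw [IsCyclic.card_mulAut, hPc]; rfl
      have hker : (MulAut.conjNormal (H := (P₀ : Subgroup C))).ker ≤ centralizer ((P₀ : Subgroup C) : Set C) := by
        intro g hg
        rw [mem_centralizer_iff]
        intro p hp
        have := congrArg Subtype.val (DFunLike.congr_fun (MonoidHom.mem_ker.mp hg) ⟨p, hp⟩)
        rw [MulAut.conjNormal_apply] at this
        simp only [MulAut.one_apply] at this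
        nth_rw 1 [← this]
        group
      have hker' := card_le_of_le hker
      have := card_mul_index (MulAut.conjNormal (H := (P₀ : Subgroup C))).ker
      rw [index_ker, h48] at this
      rw [hcP] at hker'
      nlinarith
    · omega
    · exact h
    · omega
  have hN12 : ∀ P : Sylow 3 C, Nat.card (normalizer ((P : Subgroup C) : Set C)) = 12 := fun P => by
    have := hN P; rw [hn4] at this; omega
  let act : C →* Equiv.Perm (Sylow 3 C) := MulAction.toPermHom C (Sylow 3 C)
  have hker : act.ker = zpowers x := by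
    have hmem : ∀ g, g ∈ act.ker ↔ ∀ P : Sylow 3 C, g ∈ normalizer ((P : Subgroup C) : Set C) := by
      intro g
      rw [MonoidHom.mem_ker, Equiv.ext_iff]
      refine forall_congr' fun P => ?_
      exact Sylow.smul_eq_iff_mem_normalizer
    have hxK : x ∈ act.ker := (hmem x).mpr fun P =>
      centralizer_le_normalizer _ (mem_centralizer_iff.mpr fun p _ => hxc p)
    have h3 : ¬ 3 ∣ Nat.card act.ker := by
      intro h3
      obtain ⟨z, hz⟩ := exists_prime_orderOf_dvd_card' (G := act.ker) 3 h3
      have hz' : orderOf (z : C) = 3 := by rw [orderOf_coe, hz]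
      -- an element of order 3 normalising every Sylow subgroup lies in each of them
      have hzP : ∀ P : Sylow 3 C, (z : C) ∈ (P : Subgroup C) := by
        intro P
        have hp : IsPGroup 3 (zpowers (z : C)) := IsPGroup.of_card (n := 1) (by rw [Nat.card_zpowers, hz', pow_one])
        have hsup : IsPGroup 3 ((P : Subgroup C) ⊔ zpowers (z : C) : Subgroup C) :=
          IsPGroup.to_sup_of_normal_left' P.2 hp (zpowers_le.mpr ((hmem _).mp z.2 P))
        rw [← P.3 hsup le_sup_left]
        exact le_sup_right (a := (P : Subgroup C)) (mem_zpowers _)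
      haveI : Finite (Sylow 3 C) := inferInstance
      obtain ⟨P, Q, hPQ⟩ : ∃ P Q : Sylow 3 C, P ≠ Q := by
        haveI : Nontrivial (Sylow 3 C) := Finite.one_lt_card_iff_nontrivial.mp (by omega)
        exact exists_pair_ne _
      refine hPQ (Sylow.ext ?_)
      have e : ∀ R : Sylow 3 C, zpowers (z : C) = (R : Subgroup C) := fun R =>
        eq_of_le_of_card_ge (zpowers_le.mpr (hzP R)) (by rw [Nat.card_zpowers, hz', hPc])
      rw [← e P, ← e Q]
    have hKC : act.ker ≤ centralizer ((P₀ : Subgroup C) : Set C) := by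
      intro k hk
      rw [mem_centralizer_iff]
      intro p hp
      have hc1 : k * p * k⁻¹ * p⁻¹ ∈ (P₀ : Subgroup C) :=
        mul_mem ((mem_normalizer_iff.mp ((hmem k).mp hk P₀) p).mp hp) (inv_mem hp)
      have hc2 : k * p * k⁻¹ * p⁻¹ ∈ act.ker := by
        have := mul_mem hk ((inferInstance : act.ker.Normal).conj_mem _ (inv_mem hk) p)
        simpa only [mul_assoc] using this
      have hbot : (P₀ : Subgroup C) ⊓ act.ker = ⊥ := inf_eq_bot_of_coprime (by
        rw [hPc]; exact (Nat.prime_three.coprime_iff_not_dvd).mpr h3)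
      have hone : k * p * k⁻¹ * p⁻¹ ∈ ((P₀ : Subgroup C) ⊓ act.ker : Subgroup C) := ⟨hc1, hc2⟩
      rw [hbot, mem_bot, mul_inv_eq_one, mul_inv_eq_iff_eq_mul] at hone
      exact hone.symm
    refine (eq_of_le_of_card_ge (zpowers_le.mpr hxK) ?_).symm
    have hd := card_dvd_of_le hKC
    rw [hcP] at hd
    rw [Nat.card_zpowers, hxo]
    have hle := Nat.le_of_dvd (by norm_num) hd
    interval_cases hK : Nat.card act.ker <;> omega
  obtain ⟨σ⟩ : Nonempty (Sylow 3 C ≃ Fin 4) := ⟨Finite.equivFinOfCardEq hn4⟩
  let π : C →* Equiv.Perm (Fin 4) := σ.permCongrHom.toMonoidHom.comp act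
  have hπker : π.ker = zpowers x := by
    rw [MonoidHom.ker_comp_of_injective _ _ σ.permCongrHom.injective, hker]
  have hπsurj : Function.Surjective π := by
    have h := card_mul_index π.ker
    rw [index_ker, hπker, Nat.card_zpowers, hxo, h48] at h
    have htop : π.range = ⊤ := eq_of_le_of_card_ge le_top (by
      rw [card_top, Nat.card_perm, Nat.card_fin, show Nat.factorial 4 = 24 from rfl]; omega)
    exact MonoidHom.range_eq_top.mp htop
  -- the normal subgroup of order eight
  set Q := four.comap π with hQdef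
  haveI : Q.Normal := four_normal.comap π
  have hQc : Nat.card Q = 8 := by
    have h := index_comap_of_surjective four hπsurj
    have h1' := card_mul_index Q
    have h2' := card_mul_index four
    rw [card_four, Nat.card_perm, Nat.card_fin] at h2'
    simp only [Nat.factorial] at h2'
    rw [h, h48] at h1'
    rw [show four.index = 6 by omega] at h1'
    omega
  have hxQ : x ∈ Q := by
    show π x ∈ four
    rw [show π x = 1 from MonoidHom.mem_ker.mp (hπker ▸ mem_zpowers x)]
    exact one_mem _
  have hidx : ∀ q : C, q ≠ 1 → q ≠ x → 6 ≤ (centralizer ({q} : Set C)).index := by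
    intro q hq1 hqx
    have hm := cent_small ε h1 hc hq1 hqx
    simp only [Set.mem_insert_iff, Set.mem_singleton_iff] at hm
    have hi := card_mul_index (centralizer ({q} : Set C))
    rw [h48] at hi
    rcases hm with h | h | h <;> rw [h] at hi <;> omega
  have hyQ' : y ∉ Q := by
    intro hmem
    have h := index_add_ncard_le (S := (∅ : Set C)) (inferInstance : Q.Normal) hmem (Set.empty_subset _)
      (fun g hg => hg)
    have hi := card_mul_index (centralizer ({y} : Set C))
    rw [hycard, h48] at hi
    rw [hQc, Set.ncard_empty] at h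
    omega
  have hone : ∀ q ∈ Q, q * q = 1 → q ≠ 1 → q = x := by
    intro q hq hq2 hq1
    by_contra hqx
    -- all non-central elements of `Q` are then involutions
    have hel : ∀ a ∈ Q, a * a = 1 := by
      intro a ha
      by_contra hne
      have hthree : ({1, x, a} : Set C).ncard = 3 := by
        refine Set.ncard_eq_three.mpr ⟨1, x, a, hxne.symm, ?_, ?_, rfl⟩
        · rintro rfl; exact hne (one_mul 1)
        · rintro rfl; exact hne hx2
      have h := index_add_ncard_le (S := ({1, x, a} : Set C)) (inferInstance : Q.Normal) hq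
        (by
          rintro c (rfl | rfl | rfl)
          · exact one_mem _
          · exact hxQ
          · exact ha)
        (by
          intro g hg
          rcases hg with h | h | h
          · exact hq1 (conj_eq_one_iff.mp h)
          · refine hqx ?_
            calc q = g⁻¹ * (g * q * g⁻¹) * g := by group
              _ = g⁻¹ * x * g := by rw [h]
              _ = x := by rw [hxc, mul_assoc, inv_mul_cancel, mul_one]
          · refine hne ?_
            rw [← h, show g * q * g⁻¹ * (g * q * g⁻¹) = g * (q * q) * g⁻¹ by group, hq2, mul_one, mul_inv_cancel])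
      have := hidx q hq1 hqx
      rw [hthree, hQc] at h
      omega
    -- the fixed points of `y` are too few
    have hinv : ∀ a ∈ Q, a⁻¹ = a := fun a ha => inv_eq_of_mul_eq_one_left (hel a ha)
    have hab : ∀ a ∈ Q, ∀ b ∈ Q, a * b = b * a := fun a ha b hb => by
      rw [← hinv _ (mul_mem ha hb), mul_inv_rev, hinv a ha, hinv b hb]
    have hconj : ∀ a ∈ Q, y * a * y ∈ Q := fun a ha => by
      have := Subgroup.Normal.conj_mem (inferInstance : Q.Normal) a ha y
      rwa [inv_eq_of_mul_eq_one_left hy] at this
    let d : Q →* Q :=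
      { toFun := fun a => ⟨a * (y * a * y), mul_mem a.2 (hconj a a.2)⟩
        map_one' := Subtype.ext (by simp [hy])
        map_mul' := fun a b => Subtype.ext (by
          show (a : C) * b * (y * (a * b) * y) = a * (y * a * y) * (b * (y * b * y))
          rw [show y * ((a : C) * b) * y = (y * a * y) * (y * b * y) by
              rw [show (y * (a : C) * y) * (y * b * y) = y * a * (y * y) * b * y by group, hy]; group,
            show (a : C) * b * ((y * a * y) * (y * b * y)) = a * (b * (y * a * y)) * (y * b * y) by group,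
            hab _ b.2 _ (hconj _ a.2)]
          group) }
    let F : Subgroup Q := (centralizer ({y} : Set C)).subgroupOf Q
    have hker' : d.ker ≤ F := by
      intro a ha
      have h' : (a : C) * (y * a * y) = 1 := congrArg Subtype.val (MonoidHom.mem_ker.mp ha)
      have h'' : y * a * y = (a : C) := (eq_inv_of_mul_eq_one_right h').trans (hinv _ a.2)
      rw [mem_subgroupOf, mem_centralizer_singleton_iff]
      calc (a : C) * y = y * a * y * y := by rw [h'']
        _ = y * a := by rw [mul_assoc, hy, mul_one]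
    have hran : d.range ≤ F := by
      rintro _ ⟨a, rfl⟩
      rw [mem_subgroupOf, mem_centralizer_singleton_iff]
      show (a : C) * (y * a * y) * y = y * (a * (y * a * y))
      calc (a : C) * (y * a * y) * y = a * y * a * (y * y) := by group
        _ = y * y * a * y * a := by rw [hy, mul_one, one_mul]
        _ = y * ((y * a * y) * a) := by group
        _ = y * (a * (y * a * y)) := by rw [hab _ a.2 _ (hconj _ a.2)]
    have hF : Nat.card F ≤ 2 := by
      have hd : Nat.card F ∣ 8 := hQc ▸ F.card_subgroup_dvd_card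
      have hlt : Nat.card F < 4 := by
        rw [← hycard]
        let φ : F → centralizer ({y} : Set C) := fun a => ⟨_, a.2⟩
        have hinj : Function.Injective φ := fun a b h => Subtype.ext (Subtype.ext (congrArg Subtype.val h :))
        refine lt_of_le_of_ne (Nat.card_le_card_of_injective φ hinj) fun he => hyQ' ?_
        obtain ⟨a, ha⟩ := ((Nat.bijective_iff_injective_and_card φ).mpr ⟨hinj, he⟩).2
          ⟨y, mem_centralizer_singleton_iff.mpr rfl⟩
        have h' : ((a : Q) : C) = y := congrArg Subtype.val ha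
        exact h' ▸ (a : Q).2
      have hne3 : Nat.card F ≠ 3 := fun h => by rw [h] at hd; omega
      omega
    have h := card_mul_index d.ker
    rw [index_ker, hQc] at h
    have h2' := Nat.mul_le_mul ((card_le_of_le hker').trans hF) ((card_le_of_le hran).trans hF)
    omega
  -- the quaternion group
  have hsq : ∀ q ∈ Q, q * q ∈ zpowers x := fun q hq => by
    rw [← hπker, MonoidHom.mem_ker, map_mul]
    exact (mem_four.mp hq).1
  obtain ⟨eQ⟩ : Nonempty (Q ≃* QuaternionGroup 2) := by
    have hp : IsPGroup 2 Q := IsPGroup.of_card (n := 3) (by rw [hQc]; norm_num)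
    have huniq : ∀ H : Subgroup Q, Nat.card H = 2 → H = zpowers ⟨x, hxQ⟩ := by
      intro H hH
      obtain ⟨z, hz⟩ := exists_prime_orderOf_dvd_card' (G := H) 2 (by rw [hH])
      have hz2 : orderOf ((z : Q) : C) = 2 := by rw [orderOf_coe, orderOf_coe, hz]
      have hzx : ((z : Q) : C) = x := hone _ (z : Q).2
        (by rw [← sq, ← hz2, pow_orderOf_eq_one]) (fun h => by rw [h, orderOf_one] at hz2; omega)
      refine (eq_of_le_of_card_ge (zpowers_le.mpr ?_) ?_).symm
      · rw [show (⟨x, hxQ⟩ : Q) = (z : Q) from Subtype.ext hzx.symm]; exact z.2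
      · rw [Nat.card_zpowers, hH, show (⟨x, hxQ⟩ : Q) = (z : Q) from Subtype.ext hzx.symm, orderOf_coe, hz]
    rcases Cfsg.Agent.S0016.result 2 hp (fun H K hH hK => (huniq H hH).trans (huniq K hK).symm) with hcyc | ⟨-, n, ⟨e⟩⟩
    · exfalso
      obtain ⟨g, hg⟩ := hcyc.exists_ofOrder_eq_natCard
      rw [hQc] at hg
      have h4 : g ^ 4 = 1 := by
        refine Subtype.ext ?_
        obtain ⟨k, hk⟩ := mem_zpowers_iff.mp (hsq _ g.2)
        rw [SubmonoidClass.coe_pow, show (g : C) ^ 4 = ((g : C) * g) * ((g : C) * g) by simp only [pow_succ, pow_zero, one_mul, mul_assoc], ← hk,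
          ← zpow_add, ← two_mul, zpow_mul, show x ^ (2 : ℤ) = 1 by rw [zpow_two, hx2], one_zpow]
        rfl
      have := orderOf_dvd_of_pow_eq_one h4
      rw [hg] at this
      norm_num at this
    · have hcard := Nat.card_congr e.toEquiv
      haveI : NeZero (2 ^ n) := ⟨by positivity⟩
      rw [hQc, Nat.card_eq_fintype_card, QuaternionGroup.card] at hcard
      obtain rfl : n = 1 := Nat.pow_right_injective le_rfl (show 2 ^ n = 2 ^ 1 by omega)
      exact ⟨e⟩
  have hCQ : centralizer (Q : Set C) ≤ Q := by
    intro z hz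
    refine four_facts.2.2 (π z) fun σ hσ => ?_
    obtain ⟨q, rfl⟩ := hπsurj σ
    rw [← map_mul, ← map_mul, mem_centralizer_iff.mp hz q (show q ∈ Q from hσ)]
  exact RepSymFour.iso_gl h48 Q eQ hCQ y hy hyQ'

end Cfsg.Lib.Small.GLTwoThreeCommuting
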