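import Cfsg.Agent.Lib.Small.Gap.Tools
import Cfsg.Agent.Lib.Small.BlockOrders
import Cfsg.Agent.Lib.Char.Galois
import Cfsg.Agent.S0978

/-!
# Characters of a simple group of order 5616

The principal block at thirteen consists of characters of degree `1`, `12`, `27` and four of degree
`16`, all other degrees are multiples of thirteen. Every involution has centralizer of order `48`,
all involutions are conjugate, and an involution commutes with another one.
-/

set_option autoImplicit false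
set_option linter.unusedSectionVars false
set_option linter.style.haveILetI false

namespace Cfsg.Lib.Small.LThreeThreeOrder

open Cfsg Cfsg.Lib Cfsg.Lib.Small
open scoped ComplexConjugate

universe u

variable {G : Type u} [Group G] [Fintype G]

/-- The principal block at thirteen. -/
structure BlockData (G : Type u) [Group G] [Fintype G] where
  χa : IrrCharacter G
  χc : IrrCharacter G
  θ : IrrCharacter G
  Y : Finset (IrrCharacter G)
  deg_a : charDegree (χa : G → ℂ) = 12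
  deg_c : charDegree (χc : G → ℂ) = 27
  deg_θ : ∀ χ ∈ Y, charDegree (χ : G → ℂ) = 16
  card_Y : Y.card = 4
  θ_mem : θ ∈ Y
  agree : ∀ χ ∈ Y, ∀ g : G, ¬ 13 ∣ orderOf g → (χ : G → ℂ) g = (θ : G → ℂ) g
  rel : ∀ g : G, ¬ 13 ∣ orderOf g →
    1 - (χa : G → ℂ) g + (χc : G → ℂ) g - (θ : G → ℂ) g = 0
  noprod : ∀ t u : G, orderOf t = 2 → orderOf u = 2 →
    1 - (χa : G → ℂ) t * (χa : G → ℂ) u / 12 + (χc : G → ℂ) t * (χc : G → ℂ) u / 27
      - (θ : G → ℂ) t * (θ : G → ℂ) u / 16 = 0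
  other : ∀ χ : IrrCharacter G,
    χ = one' G ∨ χ = χa ∨ χ = χc ∨ χ ∈ Y ∨ 13 ∣ charDegree (χ : G → ℂ)
  cent : ∀ g : G, orderOf g = 13 → Nat.card (Subgroup.centralizer ({g} : Set G)) = 13

set_option synthInstance.maxSize 2048 in
set_option synthInstance.maxHeartbeats 400000 in
theorem decide_degs : ∀ d₁ ∈ Nat.divisors 432, ∀ d₂ ∈ Nat.divisors 432, ∀ f ∈ Nat.divisors 432,
    2 ≤ d₁ → 2 ≤ d₂ → 2 ≤ f → d₁ < 76 → d₂ < 76 → f < 76 →
    ∀ s₁ ∈ ([1, -1] : List ℤ), (s₁ * (d₁ : ℤ) - 1) % 13 = 0 →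
    ∀ s₂ ∈ ([1, -1] : List ℤ), (s₂ * (d₂ : ℤ) - 1) % 13 = 0 →
    ∀ s ∈ ([1, -1] : List ℤ), (s * (f : ℤ) + 3) % 13 = 0 →
    1 + s₁ * d₁ + s₂ * d₂ + s * f = 0 → 1 + d₁ ^ 2 + d₂ ^ 2 + 4 * f ^ 2 ≤ 5616 →
    f = 16 ∧ s = -1 ∧ ((d₁ = 12 ∧ s₁ = -1 ∧ d₂ = 27 ∧ s₂ = 1) ∨ (d₁ = 27 ∧ s₁ = 1 ∧ d₂ = 12 ∧ s₂ = -1)) := by
  decide +kernel

variable [IsSimpleGroup G]

theorem exists_blockData (hG : Nat.card G = 5616) : Nonempty (BlockData G) := by
  classical
  haveI : Fact (Nat.Prime 13) := ⟨by norm_num⟩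
  have hnc : ¬ IsCyclic G := not_isCyclic_of_card (by rw [hG]; norm_num)
  have hcomm : ¬ IsMulCommutative G := fun h => hnc (by
    let _ : CommGroup G := { (inferInstance : Group G) with mul_comm := fun a b => h.is_comm.comm a b }
    exact IsSimpleGroup.isCyclic)
  obtain ⟨P, e, k, ⟨S⟩, he, hk, -, hC, hopt⟩ := Gap.option_count (p := 13) hcomm (by norm_num) hG
    (by norm_num) (by norm_num) (by norm_num) (by norm_num)
  obtain ⟨rfl, rfl⟩ := (show ∀ e ∈ List.range 13, ∀ k ∈ List.range (5616 / 13 / 13 + 1),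
    OrderFilter.optK 5616 13 (fun _ => true) e k = true → e = 3 ∧ k = 11 by decide +kernel) e he k hk hopt
  have hC13 : Nat.card (Subgroup.centralizer ((P : Subgroup G) : Set G)) = 13 := by
    rw [hC]; decide +kernel
  have hm : Nat.card G = 13 * 432 := by rw [hG]
  have hCP : Subgroup.centralizer ((P : Subgroup G) : Set G) = (P : Subgroup G) :=
    (Subgroup.eq_of_le_of_card_ge (Block.le_centralizer_self S.card_P) (by rw [hC13, S.card_P])).symm
  have hN : Nat.card (Subgroup.normalizer ((P : Subgroup G) : Set G)) = 39 := by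
    have h := Subgroup.relIndex_mul_relIndex ⊥ (Subgroup.centralizer ((P : Subgroup G) : Set G))
      (Subgroup.normalizer ((P : Subgroup G) : Set G)) bot_le (Subgroup.centralizer_le_normalizer _)
    rw [Subgroup.relIndex_bot_left, Subgroup.relIndex_bot_left, S.relIndex_eq, hC13] at h
    omega
  have h1X := S.one_mem_X (by norm_num)
  have hc : (S.X.erase (one' G)).card = 2 := by rw [Finset.card_erase_of_mem h1X, S.card_X]
  obtain ⟨χ, ψ, hχψ, hXe⟩ := Finset.card_eq_two.1 hc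
  have hχ' : χ ∈ S.X.erase (one' G) := by rw [hXe]; simp
  have hψ' : ψ ∈ S.X.erase (one' G) := by rw [hXe]; simp
  obtain ⟨hne, hχX⟩ := Finset.mem_erase.1 hχ'
  obtain ⟨hne', hψX⟩ := Finset.mem_erase.1 hψ'
  have hX : S.X = {one' G, χ, ψ} := by rw [← Finset.insert_erase h1X, hXe]
  have hθ1 := S.θ_ne_one (by norm_num)
  have hZχ := S.mem_Z.2 (Or.inr hχX)
  have hZψ := S.mem_Z.2 (Or.inr hψX)
  have hZθ : S.θ ∈ S.Z := S.mem_Z.2 (Or.inl rfl)
  have hsum : ∀ g : IrrCharacter G → ℂ,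
      ∑ η ∈ S.Z, g η = g S.θ + (g (one' G) + (g χ + g ψ)) := by
    intro g
    rw [S.Z_eq, Finset.sum_insert S.θ_notMem, hX,
      Finset.sum_insert (by simp [hne.symm, hne'.symm]), Finset.sum_insert (by simp [hχψ]),
      Finset.sum_singleton]
  have hsq := S.sum_sq
  rw [hX, Finset.sum_insert (by simp [hne.symm, hne'.symm]), Finset.sum_insert (by simp [hχψ]),
    Finset.sum_singleton, charDegree_one', one_pow, hG] at hsq
  norm_num at hsq
  have hlt : ∀ d : ℕ, d ^ 2 < 5776 → d < 76 := fun d hd => by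
    by_contra h; nlinarith
  have hsg : ∀ η ∈ S.Z, S.σ η ∈ ([1, -1] : List ℤ) := fun η h => by
    rcases S.sign η h with h | h <;> simp [h]
  have hrel : (S.σ S.θ : ℤ) * charDegree (S.θ : G → ℂ) + (1 + (S.σ χ * charDegree (χ : G → ℂ)
      + S.σ ψ * charDegree (ψ : G → ℂ))) = 0 := by
    have h := S.rel 1 (by rw [orderOf_one]; norm_num)
    rw [hsum, S.sign_one, one'_apply, Block.apply_one_eq_charDegree, Block.apply_one_eq_charDegree,
      Block.apply_one_eq_charDegree] at h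
    push_cast at h
    rw [one_mul] at h
    exact_mod_cast h
  obtain ⟨hf16, hsθ, hcases⟩ := decide_degs _ (Nat.mem_divisors.2 ⟨S.deg_dvd hm hZχ, by norm_num⟩)
    _ (Nat.mem_divisors.2 ⟨S.deg_dvd hm hZψ, by norm_num⟩)
    _ (Nat.mem_divisors.2 ⟨S.deg_dvd hm hZθ, by norm_num⟩)
    (two_le_charDegree hnc hne) (two_le_charDegree hnc hne') (two_le_charDegree hnc hθ1)
    (hlt _ (by omega)) (hlt _ (by omega)) (hlt _ (by omega))
    _ (hsg χ hZχ) (Int.emod_eq_zero_of_dvd (Int.modEq_iff_dvd.1 (S.cong χ hχX).symm))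
    _ (hsg ψ hZψ) (Int.emod_eq_zero_of_dvd (Int.modEq_iff_dvd.1 (S.cong ψ hψX).symm))
    _ (hsg _ hZθ) (by
      have h := Int.modEq_iff_dvd.1 S.congθ.symm
      rw [sub_neg_eq_add] at h
      exact Int.emod_eq_zero_of_dvd h) (by linarith) (by omega)
  have hcent : ∀ g : G, orderOf g = 13 → Nat.card (Subgroup.centralizer ({g} : Set G)) = 13 := by
    intro g hg
    obtain ⟨Q, hQ⟩ := exists_sylow_eq_zpowers (G := G) (p := 13) (fun Q => by
      rw [Q.card_eq_multiplicity, ← P.card_eq_multiplicity, S.card_P]) hg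
    obtain ⟨c, hc⟩ := MulAction.exists_smul_eq G Q P
    have hgP : c * g * c⁻¹ ∈ (P : Subgroup G) := by
      rw [← hc]
      exact Subgroup.smul_mem_pointwise_smul g (MulAut.conj c) _ (hQ ▸ Subgroup.mem_zpowers g)
    have hg1 : c * g * c⁻¹ ≠ 1 := fun h => by
      rw [conj_eq_one_iff.1 h, orderOf_one] at hg; norm_num at hg
    rw [← hC13, ← zpowers_eq_of_prime_card S.card_P hgP hg1, centralizer_zpowers]
    refine Nat.card_congr ((MulAut.conj c).toEquiv.subtypeEquiv fun z => ?_)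
    simp only [Subgroup.mem_centralizer_singleton_iff]
    show z * g = g * z ↔ c * z * c⁻¹ * (c * g * c⁻¹) = c * g * c⁻¹ * (c * z * c⁻¹)
    rw [conj_mul, conj_mul, mul_left_inj, mul_right_inj]
  obtain ⟨⟨x, hx⟩, hx1'⟩ := Subgroup.ne_bot_iff_exists_ne_one.1 (fun e : (P : Subgroup G) = ⊥ => by
    have := S.card_P; rw [e, Subgroup.card_bot] at this; norm_num at this)
  have hx1 : x ≠ 1 := fun e => hx1' (Subtype.ext e)
  have hnoprod : ∀ t u : G, orderOf t = 2 → orderOf u = 2 →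
      (S.σ S.θ : ℂ) * ((S.θ : G → ℂ) t * (S.θ : G → ℂ) u / 16) + (1 +
        ((S.σ χ : ℂ) * ((χ : G → ℂ) t * (χ : G → ℂ) u / (charDegree (χ : G → ℂ) : ℂ)) +
         (S.σ ψ : ℂ) * ((ψ : G → ℂ) t * (ψ : G → ℂ) u / (charDegree (ψ : G → ℂ) : ℂ)))) = 0 := by
    intro t u ht hu
    have hempty : ((Char.classFinset t ×ˢ Char.classFinset u).filter fun q => q.1 * q.2 = x) = ∅ := by
      rw [Finset.filter_eq_empty_iff]
      rintro ⟨a, b⟩ hab he
      rw [Finset.mem_product, Char.mem_classFinset, Char.mem_classFinset] at hab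
      have ho : ∀ a b : G, IsConj a b → orderOf b = orderOf a := fun a b h => by
        obtain ⟨c, rfl⟩ := isConj_iff.1 h
        exact (MulAut.conj c).orderOf_eq a
      have ha2 : orderOf a = 2 := (ho t a hab.1).trans ht
      have hb2 : orderOf b = 2 := (ho u b hab.2).trans hu
      have ha' : a * a = 1 := by rw [← pow_two, ← ha2, pow_orderOf_eq_one]
      have hb' : b * b = 1 := by rw [← pow_two, ← hb2, pow_orderOf_eq_one]
      have hai : a⁻¹ = a := inv_eq_of_mul_eq_one_right ha'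
      have hbi : b⁻¹ = b := inv_eq_of_mul_eq_one_right hb'
      have he : a * b = x := he
      have hax : a * x * a⁻¹ = x⁻¹ := by
        rw [← he, mul_inv_rev, hbi, hai, ← mul_assoc a a b, ha', one_mul]
      have haN : a ∈ Subgroup.normalizer ((P : Subgroup G) : Set G) := by
        refine Subgroup.mem_normalizer_fintype fun y hy => ?_
        rw [SetLike.mem_coe, ← zpowers_eq_of_prime_card S.card_P hx hx1] at hy
        obtain ⟨i, rfl⟩ := hy
        show a * x ^ i * a⁻¹ ∈ (P : Subgroup G)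
        rw [← conj_zpow, hax]
        exact Subgroup.zpow_mem _ (inv_mem hx) i
      have h2 := Subgroup.orderOf_dvd_natCard _ haN
      rw [ha2, hN] at h2
      norm_num at h2
    have h := S.formula_int hC13 (a := t) (b := u) (by rw [ht]; norm_num) (by rw [hu]; norm_num) hx hx1
    rw [hempty, Finset.card_empty, Nat.cast_zero, zero_mul, zero_mul, hsum, hG, S.sign_one,
      one'_apply, one'_apply] at h
    simp only [Block.apply_one_eq_charDegree, hf16, charDegree_one'] at h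
    push_cast at h
    rcases mul_eq_zero.1 h.symm with h0 | h0
    · norm_num at h0
    · linear_combination h0
  have hrelg : ∀ g : G, ¬ 13 ∣ orderOf g → (S.σ S.θ : ℂ) * (S.θ : G → ℂ) g + (1 +
      ((S.σ χ : ℂ) * (χ : G → ℂ) g + (S.σ ψ : ℂ) * (ψ : G → ℂ) g)) = 0 := by
    intro g hg
    have h := S.rel g hg
    rw [hsum, S.sign_one, one'_apply] at h
    push_cast at h
    linear_combination h
  have hY : ∀ η ∈ S.Y, charDegree (η : G → ℂ) = 16 := fun η hη => by
    have h := S.agree η hη 1 (by rw [orderOf_one]; norm_num)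
    rw [Block.apply_one_eq_charDegree, Block.apply_one_eq_charDegree, Nat.cast_inj] at h
    omega
  have hoth : ∀ η : IrrCharacter G,
      η = one' G ∨ η = χ ∨ η = ψ ∨ η ∈ S.Y ∨ 13 ∣ charDegree (η : G → ℂ) := fun η => by
    rcases Gap.mem_block_or_dvd S hC13 hm (by norm_num) η with h | h | h
    · rw [hX] at h
      simp only [Finset.mem_insert, Finset.mem_singleton] at h
      tauto
    · tauto
    · tauto
  have hY4 : S.Y.card = 4 := by rw [S.card_Y]
  rcases hcases with ⟨hd₁, hs₁, hd₂, hs₂⟩ | ⟨hd₁, hs₁, hd₂, hs₂⟩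
  · refine ⟨⟨χ, ψ, S.θ, S.Y, hd₁, hd₂, hY, hY4, S.θ_mem, S.agree, fun g hg => ?_, fun t u ht hu => ?_,
      hoth, hcent⟩⟩
    · have h := hrelg g hg
      rw [hsθ, hs₁, hs₂] at h
      push_cast at h
      linear_combination h
    · have h := hnoprod t u ht hu
      rw [hsθ, hs₁, hs₂, hd₁, hd₂] at h
      push_cast at h
      linear_combination h
  · refine ⟨⟨ψ, χ, S.θ, S.Y, hd₂, hd₁, hY, hY4, S.θ_mem, S.agree, fun g hg => ?_, fun t u ht hu => ?_,
      fun η => by rcases hoth η with h | h | h | h | h <;> tauto, hcent⟩⟩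
    · have h := hrelg g hg
      rw [hsθ, hs₁, hs₂] at h
      push_cast at h
      linear_combination h
    · have h := hnoprod t u ht hu
      rw [hsθ, hs₁, hs₂, hd₁, hd₂] at h
      push_cast at h
      linear_combination h

namespace BlockData

variable (B : BlockData G)

omit [IsSimpleGroup G] in
theorem ints {g : G} (hg : ¬ 13 ∣ orderOf g) :
    ∃ A C F : ℤ, (B.χa : G → ℂ) g = A ∧ (B.χc : G → ℂ) g = C ∧ (B.θ : G → ℂ) g = F ∧
      1 - A + C - F = 0 := by
  classical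
  have hdeg : ∀ {k : ℕ} (hk : k.Coprime (Nat.card G)) (χ : IrrCharacter G),
      charDegree ((Char.irrPow hk χ : IrrCharacter G) : G → ℂ) = charDegree (χ : G → ℂ) :=
    fun hk χ => Block.charDegree_eq_of_apply_one (by
      rw [Char.irrPow_apply, one_pow, Block.apply_one_eq_charDegree])
  have key : ∀ χ : IrrCharacter G, (∀ η : IrrCharacter G, charDegree (η : G → ℂ) = charDegree (χ : G → ℂ) →
      (η : G → ℂ) g = (χ : G → ℂ) g) → ∃ m : ℤ, (χ : G → ℂ) g = m := fun χ h =>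
    Char.exists_int_of_pow_invariant χ.2.isCharacter g fun k hk => by
      have := h _ (hdeg hk χ)
      rwa [Char.irrPow_apply] at this
  have hone : charDegree ((one' G : IrrCharacter G) : G → ℂ) = 1 := charDegree_one'
  have h12 : ∀ η : IrrCharacter G, charDegree (η : G → ℂ) = 12 → η = B.χa := fun η hη => by
    rcases B.other η with h | h | h | h | h
    · rw [h, hone] at hη; norm_num at hη
    · exact h
    · rw [h, B.deg_c] at hη; norm_num at hη
    · rw [B.deg_θ η h] at hη; norm_num at hη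
    · rw [hη] at h; norm_num at h
  have h27 : ∀ η : IrrCharacter G, charDegree (η : G → ℂ) = 27 → η = B.χc := fun η hη => by
    rcases B.other η with h | h | h | h | h
    · rw [h, hone] at hη; norm_num at hη
    · rw [h, B.deg_a] at hη; norm_num at hη
    · exact h
    · rw [B.deg_θ η h] at hη; norm_num at hη
    · rw [hη] at h; norm_num at h
  have h16 : ∀ η : IrrCharacter G, charDegree (η : G → ℂ) = 16 → η ∈ B.Y := fun η hη => by
    rcases B.other η with h | h | h | h | h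
    · rw [h, hone] at hη; norm_num at hη
    · rw [h, B.deg_a] at hη; norm_num at hη
    · rw [h, B.deg_c] at hη; norm_num at hη
    · exact h
    · rw [hη] at h; norm_num at h
  obtain ⟨A, hA⟩ := key B.χa fun η hη => by rw [h12 η (hη.trans B.deg_a)]
  obtain ⟨C, hC⟩ := key B.χc fun η hη => by rw [h27 η (hη.trans B.deg_c)]
  obtain ⟨F, hF⟩ := key B.θ fun η hη => B.agree η (h16 η (hη.trans (B.deg_θ _ B.θ_mem))) g hg
  refine ⟨A, C, F, hA, hC, hF, ?_⟩
  have h := B.rel g hg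
  rw [hA, hC, hF] at h
  exact_mod_cast h

/-- The block members. -/
noncomputable def T : Finset (IrrCharacter G) := by
  classical
  exact {one' G, B.χa, B.χc} ∪ B.Y

omit [IsSimpleGroup G] in
theorem sum_T (v : IrrCharacter G → ℂ) :
    ∑ χ ∈ B.T, v χ = v (one' G) + (v B.χa + v B.χc) + ∑ χ ∈ B.Y, v χ := by
  classical
  have h16 := B.deg_θ
  have hd : ∀ {χ η : IrrCharacter G}, charDegree (χ : G → ℂ) ≠ charDegree (η : G → ℂ) → χ ≠ η :=
    fun h e => h (by rw [e])
  have h1a : one' G ≠ B.χa := hd (by rw [charDegree_one', B.deg_a]; norm_num)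
  have h1c : one' G ≠ B.χc := hd (by rw [charDegree_one', B.deg_c]; norm_num)
  have hac : B.χa ≠ B.χc := hd (by rw [B.deg_a, B.deg_c]; norm_num)
  have hdis : Disjoint ({one' G, B.χa, B.χc} : Finset (IrrCharacter G)) B.Y := by
    refine Finset.disjoint_left.2 fun χ hχ hY => ?_
    have h := h16 χ hY
    simp only [Finset.mem_insert, Finset.mem_singleton] at hχ
    rcases hχ with rfl | rfl | rfl
    · rw [charDegree_one'] at h; norm_num at h
    · rw [B.deg_a] at h; norm_num at h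
    · rw [B.deg_c] at h; norm_num at h
  rw [show B.T = {one' G, B.χa, B.χc} ∪ B.Y from rfl, Finset.sum_union hdis,
    Finset.sum_insert (by simp [h1a, h1c]), Finset.sum_insert (by simp [hac]), Finset.sum_singleton]

omit [IsSimpleGroup G] in
theorem notMem_T {χ : IrrCharacter G} (h : χ ∉ B.T) : 13 ∣ charDegree (χ : G → ℂ) := by
  classical
  simp only [show B.T = {one' G, B.χa, B.χc} ∪ B.Y from rfl, Finset.mem_union, Finset.mem_insert,
    Finset.mem_singleton] at h
  rcases B.other χ with h' | h' | h' | h' | h' <;> tauto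

omit [IsSimpleGroup G] in
/-- The block part of a product of two columns. -/
theorem sum_block {g h : G} (hg : ¬ 13 ∣ orderOf g) (hh : ¬ 13 ∣ orderOf h) {A C F A' C' F' : ℤ}
    (hA : (B.χa : G → ℂ) g = A) (hC : (B.χc : G → ℂ) g = C) (hF : (B.θ : G → ℂ) g = F)
    (hA' : (B.χa : G → ℂ) h = A') (hC' : (B.χc : G → ℂ) h = C') (hF' : (B.θ : G → ℂ) h = F') :
    ∑ χ ∈ B.T, (χ : G → ℂ) g * conj ((χ : G → ℂ) h) =
      ((1 + A * A' + C * C' + 4 * (F * F') : ℤ) : ℂ) := by
  rw [B.sum_T, one'_apply, one'_apply, hA, hC, hA', hC', map_one, map_intCast, map_intCast,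
    Finset.sum_congr rfl (g := fun _ => (F : ℂ) * conj (F' : ℂ)) fun χ hχ => by
      rw [B.agree χ hχ g hg, B.agree χ hχ h hh, hF, hF'], Finset.sum_const, B.card_Y, map_intCast,
    nsmul_eq_mul]
  push_cast
  ring

omit [IsSimpleGroup G] in
theorem sq_le {g : G} (hg : ¬ 13 ∣ orderOf g) {A C F : ℤ}
    (hA : (B.χa : G → ℂ) g = A) (hC : (B.χc : G → ℂ) g = C) (hF : (B.θ : G → ℂ) g = F) :
    1 + A * A + C * C + 4 * (F * F) ≤ (Nat.card (Subgroup.centralizer ({g} : Set G)) : ℤ) ∧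
      ((Nat.card (Subgroup.centralizer ({g} : Set G)) : ℤ) - (1 + A * A + C * C + 4 * (F * F)) : ℝ) =
        ∑ χ ∈ (B.T)ᶜ, Complex.normSq ((χ : G → ℂ) g) := by
  classical
  have h := Char.column_orthogonality g g
  rw [if_pos (IsConj.refl g), ← Finset.sum_add_sum_compl B.T, B.sum_block hg hg hA hC hF hA hC hF,
    Finset.sum_congr rfl (g := fun χ : IrrCharacter G => ((Complex.normSq ((χ : G → ℂ) g) : ℝ) : ℂ))
      fun χ _ => Complex.mul_conj _, ← Complex.ofReal_sum] at h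
  have h' := congrArg Complex.re h
  simp only [Complex.add_re, Complex.intCast_re, Complex.ofReal_re, Complex.natCast_re] at h'
  have hnn : (0 : ℝ) ≤ ∑ χ ∈ (B.T)ᶜ, Complex.normSq ((χ : G → ℂ) g) :=
    Finset.sum_nonneg fun χ _ => Complex.normSq_nonneg _
  constructor
  · have : (((1 + A * A + C * C + 4 * (F * F) : ℤ)) : ℝ) ≤
        ((Nat.card (Subgroup.centralizer ({g} : Set G)) : ℤ) : ℝ) := by
      push_cast at h' ⊢; linarith
    exact_mod_cast this
  · push_cast at h' ⊢; linarith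

omit [IsSimpleGroup G] in
theorem dvd_class (hG : Nat.card G = 5616) (g : G) (χ : IrrCharacter G) {z : ℤ}
    (hz : (χ : G → ℂ) g = z) :
    (5616 * z) % ((charDegree (χ : G → ℂ) : ℤ) * Nat.card (Subgroup.centralizer ({g} : Set G))) = 0 := by
  have h := χ.2.isIntegral_class g
  have h1 := Subgroup.index_mul_card (Subgroup.centralizer ({g} : Set G))
  rw [hG] at h1
  rw [Char.card_classFinset, hz, Block.apply_one_eq_charDegree] at h
  set d := charDegree (χ : G → ℂ)
  set K := (Subgroup.centralizer ({g} : Set G)).index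
  have hq : ((((K : ℤ) * z : ℤ) : ℚ) / (d : ℚ) : ℚ) = (((K : ℚ) * z / d) : ℚ) := by push_cast; rfl
  obtain ⟨m, hm⟩ := Char.exists_int_of_isIntegral_rat (q := (K : ℚ) * z / d) (by push_cast; exact h)
  have hd : (d : ℚ) ≠ 0 := Nat.cast_ne_zero.2 (Block.charDegree_pos χ).ne'
  have hkey : (K : ℤ) * z = m * d := by
    have : (K : ℚ) * z = m * d := by rw [← hm, div_mul_cancel₀ _ hd]
    exact_mod_cast this
  refine Int.emod_eq_zero_of_dvd ⟨m, ?_⟩
  calc (5616 : ℤ) * z = ((K * Nat.card (Subgroup.centralizer ({g} : Set G)) : ℕ) : ℤ) * z := by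
        rw [h1]; norm_num
    _ = (d : ℤ) * Nat.card (Subgroup.centralizer ({g} : Set G)) * m := by
        push_cast
        linear_combination (Nat.card (Subgroup.centralizer ({g} : Set G)) : ℤ) * hkey

omit [IsSimpleGroup G] in
include B in
theorem cent_dvd (hG : Nat.card G = 5616) {g : G} (hg : g ≠ 1) (hg13 : ¬ 13 ∣ orderOf g) :
    Nat.card (Subgroup.centralizer ({g} : Set G)) ∣ 432 := by
  haveI : Fact (Nat.Prime 13) := ⟨by norm_num⟩
  have hd := Subgroup.card_subgroup_dvd_card (Subgroup.centralizer ({g} : Set G))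
  rw [hG, show (5616 : ℕ) = 13 * 432 by norm_num] at hd
  refine (Nat.Coprime.dvd_of_dvd_mul_left (Nat.Coprime.symm ?_) hd)
  refine (Nat.Prime.coprime_iff_not_dvd (by norm_num)).2 fun h13 => ?_
  obtain ⟨⟨y, hy⟩, hyo⟩ := exists_prime_orderOf_dvd_card' (G := Subgroup.centralizer ({g} : Set G)) 13 h13
  rw [Subgroup.orderOf_mk] at hyo
  have hgy : g ∈ Subgroup.centralizer ({y} : Set G) :=
    Subgroup.mem_centralizer_singleton_iff.2 (Subgroup.mem_centralizer_singleton_iff.1 hy).symm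
  have h := Subgroup.orderOf_dvd_natCard _ hgy
  rw [B.cent y hyo] at h
  rcases (Nat.dvd_prime (by norm_num)).1 h with h | h
  · exact hg (orderOf_eq_one_iff.1 h)
  · exact hg13 (dvd_of_eq h.symm)

set_option synthInstance.maxSize 2048 in
theorem decide_inv : ∀ D ∈ Nat.divisors 432, ∀ a ∈ List.range 11, ∀ f ∈ List.range 5, 2 ∣ D →
    (5616 * (4 * (a : ℤ) - 20)) % (12 * (D : ℤ)) = 0 →
    (5616 * (4 * (a : ℤ) - 20 + (4 * (f : ℤ) - 8) - 1)) % (27 * (D : ℤ)) = 0 →
    1 + (4 * (a : ℤ) - 20) * (4 * (a : ℤ) - 20) + (4 * (a : ℤ) - 20 + (4 * (f : ℤ) - 8) - 1) *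
      (4 * (a : ℤ) - 20 + (4 * (f : ℤ) - 8) - 1) + 4 * ((4 * (f : ℤ) - 8) * (4 * (f : ℤ) - 8)) ≤ (D : ℤ) →
    432 - 36 * ((4 * (a : ℤ) - 20) * (4 * (a : ℤ) - 20)) + 16 * ((4 * (a : ℤ) - 20 + (4 * (f : ℤ) - 8) - 1) *
      (4 * (a : ℤ) - 20 + (4 * (f : ℤ) - 8) - 1)) - 27 * ((4 * (f : ℤ) - 8) * (4 * (f : ℤ) - 8)) = 0 →
    D = 48 ∧ 4 * (a : ℤ) - 20 = 4 ∧ 4 * (f : ℤ) - 8 = 0 := by
  decide +kernel

/-- The values at an involution. -/
theorem invol (hG : Nat.card G = 5616) {t : G} (ht : orderOf t = 2) :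
    Nat.card (Subgroup.centralizer ({t} : Set G)) = 48 ∧
      (B.χa : G → ℂ) t = (4 : ℤ) ∧ (B.χc : G → ℂ) t = (3 : ℤ) ∧ (B.θ : G → ℂ) t = (0 : ℤ) := by
  have hnc : ¬ IsCyclic G := not_isCyclic_of_card (by rw [hG]; norm_num)
  have hreg : ¬ 13 ∣ orderOf t := by rw [ht]; norm_num
  have ht1 : t ≠ 1 := fun e => by rw [e, orderOf_one] at ht; norm_num at ht
  have ht2 : t ^ 2 = 1 := by rw [← ht, pow_orderOf_eq_one]
  obtain ⟨A, C, F, hA, hC, hF, hrel⟩ := B.ints hreg
  obtain ⟨hle, -⟩ := B.sq_le hreg hA hC hF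
  have hnp := B.noprod t t ht ht
  rw [hA, hC, hF] at hnp
  have hnp' : 432 - 36 * (A * A) + 16 * (C * C) - 27 * (F * F) = 0 := by
    have : (432 : ℂ) - 36 * ((A : ℂ) * A) + 16 * ((C : ℂ) * C) - 27 * ((F : ℂ) * F) = 0 := by
      linear_combination 432 * hnp
    exact_mod_cast this
  have h4a := Cfsg.Agent.S0978.four_dvd (commutator_eq_top hnc) B.χa ht2 hA
  have h4f := Cfsg.Agent.S0978.four_dvd (commutator_eq_top hnc) B.θ ht2 hF
  rw [B.deg_a] at h4a
  rw [B.deg_θ _ B.θ_mem] at h4f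
  have hda := dvd_class hG t B.χa hA
  have hdc := dvd_class hG t B.χc hC
  rw [B.deg_a] at hda
  rw [B.deg_c] at hdc
  have hD := B.cent_dvd hG ht1 hreg
  set D := Nat.card (Subgroup.centralizer ({t} : Set G))
  have hD2 : 2 ∣ D := ht ▸ Subgroup.orderOf_dvd_natCard _ (Subgroup.mem_centralizer_singleton_iff.2 rfl)
  have hD432 : (D : ℤ) ≤ 432 := by exact_mod_cast Nat.le_of_dvd (by norm_num) hD
  have hA2 : A * A ≤ 432 := by linarith [mul_self_nonneg C, mul_self_nonneg F]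
  have hF2 : F * F ≤ 108 := by linarith [mul_self_nonneg A, mul_self_nonneg C]
  have hAb : -20 ≤ A ∧ A ≤ 20 := by constructor <;> nlinarith only [hA2]
  have hFb : -10 ≤ F ∧ F ≤ 10 := by constructor <;> nlinarith only [hF2]
  push_cast at h4a h4f hda hdc
  obtain ⟨a, ha⟩ : ∃ a : ℕ, A = 4 * a - 20 := ⟨((A + 20) / 4).toNat, by omega⟩
  obtain ⟨f, hf⟩ : ∃ f : ℕ, F = 4 * f - 8 := ⟨((F + 8) / 4).toNat, by omega⟩
  obtain rfl : C = A + F - 1 := by omega
  subst ha hf
  obtain ⟨h1, h2, h3⟩ := decide_inv D (Nat.mem_divisors.2 ⟨hD, by norm_num⟩) a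
    (List.mem_range.2 (by omega)) f (List.mem_range.2 (by omega)) hD2 hda hdc hle hnp'
  refine ⟨h1, ?_, ?_, ?_⟩
  · rw [hA, h2]
  · rw [hC, h2, h3]; norm_num
  · rw [hF, h3]

set_option synthInstance.maxSize 2048 in
theorem decide_48 : ∀ a ∈ List.range 15, ∀ f ∈ List.range 7,
    (5616 * ((a : ℤ) - 7)) % (12 * 48) = 0 → (5616 * ((a : ℤ) - 7 + ((f : ℤ) - 3) - 1)) % (27 * 48) = 0 →
    (5616 * ((f : ℤ) - 3)) % (16 * 48) = 0 →
    1 + ((a : ℤ) - 7) * ((a : ℤ) - 7) + ((a : ℤ) - 7 + ((f : ℤ) - 3) - 1) * ((a : ℤ) - 7 + ((f : ℤ) - 3) - 1) +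
      4 * (((f : ℤ) - 3) * ((f : ℤ) - 3)) ≤ 48 → (a : ℤ) - 7 = 4 ∧ (f : ℤ) - 3 = 0 := by
  decide +kernel

omit [IsSimpleGroup G] in
/-- The values at an element with centralizer of order `48`. -/
theorem val_48 (hG : Nat.card G = 5616) {g : G} (hg : ¬ 13 ∣ orderOf g)
    (hD : Nat.card (Subgroup.centralizer ({g} : Set G)) = 48) :
    (B.χa : G → ℂ) g = (4 : ℤ) ∧ (B.χc : G → ℂ) g = (3 : ℤ) ∧ (B.θ : G → ℂ) g = (0 : ℤ) := by
  obtain ⟨A, C, F, hA, hC, hF, hrel⟩ := B.ints hg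
  obtain ⟨hle, -⟩ := B.sq_le hg hA hC hF
  have hda := dvd_class hG g B.χa hA
  have hdc := dvd_class hG g B.χc hC
  have hdf := dvd_class hG g B.θ hF
  rw [B.deg_a, hD] at hda
  rw [B.deg_c, hD] at hdc
  rw [B.deg_θ _ B.θ_mem, hD] at hdf
  rw [hD] at hle
  push_cast at hle hda hdc hdf
  have hA2 : A * A ≤ 47 := by linarith [mul_self_nonneg C, mul_self_nonneg F]
  have hF2 : F * F ≤ 11 := by linarith [mul_self_nonneg A, mul_self_nonneg C]
  have hAb : -7 ≤ A ∧ A ≤ 7 := by constructor <;> nlinarith only [hA2]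
  have hFb : -3 ≤ F ∧ F ≤ 3 := by constructor <;> nlinarith only [hF2]
  obtain ⟨a, ha⟩ : ∃ a : ℕ, A = (a : ℤ) - 7 := ⟨(A + 7).toNat, by clear hda hdc hdf hle; omega⟩
  obtain ⟨f, hf⟩ : ∃ f : ℕ, F = (f : ℤ) - 3 := ⟨(F + 3).toNat, by clear hda hdc hdf hle; omega⟩
  obtain rfl : C = A + F - 1 := by linarith
  subst ha hf
  obtain ⟨h2, h3⟩ := decide_48 a (List.mem_range.2 (by clear hda hdc hdf hle; omega))
    f (List.mem_range.2 (by clear hda hdc hdf hle; omega)) hda hdc hdf hle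
  exact ⟨by rw [hA, h2], by rw [hC, h2, h3]; norm_num, by rw [hF, h3]⟩

include B in
omit [IsSimpleGroup G] in
/-- Two elements with centralizers of order `48` are conjugate. -/
theorem isConj_of_48 (hG : Nat.card G = 5616) {g h : G} (hg : ¬ 13 ∣ orderOf g) (hh : ¬ 13 ∣ orderOf h)
    (hDg : Nat.card (Subgroup.centralizer ({g} : Set G)) = 48)
    (hDh : Nat.card (Subgroup.centralizer ({h} : Set G)) = 48) : IsConj g h := by
  classical
  by_contra hne
  obtain ⟨hA, hC, hF⟩ := B.val_48 hG hg hDg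
  obtain ⟨hA', hC', hF'⟩ := B.val_48 hG hh hDh
  have h0 := Char.column_orthogonality g h
  rw [if_neg hne, ← Finset.sum_add_sum_compl B.T, B.sum_block hg hh hA hC hF hA' hC' hF'] at h0
  have h0' := congrArg Complex.re h0
  rw [Complex.add_re, Complex.re_sum, Complex.intCast_re, Complex.zero_re] at h0'
  obtain ⟨-, hrg⟩ := B.sq_le hg hA hC hF
  obtain ⟨-, hrh⟩ := B.sq_le hh hA' hC' hF'
  rw [hDg] at hrg
  rw [hDh] at hrh
  have hkey : ∀ χ : IrrCharacter G, -(Complex.normSq ((χ : G → ℂ) g) + Complex.normSq ((χ : G → ℂ) h)) / 2 ≤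
      ((χ : G → ℂ) g * conj ((χ : G → ℂ) h)).re := fun χ => by
    have := Complex.normSq_nonneg ((χ : G → ℂ) g + (χ : G → ℂ) h)
    rw [Complex.normSq_add] at this
    linarith
  have hle := Finset.sum_le_sum fun χ (_ : χ ∈ (B.T)ᶜ) => hkey χ
  rw [← Finset.sum_div, Finset.sum_neg_distrib, Finset.sum_add_distrib, ← hrg, ← hrh] at hle
  norm_num at hle h0'
  linarith

include B in
/-- All involutions are conjugate. -/
theorem isConj_invol (hG : Nat.card G = 5616) {t u : G} (ht : orderOf t = 2) (hu : orderOf u = 2) :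
    IsConj t u :=
  B.isConj_of_48 hG (by rw [ht]; norm_num) (by rw [hu]; norm_num) (B.invol hG ht).1 (B.invol hG hu).1

include B in
/-- An involution commutes with another involution. -/
theorem exists_commute (hG : Nat.card G = 5616) {t : G} (ht : orderOf t = 2) :
    ∃ u : G, orderOf u = 2 ∧ u ≠ t ∧ u * t = t * u := by
  classical
  obtain ⟨hD, hA, hC, hF⟩ := B.invol hG ht
  have hnc : ¬ IsCyclic G := not_isCyclic_of_card (by rw [hG]; norm_num)
  have hreg : ¬ 13 ∣ orderOf t := by rw [ht]; norm_num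
  have ht2 : t ^ 2 = 1 := by rw [← ht, pow_orderOf_eq_one]
  by_contra hno
  push Not at hno
  have hempty : ((Char.classFinset t ×ˢ Char.classFinset t).filter fun q => q.1 * q.2 = t) = ∅ := by
    rw [Finset.filter_eq_empty_iff]
    rintro ⟨a, b⟩ hab he
    rw [Finset.mem_product, Char.mem_classFinset, Char.mem_classFinset] at hab
    obtain ⟨c, rfl⟩ := isConj_iff.1 hab.1
    obtain ⟨d, rfl⟩ := isConj_iff.1 hab.2
    have he : c * t * c⁻¹ * (d * t * d⁻¹) = t := he
    have ho : ∀ c : G, orderOf (c * t * c⁻¹) = 2 := fun c =>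
      ((MulAut.conj c).orderOf_eq t).trans ht
    set a := c * t * c⁻¹
    set b := d * t * d⁻¹
    have haa : a * a = 1 := by rw [← pow_two, ← ho c, pow_orderOf_eq_one]
    have hbb : b * b = 1 := by rw [← pow_two, ← ho d, pow_orderOf_eq_one]
    have hba : b = a * t := by rw [← he, ← mul_assoc, haa, one_mul]
    refine hno a (ho c) (fun e => ?_) ?_
    · have := ho d
      rw [show d * t * d⁻¹ = b from rfl, hba, e, ← pow_two, ht2, orderOf_one] at this
      norm_num at this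
    · have h1 : a * t * (a * t) = 1 := hba ▸ hbb
      have h2 : t * t = 1 := by rw [← pow_two, ht2]
      calc a * t = (a * t)⁻¹ := eq_inv_of_mul_eq_one_left h1
        _ = t * a := by rw [mul_inv_rev, inv_eq_of_mul_eq_one_right h2, inv_eq_of_mul_eq_one_right haa]
  have hval : ∀ χ : IrrCharacter G, ∃ v : ℤ, (χ : G → ℂ) t = v := fun χ =>
    Char.exists_int_of_pow_invariant χ.2.isCharacter t fun k hk => by
      have hodd : k % 2 = 1 := by
        rcases Nat.even_or_odd k with he | he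
        · exfalso
          rw [hG] at hk
          have := Nat.Coprime.coprime_dvd_left (even_iff_two_dvd.1 he) hk
          norm_num at this
        · exact Nat.odd_iff.1 he
      rw [← Nat.div_add_mod k 2, hodd, pow_add, pow_mul, ht2, one_pow, one_mul, pow_one]
  choose v hv using hval
  have hcp := Char.card_class_product t t t
  have hcl : ((Char.classFinset t).card : ℂ) ≠ 0 := by
    refine Nat.cast_ne_zero.2 (Finset.card_pos.2 ⟨t, Char.mem_classFinset.2 (IsConj.refl t)⟩).ne'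
  rw [hempty, Finset.card_empty, Nat.cast_zero, eq_comm] at hcp
  have hsum : ∑ χ : IrrCharacter G, ((v χ : ℚ) ^ 3 / (charDegree (χ : G → ℂ) : ℚ)) = 0 := by
    have h1 := (mul_eq_zero.1 hcp).resolve_left (div_ne_zero (mul_ne_zero hcl hcl) (Nat.cast_ne_zero.2 Nat.card_pos.ne'))
    rw [Finset.sum_congr rfl (g := fun χ : IrrCharacter G =>
      (((v χ : ℚ) ^ 3 / (charDegree (χ : G → ℂ) : ℚ) : ℚ) : ℂ)) fun χ _ => by
        rw [hv χ, map_intCast, Block.apply_one_eq_charDegree]; push_cast; ring] at h1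
    rw [← Rat.cast_sum] at h1
    exact_mod_cast h1
  obtain ⟨-, hrest⟩ := B.sq_le hreg hA hC hF
  rw [hD, Finset.sum_congr rfl (g := fun χ : IrrCharacter G => ((v χ : ℝ) ^ 2)) fun χ _ => by
    rw [hv χ, Complex.normSq_intCast, pow_two]] at hrest
  have hrest' : ∑ χ ∈ (B.T)ᶜ, ((v χ : ℚ)) ^ 2 = 22 := by
    have : ((∑ χ ∈ (B.T)ᶜ, ((v χ : ℚ)) ^ 2 : ℚ) : ℝ) = ((22 : ℚ) : ℝ) := by
      push_cast
      norm_num at hrest
      linarith
    exact_mod_cast this
  have hlow : ∀ χ ∈ (B.T)ᶜ, -(3 / 13 : ℚ) * (v χ : ℚ) ^ 2 ≤ (v χ : ℚ) ^ 3 / (charDegree (χ : G → ℂ) : ℚ) := by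
    intro χ hχ
    obtain ⟨k, hk⟩ := B.notMem_T (Finset.mem_compl.1 hχ)
    have hk1 : 1 ≤ k := Nat.pos_of_ne_zero fun e => (Block.charDegree_pos χ).ne' (by rw [hk, e, mul_zero])
    have h4 := Cfsg.Agent.S0978.four_dvd (commutator_eq_top hnc) χ ht2 (hv χ)
    rw [hk] at h4
    push_cast at h4
    have hv2 : (v χ : ℚ) ^ 2 ≤ 22 :=
      hrest' ▸ Finset.single_le_sum (f := fun χ => (v χ : ℚ) ^ 2) (fun i _ => sq_nonneg _) hχ
    have hv2' : (v χ) ^ 2 ≤ 22 := by exact_mod_cast hv2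
    have hvb : -4 ≤ v χ := by nlinarith
    have hge : -3 * (k : ℤ) ≤ v χ := by omega
    have hge' : -3 * (k : ℚ) ≤ (v χ : ℚ) := by exact_mod_cast hge
    rw [hk, le_div_iff₀ (by push_cast; positivity)]
    push_cast
    nlinarith [sq_nonneg (v χ : ℚ), mul_nonneg (sq_nonneg (v χ : ℚ)) (show (0 : ℚ) ≤ (v χ : ℚ) + 3 * k by linarith)]
  have hle := Finset.sum_le_sum hlow
  rw [← Finset.mul_sum, hrest'] at hle
  rw [← Finset.sum_add_sum_compl B.T] at hsum
  have hT : ((∑ χ ∈ B.T, (v χ : ℚ) ^ 3 / (charDegree (χ : G → ℂ) : ℚ) : ℚ) : ℂ) = 22 / 3 := by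
    rw [Rat.cast_sum, B.sum_T]
    have h1 : (v (one' G) : ℂ) = 1 := by rw [← hv, one'_apply]
    have ha : (v B.χa : ℂ) = 4 := by rw [← hv, hA]; norm_num
    have hc : (v B.χc : ℂ) = 3 := by rw [← hv, hC]; norm_num
    rw [Finset.sum_congr rfl (g := fun _ => (0 : ℂ)) fun χ hχ => by
      have hz : (v χ : ℂ) = 0 := by rw [← hv, B.agree χ hχ t hreg, hF]; norm_num
      push_cast
      rw [hz]; ring]
    push_cast
    rw [h1, ha, hc, charDegree_one', B.deg_a, B.deg_c, Finset.sum_const_zero]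
    norm_num
  have hT' : ∑ χ ∈ B.T, (v χ : ℚ) ^ 3 / (charDegree (χ : G → ℂ) : ℚ) = 22 / 3 := by
    have : ((∑ χ ∈ B.T, (v χ : ℚ) ^ 3 / (charDegree (χ : G → ℂ) : ℚ) : ℚ) : ℂ) = ((22 / 3 : ℚ) : ℂ) := by
      rw [hT]; norm_num
    exact_mod_cast this
  linarith

end BlockData

end Cfsg.Lib.Small.LThreeThreeOrder
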