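import Cfsg.Agent.Lib.Small.GL23Commuting
import Cfsg.Agent.Lib.Small.CentralizerGL23Simple
import Cfsg.Agent.Lib.Small.LThreeThreeRecog
import Cfsg.Agent.Lib.FusionSys.SylowTwoPSL
import Cfsg.Agent.Lib.Fusion.Basic

/-!
# The commuting graph determines `L₃(3)`
-/

set_option autoImplicit false
set_option linter.style.haveILetI false

namespace Cfsg.Lib.Small.LThreeThreeCommuting

open Subgroup CentralizerGL23 PlaneThree

universe u

local instance fact_three : Fact (Nat.Prime 3) := ⟨Nat.prime_three⟩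

/-- The block embedding of `GL(2, 3)`. -/
noncomputable def block : GL23 →* SL33 := Cfsg.Lib.FusionSys.Lin.glToSLThree

theorem block_injective : Function.Injective block := Cfsg.Lib.FusionSys.Lin.glToSLThree_injective

theorem block_val (g : GL23) : (block g : Matrix (Fin 3) (Fin 3) (ZMod 3)) =
    !![(g : Mat) 0 0, (g : Mat) 0 1, 0; (g : Mat) 1 0, (g : Mat) 1 1, 0; 0, 0, ((g : Mat).det)⁻¹] := rfl

theorem block_neg_one : (block (-1) : Matrix (Fin 3) (Fin 3) (ZMod 3)) = !![2, 0, 0; 0, 2, 0; 0, 0, 1] := by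
  rw [block_val]
  decide +kernel

theorem block_five : (block (repU 5) : Matrix (Fin 3) (Fin 3) (ZMod 3)) = !![1, 0, 0; 0, 2, 0; 0, 0, 2] := by
  rw [block_val]
  decide +kernel

/-- The central involution and the reflection are conjugate. -/
theorem exists_conj_five : ∃ c : SL33, c * block (-1) * c⁻¹ = block (repU 5) := by
  let c : SL33 := ⟨!![0, 0, 1; 1, 0, 0; 0, 1, 0], by decide +kernel⟩
  refine ⟨c, mul_inv_eq_iff_eq_mul.mpr (Subtype.ext ?_)⟩
  rw [coe_mul', coe_mul', block_neg_one, block_five, show (c : Matrix (Fin 3) (Fin 3) (ZMod 3)) = !![0, 0, 1; 1, 0, 0; 0, 1, 0] from rfl]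
  decide +kernel

theorem mem_range_block {g : SL33} (h : g * block (-1) = block (-1) * g) : ∃ a, block a = g := by
  have h' := congrArg (fun s : SL33 => (s : Matrix (Fin 3) (Fin 3) (ZMod 3))) h
  simp only [coe_mul', block_neg_one] at h'
  have key : ∀ a : ZMod 3, (a * 1 = 2 * a ∨ a * 2 = 1 * a) → a = 0 := by decide
  have h02 : (g : Matrix (Fin 3) (Fin 3) (ZMod 3)) 0 2 = 0 :=
    key _ (Or.inl (by simpa [Matrix.mul_apply, Fin.sum_univ_three] using congrFun (congrFun h' 0) 2))
  have h12 : (g : Matrix (Fin 3) (Fin 3) (ZMod 3)) 1 2 = 0 :=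
    key _ (Or.inl (by simpa [Matrix.mul_apply, Fin.sum_univ_three] using congrFun (congrFun h' 1) 2))
  have h20 : (g : Matrix (Fin 3) (Fin 3) (ZMod 3)) 2 0 = 0 :=
    key _ (Or.inr (by simpa [Matrix.mul_apply, Fin.sum_univ_three] using congrFun (congrFun h' 2) 0))
  have h21 : (g : Matrix (Fin 3) (Fin 3) (ZMod 3)) 2 1 = 0 :=
    key _ (Or.inr (by simpa [Matrix.mul_apply, Fin.sum_univ_three] using congrFun (congrFun h' 2) 1))
  set M := (g : Matrix (Fin 3) (Fin 3) (ZMod 3)) with hM
  let A : Mat := !![M 0 0, M 0 1; M 1 0, M 1 1]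
  have hdet : A.det * M 2 2 = 1 := by
    have := g.2
    rw [Matrix.det_fin_three] at this
    simp only [← hM, h02, h12, h20, h21] at this
    rw [← this, Matrix.det_fin_two]
    simp [A]
    ring
  have hu : IsUnit A := (Matrix.isUnit_iff_isUnit_det A).mpr (IsUnit.of_mul_eq_one _ hdet)
  obtain ⟨a, ha⟩ := hu
  refine ⟨a, Subtype.ext ?_⟩
  rw [block_val, ha, inv_eq_of_mul_eq_one_right hdet]
  show _ = M
  ext i j
  fin_cases i <;> fin_cases j <;> simp [A, h02, h12, h20, h21]

/-- The centralizer of the central involution. -/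
noncomputable def centEquiv : GL23 ≃* centralizer ({block (-1)} : Set SL33) :=
  MulEquiv.ofBijective (block.codRestrict (centralizer ({block (-1)} : Set SL33)) fun a => by
      rw [mem_centralizer_singleton_iff, ← map_mul, ← map_mul, GLTwoThreeCommuting.neg_one_comm])
    ⟨fun a b h => block_injective (congrArg Subtype.val h), fun g => by
      obtain ⟨a, ha⟩ := mem_range_block (mem_centralizer_singleton_iff.mp g.2)
      exact ⟨a, Subtype.ext ha⟩⟩

theorem centEquiv_val (a : GL23) : ((centEquiv a : centralizer ({block (-1)} : Set SL33)) : SL33) = block a := rfl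

theorem neg_one_square : ∃ a b : GL23, a * a * a = 1 ∧ b * b * b = 1 ∧ -1 = a * b * (a * b) := by decide +kernel

theorem cube_gen : ∀ g : GL23, ∃ a b : GL23, a * a * a = 1 ∧ b * b * b = 1 ∧
    g ∈ [a * b, -1 * (a * b), repU 5 * (a * b), -1 * (repU 5 * (a * b))] := by decide +kernel

theorem gen_all : ∀ r : GL23, r * r = 1 → r ≠ 1 → r ≠ -1 → ∃ c : GL23, c * r * c⁻¹ = repU 5 := by
  decide +kernel

theorem conj_comm (g u v : SL33) :
    g⁻¹ * u * g * (g⁻¹ * v * g) = g⁻¹ * v * g * (g⁻¹ * u * g) ↔ u * v = v * u := by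
  constructor
  · intro h
    calc u * v = g * (g⁻¹ * u * g * (g⁻¹ * v * g)) * g⁻¹ := by group
      _ = g * (g⁻¹ * v * g * (g⁻¹ * u * g)) * g⁻¹ := by rw [h]
      _ = v * u := by group
  · intro h
    calc g⁻¹ * u * g * (g⁻¹ * v * g) = g⁻¹ * (u * v) * g := by group
      _ = g⁻¹ * (v * u) * g := by rw [h]
      _ = _ := by group

variable {H : Type u} [Group H] [Finite H] (e : H ≃ SL33) (he1 : e 1 = 1)
  (hcomm : ∀ x y : H, x * y = y * x ↔ e x * e y = e y * e x)
include he1 hcomm

/-- An element corresponding to an involution has centralizer `GL(2, 3)` and is an involution. -/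
theorem special {z : H} {g : SL33} (hz : e z = g * block (-1) * g⁻¹) :
    z * z = 1 ∧ z ≠ 1 ∧ ∃ ε : centralizer ({z} : Set H) ≃ GL23, ε 1 = 1 ∧
      (∀ a b, a * b = b * a ↔ ε a * ε b = ε b * ε a) ∧
      ∀ a : centralizer ({z} : Set H), block (ε a) = g⁻¹ * e a * g := by
  let E : centralizer ({z} : Set H) ≃ centralizer ({block (-1)} : Set SL33) :=
    (e.trans (MulAut.conj g⁻¹).toEquiv).subtypeEquiv fun a => by
      simp only [Equiv.trans_apply, MulEquiv.toEquiv_eq_coe, EquivLike.coe_coe, mem_centralizer_singleton_iff]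
      rw [hcomm, hz, ← conj_comm g (e a) (g * block (-1) * g⁻¹), MulAut.conj_apply, inv_inv,
        show g⁻¹ * (g * block (-1) * g⁻¹) * g = block (-1) by group]
  let ε : centralizer ({z} : Set H) ≃ GL23 := E.trans centEquiv.toEquiv.symm
  have hval : ∀ a : centralizer ({z} : Set H), block (ε a) = g⁻¹ * e a * g := fun a => by
    rw [← centEquiv_val]
    simp [ε, E]
  have hε1 : ε 1 = 1 := block_injective (by rw [hval, map_one, OneMemClass.coe_one, he1]; group)
  have hεc : ∀ a b, a * b = b * a ↔ ε a * ε b = ε b * ε a := fun a b => by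
    rw [← block_injective.eq_iff, map_mul, map_mul, hval, hval, Subtype.ext_iff, Subgroup.coe_mul,
      Subgroup.coe_mul, hcomm, conj_comm]
  have hx : ((ε.symm (-1) : centralizer ({z} : Set H)) : H) = z := by
    refine e.injective ?_
    have h := hval (ε.symm (-1))
    rw [Equiv.apply_symm_apply] at h
    rw [hz, h]
    group
  refine ⟨?_, ?_, ε, hε1, hεc, hval⟩
  · rw [← hx, ← Subgroup.coe_mul, GLTwoThreeCommuting.x_sq ε hε1 hεc, OneMemClass.coe_one]
  · exact fun h => GLTwoThreeCommuting.x_ne ε hε1 hεc (Subtype.ext (hx.trans h))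

/-- Such a centralizer is `GL(2, 3)`. -/
theorem special_iso {z : H} {g : SL33} (hz : e z = g * block (-1) * g⁻¹) :
    ∃ E : centralizer ({z} : Set H) ≃* GL23,
      (∀ hzC : z ∈ centralizer ({z} : Set H), E ⟨z, hzC⟩ = -1) ∧
      ∃ w : centralizer ({z} : Set H), w * w = 1 ∧ E w ∉ ({1, -1} : Set GL23) ∧
        ∃ g' : SL33, e (w : H) = g' * block (-1) * g'⁻¹ := by
  obtain ⟨hz2, hz1, ε, hε1, hεc, hval⟩ := special e he1 hcomm hz
  obtain ⟨c, hc⟩ := exists_conj_five
  let y := ε.symm (repU 5)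
  have hy : ∃ g' : SL33, e (y : H) = g' * block (-1) * g'⁻¹ := by
    refine ⟨g * c, ?_⟩
    have h := hval y
    rw [Equiv.apply_symm_apply, ← hc] at h
    calc e (y : H) = g * (g⁻¹ * e y * g) * g⁻¹ := by group
      _ = g * (c * block (-1) * c⁻¹) * g⁻¹ := by rw [h]
      _ = _ := by group
  obtain ⟨g', hg'⟩ := hy
  have hy2 : y * y = 1 := Subtype.ext (by simpa using (special e he1 hcomm hg').1)
  obtain ⟨E⟩ := GLTwoThreeCommuting.nonempty_equiv ε hε1 hεc y hy2 (Equiv.apply_symm_apply _ _)
  refine ⟨E, ?_, y, hy2, ?_, g', hg'⟩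
  · intro hzC
    have hne : E ⟨z, hzC⟩ ≠ 1 := fun h => hz1 (congrArg Subtype.val (E.injective (h.trans E.map_one.symm)))
    have hcen : ∀ a : GL23, a * E ⟨z, hzC⟩ = E ⟨z, hzC⟩ * a := fun a => by
      obtain ⟨b, rfl⟩ := E.surjective a
      rw [← map_mul, ← map_mul, show b * ⟨z, hzC⟩ = ⟨z, hzC⟩ * b from
        Subtype.ext (mem_centralizer_singleton_iff.mp b.2)]
    have hd := det_ne (E ⟨z, hzC⟩)
    rcases mem_center_iff_scalar _ hd (by simpa [repU_val, rep] using congrArg Units.val (hcen (repU 4)))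
      (by simpa using congrArg Units.val (hcen ⟨!![1, 1; 1, 2], !![2, 2; 2, 1], by decide +kernel, by decide +kernel⟩))
      with h | h
    · exact absurd (Units.ext h) hne
    · exact Units.ext (h.trans (Units.val_neg 1).symm)
  · rintro (h | h)
    · have h1 : y = 1 := E.injective (h.trans E.map_one.symm)
      have := congrArg ε h1
      rw [Equiv.apply_symm_apply, hε1] at this
      exact GLTwoThreeCommuting.refl_cent.2.1 this
    · rw [Set.mem_singleton_iff] at h
      have hcen : ∀ b, b * y = y * b := fun b =>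
        E.injective (by rw [map_mul, map_mul, h]; exact GLTwoThreeCommuting.neg_one_comm _)
      rcases GLTwoThreeCommuting.mem_center ε hε1 hεc hcen with h' | h'
      · have := congrArg ε h'
        rw [Equiv.apply_symm_apply, hε1] at this
        exact GLTwoThreeCommuting.refl_cent.2.1 this
      · exact GLTwoThreeCommuting.refl_cent.2.2.1 (ε.symm.injective h')

/-- The group is simple with the centralizer and the order of `L₃(3)`. -/
theorem nonempty_equiv : Nonempty (H ≃* Matrix.ProjectiveSpecialLinearGroup (Fin 3) (ZMod 3)) := by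
  classical
  have hcard : Nat.card H = 5616 := (Nat.card_congr e).trans card_SL33
  set N := Cfsg.pResidual 2 H with hN
  have hodd : ∀ u : H, Odd (orderOf u) → u ∈ N := fun u hu =>
    Subgroup.subset_closure (Nat.coprime_two_right.mpr hu)
  have hcube : ∀ {z : H} (E : centralizer ({z} : Set H) ≃* GL23) (a : GL23), a * a * a = 1 →
      (E.symm a : H) ∈ N := by
    intro z E a ha
    refine hodd _ ?_
    have h3 : orderOf ((E.symm a : centralizer ({z} : Set H)) : H) ∣ 3 := by
      rw [orderOf_coe, MulEquiv.orderOf_eq]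
      exact orderOf_dvd_of_pow_eq_one (by rw [pow_succ, pow_two, ha])
    exact (Odd.of_dvd_nat (by decide : Odd 3) h3)
  have hspec : ∀ (z : H) (g : SL33), e z = g * block (-1) * g⁻¹ → z ∈ N := by
    intro z g hz
    obtain ⟨E, hE, -⟩ := special_iso e he1 hcomm hz
    obtain ⟨a, b, ha, hb, hab⟩ := neg_one_square
    have hzC : z ∈ centralizer ({z} : Set H) := mem_centralizer_singleton_iff.mpr rfl
    have : (⟨z, hzC⟩ : centralizer ({z} : Set H)) = E.symm a * E.symm b * (E.symm a * E.symm b) := by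
      rw [← map_mul, ← map_mul, ← hab, ← hE hzC, MulEquiv.symm_apply_apply]
    have h := congrArg Subtype.val this
    simp only [Subgroup.coe_mul] at h
    rw [h]
    exact mul_mem (mul_mem (hcube E a ha) (hcube E b hb)) (mul_mem (hcube E a ha) (hcube E b hb))
  obtain ⟨z, hz⟩ : ∃ z : H, e z = 1 * block (-1) * 1⁻¹ := ⟨e.symm _, e.apply_symm_apply _⟩
  obtain ⟨hz2, hz1, -⟩ := special e he1 hcomm hz
  obtain ⟨E, hE, w, hw2, hwne, g', hg'⟩ := special_iso e he1 hcomm hz
  have hCN : centralizer ({z} : Set H) ≤ N := by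
    intro u hu
    have hzC : z ∈ centralizer ({z} : Set H) := mem_centralizer_singleton_iff.mpr rfl
    let K : Subgroup GL23 := (N.subgroupOf (centralizer ({z} : Set H))).map E.toMonoidHom
    have hmem : ∀ a : GL23, a ∈ K ↔ (E.symm a : H) ∈ N := fun a => by
      simp only [K, Subgroup.mem_map_equiv, mem_subgroupOf]
    have hKn : K.Normal := by
      haveI : N.Normal := Cfsg.Lib.Fusion.pResidual_normal 2 H
      exact Subgroup.Normal.map (inferInstance) _ E.surjective
    have hm1 : -1 ∈ K := (hmem _).mpr (by rw [← hE hzC, MulEquiv.symm_apply_apply]; exact hspec z 1 hz)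
    have hw : E w ∈ K := (hmem _).mpr (by rw [MulEquiv.symm_apply_apply]; exact hspec w g' hg')
    simp only [Set.mem_insert_iff, Set.mem_singleton_iff, not_or] at hwne
    obtain ⟨c, hc⟩ := gen_all (E w) (by rw [← map_mul, hw2, map_one]) hwne.1 hwne.2
    have h5 : repU 5 ∈ K := hc ▸ hKn.conj_mem _ hw c
    have hall : ∀ a, a ∈ K := fun a => by
      obtain ⟨p, q, hp, hq, h⟩ := cube_gen a
      have hpq : p * q ∈ K := mul_mem ((hmem p).mpr (hcube E p hp)) ((hmem q).mpr (hcube E q hq))
      simp only [List.mem_cons, List.not_mem_nil, or_false] at h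
      rcases h with rfl | rfl | rfl | rfl
      exacts [hpq, mul_mem hm1 hpq, mul_mem h5 hpq, mul_mem hm1 (mul_mem h5 hpq)]
    have := (hmem _).mp (hall (E ⟨u, hu⟩))
    rwa [MulEquiv.symm_apply_apply] at this
  have hNtop : N = ⊤ := by
    refine eq_of_le_of_card_ge le_top ?_
    rw [card_top, hcard]
    have h16 : 16 ∣ Nat.card N := by
      refine dvd_trans ?_ (card_dvd_of_le hCN)
      rw [Nat.card_congr E.toEquiv, Nat.card_eq_fintype_card, card_gl]
      norm_num
    have hsyl : ∀ p k : ℕ, p.Prime → Odd p → p ^ k ∣ 5616 → p ^ k ∣ Nat.card N := by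
      intro p k hp ho hpk
      haveI := Fact.mk hp
      obtain ⟨P, hP⟩ := Sylow.exists_subgroup_card_pow_prime p (hcard ▸ hpk)
      rw [← hP]
      refine card_dvd_of_le fun u hu => hodd u ?_
      have : orderOf u ∣ p ^ k := hP ▸ Subgroup.orderOf_dvd_natCard _ hu
      exact Odd.of_dvd_nat (ho.pow) this
    have h27 := hsyl 3 3 Nat.prime_three (by decide) (by norm_num)
    have h13 := hsyl 13 1 (by norm_num) (by decide) (by norm_num)
    refine Nat.le_of_dvd Nat.card_pos ?_
    exact (Nat.Coprime.mul_dvd_of_dvd_of_dvd (by norm_num) h16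
      (Nat.Coprime.mul_dvd_of_dvd_of_dvd (by norm_num) h27 h13) : 16 * (3 ^ 3 * 13 ^ 1) ∣ _)
  have ht : orderOf z = 2 := orderOf_eq_prime (by rw [sq, hz2]) hz1
  haveI := CentralizerGL23.isSimpleGroup E ht hNtop
  exact LThreeThree.nonempty_equiv_PSL E ht hcard

end Cfsg.Lib.Small.LThreeThreeCommuting
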