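import Cfsg.Agent.Lib.Small.CentralizerGL23
import Cfsg.Agent.Lib.Invol.Cyclic
import Cfsg.Agent.Lib.Fusion.Abelian
import Cfsg.Agent.Lib.MEleven.Basic
import Mathlib.GroupTheory.FixedPointFree

/-!
# The 3-local structure of a simple group of order 5616 with involution centralizer `GL(2, 3)`
-/

set_option autoImplicit false
set_option linter.style.haveILetI false
set_option linter.unusedSectionVars false
set_option synthInstance.maxHeartbeats 200000
set_option synthInstance.maxSize 2048

namespace Cfsg.Lib.Small.LThreeThree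

open Subgroup Cfsg.Lib.Small.CentralizerGL23

theorem cls_of_cube : ∀ x : GL23, x * x * x = 1 → x ≠ 1 → cls (x : Mat) = 2 := by decide +kernel

theorem rep_two_cube : repU 2 * repU 2 * repU 2 = 1 ∧ repU 2 ≠ 1 ∧ repU 5 * repU 5 = 1 ∧ repU 5 ≠ 1 ∧
    repU 5 * repU 2 * repU 5 = repU 2 * repU 2 ∧ -1 * repU 5 ≠ 1 ∧ repU 5 ≠ -1 := by decide +kernel

theorem six_comm : ∀ x : GL23, x * repU 2 = repU 2 * x →
    x ^ 6 = 1 ∧ (x * x = 1 → x = 1 ∨ x = -1) ∧ (x * x * x = 1 → x = 1 ∨ x = repU 2 ∨ x = repU 2 * repU 2) := by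
  decide +kernel

universe w

variable {G : Type w} [Group G]

theorem pow_three_cases {u : G} (h : u ^ 3 = 1) {g : G} (hg : g ∈ zpowers u) :
    g = 1 ∨ g = u ∨ g = u ^ 2 := by
  obtain ⟨i, rfl⟩ := mem_zpowers_iff.mp hg
  have h' : u ^ (3 : ℤ) = 1 := by exact_mod_cast h
  rcases (show i % 3 = 0 ∨ i % 3 = 1 ∨ i % 3 = 2 by omega) with hi | hi | hi <;>
    rw [zpow_eq_zpow_emod i h', hi]
  · exact Or.inl (zpow_zero u)
  · exact Or.inr (Or.inl (zpow_one u))
  · exact Or.inr (Or.inr (by norm_cast))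

theorem pow_gcd_one {g : G} {a b : ℕ} (h : a.gcd b = 1) (ha : g ^ a = 1) (hb : g ^ b = 1) : g = 1 := by
  have := pow_gcd_eq_one.mpr ⟨ha, hb⟩
  rwa [h, pow_one] at this

variable [Finite G]

theorem card_three_of {H : Subgroup G} {u : G} (hu : orderOf u = 3) (huH : u ∈ H)
    (hd : Nat.card H ∣ 3) : H = zpowers u := by
  refine (eq_of_le_of_card_ge (zpowers_le.mpr huH) ?_).symm
  rw [Nat.card_zpowers, hu]
  exact Nat.le_of_dvd (by norm_num) hd

variable {t : G} (e : centralizer ({t} : Set G) ≃* GL23)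
include e

theorem isConj_u_of_commute [IsSimpleGroup G] (ht : orderOf t = 2) {i g : G} (hi : orderOf i = 2)
    (h3 : g ^ 3 = 1) (hg : g ≠ 1) (hc : g * i = i * g) : IsConj g (emb e (repU 2)) := by
  obtain ⟨c, hct⟩ := isConj_iff.mp (one_class e ht hi)
  have hc' : c * g * c⁻¹ * t = t * (c * g * c⁻¹) := by
    rw [← hct, show c * g * c⁻¹ * (c * i * c⁻¹) = c * (g * i) * c⁻¹ by group, hc]; group
  obtain ⟨a, ha⟩ := exists_emb e hc'
  have ha3 : a * a * a = 1 := emb_injective e (by
    rw [map_mul, map_mul, ha, map_one, show c * g * c⁻¹ * (c * g * c⁻¹) * (c * g * c⁻¹) = c * g ^ 3 * c⁻¹ by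
      rw [pow_succ, pow_two]; group, h3]
    simp)
  have ha1 : a ≠ 1 := fun h => hg (by
    rw [h, map_one] at ha
    exact conj_eq_one_iff.mp ha.symm)
  obtain ⟨d, hd⟩ := isConj_iff.mp (isConj_repU a)
  rw [cls_of_cube a ha3 ha1] at hd
  refine (isConj_iff.mpr ⟨c, ha.symm⟩ : IsConj g (emb e a)).trans ?_
  exact (isConj_iff.mpr ⟨emb e d, by rw [← map_inv, ← map_mul, ← map_mul, hd]⟩ :
    IsConj (emb e (repU 2)) (emb e a)).symm

theorem u_facts : (emb e (repU 2)) ^ 3 = 1 ∧ emb e (repU 2) ≠ 1 ∧ orderOf (emb e (repU 2)) = 3 := by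
  have h3 : (emb e (repU 2)) ^ 3 = 1 := by
    rw [pow_succ, pow_two, ← map_mul, ← map_mul, rep_two_cube.1, map_one]
  have h1 : emb e (repU 2) ≠ 1 := fun h => rep_two_cube.2.1 (emb_injective e (h.trans (map_one _).symm))
  haveI : Fact (Nat.Prime 3) := ⟨Nat.prime_three⟩
  exact ⟨h3, h1, orderOf_eq_prime h3 h1⟩

theorem t_mem_centralizer_u : t ∈ centralizer ({emb e (repU 2)} : Set G) :=
  mem_centralizer_singleton_iff.mpr (emb_commute e _).symm

theorem six_of_commute {g : G} (hgt : g * t = t * g) (hgu : g * emb e (repU 2) = emb e (repU 2) * g) :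
    ∃ a, emb e a = g ∧ a * repU 2 = repU 2 * a := by
  obtain ⟨a, ha⟩ := exists_emb e hgt
  exact ⟨a, ha, emb_injective e (by rw [map_mul, map_mul, ha]; exact hgu)⟩

variable [IsSimpleGroup G] (ht : orderOf t = 2) (hN : Nat.card G = 5616)
include ht hN

theorem not_thirteen_dvd : ¬ 13 ∣ Nat.card (centralizer ({emb e (repU 2)} : Set G)) := by
  intro h13
  haveI : Fact (Nat.Prime 13) := ⟨by norm_num⟩
  obtain ⟨q', hq'⟩ := exists_prime_orderOf_dvd_card' (G := centralizer ({emb e (repU 2)} : Set G)) 13 h13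
  set q : G := (q' : G) with hqdef
  have hq : orderOf q = 13 := by rw [hqdef, orderOf_coe, hq']
  have hqu : q * emb e (repU 2) = emb e (repU 2) * q := mem_centralizer_singleton_iff.mp q'.2
  obtain ⟨P, hP⟩ := (IsPGroup.of_card (n := 1) (by rw [Nat.card_zpowers, hq, pow_one]) :
    IsPGroup 13 (zpowers q)).exists_le_sylow
  have hPc : Nat.card (P : Subgroup G) = 13 := by
    rw [P.card_eq_multiplicity, hN, Nat.factorization_def _ (by norm_num),
      show (5616 : ℕ) = 13 ^ 1 * 432 by norm_num, padicValNat.mul (by norm_num) (by norm_num),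
      padicValNat.prime_pow, padicValNat.eq_zero_of_not_dvd (by norm_num)]
    norm_num
  have hPq : (P : Subgroup G) = zpowers q := (eq_of_le_of_card_ge hP (by rw [hPc, Nat.card_zpowers, hq])).symm
  -- the centralizer of `q` has odd order
  have hodd : ¬ 2 ∣ Nat.card (centralizer ({q} : Set G)) := by
    intro h2
    haveI : Fact (Nat.Prime 2) := ⟨Nat.prime_two⟩
    obtain ⟨i, hi⟩ := exists_prime_orderOf_dvd_card' (G := centralizer ({q} : Set G)) 2 h2
    obtain ⟨c, hc⟩ := isConj_iff.mp (one_class e ht (x := (i : G)) (by rw [orderOf_coe, hi]))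
    have hm : c * q * c⁻¹ ∈ centralizer ({t} : Set G) := by
      rw [mem_centralizer_singleton_iff, ← hc,
        show c * q * c⁻¹ * (c * (i : G) * c⁻¹) = c * (q * i) * c⁻¹ by group,
        ← mem_centralizer_singleton_iff.mp i.2]
      group
    have h := orderOf_dvd_natCard (⟨_, hm⟩ : centralizer ({t} : Set G))
    rw [← orderOf_coe, card_centralizer_t e] at h
    change orderOf (c * q * c⁻¹) ∣ 48 at h
    rw [← MulAut.conj_apply, MulEquiv.orderOf_eq, hq] at h
    omega
  have h39 : 39 ∣ Nat.card (centralizer ({q} : Set G)) := by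
    have a : 13 ∣ Nat.card (centralizer ({q} : Set G)) := by
      have := orderOf_dvd_natCard (⟨q, mem_centralizer_singleton_iff.mpr rfl⟩ : centralizer ({q} : Set G))
      rwa [← orderOf_coe, hq] at this
    have b : 3 ∣ Nat.card (centralizer ({q} : Set G)) := by
      have := orderOf_dvd_natCard (⟨emb e (repU 2), mem_centralizer_singleton_iff.mpr hqu.symm⟩ :
        centralizer ({q} : Set G))
      rwa [← orderOf_coe, (u_facts e).2.2] at this
    exact Nat.Coprime.mul_dvd_of_dvd_of_dvd (by norm_num : Nat.Coprime 13 3) a b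
  have hCN : centralizer ({q} : Set G) ≤ normalizer (P : Set G) := by
    show centralizer ({q} : Set G) ≤ normalizer ((P : Subgroup G) : Set G)
    rw [hPq]
    refine le_trans (le_of_eq ?_) (centralizer_le_normalizer (zpowers q : Set G))
    rw [zpowers_eq_closure, centralizer_closure]
  have hNd := card_dvd_of_le hCN
  have hn := card_sylow_modEq_one 13 G
  have hidx := card_mul_index (normalizer (P : Set G))
  rw [← P.card_eq_index_normalizer, hN] at hidx
  have hn432 : Nat.card (Sylow 13 G) ∣ 432 := by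
    have hd := P.card_dvd_index
    have hm := card_mul_index (P : Subgroup G)
    rw [hPc, hN] at hm
    rwa [show (P : Subgroup G).index = 432 by omega] at hd
  have hcases : ∀ n ∈ Nat.divisors 432, n % 13 = 1 → n = 1 ∨ n = 27 ∨ n = 144 := by decide +kernel
  rcases hcases _ (Nat.mem_divisors.mpr ⟨hn432, by norm_num⟩) hn with h | h | h
  · have hnorm : ((P : Subgroup G)).Normal := normalizer_eq_top_iff.mp (index_eq_one.mp
      (show (normalizer (P : Set G)).index = 1 by rw [← P.card_eq_index_normalizer, h]))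
    rcases IsSimpleGroup.eq_bot_or_eq_top_of_normal _ hnorm with h' | h'
    · rw [h', card_bot] at hPc; omega
    · rw [h', card_top, hN] at hPc; omega
  · rw [h] at hidx
    have hd : Nat.card (centralizer ({q} : Set G)) ∣ 208 := by
      rwa [show Nat.card (normalizer (P : Set G)) = 208 by omega] at hNd
    have := h39.trans hd
    omega
  · rw [h] at hidx
    have hN39 : Nat.card (normalizer (P : Set G)) = 39 := by omega
    have hCe : centralizer ({q} : Set G) = normalizer (P : Set G) :=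
      eq_of_le_of_card_ge hCN (by rw [hN39]; exact Nat.le_of_dvd Nat.card_pos h39)
    have hle : normalizer (P : Set G) ≤ centralizer ((P : Subgroup G) : Set G) := by
      rw [← hCe, hPq, zpowers_eq_closure, centralizer_closure]
    have hcomp := MonoidHom.ker_transferSylow_isComplement' P hle
    rcases IsSimpleGroup.eq_bot_or_eq_top_of_normal (MonoidHom.transferSylow P hle).ker inferInstance with
      h' | h'
    · have h2 := hcomp.card_mul
      rw [h', card_bot, one_mul, hPc, hN] at h2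
      omega
    · have h2 := hcomp.card_mul
      rw [h', card_top, hPc, hN] at h2
      omega

/-- The centralizer of `u` has a normal Sylow 3-subgroup of index 2. -/
theorem exists_odd_part : ∃ (K : Subgroup G) (k : ℕ), Nat.card K = k ∧ (k = 3 ∨ k = 9 ∨ k = 27) ∧
    Nat.card (centralizer ({emb e (repU 2)} : Set G)) = 2 * k ∧
    emb e (repU 2) ∈ K ∧
    ∀ g, g ∈ K ↔ g ∈ centralizer ({emb e (repU 2)} : Set G) ∧ g ^ 27 = 1 := by
  haveI : Fact (Nat.Prime 2) := ⟨Nat.prime_two⟩
  set u := emb e (repU 2) with hu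
  set C := centralizer ({u} : Set G) with hC
  let t' : C := ⟨t, t_mem_centralizer_u e⟩
  have ht' : orderOf t' = 2 := by rw [← orderOf_coe]; exact ht
  obtain ⟨T, hT⟩ := (IsPGroup.of_card (n := 1) (by rw [Nat.card_zpowers, ht', pow_one]) :
    IsPGroup 2 (zpowers t')).exists_le_sylow
  have hTeq : (T : Subgroup C) = zpowers t' := by
    by_contra hne
    have hlt : (zpowers t').subgroupOf (T : Subgroup C) < ⊤ :=
      lt_top_iff_ne_top.mpr fun h => hne (le_antisymm (subgroupOf_eq_top.mp h) hT)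
    obtain ⟨x, hxn, hxm⟩ := SetLike.exists_of_lt
      ((haveI := T.isPGroup'.isNilpotent;
        Group.normalizerCondition_of_isNilpotent) _ hlt)
    have ht'T : t' ∈ (T : Subgroup C) := hT (mem_zpowers t')
    have hxt : (x : C) * t' * (x : C)⁻¹ = t' := by
      have h := (mem_normalizer_iff.mp hxn ⟨t', ht'T⟩).mp (mem_subgroupOf.mpr (mem_zpowers t'))
      rw [mem_subgroupOf] at h
      have h' : (x : C) * t' * (x : C)⁻¹ ∈ zpowers t' := h
      obtain ⟨i, hi⟩ := mem_zpowers_iff.mp h'
      have h2 : t' ^ (2 : ℤ) = 1 := by rw [show (2 : ℤ) = ((2 : ℕ) : ℤ) by rfl, zpow_natCast, ← ht', pow_orderOf_eq_one]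
      rw [zpow_eq_zpow_emod i h2] at hi
      rcases (show i % 2 = 0 ∨ i % 2 = 1 by omega) with hj | hj <;> rw [hj] at hi
      · rw [zpow_zero] at hi
        have : t' = 1 := conj_eq_one_iff.mp hi.symm
        rw [this, orderOf_one] at ht'; omega
      · rw [zpow_one] at hi; exact hi.symm
    have hgt : ((x : C) : G) * t = t * ((x : C) : G) := congrArg Subtype.val (mul_inv_eq_iff_eq_mul.mp hxt)
    obtain ⟨a, ha, hau⟩ := six_of_commute e hgt (mem_centralizer_singleton_iff.mp (x : C).2)
    obtain ⟨m, hm⟩ := IsPGroup.iff_orderOf.mp T.isPGroup' x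
    have ha6 := (six_comm a hau).1
    have ham : a ^ 2 ^ m = 1 := emb_injective e (by
      rw [map_pow, map_one, ha, ← SubgroupClass.coe_pow, ← SubgroupClass.coe_pow, ← hm, pow_orderOf_eq_one]
      rfl)
    have ha2 : a ^ 2 = 1 := by
      have h := pow_gcd_eq_one.mpr ⟨ha6, ham⟩
      have hd : Nat.gcd 6 (2 ^ m) ∣ 2 := by
        rcases m.eq_zero_or_pos with rfl | hm'
        · simp
        · obtain ⟨j, hj⟩ := (Nat.dvd_prime_pow Nat.prime_two).mp (Nat.gcd_dvd_right 6 (2 ^ m))
          have h6 := Nat.gcd_dvd_left 6 (2 ^ m)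
          rw [hj.2] at h6 ⊢
          rcases Nat.lt_or_ge j 2 with hj2 | hj2
          · exact (pow_dvd_pow 2 (by omega : j ≤ 1))
          · exact absurd ((pow_dvd_pow 2 hj2).trans h6) (by norm_num)
      exact orderOf_dvd_iff_pow_eq_one.mp ((orderOf_dvd_of_pow_eq_one h).trans hd)
    refine hxm (mem_subgroupOf.mpr ?_)
    rcases (six_comm a hau).2.1 (by rw [← sq]; exact ha2) with h | h
    · rw [h, map_one] at ha
      rw [show (x : C) = 1 from Subtype.ext ha.symm]
      exact one_mem _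
    · rw [h, emb_neg_one e ht] at ha
      rw [show (x : C) = t' from Subtype.ext ha.symm]
      exact mem_zpowers t'
  have hTc : Nat.card (T : Subgroup C) = 2 := by rw [hTeq, Nat.card_zpowers, ht']
  have heven : Even (Nat.card C) := even_iff_two_dvd.mpr (hTc ▸ card_subgroup_dvd_card _)
  obtain ⟨H, hH⟩ := Cfsg.Lib.Invol.exists_index_two_of_isCyclic heven T
    (isCyclic_of_prime_card (p := 2) hTc)
  have hC2 : Nat.card C = 2 * Nat.card H := by rw [← H.card_mul_index, hH, mul_comm]
  set k := Nat.card H with hk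
  have hkodd : ¬ 2 ∣ k := by
    intro h
    have h4 : 2 ^ 2 ∣ Nat.card C := by rw [hC2]; exact mul_dvd_mul_left 2 h
    have h := T.pow_dvd_card_of_pow_dvd_card (n := 2) h4
    rw [hTc] at h
    omega
  have hk351 : k ∣ 351 := by
    have h := card_subgroup_dvd_card C
    rw [hC2, hN] at h
    have hco : Nat.Coprime k 16 := Nat.Coprime.pow_right 4
      ((Nat.prime_two.coprime_iff_not_dvd.mpr hkodd).symm)
    have h' : k ∣ 16 * 351 := by
      rw [show 16 * 351 = 5616 by norm_num]
      exact (dvd_mul_left k 2).trans h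
    exact hco.dvd_of_dvd_mul_left h'
  have hk13 : ¬ 13 ∣ k := fun h => not_thirteen_dvd e ht hN (hC2 ▸ h.mul_left 2)
  have hsq : ∀ g : C, g ^ 2 ∈ H := fun g => by
    exact Subgroup.sq_mem_of_index_two hH g
  have hmem : ∀ g : C, g ^ 27 = 1 → g ∈ H := fun g hg => by
    have h : g = (g ^ 2) ^ 14 := by
      rw [← pow_mul, show 2 * 14 = 27 + 1 from rfl, pow_succ, hg, one_mul]
    rw [h]; exact pow_mem (hsq g) 14
  let u' : C := ⟨u, mem_centralizer_singleton_iff.mpr rfl⟩
  have hu27 : u' ^ 27 = 1 := Subtype.ext (by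
    show u ^ 27 = 1
    rw [show 27 = 3 * 9 from rfl, pow_mul, (u_facts e).1, one_pow])
  have h3 : 3 ∣ k := by
    have h := orderOf_dvd_natCard (⟨u', hmem u' hu27⟩ : H)
    rwa [← orderOf_coe, ← orderOf_coe, (u_facts e).2.2] at h
  have hcases : ∀ n ∈ Nat.divisors 351, ¬ 13 ∣ n → 3 ∣ n → n = 3 ∨ n = 9 ∨ n = 27 := by decide +kernel
  have hk' := hcases k (Nat.mem_divisors.mpr ⟨hk351, by norm_num⟩) hk13 h3
  refine ⟨H.map C.subtype, k, by rw [card_map_of_injective C.subtype_injective], hk', hC2,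
    ⟨u', hmem u' hu27, rfl⟩, fun g => ⟨?_, ?_⟩⟩
  · rintro ⟨a, ha, rfl⟩
    refine ⟨a.2, ?_⟩
    have hd : k ∣ 27 := by rcases hk' with h | h | h <;> rw [h] <;> norm_num
    have := congrArg Subtype.val (orderOf_dvd_iff_pow_eq_one.mp
      ((_root_.orderOf_dvd_natCard (⟨a, ha⟩ : H)).trans hd))
    exact congrArg Subtype.val this
  · rintro ⟨hg, hg27⟩
    exact ⟨⟨g, hg⟩, hmem _ (Subtype.ext hg27), rfl⟩

end Cfsg.Lib.Small.LThreeThree
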