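import Cfsg.Agent.Lib.Small.LThreeThreeLocal

/-!
# The centralizer of a 3-central element is a Sylow 3-subgroup extended by an involution
-/

set_option autoImplicit false
set_option linter.style.haveILetI false
set_option linter.unusedSectionVars false

namespace Cfsg.Lib.Small.LThreeThree

open Subgroup Cfsg.Lib.Small.CentralizerGL23

universe w

variable {G : Type w} [Group G] [Finite G]

theorem card_sylow_three (hN : Nat.card G = 5616) [Fact (Nat.Prime 3)] (S : Sylow 3 G) :
    Nat.card (S : Subgroup G) = 27 := by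
  rw [S.card_eq_multiplicity, hN, Nat.factorization_def _ (by norm_num),
    show (5616 : ℕ) = 3 ^ 3 * 208 by norm_num, padicValNat.mul (by norm_num) (by norm_num),
    padicValNat.prime_pow, padicValNat.eq_zero_of_not_dvd (by norm_num)]
  norm_num

theorem pow_twentyseven {S : Subgroup G} (hS : Nat.card S = 27) {g : G} (hg : g ∈ S) : g ^ 27 = 1 :=
  orderOf_dvd_iff_pow_eq_one.mp (hS ▸ Subgroup.orderOf_dvd_natCard S hg)

theorem eq_zpowers_three {u : G} (hu : orderOf u = 3) {g : G} (hg : g ∈ zpowers u) (hg1 : g ≠ 1) :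
    zpowers g = zpowers u := by
  refine eq_of_le_of_card_ge (zpowers_le.mpr hg) ?_
  rw [Nat.card_zpowers, Nat.card_zpowers, hu]
  have h := Subgroup.orderOf_dvd_natCard (zpowers u) hg
  rw [Nat.card_zpowers, hu, Nat.dvd_prime Nat.prime_three] at h
  rcases h with h | h
  · exact absurd (orderOf_eq_one_iff.mp h) hg1
  · exact h.ge

variable {t : G} (e : centralizer ({t} : Set G) ≃* GL23)
include e

theorem s_facts (ht : orderOf t = 2) :
    orderOf (emb e (repU 5)) = 2 ∧ emb e (repU 5) * t = t * emb e (repU 5) ∧ orderOf (t * emb e (repU 5)) = 2 ∧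
    emb e (repU 5) * emb e (repU 2) * (emb e (repU 5))⁻¹ = (emb e (repU 2)) ^ 2 ∧
    (t * emb e (repU 5)) * emb e (repU 2) * (t * emb e (repU 5))⁻¹ = (emb e (repU 2)) ^ 2 := by
  obtain ⟨-, -, h5, h5', hinv, h5t, -⟩ := rep_two_cube
  haveI : Fact (Nat.Prime 2) := ⟨Nat.prime_two⟩
  have hs2 : emb e (repU 5) ^ 2 = 1 := by rw [sq, ← map_mul, h5, map_one]
  have hs1 : emb e (repU 5) ≠ 1 := fun h => h5' (emb_injective e (h.trans (map_one _).symm))
  have hcomm := emb_commute e (repU 5)
  have hsu : emb e (repU 5) * emb e (repU 2) * (emb e (repU 5))⁻¹ = (emb e (repU 2)) ^ 2 := by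
    rw [inv_eq_of_mul_eq_one_right (show emb e (repU 5) * emb e (repU 5) = 1 by rw [← sq, hs2]),
      ← map_mul, ← map_mul, sq, ← map_mul, hinv]
  refine ⟨orderOf_eq_prime hs2 hs1, hcomm, orderOf_eq_prime ?_ ?_, hsu, ?_⟩
  · rw [(show Commute t (emb e (repU 5)) from hcomm.symm).mul_pow, hs2, ← ht, pow_orderOf_eq_one, one_mul]
  · intro h
    exact h5t (emb_injective e (by rw [map_mul, emb_neg_one e ht, h, map_one]))
  · rw [mul_inv_rev, show t * emb e (repU 5) * emb e (repU 2) * ((emb e (repU 5))⁻¹ * t⁻¹) =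
      t * (emb e (repU 5) * emb e (repU 2) * (emb e (repU 5))⁻¹) * t⁻¹ by group, hsu, sq, ← map_mul]
    exact mul_inv_eq_iff_eq_mul.mpr (emb_commute e _).symm

variable [IsSimpleGroup G] (ht : orderOf t = 2) (hN : Nat.card G = 5616)
include ht hN

/-- The centralizer of `u` contains a Sylow 3-subgroup. -/
theorem exists_sylow_centralized : ∃ S : Subgroup G, Nat.card S = 27 ∧ emb e (repU 2) ∈ S ∧
    Nat.card (centralizer ({emb e (repU 2)} : Set G)) = 54 ∧
    ∀ g, g ∈ S ↔ g ∈ centralizer ({emb e (repU 2)} : Set G) ∧ g ^ 27 = 1 := by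
  haveI : Fact (Nat.Prime 3) := ⟨Nat.prime_three⟩
  obtain ⟨K, k, hK, hk, hC, huK, hmem⟩ := exists_odd_part e ht hN
  set u := emb e (repU 2) with hu
  obtain ⟨hu3, hu1, huo⟩ := u_facts e
  rcases hk with hk | hk | hk
  case inr.inr => exact ⟨K, hK.trans hk, huK, by rw [hC, hk], hmem⟩
  all_goals exfalso
  all_goals
    obtain ⟨S, hKS⟩ := (show IsPGroup 3 K from
      (IsPGroup.iff_card (G := K)).mpr (by
        rw [hK, hk]; first | exact ⟨1, rfl⟩ | exact ⟨2, rfl⟩)).exists_le_sylow
    have hS27 := card_sylow_three hN S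
    haveI : Nontrivial ↥(S : Subgroup G) := ⟨⟨u, hKS huK⟩, 1, fun h => hu1 (congrArg Subtype.val h)⟩
    haveI := S.isPGroup'.center_nontrivial
    obtain ⟨z', hz'⟩ := exists_ne (1 : center ↥(S : Subgroup G))
    set z : G := ((z' : ↥(S : Subgroup G)) : G) with hz
    have hzS : z ∈ (S : Subgroup G) := (z' : ↥(S : Subgroup G)).2
    have hzc : ∀ x ∈ (S : Subgroup G), x * z = z * x := fun x hx =>
      congrArg Subtype.val (mem_center_iff.mp z'.2 ⟨x, hx⟩)
    have hz1 : z ≠ 1 := fun h => hz' (Subtype.ext (Subtype.ext h))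
    have hzK : z ∈ K := (hmem z).mpr
      ⟨mem_centralizer_singleton_iff.mpr (hzc u (hKS huK)).symm, pow_twentyseven hS27 hzS⟩
    -- `z` is not a power of `u`
    have hzu : z ∉ zpowers u := fun h => by
      have hle : (S : Subgroup G) ≤ K := fun g hg => (hmem g).mpr ⟨by
        have hgz : g ∈ centralizer ((zpowers z : Subgroup G) : Set G) := by
          rw [zpowers_eq_closure, centralizer_closure, mem_centralizer_singleton_iff]
          exact hzc g hg
        rw [eq_zpowers_three huo h hz1, zpowers_eq_closure, centralizer_closure] at hgz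
        exact hgz, pow_twentyseven hS27 hg⟩
      have := card_le_of_le hle
      omega
  · -- order three
    exact hzu (card_three_of huo huK (dvd_of_eq (hK.trans hk)) ▸ hzK)
  · -- order nine
    have hzo : orderOf z = 3 := by
      have hd : orderOf z ∣ 9 := hk ▸ hK ▸ Subgroup.orderOf_dvd_natCard K hzK
      obtain ⟨j, hj, hje⟩ := (Nat.dvd_prime_pow (m := 2) Nat.prime_three).mp hd
      interval_cases j
      · exact absurd (orderOf_eq_one_iff.mp hje) hz1
      · exact hje
      · exfalso
        have hKz : K = zpowers z := (eq_of_le_of_card_ge (zpowers_le.mpr hzK) (by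
          rw [Nat.card_zpowers, hje, hK, hk]; norm_num)).symm
        obtain ⟨i, hi⟩ := mem_zpowers_iff.mp (hKz ▸ huK)
        have huc : ∀ g ∈ (S : Subgroup G), g * u = u * g := fun g hg => by
          rw [← hi]; exact ((show Commute g z from hzc g hg).zpow_right i).eq
        have hle : (S : Subgroup G) ≤ K := fun g hg => (hmem g).mpr
          ⟨mem_centralizer_singleton_iff.mpr (huc g hg), pow_twentyseven hS27 hg⟩
        have := card_le_of_le hle
        omega
    have hz3 : z ^ 3 = 1 := hzo ▸ pow_orderOf_eq_one z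
    have huz : Commute u z := hzc u (hKS huK)
    -- every element of `K` is `u ^ i * z ^ j`
    have hKeq : zpowers u ⊔ zpowers z = K := by
      have hle : zpowers u ⊔ zpowers z ≤ K := sup_le (zpowers_le.mpr huK) (zpowers_le.mpr hzK)
      refine eq_of_le_of_card_ge hle ?_
      have h1 := card_dvd_of_le hle
      have h2 : (zpowers u : Subgroup G) < zpowers u ⊔ zpowers z :=
        lt_of_le_of_ne le_sup_left fun h => hzu (h ▸ mem_sup_right (mem_zpowers z))
      have h3 : 3 < Nat.card ↥(zpowers u ⊔ zpowers z) := by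
        by_contra hle'
        exact h2.ne (eq_of_le_of_card_ge h2.le (by rw [Nat.card_zpowers, huo]; omega))
      rw [hK, hk] at h1 ⊢
      obtain ⟨j, hj, hje⟩ := (Nat.dvd_prime_pow (m := 2) Nat.prime_three).mp h1
      interval_cases j <;> omega
    have hdec : ∀ w ∈ K, ∃ i j : ℕ, i < 3 ∧ w = u ^ i * z ^ j := by
      intro w hw
      rw [← hKeq, sup_eq_closure] at hw
      induction hw using closure_induction with
      | mem x hx =>
        rcases hx with hx | hx
        · rcases pow_three_cases hu3 hx with h | h | h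
          exacts [⟨0, 0, by norm_num, by rw [h]; simp [hu]⟩, ⟨1, 0, by norm_num, by rw [h]; simp [hu]⟩, ⟨2, 0, by norm_num, by rw [h]; simp [hu]⟩]
        · rcases pow_three_cases hz3 hx with h | h | h
          exacts [⟨0, 0, by norm_num, by rw [h]; simp [hu]⟩, ⟨0, 1, by norm_num, by rw [h]; simp [hu]⟩, ⟨0, 2, by norm_num, by rw [h]; simp [hu]⟩]
      | one => exact ⟨0, 0, by norm_num, by simp⟩
      | mul x y _ _ hx hy =>
        obtain ⟨i, j, -, rfl⟩ := hx
        obtain ⟨i', j', -, rfl⟩ := hy
        refine ⟨(i + i') % 3, j + j', Nat.mod_lt _ (by norm_num), ?_⟩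
        rw [← huo, pow_mod_orderOf, pow_add, pow_add, mul_assoc, ← mul_assoc (z ^ j),
          (huz.symm.pow_pow j i').eq, mul_assoc, mul_assoc]
      | inv x _ hx =>
        obtain ⟨i, j, -, rfl⟩ := hx
        refine ⟨(2 * i) % 3, 2 * j, Nat.mod_lt _ (by norm_num), ?_⟩
        refine inv_eq_of_mul_eq_one_right ?_
        rw [← huo, pow_mod_orderOf, mul_assoc, ← mul_assoc (z ^ j), (huz.symm.pow_pow j (2 * i)).eq,
          ← mul_assoc, ← mul_assoc, ← pow_add, mul_assoc, ← pow_add, show i + 2 * i = 3 * i by ring,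
          show j + 2 * j = 3 * j by ring, pow_mul, pow_mul, hu3, hz3, one_pow, one_pow, one_mul]
    -- an element of `S` moving `u`
    obtain ⟨g, hgS, hgK⟩ := SetLike.exists_of_lt (lt_of_le_of_ne hKS fun h => by
      rw [h, hS27, hk] at hK; omega)
    have hgz : Commute g z := hzc g hgS
    have hgK' : ∀ w ∈ K, g * w * g⁻¹ ∈ K := by
      intro w hw
      obtain ⟨i, j, -, rfl⟩ := hdec w hw
      have hidx : (K.subgroupOf (S : Subgroup G)).index = 3 := by
        have h := card_mul_index (K.subgroupOf (S : Subgroup G))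
        rw [Nat.card_congr (subgroupOfEquivOfLe hKS).toEquiv, hK, hk, hS27] at h
        omega
      have hnorm : (K.subgroupOf (S : Subgroup G)).Normal := by
        refine normal_of_index_eq_minFac_card ?_
        rw [hidx, hS27]; norm_num
      exact hnorm.conj_mem ⟨_, hKS hw⟩ hw ⟨g, hgS⟩
    have hgu : g * u ≠ u * g := fun h => hgK ((hmem g).mpr
      ⟨mem_centralizer_singleton_iff.mpr h, pow_twentyseven hS27 hgS⟩)
    obtain ⟨a, b, ha, hab⟩ := hdec _ (hgK' u huK)
    -- normalise: `g u g⁻¹ = u z^b`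
    have ha1 : a = 1 := by
      interval_cases a
      · exfalso
        rw [pow_zero, one_mul] at hab
        have : u = z ^ b := by
          have := congrArg (fun x => g⁻¹ * x * g) hab
          simpa [mul_assoc, (hgz.pow_right b).eq.symm, ← mul_assoc g⁻¹ (z ^ b)] using this
        exact hgu (by rw [this]; exact (hgz.pow_right b).eq)
      · rfl
      · exfalso
        have hg2 : g ^ 2 * u * (g ^ 2)⁻¹ = u ^ 4 * z ^ (3 * b) := by
          rw [show g ^ 2 * u * (g ^ 2)⁻¹ = g * (g * u * g⁻¹) * g⁻¹ by rw [sq]; group, hab, ← conj_mul, ← conj_pow,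
            hab, (huz.pow_pow 2 b).mul_pow, ← pow_mul, ← pow_mul, mul_inv_eq_iff_eq_mul.mpr (hgz.pow_right b).eq,
            mul_assoc, ← pow_add]
          congr 2; ring
        rw [pow_mul z, hz3, one_pow, mul_one, show u ^ 4 = u by rw [show 4 = 3 + 1 from rfl, pow_succ, hu3, one_mul]]
          at hg2
        have hcom : Commute (g ^ 2) u := mul_inv_eq_iff_eq_mul.mp hg2
        have h := hcom.pow_left 14
        rw [← pow_mul, show 2 * 14 = 27 + 1 from rfl, pow_succ, pow_twentyseven hS27 hgS, one_mul] at h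
        exact hgu h.eq
    subst ha1
    rw [pow_one] at hab
    have hb : z ^ b ≠ 1 := fun h => hgu (mul_inv_eq_iff_eq_mul.mp (by rw [hab, h, mul_one]))
    -- all elements outside `⟨z⟩` are conjugate to `u`
    have hpow : ∀ m : ℕ, g ^ m * u * (g ^ m)⁻¹ = u * z ^ (b * m) := by
      intro m
      induction m with
      | zero => simp
      | succ m ih =>
        rw [pow_succ', show g * g ^ m * u * (g * g ^ m)⁻¹ = g * (g ^ m * u * (g ^ m)⁻¹) * g⁻¹ by group,
          ih, ← conj_mul, hab, mul_inv_eq_iff_eq_mul.mpr (hgz.pow_right (b * m)).eq, mul_assoc, ← pow_add]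
        congr 2; ring
    obtain ⟨-, -, -, hsu, -⟩ := s_facts e ht
    have houter : ∀ w ∈ K, w ∉ zpowers z → IsConj u w := by
      intro w hw hwz
      obtain ⟨i, j, hi, rfl⟩ := hdec w hw
      have hbj : ∀ j : ℕ, ∃ m, z ^ (b * m) = z ^ j := fun j => by
        rcases pow_three_cases hz3 (npow_mem_zpowers z b) with h | h | h
        · exact absurd h hb
        · exact ⟨j, by rw [pow_mul, h]⟩
        · exact ⟨2 * j, by rw [pow_mul, h, ← pow_mul, show 2 * (2 * j) = 3 * j + j by ring, pow_add, pow_mul,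
            hz3, one_pow, one_mul]⟩
      interval_cases i
      · exact absurd (by rw [pow_zero, one_mul]; exact npow_mem_zpowers z j) hwz
      · obtain ⟨m, hm⟩ := hbj j
        exact isConj_iff.mpr ⟨g ^ m, by rw [hpow, hm, pow_one]⟩
      · obtain ⟨m, hm⟩ := hbj (2 * j)
        refine (isConj_iff.mpr ⟨_, hsu⟩ : IsConj u (u ^ 2)).trans (isConj_iff.mpr ⟨g ^ m, ?_⟩)
        rw [← conj_pow, hpow, hm, huz.pow_right (2 * j) |>.mul_pow, ← pow_mul,
          show 2 * j * 2 = 3 * j + j by ring, pow_add (z), pow_mul z, hz3, one_pow, one_mul]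
    -- an involution commuting with `t` that inverts or centralizes `u` inverts `z`
    have key : ∀ c : G, orderOf c = 2 → (c * u * c⁻¹ = u ∨ c * u * c⁻¹ = u ^ 2) → c * z * c⁻¹ = z ^ 2 := by
      intro c hc hcu
      have hcK : c * z * c⁻¹ ∈ K := by
        obtain ⟨hz27c, -⟩ := (hmem z).mp hzK
        have hzu' : z * u = u * z := mem_centralizer_singleton_iff.mp hz27c
        refine (hmem _).mpr ⟨mem_centralizer_singleton_iff.mpr ?_, by
          rw [conj_pow, pow_twentyseven hS27 hzS, mul_one, mul_inv_cancel]⟩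
        have h1 : Commute (c * z * c⁻¹) (c * u * c⁻¹) := (show Commute z u from hzu').map (MulAut.conj c).toMonoidHom
        rcases hcu with h | h <;> rw [h] at h1
        · exact h1.eq
        · have h2 := h1.pow_right 2
          rwa [← pow_mul, show 2 * 2 = 3 + 1 from rfl, pow_succ, hu3, one_mul] at h2
      have hnz : ¬ IsConj z u := by
        intro h
        obtain ⟨d, hd⟩ := isConj_iff.mp h
        haveI := Fintype.ofFinite G
        have h1 := Cfsg.Lib.MEleven.card_centralizer_conj z d
        rw [hd, hC, hk] at h1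
        have h2 := card_dvd_of_le (show (S : Subgroup G) ≤ centralizer ({z} : Set G) from fun x hx =>
          mem_centralizer_singleton_iff.mpr (hzc x hx))
        rw [← h1, hS27] at h2
        omega
      by_cases hzz : c * z * c⁻¹ ∈ zpowers z
      · rcases pow_three_cases hz3 hzz with h | h | h
        · exact absurd (conj_eq_one_iff.mp h) hz1
        · exact absurd (isConj_u_of_commute e ht hc hz3 hz1 (mul_inv_eq_iff_eq_mul.mp h).symm) hnz
        · exact h
      · exact absurd ((isConj_iff.mpr ⟨c, rfl⟩ : IsConj z (c * z * c⁻¹)).trans (houter _ hcK hzz).symm) hnz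
    obtain ⟨hso, hst, htso, hsu', htsu⟩ := s_facts e ht
    have k1 := key t ht (Or.inl (mul_inv_eq_iff_eq_mul.mpr (emb_commute e _).symm))
    have k2 := key _ hso (Or.inr hsu')
    have k3 := key _ htso (Or.inr htsu)
    rw [mul_inv_rev, show t * emb e (repU 5) * z * ((emb e (repU 5))⁻¹ * t⁻¹) =
      t * (emb e (repU 5) * z * (emb e (repU 5))⁻¹) * t⁻¹ by group, k2, ← conj_pow, k1, ← pow_mul,
      show 2 * 2 = 3 + 1 from rfl, pow_succ, hz3, one_mul] at k3
    have hzz : z ^ 2 * z = 1 := by rw [← pow_succ, hz3]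
    rw [← k3, ← sq] at hzz
    exact hz1 (k3.trans (by rw [hzz]))

end Cfsg.Lib.Small.LThreeThree
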