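import Cfsg.Agent.Lib.Small.BlockOrders
import Cfsg.Agent.Lib.Small.PSLTwoRecog
import Cfsg.Agent.Lib.Block.SmallDegreeMain

/-!
# Simple groups with a prime divisor whose cube exceeds the order: the degrees

For a noncyclic simple group `G` and a prime `p` dividing its order with `|G| < p ^ 3`, the degrees in
the principal block leave only `|G| = p (p² - 1) / 2` with `p + 1` Sylow subgroups, or the
configuration `LargeData` (Brauer–Reynolds).
-/

set_option autoImplicit false
set_option linter.unusedSectionVars false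
set_option linter.style.haveILetI false

namespace Cfsg.Lib.Small

open Cfsg Cfsg.Lib

universe u

variable {G : Type u} [Group G] [Fintype G] {p : ℕ} [hp : Fact p.Prime]

open Classical in
/-- The remaining configuration: `p = e (k + 1) + 1` with `2 ≤ k`. -/
structure LargeData (G : Type u) [Group G] [Fintype G] (p : ℕ) [Fact p.Prime] where
  P : Sylow p G
  e : ℕ
  k : ℕ
  S : Shape P e
  two_le_k : 2 ≤ k
  two_le_e : 2 ≤ e
  even_e : Even e
  p_eq : p = e * (k + 1) + 1
  card_G : Nat.card G = p * (e * ((k + 1) * (k * e + 1)))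
  card_C : Nat.card (Subgroup.centralizer ((P : Subgroup G) : Set G)) = p
  sign_θ : S.σ S.θ = 1
  deg_θ : charDegree (S.θ : G → ℂ) = k * e + 1
  one_X : one' G ∈ S.X
  deg_X : ∀ χ ∈ S.X, χ ≠ one' G →
    (S.σ χ = 1 ∧ charDegree (χ : G → ℂ) = (k + 1) * (k * e + 1)) ∨
      (S.σ χ = -1 ∧ charDegree (χ : G → ℂ) = p - 1)
  card_plus : ((S.X.erase (one' G)).filter fun χ => S.σ χ = 1).card * (k + 1) + 2 = e

/-- The prime divides the order exactly once. -/
theorem exists_cofactor [IsSimpleGroup G] (hnc : ¬ IsCyclic G) (hdvd : p ∣ Nat.card G)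
    (hbig : Nat.card G < p ^ 3) :
    p ≠ 2 ∧ ∃ m, Nat.card G = p * m ∧ ¬ p ∣ m ∧ m ≠ 1 ∧ m < p ^ 2 := by
  have hpp : p.Prime := hp.out
  obtain ⟨m, hm⟩ := hdvd
  have hmlt : m < p ^ 2 := by
    rw [hm, show p ^ 3 = p * p ^ 2 by ring] at hbig
    exact Nat.lt_of_mul_lt_mul_left hbig
  have hm1 : m ≠ 1 := fun h => hnc (isCyclic_of_prime_card (hm.trans (by rw [h, mul_one])))
  have hpm : ¬ p ∣ m := by
    rintro ⟨l, rfl⟩
    have hl : l < p := by rw [pow_two] at hmlt; exact Nat.lt_of_mul_lt_mul_left hmlt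
    have hl0 : l ≠ 0 := by rintro rfl; rw [mul_zero, mul_zero] at hm; exact Nat.card_pos.ne' hm
    have hk : Nat.card G = p ^ 2 * l := by rw [hm]; ring
    have hpl : ¬ p ∣ l := fun h => absurd (Nat.le_of_dvd (by omega) h) (by omega)
    obtain ⟨h1, h2⟩ := sylow_facts (G := G) 2 l hk hpl
    have h3 := Nat.le_of_dvd (by omega) h1
    rw [Nat.mod_eq_of_lt (by omega)] at h2
    obtain ⟨P⟩ : Nonempty (Sylow p G) := inferInstance
    haveI : Subsingleton (Sylow p G) := (Nat.card_eq_one_iff_unique.1 h2).1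
    rcases (Sylow.normal_of_subsingleton P).eq_bot_or_eq_top with hb | hb
    · have := card_sylow 2 l hk hpl P
      rw [hb, Subgroup.card_bot] at this
      have := Nat.one_lt_pow two_ne_zero hpp.one_lt
      omega
    · have hP : IsPGroup p G := IsPGroup.of_card (n := 2) (by
        rw [← card_sylow 2 l hk hpl P, hb, Subgroup.card_top])
      haveI : Nontrivial G := IsSimpleGroup.toNontrivial
      have htop : Subgroup.center G = ⊤ :=
        ((inferInstance : (Subgroup.center G).Normal).eq_bot_or_eq_top).resolve_left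
          (bot_lt_iff_ne_bot.mp hP.bot_lt_center)
      let _ : CommGroup G := { (inferInstance : Group G) with
        mul_comm := fun a b => (Subgroup.mem_center_iff.mp (htop ▸ Subgroup.mem_top b) a) }
      exact hnc IsSimpleGroup.isCyclic
  refine ⟨?_, m, hm, hpm, hm1, hmlt⟩
  rintro rfl
  have hm3 : m = 3 := by
    have : 0 < m := Nat.pos_of_ne_zero (by rintro rfl; exact hpm (dvd_zero 2))
    norm_num at hmlt
    omega
  haveI : Fact (Nat.Prime 3) := ⟨Nat.prime_three⟩
  have hk : Nat.card G = 3 ^ 1 * 2 := by rw [hm, hm3]; norm_num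
  obtain ⟨h1, h2⟩ := sylow_facts (G := G) 1 2 hk (by norm_num)
  have h3 := Nat.le_of_dvd two_pos h1
  rw [Nat.mod_eq_of_lt (by omega)] at h2
  obtain ⟨P⟩ : Nonempty (Sylow 3 G) := inferInstance
  haveI : Subsingleton (Sylow 3 G) := (Nat.card_eq_one_iff_unique.1 h2).1
  rcases (Sylow.normal_of_subsingleton P).eq_bot_or_eq_top with hb | hb
  · have := card_sylow 1 2 hk (by norm_num) P
    rw [hb, Subgroup.card_bot] at this
    norm_num at this
  · have := card_sylow 1 2 hk (by norm_num) P
    rw [hb, Subgroup.card_top, hm, hm3] at this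
    norm_num at this

/-- The hypotheses of the small degree theorem hold. -/
theorem smallDegSetting [IsSimpleGroup G] (P : Sylow p G) {m : ℕ} (hm : Nat.card G = p * m)
    (hpm : ¬ p ∣ m) (hm1 : m ≠ 1) (hlt : m < p ^ 2) : Block.SmallDegSetting p (P : Subgroup G) := by
  have hpp : p.Prime := hp.out
  have hk : Nat.card G = p ^ 1 * m := by rw [pow_one, hm]
  have hP : Nat.card (P : Subgroup G) = p := by rw [card_sylow 1 m hk hpm P, pow_one]
  refine ⟨hP, ?_, fun hN => ?_, fun H hH hPH => ?_⟩
  · rw [hm, Nat.factorization_mul hpp.ne_zero (by rintro rfl; exact hpm (dvd_zero p)),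
      Finsupp.add_apply, hpp.factorization_self, Nat.factorization_eq_zero_of_not_dvd hpm]
  · rcases hN.eq_bot_or_eq_top with h | h
    · exact hpp.ne_one (by rw [← hP, h, Subgroup.card_bot])
    · rw [h, Subgroup.card_top, hm] at hP
      exact hm1 ((Nat.mul_eq_left hpp.ne_zero).1 hP)
  · have hpd : p ∣ Nat.card G := by rw [hm]; exact dvd_mul_right p m
    have hind : p ≤ H.index := hpp.dvd_factorial.1 (hpd.trans (card_dvd_factorial hH))
    set Q : Sylow p H := P.subtype hPH
    have hQ : Nat.card (Q : Subgroup H) = p := by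
      rw [Sylow.coe_subtype, Nat.card_congr (Subgroup.subgroupOfEquivOfLe hPH).toEquiv, hP]
    have hmul := card_normalizer_mul Q
    by_cases h1 : Nat.card (Sylow p H) = 1
    · haveI : Subsingleton (Sylow p H) := (Nat.card_eq_one_iff_unique.1 h1).1
      have := Sylow.normal_of_subsingleton Q
      rw [Sylow.coe_subtype] at this
      exact (Subgroup.normal_subgroupOf_iff_le_normalizer hPH).1 this
    · exfalso
      have hmod : Nat.card (Sylow p H) % p = 1 := by
        have h := card_sylow_modEq_one p H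
        rw [Nat.ModEq, Nat.one_mod_eq_one.2 hpp.ne_one] at h
        exact h
      have hn : p + 1 ≤ Nat.card (Sylow p H) := by
        rcases Nat.lt_or_ge (Nat.card (Sylow p H)) p with h' | h'
        · rw [Nat.mod_eq_of_lt h'] at hmod; exact absurd hmod h1
        · rcases h'.eq_or_lt with h'' | h''
          · rw [← h'', Nat.mod_self] at hmod; exact absurd hmod zero_ne_one
          · exact h''
      have hN : p ≤ Nat.card ↥(Subgroup.normalizer ((Q : Subgroup H) : Set H)) :=
        le_trans hQ.ge (Nat.le_of_dvd Nat.card_pos (Subgroup.card_dvd_of_le Subgroup.le_normalizer))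
      have h2 : (p + 1) * p ≤ Nat.card H := hmul ▸ Nat.mul_le_mul hn hN
      have h3 := H.card_mul_index
      have h4 : (p + 1) * p * p ≤ Nat.card G := h3 ▸ Nat.mul_le_mul h2 hind
      rw [hm, mul_assoc, ← pow_two] at h4
      nlinarith [Nat.mul_lt_mul_of_pos_left hlt hpp.pos]

/-- Two residues below a bound agree. -/
theorem eq_of_modEq_of_lt {q : ℕ} {a b : ℤ} (h : a ≡ b [ZMOD q]) (ha : 0 ≤ a) (ha' : a < q)
    (hb : 0 ≤ b) (hb' : b < q) : a = b := by
  have : a % (q : ℤ) = b % (q : ℤ) := h
  rwa [Int.emod_eq_of_lt ha ha', Int.emod_eq_of_lt hb hb'] at this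

open Classical in
/-- The degree analysis. -/
theorem large_prime_cases [IsSimpleGroup G] (hnc : ¬ IsCyclic G) (hdvd : p ∣ Nat.card G)
    (hbig : Nat.card G < p ^ 3) :
    (5 ≤ p ∧ 2 * Nat.card G = p * (p ^ 2 - 1) ∧ Nat.card (Sylow p G) = p + 1) ∨
      Nonempty (LargeData G p) := by
  have hpp : p.Prime := hp.out
  obtain ⟨hodd, m, hm, hpm, hm1, hmlt⟩ := exists_cofactor hnc hdvd hbig
  obtain ⟨P, e, c, n, ⟨S⟩, hC, hnec, hn, hn1, he2, hed, hnS⟩ := block_setup hodd hm hpm hm1
  have hsetting := smallDegSetting P hm hpm hm1 hmlt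
  obtain ⟨k, hk⟩ : ∃ k, n = k * p + 1 := ⟨n / p, by have := Nat.div_add_mod n p; rw [hn] at this; linarith⟩
  have hk1 : 1 ≤ k := by
    rcases Nat.eq_zero_or_pos k with h | h
    · rw [h] at hk; simp at hk; exact absurd hk hn1
    · exact h
  have hc0 : 1 ≤ c := by
    rcases Nat.eq_zero_or_pos c with h | h
    · rw [h, mul_zero] at hnec; exact absurd (hnec ▸ dvd_zero p) hpm
    · exact h
  have hkec : k * (e * c) < p := by
    have h1 : k * p * (e * c) ≤ m := by
      rw [← hnec, hk, mul_assoc ((k * p + 1)) e c]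
      exact Nat.mul_le_mul_right _ (Nat.le_add_right _ _)
    refine Nat.lt_of_mul_lt_mul_left (a := p) ?_
    calc p * (k * (e * c)) = k * p * (e * c) := by ring
      _ ≤ m := h1
      _ < p ^ 2 := hmlt
      _ = p * p := pow_two p
  have hec : e * c < p := lt_of_le_of_lt (Nat.le_mul_of_pos_left _ hk1) hkec
  obtain ⟨t, ht⟩ := hed
  have hp1 : 1 ≤ p := hpp.one_le
  have ht0 : 1 ≤ t := by
    rcases Nat.eq_zero_or_pos t with h | h
    · rw [h, mul_zero] at ht; have := hpp.two_le; omega
    · exact h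
  have htd : (p - 1) / e = t := by rw [ht, Nat.mul_div_cancel_left _ (by omega)]
  have hd2 : ∀ χ ∈ S.Z, χ ≠ one' G → 2 ≤ charDegree (χ : G → ℂ) := fun χ _ hne =>
    two_le_charDegree hnc hne
  have hdm : ∀ χ ∈ S.Z, ∃ s, charDegree (χ : G → ℂ) * s = m ∧ 1 ≤ s ∧ ¬ p ∣ s := by
    intro χ hχ
    obtain ⟨s, hs⟩ := S.deg_dvd hm hχ
    refine ⟨s, hs.symm, ?_, fun h => hpm (hs ▸ dvd_mul_of_dvd_right h _)⟩
    rcases Nat.eq_zero_or_pos s with h | h
    · rw [h, mul_zero] at hs; exact absurd (hs ▸ dvd_zero p) hpm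
    · exact h
  have hm' : m = e * c * n := by rw [← hnec]; ring
  have hmmod : (m : ℤ) ≡ (e * c : ℕ) [ZMOD p] := by
    refine Int.modEq_iff_dvd.2 ⟨-((e * c : ℕ) : ℤ) * k, ?_⟩
    rw [hm', hk]; push_cast; ring
  -- cofactors
  have hsX : ∀ χ ∈ S.X, ∀ s, charDegree (χ : G → ℂ) * s = m →
      (s : ℤ) ≡ S.σ χ * (e * c : ℕ) [ZMOD p] := by
    intro χ hχ s hs
    have h1 := (S.cong χ hχ).mul_right (s : ℤ)
    rw [one_mul, mul_assoc, ← Nat.cast_mul, hs] at h1
    exact h1.symm.trans ((hmmod.mul_left _))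
  have hsum := S.sum_sq
  rw [htd] at hsum
  have hcardlt : ∀ x : ℕ, p ^ 3 ≤ x → ¬ x ≤ Nat.card G := fun x h h' => by omega
  by_cases hep : e + 1 = p
  · -- automizer of order `p - 1`
    exfalso
    obtain ⟨rfl, rfl⟩ : k = 1 ∧ c = 1 := by
      have h3 : k * c ≤ 1 := by
        by_contra hcon
        push Not at hcon
        have : 2 * e ≤ k * (e * c) := by
          rw [show k * (e * c) = k * c * e by ring]; exact Nat.mul_le_mul_right e hcon
        omega
      have := Nat.le_mul_of_pos_left c hk1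
      have := Nat.le_mul_of_pos_right k hc0
      omega
    have hmz : (m : ℤ) = (p : ℤ) * p - 1 := by
      rw [hm', hk]; push_cast; rw [show (e : ℤ) = p - 1 by omega]; ring
    have hdeg : ∀ χ ∈ S.Z, χ ≠ one' G →
        (S.σ χ = 1 ∧ (charDegree (χ : G → ℂ) : ℤ) = p + 1) ∨
          (S.σ χ = -1 ∧ (charDegree (χ : G → ℂ) : ℤ) = p - 1) := by
      intro χ hχ hne
      obtain ⟨s, hs, hs1, hps⟩ := hdm χ hχ
      have hd := hd2 χ hχ hne
      set d := charDegree (χ : G → ℂ) with hddef
      have hdz : (d : ℤ) * s = (p : ℤ) * p - 1 := by rw [← hmz]; exact_mod_cast hs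
      have hcg := S.cong_all hep hχ
      obtain ⟨j, hj⟩ := Int.modEq_iff_dvd.1 hcg.symm
      have hdlt : (d : ℤ) * d < p * (p * p - 1) + 1 := by
        have h1 : d ^ 2 ≤ Nat.card G := by
          have h := Char.sum_sq_degree (G := G)
          simp only [Block.apply_one_eq_charDegree] at h
          have h' : ∑ χ : IrrCharacter G, charDegree (χ : G → ℂ) ^ 2 = Nat.card G := by exact_mod_cast h
          rw [← h']
          exact Finset.single_le_sum (f := fun χ : IrrCharacter G => charDegree (χ : G → ℂ) ^ 2)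
            (fun _ _ => Nat.zero_le _) (Finset.mem_univ χ)
        have h2 : (d : ℤ) ^ 2 ≤ (p : ℤ) * (m : ℤ) := by exact_mod_cast (hm ▸ h1)
        rw [hmz] at h2
        nlinarith
      have hs2 : (2 : ℤ) ≤ s := by
        by_contra hcon
        obtain rfl : s = 1 := by omega
        rw [Nat.cast_one, mul_one] at hdz
        rw [hdz] at hdlt
        have : (3 : ℤ) ≤ p := by have := hpp.two_le; omega
        nlinarith
      have hp3 : (3 : ℤ) ≤ p := by have := hpp.two_le; omega
      rcases S.sign χ hχ with hσ | hσ <;> rw [hσ] at hj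
      · refine Or.inl ⟨hσ, ?_⟩
        have hdj : (d : ℤ) = p * j + 1 := by linarith
        have hj1 : 1 ≤ j := by
          by_contra hcon
          have : p * j ≤ 0 := mul_nonpos_of_nonneg_of_nonpos (by omega) (by omega)
          omega
        obtain ⟨i, hi⟩ : (p : ℤ) ∣ s + 1 := ⟨p - j * s, by rw [hdj] at hdz; linear_combination hdz⟩
        have hsi : (s : ℤ) = p * i - 1 := by linarith
        have hi1 : 1 ≤ i := by
          by_contra hcon
          have : p * i ≤ 0 := mul_nonpos_of_nonneg_of_nonpos (by omega) (by omega)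
          omega
        have hkey : p * (i * j - 1) = j - i := by
          rw [hdj, hsi] at hdz
          have : (p : ℤ) * (p * (i * j - 1) - (j - i)) = 0 := by linear_combination hdz
          rcases mul_eq_zero.1 this with h | h <;> omega
        have hij : i * j = 1 := by
          by_contra hcon
          have h1 : 2 ≤ i * j := by have := one_le_mul_of_one_le_of_one_le hi1 hj1; omega
          have h2 : p ≤ j - i := hkey ▸ le_mul_of_one_le_right (by omega) (by omega)
          have h3 : i * j - 1 ≥ j - 1 := by nlinarith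
          nlinarith
        have : j = 1 := by nlinarith
        rw [hdj, this, mul_one]
      · refine Or.inr ⟨hσ, ?_⟩
        have hdj : (d : ℤ) = -(p * j) - 1 := by linarith
        have hj1 : j ≤ -1 := by
          by_contra hcon
          have : 0 ≤ p * j := mul_nonneg (by omega) (by omega)
          omega
        obtain ⟨i, hi⟩ : (p : ℤ) ∣ s - 1 := ⟨-p - j * s, by rw [hdj] at hdz; linear_combination -hdz⟩
        have hsi : (s : ℤ) = p * i + 1 := by linarith
        have hi1 : 1 ≤ i := by
          by_contra hcon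
          have : p * i ≤ 0 := mul_nonpos_of_nonneg_of_nonpos (by omega) (by omega)
          omega
        obtain ⟨l, rfl⟩ : ∃ l, j = -l := ⟨-j, by ring⟩
        have hkey : p * (i * l - 1) = i - l := by
          rw [hdj, hsi] at hdz
          have : (p : ℤ) * (p * (i * l - 1) - (i - l)) = 0 := by linear_combination hdz
          rcases mul_eq_zero.1 this with h | h <;> omega
        have hij : i * l = 1 := by
          by_contra hcon
          have h1 : 2 ≤ i * l := by
            have := one_le_mul_of_one_le_of_one_le hi1 (show (1 : ℤ) ≤ l by omega); omega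
          have h3 : i * l - 1 ≥ i - 1 := by nlinarith
          nlinarith
        have : l = 1 := by nlinarith
        rw [hdj, this]; ring
    have hsumz : ∑ χ ∈ S.Z.erase (one' G), S.σ χ * (charDegree (χ : G → ℂ) : ℤ) = -1 := by
      have h := S.rel_deg
      rw [← Finset.add_sum_erase _ _ S.one_mem, S.sign_one, charDegree_one'] at h
      simpa using (eq_neg_of_add_eq_zero_right h)
    set A := S.Z.erase (one' G) with hA
    have hAc : A.card = e := by rw [hA, Finset.card_erase_of_mem S.one_mem, S.card_Z]; omega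
    set a := (A.filter fun χ => S.σ χ = 1).card
    have hsplit := Finset.card_filter_add_card_filter_not (s := A) (fun χ => S.σ χ = 1)
    rw [hAc] at hsplit
    have hA1 : ∑ χ ∈ A.filter (fun χ => S.σ χ = 1), S.σ χ * (charDegree (χ : G → ℂ) : ℤ) =
        ∑ χ ∈ A.filter (fun χ => S.σ χ = 1), ((p : ℤ) + 1) := by
      refine Finset.sum_congr rfl fun χ hχ => ?_
      obtain ⟨h1, h2⟩ := Finset.mem_filter.1 hχ
      rcases hdeg χ (Finset.mem_of_mem_erase h1) (Finset.ne_of_mem_erase h1) with h | h
      · rw [h2, h.2, one_mul]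
      · rw [h.1] at h2; norm_num at h2
    have hA2 : ∑ χ ∈ A.filter (fun χ => ¬ S.σ χ = 1), S.σ χ * (charDegree (χ : G → ℂ) : ℤ) =
        ∑ χ ∈ A.filter (fun χ => ¬ S.σ χ = 1), -((p : ℤ) - 1) := by
      refine Finset.sum_congr rfl fun χ hχ => ?_
      obtain ⟨h1, h2⟩ := Finset.mem_filter.1 hχ
      rcases hdeg χ (Finset.mem_of_mem_erase h1) (Finset.ne_of_mem_erase h1) with h | h
      · exact absurd h.1 h2
      · rw [h.1, h.2]; ring
    rw [← Finset.sum_filter_add_sum_filter_not A (fun χ => S.σ χ = 1), hA1, hA2,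
      Finset.sum_const, Finset.sum_const, nsmul_eq_mul, nsmul_eq_mul] at hsumz
    set b := (A.filter fun χ => ¬ S.σ χ = 1).card
    have hab : (a : ℤ) + b = e := by exact_mod_cast hsplit
    have : (p : ℤ) * ((a : ℤ) - b + 1) = 0 := by
      have : (e : ℤ) = p - 1 := by omega
      linear_combination hsumz - hab - this
    rcases mul_eq_zero.1 this with h | h
    · omega
    · have : e = 2 * a + 1 := by omega
      rcases hpp.eq_two_or_odd with h' | h' <;> omega
  -- automizer of order at most `(p - 1) / 2`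
  have hp1e : p = e * t + 1 := by omega
  have ht2 : 2 ≤ t := by
    by_contra hcon
    obtain rfl : t = 1 := by omega
    omega
  have he2p : 2 * e + 1 ≤ p := by
    have := Nat.mul_le_mul_left e ht2
    omega
  have hep' : e + 1 < p := by omega
  have h1X := S.one_mem_X hep'
  have hθ1 := S.θ_ne_one hep'
  have hrel : 1 + ∑ χ ∈ S.X.erase (one' G), S.σ χ * (charDegree (χ : G → ℂ) : ℤ) +
      S.σ S.θ * (charDegree (S.θ : G → ℂ) : ℤ) = 0 := by
    have h := S.rel_deg
    rw [S.Z_eq, Finset.sum_insert S.θ_notMem, ← Finset.add_sum_erase _ _ h1X, S.sign_one,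
      charDegree_one'] at h
    push_cast at h
    linarith
  have hXc : (S.X.erase (one' G)).card + 1 = e := by
    rw [Finset.card_erase_of_mem h1X, S.card_X]; omega
  have hsumθ : t * charDegree (S.θ : G → ℂ) ^ 2 ≤ Nat.card G :=
    le_trans (Nat.le_add_left _ _) hsum
  obtain ⟨f, hf⟩ : ∃ f, charDegree (S.θ : G → ℂ) = f := ⟨_, rfl⟩
  rw [hf] at hrel hsumθ
  -- the centralizer of `P` is `P`
  have hc1 : c = 1 := by
    by_contra hc1
    have hbigdeg : ∀ χ ∈ S.Z, χ ≠ one' G → 2 * p ≤ charDegree (χ : G → ℂ) := fun χ hχ hne => by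
      by_contra hcon
      have h := S.small hnc (block_setup_c hm hpm) hχ hne (by omega)
      rw [hC] at h
      exact hc1 ((Nat.mul_eq_left hpp.ne_zero).1 h)
    have hXd : ∀ χ ∈ S.X.erase (one' G),
        (S.σ χ = 1 ∧ charDegree (χ : G → ℂ) = n ∧ 2 ≤ k) ∨
          (S.σ χ = -1 ∧ k = 1 ∧ 3 * p ≤ charDegree (χ : G → ℂ) + 1) := by
      intro χ hχ
      obtain ⟨hne, hχX⟩ := Finset.mem_erase.1 hχ
      have hZ := S.mem_Z.2 (Or.inr hχX)
      have hd := hbigdeg χ hZ hne
      obtain ⟨s, hs, hs1, hps⟩ := hdm χ hZ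
      have hsec := hsX χ hχX s hs
      set d := charDegree (χ : G → ℂ) with hddef
      have hkp : k * (e * c) + 1 ≤ p := hkec
      have hms : m + p ≤ p * p + e * c := by
        calc m + p = e * c + (k * (e * c) + 1) * p := by rw [hm', hk]; ring
          _ ≤ e * c + p * p := Nat.add_le_add_left (Nat.mul_le_mul_right p hkp) _
          _ = p * p + e * c := by ring
      have h2s : 2 * p * s ≤ m := hs ▸ Nat.mul_le_mul_right s hd
      have hsp : s < p := by
        by_contra hcon
        have : 2 * p * p ≤ 2 * p * s := Nat.mul_le_mul_left _ (not_lt.1 hcon)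
        nlinarith
      rcases S.sign χ hZ with hσ | hσ <;> rw [hσ] at hsec
      · rw [one_mul] at hsec
        have hse : s = e * c := by
          exact_mod_cast eq_of_modEq_of_lt hsec (by omega) (by exact_mod_cast hsp) (by positivity)
            (by exact_mod_cast hec)
        rw [hse, hm', mul_comm d] at hs
        have hdn : d = n := Nat.eq_of_mul_eq_mul_left (by rw [← hse]; exact hs1) hs
        refine Or.inl ⟨hσ, hdn, ?_⟩
        by_contra hk2
        obtain rfl : k = 1 := by omega
        rw [hdn, hk] at hd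
        omega
      · have hsec' : (s : ℤ) ≡ ((p - e * c : ℕ) : ℤ) [ZMOD p] := by
          refine hsec.trans (Int.modEq_iff_dvd.2 ⟨1, ?_⟩)
          rw [Nat.cast_sub hec.le]; ring
        have hse : s = p - e * c := by
          exact_mod_cast eq_of_modEq_of_lt hsec' (by omega) (by exact_mod_cast hsp) (by positivity)
            (by have := Nat.mul_pos (show 0 < e by omega) hc0; omega)
        have hk1' : k = 1 := by
          by_contra hk2
          have h2 : 2 * (e * c) + 1 ≤ p := lt_of_le_of_lt (Nat.mul_le_mul_right _ (by omega)) hkec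
          have h3 : (p + 1) * p ≤ 2 * p * s := by
            rw [show 2 * p * s = 2 * s * p by ring]
            exact Nat.mul_le_mul_right p (by omega)
          nlinarith
        refine Or.inr ⟨hσ, hk1', ?_⟩
        have hcg := S.cong χ hχX
        rw [hσ, ← hddef] at hcg
        obtain ⟨j, hj⟩ := Int.modEq_iff_dvd.1 hcg
        have hjd : (d : ℤ) + 1 = p * j := by linarith
        have : (3 : ℤ) ≤ j := by
          by_contra hcon
          have : (p : ℤ) * j ≤ p * 2 := mul_le_mul_of_nonneg_left (by omega) (by omega)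
          omega
        have h3 : (p : ℤ) * 3 ≤ (d : ℤ) + 1 := hjd ▸ mul_le_mul_of_nonneg_left this (by omega)
        omega
    have hf2 : 2 * p * (e - 1) ≤ f := by
      have hθσ := S.sign S.θ (S.mem_Z.2 (Or.inl rfl))
      by_cases hk2 : 2 ≤ k
      · have hX' : ∑ χ ∈ S.X.erase (one' G), S.σ χ * (charDegree (χ : G → ℂ) : ℤ) =
            ∑ χ ∈ S.X.erase (one' G), (n : ℤ) := by
          refine Finset.sum_congr rfl fun χ hχ => ?_
          rcases hXd χ hχ with h | h
          · rw [h.1, h.2.1, one_mul]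
          · omega
        rw [hX', Finset.sum_const, nsmul_eq_mul] at hrel
        have h2n : 2 * p + 1 ≤ n := by
          rw [hk]; exact Nat.add_le_add_right (Nat.mul_le_mul_right p hk2) 1
        have hX1 : 1 ≤ (S.X.erase (one' G)).card := by omega
        have hsn : 0 ≤ ((S.X.erase (one' G)).card : ℤ) * n :=
          mul_nonneg (Nat.cast_nonneg _) (Nat.cast_nonneg _)
        rcases hθσ with hσ | hσ <;> rw [hσ] at hrel
        · omega
        · have : (f : ℤ) = 1 + ((S.X.erase (one' G)).card : ℤ) * n := by linarith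
          have hf' : f = 1 + (S.X.erase (one' G)).card * n := by exact_mod_cast this
          rw [hf', show e - 1 = (S.X.erase (one' G)).card by omega, mul_comm]
          have := Nat.mul_le_mul_left (S.X.erase (one' G)).card h2n
          nlinarith
      · have hX' : ∑ χ ∈ S.X.erase (one' G), S.σ χ * (charDegree (χ : G → ℂ) : ℤ) =
            ∑ χ ∈ S.X.erase (one' G), -(charDegree (χ : G → ℂ) : ℤ) := by
          refine Finset.sum_congr rfl fun χ hχ => ?_
          rcases hXd χ hχ with h | h
          · omega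
          · rw [h.1]; ring
        rw [hX', Finset.sum_neg_distrib] at hrel
        have hge : ((S.X.erase (one' G)).card : ℤ) * (3 * p - 1) ≤
            ∑ χ ∈ S.X.erase (one' G), (charDegree (χ : G → ℂ) : ℤ) := by
          rw [← nsmul_eq_mul]
          refine Finset.card_nsmul_le_sum _ _ _ fun χ hχ => ?_
          rcases hXd χ hχ with h | h
          · omega
          · omega
        have hX1 : (1 : ℤ) ≤ (S.X.erase (one' G)).card := by omega
        have hpz : (3 : ℤ) ≤ p := by omega
        have : ((e - 1 : ℕ) : ℤ) = (S.X.erase (one' G)).card := by omega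
        rcases hθσ with hσ | hσ <;> rw [hσ] at hrel
        · have : (2 * p * (e - 1) : ℕ) ≤ (f : ℤ) := by push_cast [this]; nlinarith
          exact_mod_cast this
        · nlinarith
    refine hcardlt _ ?_ hsumθ
    have he1 : e + 1 ≤ 4 * (e - 1) ^ 2 := by
      obtain ⟨r, rfl⟩ : ∃ r, e = r + 2 := ⟨e - 2, by omega⟩
      rw [show r + 2 - 1 = r + 1 by omega]
      nlinarith
    have hp4 : p ≤ t * (4 * (e - 1) ^ 2) := by
      have := Nat.mul_le_mul_left t he1
      rw [mul_add, mul_one] at this
      rw [hp1e, mul_comm e t]; omega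
    calc p ^ 3 = p * p ^ 2 := by ring
      _ ≤ t * (4 * (e - 1) ^ 2) * p ^ 2 := Nat.mul_le_mul_right _ hp4
      _ = t * (2 * p * (e - 1)) ^ 2 := by ring
      _ ≤ t * f ^ 2 := Nat.mul_le_mul_left _ (Nat.pow_le_pow_left hf2 2)
  subst hc1
  rw [mul_one] at hC hkec hec hm'
  simp only [mul_one] at hsX
  -- degrees in `X`
  have hms : m + p ≤ p * p + e := by
    have hkp : k * e + 1 ≤ p := hkec
    calc m + p = e + (k * e + 1) * p := by rw [hm', hk]; ring
      _ ≤ e + p * p := Nat.add_le_add_left (Nat.mul_le_mul_right p hkp) _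
      _ = p * p + e := by ring
  have hXd : ∀ χ ∈ S.X.erase (one' G),
      (S.σ χ = 1 ∧ charDegree (χ : G → ℂ) = n) ∨
        (S.σ χ = -1 ∧ charDegree (χ : G → ℂ) * (p - e) = e * n) := by
    intro χ hχ
    obtain ⟨hne, hχX⟩ := Finset.mem_erase.1 hχ
    have hZ := S.mem_Z.2 (Or.inr hχX)
    have hd := hd2 χ hZ hne
    obtain ⟨s, hs, hs1, hps⟩ := hdm χ hZ
    have hsec := hsX χ hχX s hs
    have hcg := S.cong χ hχX
    set d := charDegree (χ : G → ℂ) with hddef
    have hdp : p ≤ d + 1 := by
      obtain ⟨j, hj⟩ := Int.modEq_iff_dvd.1 hcg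
      rcases S.sign χ hZ with hσ | hσ <;> rw [hσ] at hj
      · have : j ≤ -1 := by
          by_contra hcon
          have : 0 ≤ (p : ℤ) * j := mul_nonneg (by omega) (by omega)
          omega
        have : (p : ℤ) * j ≤ p * (-1) := mul_le_mul_of_nonneg_left this (by omega)
        omega
      · have : 1 ≤ j := by
          by_contra hcon
          have : (p : ℤ) * j ≤ 0 := mul_nonpos_of_nonneg_of_nonpos (by omega) (by omega)
          omega
        have : (p : ℤ) * 1 ≤ p * j := mul_le_mul_of_nonneg_left this (by omega)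
        omega
    have hsp : s < p := by
      by_contra hcon
      have hsp1 : p + 1 ≤ s := by
        rcases (not_lt.1 hcon).eq_or_lt with h | h
        · exact absurd (h ▸ dvd_rfl) hps
        · exact h
      have : (p - 1) * (p + 1) ≤ m := hs ▸ Nat.mul_le_mul (by omega) hsp1
      obtain ⟨q, rfl⟩ : ∃ q, p = q + 1 := ⟨p - 1, by omega⟩
      rw [Nat.add_sub_cancel] at this
      nlinarith
    rcases S.sign χ hZ with hσ | hσ <;> rw [hσ] at hsec
    · rw [one_mul] at hsec
      have hse : s = e := by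
        exact_mod_cast eq_of_modEq_of_lt hsec (by omega) (by exact_mod_cast hsp) (by positivity)
          (by exact_mod_cast hec)
      rw [hse, hm', mul_comm d] at hs
      exact Or.inl ⟨hσ, Nat.eq_of_mul_eq_mul_left (by omega) hs⟩
    · have hsec' : (s : ℤ) ≡ ((p - e : ℕ) : ℤ) [ZMOD p] := by
        refine hsec.trans (Int.modEq_iff_dvd.2 ⟨1, ?_⟩)
        rw [Nat.cast_sub hec.le]; ring
      have hse : s = p - e := by
        exact_mod_cast eq_of_modEq_of_lt hsec' (by omega) (by exact_mod_cast hsp) (by positivity)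
          (by omega)
      rw [hse, hm'] at hs
      exact Or.inr ⟨hσ, hs⟩
  -- the degree of `θ`
  have hθZ : S.θ ∈ S.Z := S.mem_Z.2 (Or.inl rfl)
  obtain ⟨s, hs, hs1, hps⟩ := hdm S.θ hθZ
  rw [hf] at hs
  have hf2 : 2 ≤ f := hf ▸ hd2 S.θ hθZ hθ1
  have hfsmall : p ≤ 2 * f + 1 := hsetting.not_small S.θ hf hf2
  have hsθ : (s : ℤ) ≡ -(S.σ S.θ) [ZMOD p] := by
    have h1 := S.congθ.mul_right (s : ℤ)
    rw [hf, mul_assoc, ← Nat.cast_mul, hs] at h1
    have h2 : S.σ S.θ * (e : ℤ) ≡ -(e : ℤ) * s [ZMOD p] := by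
      have := (hmmod.mul_left (S.σ S.θ)).symm.trans h1
      rwa [mul_one] at this
    have h3 : (p : ℤ) ∣ (e : ℤ) * (-(S.σ S.θ) - s) := by
      have := Int.modEq_iff_dvd.1 h2
      rwa [show -(e : ℤ) * s - S.σ S.θ * e = e * (-(S.σ S.θ) - s) by ring] at this
    refine Int.modEq_iff_dvd.2 (((Nat.prime_iff_prime_int.1 hpp).dvd_or_dvd h3).resolve_left fun h => ?_)
    have := Nat.le_of_dvd (by omega) (Int.natCast_dvd_natCast.1 h)
    omega
  have hs2 : s ≠ 1 := by
    intro h
    rw [h, mul_one] at hs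
    refine hcardlt _ ?_ hsumθ
    rw [hs, hm', hk]
    have h1 : p ≤ e * ((k * p + 1) * e * t) := by
      have : p ≤ k * p + 1 := by have := Nat.le_mul_of_pos_left p hk1; omega
      calc p ≤ k * p + 1 := this
        _ = 1 * ((k * p + 1) * 1 * 1) := by ring
        _ ≤ e * ((k * p + 1) * e * t) := by gcongr <;> omega
    have h2 : p ≤ k * p + 1 := by have := Nat.le_mul_of_pos_left p hk1; omega
    calc p ^ 3 = p * p * p := by ring
      _ ≤ (k * p + 1) * (e * t + 1) * p := by
          refine Nat.mul_le_mul_right _ (Nat.mul_le_mul h2 ?_)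
          omega
      _ ≤ (k * p + 1) * (e * t + 1) * (k * p + 1) := Nat.mul_le_mul_left _ h2
      _ ≤ t * (e * (k * p + 1)) ^ 2 := by
          rw [show t * (e * (k * p + 1)) ^ 2 = (k * p + 1) * (e * t * e) * (k * p + 1) by ring]
          gcongr
          have := Nat.mul_le_mul_left (e * t) he2
          omega
  rcases S.sign S.θ hθZ with hσ | hσ
  swap
  · -- negative sign: degree `e`
    rw [hσ, neg_neg] at hsθ
    obtain ⟨j, hj⟩ := Int.modEq_iff_dvd.1 hsθ.symm
    have hsp1 : p + 1 ≤ s := by
      have : 1 ≤ j := by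
        by_contra hcon
        have : (p : ℤ) * j ≤ 0 := mul_nonpos_of_nonneg_of_nonpos (by omega) (by omega)
        omega
      have : (p : ℤ) * 1 ≤ p * j := mul_le_mul_of_nonneg_left this (by omega)
      omega
    have hfp : f < p := by
      by_contra hcon
      have : p * (p + 1) ≤ m := hs ▸ Nat.mul_le_mul (not_lt.1 hcon) hsp1
      nlinarith
    have hfe : f = e := by
      have hcg := S.congθ
      rw [hσ, hf, neg_one_mul] at hcg
      have hcg' : (f : ℤ) ≡ e [ZMOD p] := by
        have := hcg.neg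
        rwa [neg_neg, neg_neg] at this
      exact_mod_cast eq_of_modEq_of_lt hcg' (by positivity) (by exact_mod_cast hfp) (by positivity)
        (by exact_mod_cast hec)
    subst hfe
    have hpe : p = 2 * f + 1 := by omega
    have hk2 : k ≤ 2 := by
      by_contra hcon
      have : 3 * f ≤ k * f := Nat.mul_le_mul_right f (by omega)
      omega
    rcases (show k = 1 ∨ k = 2 by omega) with rfl | rfl
    · refine Or.inl ⟨by omega, ?_, by rw [← hnS, hk]; ring⟩
      rw [hm, hm', hk, hpe, show (2 * f + 1) ^ 2 - 1 = 4 * f * f + 4 * f by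
        rw [show (2 * f + 1) ^ 2 = 4 * f * f + 4 * f + 1 by ring]; omega]
      ring
    · exfalso
      have hX' : ∑ χ ∈ S.X.erase (one' G), S.σ χ * (charDegree (χ : G → ℂ) : ℤ) =
          ∑ χ ∈ S.X.erase (one' G), (n : ℤ) := by
        refine Finset.sum_congr rfl fun χ hχ => ?_
        rcases hXd χ hχ with h | h
        · rw [h.1, h.2, one_mul]
        · exfalso
          have h2 := h.2
          rw [show p - f = f + 1 by omega, hk, hpe] at h2
          obtain ⟨r, hr⟩ : ∃ r, f * (4 * f + 3) = (f + 1) * r :=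
            ⟨charDegree (χ : G → ℂ), by linarith⟩
          have h6 : r < 4 * f := by
            by_contra hcon
            have h7 := Nat.mul_le_mul_left (f + 1) (not_lt.1 hcon)
            nlinarith
          have h8 := Nat.mul_le_mul_left (f + 1) h6
          nlinarith
      rw [hX', Finset.sum_const, nsmul_eq_mul, hσ] at hrel
      have : (((S.X.erase (one' G)).card : ℕ) : ℤ) = (f : ℤ) - 1 := by omega
      rw [this, show (n : ℤ) = 2 * p + 1 by omega] at hrel
      nlinarith
  -- positive sign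
  rw [hσ] at hsθ
  obtain ⟨j, hj⟩ := Int.modEq_iff_dvd.1 hsθ.symm
  have hj1 : 1 ≤ j := by
    by_contra hcon
    have : (p : ℤ) * j ≤ 0 := mul_nonpos_of_nonneg_of_nonpos (by omega) (by omega)
    omega
  have hsp1 : p ≤ s + 1 := by
    have : (p : ℤ) * 1 ≤ p * j := mul_le_mul_of_nonneg_left hj1 (by omega)
    omega
  have hfne : f ≠ p := fun h => hpm (h ▸ Dvd.intro s hs)
  have hfp : f < p := by
    by_contra hcon
    have : (p + 1) * (p - 1) ≤ m := hs ▸ Nat.mul_le_mul (by omega) (by omega)
    obtain ⟨q, rfl⟩ : ∃ q, p = q + 1 := ⟨p - 1, by omega⟩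
    rw [Nat.add_sub_cancel] at this
    nlinarith
  have hfe : f = p - e := by
    have hcg := S.congθ
    rw [hσ, hf, one_mul] at hcg
    have hcg' : (f : ℤ) ≡ ((p - e : ℕ) : ℤ) [ZMOD p] :=
      hcg.trans (Int.modEq_iff_dvd.2 ⟨1, by rw [Nat.cast_sub hec.le]; ring⟩)
    exact_mod_cast eq_of_modEq_of_lt hcg' (by positivity) (by exact_mod_cast hfp) (by positivity)
      (by omega)
  have hmz : (f : ℤ) * s = (e : ℤ) * ((k : ℤ) * p + 1) := by
    have : f * s = e * (k * p + 1) := by rw [hs, hm', hk]
    exact_mod_cast this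
  have hfz : (f : ℤ) = p - e := by rw [hfe, Nat.cast_sub hec.le]
  have hkey : j * ((p : ℤ) - e) = e * k + 1 := by
    have h1 : (s : ℤ) = p * j - 1 := by linarith
    rw [h1, hfz] at hmz
    have : (p : ℤ) * (j * ((p : ℤ) - e) - (e * k + 1)) = 0 := by linear_combination hmz
    rcases mul_eq_zero.1 this with h | h <;> omega
  have hj' : j = 1 := by
    by_contra hcon
    have h1 : 2 * ((p : ℤ) - e) ≤ j * ((p : ℤ) - e) :=
      mul_le_mul_of_nonneg_right (by omega) (by omega)
    have h2 : (e : ℤ) * k < p := by rw [mul_comm] at hkec; exact_mod_cast hkec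
    omega
  rw [hj', one_mul] at hkey
  have hpeq : p = e * (k + 1) + 1 := by
    have : (p : ℤ) = (e * (k + 1) + 1 : ℕ) := by push_cast; linarith
    exact_mod_cast this
  have hn' : n = (k + 1) * (k * e + 1) := by rw [hk, hpeq]; ring
  have hfk : f = k * e + 1 := by
    rw [hfe, hpeq, Nat.mul_succ, mul_comm e k]
    omega
  by_cases hk2 : 2 ≤ k
  swap
  · obtain rfl : k = 1 := by omega
    refine Or.inl ⟨by omega, ?_, by rw [← hnS, hk]; ring⟩
    have hpe : p = 2 * e + 1 := by omega
    rw [hm, hm', hk, hpe, show (2 * e + 1) ^ 2 - 1 = 4 * e * e + 4 * e by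
      rw [show (2 * e + 1) ^ 2 = 4 * e * e + 4 * e + 1 by ring]; omega]
    ring
  right
  have hdX : ∀ χ ∈ S.X, χ ≠ one' G →
      (S.σ χ = 1 ∧ charDegree (χ : G → ℂ) = (k + 1) * (k * e + 1)) ∨
        (S.σ χ = -1 ∧ charDegree (χ : G → ℂ) = p - 1) := by
    intro χ hχ hne
    rcases hXd χ (Finset.mem_erase.2 ⟨hne, hχ⟩) with h | h
    · exact Or.inl ⟨h.1, h.2.trans hn'⟩
    · refine Or.inr ⟨h.1, ?_⟩
      have h2 := h.2
      rw [hn', ← hfe, hfk, show e * ((k + 1) * (k * e + 1)) = e * (k + 1) * (k * e + 1) by ring] at h2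
      rw [Nat.eq_of_mul_eq_mul_right (by omega) h2, hpeq, Nat.add_sub_cancel]
  set A := (S.X.erase (one' G)).filter fun χ => S.σ χ = 1 with hA
  have hplus : A.card * (k + 1) + 2 = e := by
    have hA1 : ∑ χ ∈ A, S.σ χ * (charDegree (χ : G → ℂ) : ℤ) =
        ∑ χ ∈ A, (((k + 1) * (k * e + 1) : ℕ) : ℤ) := by
      refine Finset.sum_congr rfl fun χ hχ => ?_
      obtain ⟨h1, h2⟩ := Finset.mem_filter.1 hχ
      rcases hdX χ (Finset.mem_of_mem_erase h1) (Finset.ne_of_mem_erase h1) with h | h
      · rw [h2, h.2, one_mul]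
      · rw [h.1] at h2; norm_num at h2
    have hA2 : ∑ χ ∈ (S.X.erase (one' G)).filter (fun χ => ¬ S.σ χ = 1),
          S.σ χ * (charDegree (χ : G → ℂ) : ℤ) =
        ∑ χ ∈ (S.X.erase (one' G)).filter (fun χ => ¬ S.σ χ = 1), -(((p - 1 : ℕ) : ℤ)) := by
      refine Finset.sum_congr rfl fun χ hχ => ?_
      obtain ⟨h1, h2⟩ := Finset.mem_filter.1 hχ
      rcases hdX χ (Finset.mem_of_mem_erase h1) (Finset.ne_of_mem_erase h1) with h | h
      · exact absurd h.1 h2
      · rw [h.1, h.2]; ring
    rw [← Finset.sum_filter_add_sum_filter_not _ (fun χ => S.σ χ = 1), ← hA, hA1, hA2,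
      Finset.sum_const, Finset.sum_const, nsmul_eq_mul, nsmul_eq_mul, hσ, one_mul] at hrel
    have hsplit := Finset.card_filter_add_card_filter_not (s := S.X.erase (one' G))
      (fun χ => S.σ χ = 1)
    set a : ℕ := A.card with ha
    have hb : ((((S.X.erase (one' G)).filter fun χ => ¬ S.σ χ = 1).card : ℕ) : ℤ) =
        (e : ℤ) - 1 - a := by omega
    have hp1' : ((p - 1 : ℕ) : ℤ) = (e : ℤ) * (k + 1) := by rw [hpeq]; push_cast; simp
    rw [hb, hfz, hp1', show (p : ℤ) = (e : ℤ) * (k + 1) + 1 by exact_mod_cast hpeq] at hrel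
    push_cast at hrel
    have : ((e : ℤ) * (k + 1) + 1) * ((a : ℤ) * (k + 1) - e + 2) = 0 := by linear_combination hrel
    rcases mul_eq_zero.1 this with h | h
    · exfalso; nlinarith
    · have h' : ((a * (k + 1) + 2 : ℕ) : ℤ) = (e : ℤ) := by push_cast; linarith
      exact_mod_cast h'
  refine ⟨⟨P, e, k, S, hk2, he2, ?_, hpeq, ?_, hC, hσ, hf.trans hfk, h1X, hdX, hplus⟩⟩
  · rcases Nat.even_or_odd e with h | h
    · exact h
    · exfalso
      rcases hpp.eq_two_or_odd with h' | h'
      · omega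
      · have hev : Even (e * (k + 1)) := by rw [Nat.even_iff]; omega
        have hk' : Even (k + 1) := (Nat.even_mul.1 hev).resolve_left (Nat.not_even_iff_odd.2 h)
        have : Even e := hplus ▸ (hk'.mul_left _).add even_two
        exact Nat.not_even_iff_odd.2 h this
  · rw [hm, hm', hn']

end Cfsg.Lib.Small
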