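import Cfsg.Agent.Lib.Small.LargePrime
import Cfsg.Agent.Lib.Char.Galois

/-!
# Simple groups with a prime divisor whose cube exceeds the order: the values

The configuration `LargeData` forces `e = 2`; then the group has order `(q + 1) q (q - 1)` for
`q = p - 1`, one class of involutions, their centralizers have order `q`, and every element of even
order is an involution.
-/

set_option autoImplicit false
set_option linter.unusedSectionVars false
set_option linter.style.haveILetI false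

namespace Cfsg.Lib.Small

open Cfsg Cfsg.Lib
open scoped ComplexConjugate

universe u

variable {G : Type u} [Group G] [Fintype G] {p : ℕ} [hp : Fact p.Prime]

noncomputable local instance (priority := high) fintypeSubgroupLargePrimeValues {A : Type u}
    [Group A] [Fintype A] (H : Subgroup A) : Fintype H := Fintype.ofFinite H

/-- An element normalizing but not lying in a self-centralizing subgroup of prime order is conjugate
to all its translates. -/
theorem isConj_mul_of_normalizer {P : Subgroup G} (hP : Nat.card P = p)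
    (hCP : Subgroup.centralizer (P : Set G) = P) {g : G}
    (hg : g ∈ Subgroup.normalizer (P : Set G)) (hgP : g ∉ P) {x : G} (hx : x ∈ P) :
    IsConj g (g * x) := by
  let f : P → P := fun v => ⟨g⁻¹ * (v : G) * g * (v : G)⁻¹,
    mul_mem ((Subgroup.mem_normalizer_iff''.1 hg v).1 v.2) (inv_mem v.2)⟩
  have hinj : Function.Injective f := by
    intro v w h
    have h1 : g⁻¹ * (v : G) * g * (v : G)⁻¹ = g⁻¹ * (w : G) * g * (w : G)⁻¹ := congrArg Subtype.val h
    have h2 : (v : G) * g * (v : G)⁻¹ = (w : G) * g * (w : G)⁻¹ := by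
      simpa [mul_assoc] using congrArg (g * ·) h1
    by_contra hne
    set u : G := (w : G)⁻¹ * v with hu
    have huP : u ∈ P := mul_mem (inv_mem w.2) v.2
    have hu1 : u ≠ 1 := fun h => hne (Subtype.ext (inv_mul_eq_one.1 h).symm)
    have hug : u * g = g * u := by
      calc u * g = (w : G)⁻¹ * ((v : G) * g * (v : G)⁻¹) * v := by rw [hu]; group
        _ = g * u := by rw [h2, hu]; group
    apply hgP
    rw [← hCP, ← zpowers_eq_of_prime_card hP huP hu1, centralizer_zpowers,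
      Subgroup.mem_centralizer_singleton_iff]
    exact hug.symm
  obtain ⟨v, hv⟩ := (Finite.injective_iff_surjective.1 hinj) ⟨x, hx⟩
  have hv' : g⁻¹ * (v : G) * g * (v : G)⁻¹ = x := congrArg Subtype.val hv
  refine isConj_iff.2 ⟨v, ?_⟩
  rw [← hv']
  group

/-- Eigenvalues on the fixed space of a self-centralizing subgroup of prime order. -/
theorem fixed_eigen {P : Subgroup G} (hP : Nat.card P = p)
    (hCP : Subgroup.centralizer (P : Set G) = P) {g : G} (hg : g ∈ Subgroup.normalizer (P : Set G))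
    (χ : IrrCharacter G) :
    ∃ (m : ℕ) (μ : Fin m → ℂ), (∀ j, μ j ^ orderOf g = 1) ∧
      (p : ℂ) * m = ∑ x : P, (χ : G → ℂ) x ∧
      ∀ s : ℕ, g ^ s ∉ P → (χ : G → ℂ) (g ^ s) = ∑ j, μ j ^ s := by
  classical
  have hpp : p.Prime := hp.out
  have hp0 : (p : ℂ) ≠ 0 := Nat.cast_ne_zero.2 hpp.ne_zero
  have hcard : Fintype.card P = p := by rw [← Nat.card_eq_fintype_card, hP]
  obtain ⟨n, ρ, -, hρ⟩ := χ.2
  let E : Module.End ℂ (Fin n → ℂ) := (p : ℂ)⁻¹ • ∑ x : P, ρ (x : G)
  have habs : ∀ x : P, ρ (x : G) * (∑ y : P, ρ (y : G)) = ∑ y : P, ρ (y : G) := by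
    intro x
    rw [Finset.mul_sum]
    exact Fintype.sum_equiv (Equiv.mulLeft x) _ _ fun y => by rw [← map_mul]; rfl
  have hEE : E * E = E := by
    simp only [E, smul_mul_assoc, mul_smul_comm, Finset.sum_mul, habs, Finset.sum_const,
      Finset.card_univ, hcard]
    rw [← Nat.cast_smul_eq_nsmul ℂ, smul_smul, smul_smul, mul_assoc, inv_mul_cancel₀ hp0, mul_one]
  have htrE : ∀ a : G, LinearMap.trace ℂ _ (ρ a * E) =
      (p : ℂ)⁻¹ * ∑ x : P, (χ : G → ℂ) (a * x) := by
    intro a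
    simp only [E, mul_smul_comm, Finset.mul_sum, map_smul, map_sum, smul_eq_mul]
    exact Finset.sum_congr rfl fun x _ => by rw [← map_mul, ← hρ]; rfl
  have hcomm : ∀ a ∈ Subgroup.normalizer (P : Set G), ρ a * E = E * ρ a := by
    intro a ha
    simp only [E, mul_smul_comm, smul_mul_assoc, Finset.mul_sum, Finset.sum_mul]
    congr 1
    let conjP : P → P := fun x =>
      ⟨a * (x : G) * a⁻¹, (Subgroup.mem_normalizer_iff.1 ha x).1 x.2⟩
    have hbij : Function.Bijective conjP := Finite.injective_iff_bijective.1 fun x y h =>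
      Subtype.ext (by simpa [conjP] using congrArg Subtype.val h)
    refine Fintype.sum_bijective conjP hbij _ _ fun x => ?_
    rw [← map_mul, ← map_mul]
    simp [conjP, mul_assoc]
  set W : Submodule ℂ (Fin n → ℂ) := LinearMap.range E with hW
  have hEW : ∀ w ∈ W, E w = w := by
    rintro w ⟨v, rfl⟩
    rw [← Module.End.mul_apply, hEE]
  have hinv : ∀ a ∈ Subgroup.normalizer (P : Set G), ∀ w ∈ W, ρ a w ∈ W := fun a ha w hw =>
    ⟨ρ a w, by
      rw [← Module.End.mul_apply, ← hcomm a ha, Module.End.mul_apply, hEW w hw]⟩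
  have hmemN : ∀ a : Subgroup.zpowers g, (a : G) ∈ Subgroup.normalizer (P : Set G) := fun a =>
    Subgroup.zpowers_le.2 hg a.2
  let τ : Representation ℂ (Subgroup.zpowers g) W :=
    { toFun := fun a => (ρ (a : G)).restrict (hinv _ (hmemN a))
      map_one' := by ext w; simp [LinearMap.restrict_apply]
      map_mul' := fun a b => by ext w; simp [LinearMap.restrict_apply, map_mul] }
  have htr : ∀ a : Subgroup.zpowers g, LinearMap.trace ℂ W (τ a) =
      (p : ℂ)⁻¹ * ∑ x : P, (χ : G → ℂ) ((a : G) * x) := by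
    intro a
    have hall : ∀ v, (ρ (a : G) * E) v ∈ W := fun v => by
      rw [Module.End.mul_apply]
      exact hinv _ (hmemN a) _ (LinearMap.mem_range_self E v)
    rw [← htrE, ← LinearMap.trace_restrict_eq_of_forall_mem W (ρ (a : G) * E) hall]
    refine congrArg _ (LinearMap.ext fun w => Subtype.ext ?_)
    show ρ (a : G) (w : Fin n → ℂ) = (ρ (a : G) * E) (w : Fin n → ℂ)
    rw [Module.End.mul_apply, hEW _ w.2]
  obtain ⟨b, μ, hb, hμ⟩ := Char.exists_eigenbasis τ ⟨g, Subgroup.mem_zpowers g⟩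
  rw [Subgroup.orderOf_mk] at hμ
  have hbs : ∀ (s : ℕ) j, τ (⟨g, Subgroup.mem_zpowers g⟩ ^ s) (b j) = μ j ^ s • b j := by
    intro s j
    induction s with
    | zero => simp
    | succ m ih =>
      rw [pow_succ', map_mul, Module.End.mul_apply, ih, map_smul, hb, smul_smul, pow_succ]
  refine ⟨_, μ, hμ, ?_, fun s hs => ?_⟩
  · have h := htr 1
    rw [map_one, LinearMap.trace_one] at h
    simp only [OneMemClass.coe_one, one_mul] at h
    rw [h, ← mul_assoc, mul_inv_cancel₀ hp0, one_mul]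
  · have h := htr (⟨g, Subgroup.mem_zpowers g⟩ ^ s)
    rw [Char.trace_eq_sum_of_eigenbasis _ b _ (hbs s)] at h
    simp only [SubmonoidClass.coe_pow] at h
    have hconst : ∀ x : P, (χ : G → ℂ) (g ^ s * x) = (χ : G → ℂ) (g ^ s) := fun x => by
      obtain ⟨c, hc⟩ := isConj_iff.1 (isConj_mul_of_normalizer hP hCP (pow_mem hg s) hs x.2)
      rw [← hc, χ.2.isClassFunction]
    rw [h, Finset.sum_congr rfl fun x _ => hconst x, Finset.sum_const, Finset.card_univ, hcard,
      nsmul_eq_mul, ← mul_assoc, inv_mul_cancel₀ hp0, one_mul]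

/-- Equality in the triangle inequality. -/
theorem eq_of_sum_extremal {ι : Type*} (R : Finset ι) (m : ι → ℕ) (v : ι → ℂ)
    (hm : ∀ i ∈ R, 0 < m i) (hv : ∀ i ∈ R, ‖v i‖ ≤ m i)
    (hsum : ∑ i ∈ R, (m i : ℂ) * v i = ((∑ i ∈ R, m i ^ 2 : ℕ) : ℂ)) :
    ∀ i ∈ R, v i = (m i : ℂ) := by
  have hre := congrArg Complex.re hsum
  rw [Complex.re_sum, Complex.natCast_re] at hre
  push_cast at hre
  have hle : ∀ i ∈ R, ((m i : ℂ) * v i).re ≤ (m i : ℝ) ^ 2 := fun i hi => by
    rw [Complex.mul_re, Complex.natCast_re, Complex.natCast_im, zero_mul, sub_zero, sq]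
    exact mul_le_mul_of_nonneg_left ((Complex.re_le_norm _).trans (hv i hi)) (Nat.cast_nonneg _)
  intro i hi
  have h := (Finset.sum_eq_sum_iff_of_le hle).1 hre i hi
  rw [Complex.mul_re, Complex.natCast_re, Complex.natCast_im, zero_mul, sub_zero, sq] at h
  have hre' : (v i).re = (m i : ℝ) :=
    mul_left_cancel₀ (Nat.cast_ne_zero.2 (hm i hi).ne') h
  have him : (v i).im = 0 := by
    have h1 := hv i hi
    have h2 : ‖v i‖ ^ 2 = (v i).re * (v i).re + (v i).im * (v i).im := by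
      rw [Complex.sq_norm, Complex.normSq_apply]
    have h3 : ‖v i‖ ^ 2 ≤ (m i : ℝ) ^ 2 := pow_le_pow_left₀ (norm_nonneg _) h1 2
    rw [h2, hre'] at h3
    have h4 : (v i).im * (v i).im ≤ 0 := by nlinarith
    exact mul_self_eq_zero.1 (le_antisymm h4 (mul_self_nonneg _))
  exact Complex.ext (by rw [hre', Complex.natCast_re]) (by rw [him, Complex.natCast_im])

/-- The number of factorizations through two classes, cleared of denominators. -/
theorem class_product_int [DecidableEq G] (a b c : G) :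
    (((Char.classFinset a ×ˢ Char.classFinset b).filter fun q => q.1 * q.2 = c).card : ℂ) *
        (Nat.card (Subgroup.centralizer ({a} : Set G)) : ℂ) *
        (Nat.card (Subgroup.centralizer ({b} : Set G)) : ℂ) =
      (Nat.card G : ℂ) * ∑ χ : IrrCharacter G,
        (χ : G → ℂ) a * (χ : G → ℂ) b * conj ((χ : G → ℂ) c) / (χ : G → ℂ) 1 := by
  classical
  have hcl : ∀ g : G, ((Char.classFinset g).card : ℂ) *
      (Nat.card (Subgroup.centralizer ({g} : Set G)) : ℂ) = (Nat.card G : ℂ) := fun g => by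
    rw [Char.card_classFinset, ← Nat.cast_mul, mul_comm, Subgroup.card_mul_index]
  have hG : (Nat.card G : ℂ) ≠ 0 := Nat.cast_ne_zero.2 Nat.card_pos.ne'
  rw [Char.card_class_product]
  generalize (∑ χ : IrrCharacter G,
    (χ : G → ℂ) a * (χ : G → ℂ) b * conj ((χ : G → ℂ) c) / (χ : G → ℂ) 1) = T
  calc _ = ((Char.classFinset a).card : ℂ) * (Nat.card (Subgroup.centralizer ({a} : Set G)) : ℂ) *
        (((Char.classFinset b).card : ℂ) * (Nat.card (Subgroup.centralizer ({b} : Set G)) : ℂ)) /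
        (Nat.card G : ℂ) * T := by ring
    _ = _ := by rw [hcl a, hcl b, mul_div_assoc, div_self hG, mul_one]

/-- The factorizations of an element into two involutions conjugate to `y`, by their first factor. -/
theorem exists_inverting_finset [DecidableEq G] {y : G} (hy : y ^ 2 = 1) (g : G) :
    ∃ U : Finset G,
      U.card = ((Char.classFinset y ×ˢ Char.classFinset y).filter fun q => q.1 * q.2 = g).card ∧
      ∀ u ∈ U, IsConj y u ∧ u ^ 2 = 1 ∧ u * g * u⁻¹ = g⁻¹ := by
  classical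
  refine ⟨((Char.classFinset y ×ˢ Char.classFinset y).filter fun q => q.1 * q.2 = g).image Prod.fst,
    Finset.card_image_of_injOn ?_, fun u hu => ?_⟩
  · rintro ⟨u, w⟩ hq ⟨u', w'⟩ hq' (rfl : u = u')
    have h1 : u * w = g := (Finset.mem_filter.1 hq).2
    have h2 : u * w' = g := (Finset.mem_filter.1 hq').2
    exact Prod.ext rfl (mul_left_cancel (h1.trans h2.symm))
  · obtain ⟨⟨u', w⟩, hq, rfl⟩ := Finset.mem_image.1 hu
    obtain ⟨hmem, huw⟩ := Finset.mem_filter.1 hq
    rw [Finset.mem_product, Char.mem_classFinset, Char.mem_classFinset] at hmem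
    have hsq : ∀ v, IsConj y v → v ^ 2 = 1 := by
      rintro v hv
      obtain ⟨c, rfl⟩ := isConj_iff.1 hv
      rw [conj_pow, hy, mul_one, mul_inv_cancel]
    have hinv : ∀ v, IsConj y v → v⁻¹ = v := fun v hv =>
      inv_eq_of_mul_eq_one_right (by rw [← pow_two, hsq v hv])
    refine ⟨hmem.1, hsq _ hmem.1, ?_⟩
    have huw : u' * w = g := huw
    show u' * g * u'⁻¹ = g⁻¹
    rw [← huw, mul_inv_rev, hinv w hmem.2, hinv u' hmem.1, ← mul_assoc u' u' w, ← pow_two,
      hsq u' hmem.1, one_mul]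

namespace LargeData

variable (D : LargeData G p)

open Classical in
/-- The members of the principal block of positive sign, the trivial one excepted. -/
noncomputable def plus : Finset (IrrCharacter G) :=
  (D.S.X.erase (one' G)).filter fun χ => D.S.σ χ = 1

open Classical in
/-- The members of the principal block of negative sign outside `Y`. -/
noncomputable def minus : Finset (IrrCharacter G) :=
  (D.S.X.erase (one' G)).filter fun χ => ¬ D.S.σ χ = 1

open Classical in
/-- The irreducible characters outside the principal block. -/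
noncomputable def rest : Finset (IrrCharacter G) := Finset.univ \ (D.S.X ∪ D.S.Y)

theorem card_sylow : Nat.card (D.P : Subgroup G) = p := D.S.card_P

theorem centralizer_eq : Subgroup.centralizer ((D.P : Subgroup G) : Set G) = (D.P : Subgroup G) :=
  (Subgroup.eq_of_le_of_card_ge (Block.le_centralizer_self D.card_sylow)
    (by rw [D.card_C, D.card_sylow])).symm

theorem pred_eq : p - 1 = D.e * (D.k + 1) := by have := D.p_eq; omega

include D in
theorem seven_le : 7 ≤ p := by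
  have := D.two_le_k
  have := D.two_le_e
  have := Nat.mul_le_mul D.two_le_e (show 3 ≤ D.k + 1 by omega)
  have := D.p_eq
  omega

theorem card_Y' : D.S.Y.card = D.k + 1 := by
  rw [D.S.card_Y, D.pred_eq, Nat.mul_div_cancel_left _ (by have := D.two_le_e; omega)]

theorem sum_split (F : IrrCharacter G → ℂ) :
    ∑ χ, F χ = F (one' G) + ∑ χ ∈ D.plus, F χ + ∑ χ ∈ D.minus, F χ + ∑ χ ∈ D.S.Y, F χ +
      ∑ χ ∈ D.rest, F χ := by
  classical
  rw [← Finset.sum_sdiff (Finset.subset_univ (D.S.X ∪ D.S.Y)), Finset.sum_union D.S.disj,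
    ← Finset.add_sum_erase _ _ D.one_X, ← Finset.sum_filter_add_sum_filter_not (D.S.X.erase (one' G))
      (fun χ => D.S.σ χ = 1)]
  simp only [plus, minus, rest]
  ring

theorem mem_plus {χ : IrrCharacter G} (h : χ ∈ D.plus) :
    χ ∈ D.S.X ∧ D.S.σ χ = 1 ∧ charDegree (χ : G → ℂ) = (D.k + 1) * (D.k * D.e + 1) := by
  obtain ⟨h1, h2⟩ := Finset.mem_filter.1 h
  obtain ⟨h3, h4⟩ := Finset.mem_erase.1 h1
  rcases D.deg_X χ h4 h3 with h' | h'
  · exact ⟨h4, h2, h'.2⟩
  · rw [h'.1] at h2; norm_num at h2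

theorem mem_minus {χ : IrrCharacter G} (h : χ ∈ D.minus) :
    χ ∈ D.S.X ∧ D.S.σ χ = -1 ∧ charDegree (χ : G → ℂ) = p - 1 := by
  obtain ⟨h1, h2⟩ := Finset.mem_filter.1 h
  obtain ⟨h3, h4⟩ := Finset.mem_erase.1 h1
  rcases D.deg_X χ h4 h3 with h' | h'
  · exact absurd h'.1 h2
  · exact ⟨h4, h'.1, h'.2⟩

theorem plus_one {χ : IrrCharacter G} (h : χ ∈ D.plus) :
    (χ : G → ℂ) 1 = ((D.k : ℂ) + 1) * ((D.k : ℂ) * D.e + 1) := by
  rw [Block.apply_one_eq_charDegree, (D.mem_plus h).2.2]; push_cast; ring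

theorem minus_one {χ : IrrCharacter G} (h : χ ∈ D.minus) :
    (χ : G → ℂ) 1 = (D.e : ℂ) * ((D.k : ℂ) + 1) := by
  rw [Block.apply_one_eq_charDegree, (D.mem_minus h).2.2, D.pred_eq]; push_cast; ring

theorem theta_one : (D.S.θ : G → ℂ) 1 = (D.k : ℂ) * D.e + 1 := by
  rw [Block.apply_one_eq_charDegree, D.deg_θ]; push_cast; ring

theorem p_cast : (p : ℂ) = (D.e : ℂ) * ((D.k : ℂ) + 1) + 1 := by
  rw [show (p : ℂ) = ((D.e * (D.k + 1) + 1 : ℕ) : ℂ) by rw [← D.p_eq]]
  push_cast; ring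

theorem plus_card : (D.plus.card : ℂ) * ((D.k : ℂ) + 1) = (D.e : ℂ) - 2 := by
  have h : D.plus.card * (D.k + 1) + 2 = D.e := D.card_plus
  rw [show (D.e : ℂ) = ((D.plus.card * (D.k + 1) + 2 : ℕ) : ℂ) by rw [h]]
  push_cast; ring

theorem minus_card : (D.minus.card : ℂ) = (D.e : ℂ) - 1 - D.plus.card := by
  classical
  have h := Finset.card_filter_add_card_filter_not (s := D.S.X.erase (one' G))
    (fun χ => D.S.σ χ = 1)
  rw [Finset.card_erase_of_mem D.one_X, D.S.card_X] at h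
  have h' : D.minus.card + D.plus.card + 1 = D.e := by
    have := D.two_le_e
    simp only [plus, minus]
    omega
  rw [show (D.e : ℂ) = ((D.minus.card + D.plus.card + 1 : ℕ) : ℂ) by rw [h']]
  push_cast; ring

theorem val_P {χ : IrrCharacter G} (h : χ ∈ D.S.X) {x : G} (hx : x ∈ (D.P : Subgroup G))
    (hx1 : x ≠ 1) : (χ : G → ℂ) x = (D.S.σ χ : ℂ) := by
  have := D.S.val χ h x hx hx1 1 (Subgroup.one_mem _)
    (by rw [orderOf_one]; exact hp.out.not_dvd_one)
  rwa [mul_one] at this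

theorem sum_P (F : G → ℂ) {c : ℂ} (hF : ∀ x ∈ (D.P : Subgroup G), x ≠ 1 → F x = c) :
    ∑ x : (D.P : Subgroup G), F x = F 1 + ((p : ℂ) - 1) * c := by
  classical
  rw [← Finset.add_sum_erase _ _ (Finset.mem_univ (1 : (D.P : Subgroup G))), OneMemClass.coe_one,
    Finset.sum_congr rfl (g := fun _ => c) fun (x : (D.P : Subgroup G)) hx =>
      hF x x.2 (fun h => (Finset.mem_erase.1 hx).1 (Subtype.ext h)), Finset.sum_const,
    Finset.card_erase_of_mem (Finset.mem_univ _), Finset.card_univ, ← Nat.card_eq_fintype_card,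
    D.card_sylow, nsmul_eq_mul, Nat.cast_sub hp.out.one_le, Nat.cast_one]

theorem rest_apply {χ : IrrCharacter G} (h : χ ∈ D.rest) {x : G} (hx : x ∈ (D.P : Subgroup G))
    (hx1 : x ≠ 1) : (χ : G → ℂ) x = 0 := by
  classical
  have hpp : p.Prime := hp.out
  have hCP := D.centralizer_eq
  have hxo : orderOf x = p := by
    rw [← Nat.card_zpowers, zpowers_eq_of_prime_card D.S.card_P hx hx1, D.S.card_P]
  have hone : ¬ p ∣ orderOf (1 : G) := by rw [orderOf_one]; exact hpp.not_dvd_one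
  have hxdvd : p ∣ orderOf x := hxo ▸ dvd_rfl
  have hχ : χ ∉ principalBlock D.S.M G := fun h' =>
    (Finset.mem_sdiff.1 h).2 (Finset.mem_union.2 ((D.S.mem_block χ).1 h'))
  have hB : IsPBlock D.S.M (blockOf D.S.M (χ : G → ℂ)) := Block.isPBlock_blockOf χ
  have hd0 : blockDefect p (blockOf D.S.M (χ : G → ℂ)) = 0 := by
    by_contra hd
    have h1 := Block.isDefectGroup_of_pos D.S.hM D.P D.S.card_P hB hd
    have h2 := Block.isDefectGroup_principal_sylow D.S.hM D.P
    have hsub : Subsingleton {C : ConjClasses (Subgroup.normalizer ((D.P : Subgroup G) : Set G)) //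
        ∀ n : Subgroup.normalizer ((D.P : Subgroup G) : Set G), ConjClasses.mk n = C →
          ¬ p ∣ orderOf n ∧ (n : G) ∈ Subgroup.centralizer ((D.P : Subgroup G) : Set G)} := by
      refine ⟨fun C C' => Subtype.ext ?_⟩
      have key : ∀ C : {C : ConjClasses (Subgroup.normalizer ((D.P : Subgroup G) : Set G)) //
        ∀ n : Subgroup.normalizer ((D.P : Subgroup G) : Set G), ConjClasses.mk n = C →
          ¬ p ∣ orderOf n ∧ (n : G) ∈ Subgroup.centralizer ((D.P : Subgroup G) : Set G)},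
          C.1 = ConjClasses.mk 1 := by
        rintro ⟨C, hC'⟩
        obtain ⟨n, rfl⟩ := ConjClasses.mk_surjective C
        obtain ⟨h3, h4⟩ := hC' n rfl
        rw [hCP] at h4
        have h5 : orderOf n ∣ p := by
          rw [← Subgroup.orderOf_coe]
          exact (Subgroup.orderOf_dvd_natCard _ h4).trans D.S.card_P.dvd
        rcases (Nat.dvd_prime hpp).1 h5 with h6 | h6
        · exact congrArg ConjClasses.mk (orderOf_eq_one_iff.1 h6)
        · exact absurd h6.symm.dvd h3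
      rw [key C, key C']
    have hle : Nat.card {B : Set (IrrCharacter G) // IsPBlock D.S.M B ∧
        IsDefectGroup p D.S.M B (D.P : Subgroup G)} ≤ 1 := by
      rw [Cfsg.Agent.S0953.result p D.S.M D.S.hM D.P]
      exact Finite.card_le_one_iff_subsingleton.2 hsub
    have := Finite.card_le_one_iff_subsingleton.1 hle
    have h3 := congrArg Subtype.val (@Subsingleton.elim _ this
      ⟨_, hB, h1⟩ ⟨_, Block.isPBlock_principal, h2⟩)
    have h3' : blockOf D.S.M (χ : G → ℂ) = principalBlock D.S.M G := h3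
    exact hχ (h3' ▸ Block.self_mem_blockOf D.S.hM χ)
  obtain ⟨ψ, hψ, -⟩ := (Block.blockDefect_eq_zero_iff D.S.hM hB).1 hd0
  have h4 := Block.sum_block_mul_conj_eq_zero D.S.hM (Block.vInt_indVec D.S.hM hB) (g := 1) (h := x)
    (Block.not_isConj_pPt_of_dvd hone hxdvd)
  have hψ' : χ = ψ := by
    have := Block.self_mem_blockOf D.S.hM χ; rw [hψ] at this; exact this
  rw [hψ, finsum_mem_singleton, ← hψ', mul_eq_zero] at h4
  simpa using h4.resolve_left χ.2.apply_one_ne_zero

theorem theta_agree {θ' : IrrCharacter G} (h : θ' ∈ D.S.Y) {g : G} (hg : ¬ p ∣ orderOf g) :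
    (θ' : G → ℂ) g = (D.S.θ : G → ℂ) g := D.S.agree θ' h g hg

/-- The relation in the principal block. -/
theorem relation {g : G} (hg : ¬ p ∣ orderOf g) :
    1 + ∑ χ ∈ D.plus, (χ : G → ℂ) g - ∑ χ ∈ D.minus, (χ : G → ℂ) g + (D.S.θ : G → ℂ) g = 0 := by
  classical
  have h := D.S.rel g hg
  rw [D.S.Z_eq, Finset.sum_insert D.S.θ_notMem, D.sign_θ, Int.cast_one, one_mul,
    ← Finset.add_sum_erase _ _ D.one_X, D.S.sign_one, Int.cast_one, one_mul, one'_apply,
    ← Finset.sum_filter_add_sum_filter_not (D.S.X.erase (one' G)) (fun χ => D.S.σ χ = 1),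
    Finset.sum_congr rfl (g := fun χ : IrrCharacter G => (χ : G → ℂ) g) fun χ hχ => by
      rw [(Finset.mem_filter.1 hχ).2, Int.cast_one, one_mul]] at h
  have hm : ∑ χ ∈ D.minus, (D.S.σ χ : ℂ) * (χ : G → ℂ) g = -∑ χ ∈ D.minus, (χ : G → ℂ) g := by
    rw [← Finset.sum_neg_distrib]
    exact Finset.sum_congr rfl fun χ hχ => by rw [(D.mem_minus hχ).2.1]; push_cast; ring
  have h' : (D.S.θ : G → ℂ) g + (1 + (∑ χ ∈ D.plus, (χ : G → ℂ) g +
      ∑ χ ∈ D.minus, (D.S.σ χ : ℂ) * (χ : G → ℂ) g)) = 0 := h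
  rw [hm] at h'
  linear_combination h'

/-- Column orthogonality in two regular elements, split along the block. -/
theorem orth {g h : G} [Decidable (IsConj g h)] (hg : ¬ p ∣ orderOf g) (hh : ¬ p ∣ orderOf h) :
    1 + ∑ χ ∈ D.plus, (χ : G → ℂ) g * conj ((χ : G → ℂ) h) +
        ∑ χ ∈ D.minus, (χ : G → ℂ) g * conj ((χ : G → ℂ) h) +
        ((D.k : ℂ) + 1) * ((D.S.θ : G → ℂ) g * conj ((D.S.θ : G → ℂ) h)) +
        ∑ χ ∈ D.rest, (χ : G → ℂ) g * conj ((χ : G → ℂ) h) =
      if IsConj g h then (Nat.card (Subgroup.centralizer ({g} : Set G)) : ℂ) else 0 := by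
  rw [← Char.column_orthogonality g h, D.sum_split]
  simp only [one'_apply, map_one, mul_one]
  rw [Finset.sum_congr (rfl : D.S.Y = D.S.Y) fun θ' h' => by
    rw [D.theta_agree h' hg, D.theta_agree h' hh], Finset.sum_const, D.card_Y', nsmul_eq_mul]
  push_cast
  ring

/-- A generator of a complement of `P` in its normalizer, with eigenvalues on the fixed spaces. -/
structure Frame where
  g : G
  mem : g ∈ Subgroup.normalizer ((D.P : Subgroup G) : Set G)
  ord : orderOf g = D.e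
  free : ∀ s : ℕ, ¬ D.e ∣ s → g ^ s ∉ (D.P : Subgroup G)
  dim : IrrCharacter G → ℕ
  μ : (χ : IrrCharacter G) → Fin (dim χ) → ℂ
  μ_pow : ∀ χ j, μ χ j ^ D.e = 1
  dim_eq : ∀ χ, (p : ℂ) * dim χ = ∑ x : (D.P : Subgroup G), (χ : G → ℂ) x
  value : ∀ χ : IrrCharacter G, ∀ s : ℕ, ¬ D.e ∣ s → (χ : G → ℂ) (g ^ s) = ∑ j, μ χ j ^ s

theorem exists_frame : Nonempty D.Frame := by
  classical
  have hpp : p.Prime := hp.out
  set N := Subgroup.normalizer ((D.P : Subgroup G) : Set G) with hN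
  have hle : (D.P : Subgroup G) ≤ N := Subgroup.le_normalizer
  set Q := (D.P : Subgroup G).subgroupOf N with hQ
  haveI : Q.Normal := Subgroup.normal_in_normalizer
  have hQc : Nat.card Q = p := by
    rw [hQ, Nat.card_congr (Subgroup.subgroupOfEquivOfLe hle).toEquiv, D.card_sylow]
  have hQi : Q.index = D.e := by
    have h := D.S.relIndex_eq
    rw [D.centralizer_eq] at h
    exact h
  have hlt : D.e < p := D.S.e_lt
  obtain ⟨H, hH⟩ := Subgroup.exists_right_complement'_of_coprime (N := Q) (by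
    rw [hQc, hQi]
    exact (Nat.coprime_of_lt_prime (by have := D.two_le_e; omega) hlt hpp))
  have hHc : Nat.card H = D.e := hH.symm.index_eq_card.symm.trans hQi
  have hHP : ∀ a ∈ H, (a : G) ∈ (D.P : Subgroup G) → a = 1 := fun a ha haP => by
    have : a ∈ Q ⊓ H := ⟨Subgroup.mem_subgroupOf.2 haP, ha⟩
    rw [hH.disjoint.eq_bot] at this
    exact Subgroup.mem_bot.1 this
  haveI : Fact (Nat.card (D.P : Subgroup G)).Prime := ⟨D.card_sylow.symm ▸ hpp⟩
  haveI : IsCyclic (D.P : Subgroup G) := isCyclic_of_prime_card D.card_sylow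
  let φ : H →* (ZMod (Nat.card (D.P : Subgroup G)))ˣ :=
    ((IsCyclic.mulAutMulEquiv (D.P : Subgroup G)).toMonoidHom.comp
      (D.P : Subgroup G).normalizerMonoidHom).comp H.subtype
  have hinj : Function.Injective φ := by
    rw [← MonoidHom.ker_eq_bot_iff, Subgroup.eq_bot_iff_forall]
    rintro ⟨a, ha⟩ hk
    have h1 : a ∈ (D.P : Subgroup G).normalizerMonoidHom.ker :=
      MonoidHom.mem_ker.2 ((IsCyclic.mulAutMulEquiv (D.P : Subgroup G)).injective
        ((MonoidHom.mem_ker.1 hk).trans (map_one _).symm))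
    rw [Subgroup.normalizerMonoidHom_ker, Subgroup.mem_subgroupOf, D.centralizer_eq] at h1
    exact Subtype.ext (hHP a ha h1)
  haveI : IsCyclic H := isCyclic_of_injective φ hinj
  obtain ⟨⟨⟨g, hgN⟩, hgH⟩, hgen⟩ := IsCyclic.exists_ofOrder_eq_natCard (α := H)
  rw [Subgroup.orderOf_mk, Subgroup.orderOf_mk, hHc] at hgen
  have hfree : ∀ s : ℕ, ¬ D.e ∣ s → g ^ s ∉ (D.P : Subgroup G) := fun s hs hmem => by
    refine hs (hgen ▸ orderOf_dvd_of_pow_eq_one ?_)
    exact congrArg Subtype.val (hHP (⟨g, hgN⟩ ^ s) (pow_mem hgH s) hmem)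
  choose dim μ hμ hdim hval using fun χ => fixed_eigen D.card_sylow D.centralizer_eq hgN χ
  exact ⟨⟨g, hgN, hgen, hfree, dim, μ, fun χ j => by rw [← hgen]; exact hμ χ j, hdim,
    fun χ s hs => hval χ s (hfree s hs)⟩⟩

namespace Frame

variable {D} (F : D.Frame)

/-- The trace on the fixed space. -/
noncomputable def v (χ : IrrCharacter G) (s : ℕ) : ℂ := ∑ j, F.μ χ j ^ s

theorem μ_norm (χ : IrrCharacter G) (j : Fin (F.dim χ)) : ‖F.μ χ j‖ = 1 :=
  Complex.norm_eq_one_of_pow_eq_one (F.μ_pow χ j) (by have := D.two_le_e; omega)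

theorem norm_v_le (χ : IrrCharacter G) (s : ℕ) : ‖F.v χ s‖ ≤ F.dim χ := by
  refine (norm_sum_le _ _).trans (le_of_eq ?_)
  simp [F.μ_norm]

theorem regular (s : ℕ) : ¬ p ∣ orderOf (F.g ^ s) := fun h => by
  have h1 : p ∣ D.e := F.ord ▸ h.trans (orderOf_pow_dvd s)
  have := Nat.le_of_dvd (by have := D.two_le_e; omega) h1
  have := D.S.e_lt
  omega

theorem dim_plus {χ : IrrCharacter G} (h : χ ∈ D.plus) : F.dim χ = D.k + 1 := by
  have h1 := F.dim_eq χ
  rw [D.sum_P _ (fun x hx hx1 => D.val_P (D.mem_plus h).1 hx hx1), (D.mem_plus h).2.1,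
    D.plus_one h, Int.cast_one, D.p_cast] at h1
  have h2 : (F.dim χ : ℂ) = ((D.k + 1 : ℕ) : ℂ) := by
    refine mul_left_cancel₀ (b := (F.dim χ : ℂ)) (a := (D.e : ℂ) * ((D.k : ℂ) + 1) + 1) ?_ ?_
    · rw [← D.p_cast]; exact Nat.cast_ne_zero.2 hp.out.ne_zero
    · push_cast; linear_combination h1
  exact_mod_cast h2

theorem val_minus {χ : IrrCharacter G} (h : χ ∈ D.minus) {s : ℕ} (hs : ¬ D.e ∣ s) :
    (χ : G → ℂ) (F.g ^ s) = 0 := by
  have h1 := F.dim_eq χ
  rw [D.sum_P _ (fun x hx hx1 => D.val_P (D.mem_minus h).1 hx hx1), (D.mem_minus h).2.1,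
    D.minus_one h, D.p_cast] at h1
  have h2 : (F.dim χ : ℂ) = ((0 : ℕ) : ℂ) := by
    refine mul_left_cancel₀ (b := (F.dim χ : ℂ)) (a := (D.e : ℂ) * ((D.k : ℂ) + 1) + 1) ?_ ?_
    · rw [← D.p_cast]; exact Nat.cast_ne_zero.2 hp.out.ne_zero
    · push_cast at h1 ⊢; linear_combination h1
  have h3 : F.dim χ = 0 := by exact_mod_cast h2
  rw [F.value χ s hs]
  exact Finset.sum_eq_zero fun j _ => absurd j.2 (by omega)

theorem rest_one {χ : IrrCharacter G} (h : χ ∈ D.rest) :
    (χ : G → ℂ) 1 = (p : ℂ) * F.dim χ := by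
  rw [F.dim_eq, D.sum_P _ (fun x hx hx1 => D.rest_apply h hx hx1), mul_zero, add_zero]

theorem rest_pos {χ : IrrCharacter G} (h : χ ∈ D.rest) : 0 < F.dim χ :=
  Nat.pos_of_ne_zero fun h0 => χ.2.apply_one_ne_zero (by rw [F.rest_one h, h0]; simp)

theorem sum_dim_Y : ∑ χ ∈ D.S.Y, F.dim χ = D.k + 1 := by
  classical
  have hone : ¬ p ∣ orderOf (1 : G) := by rw [orderOf_one]; exact hp.out.not_dvd_one
  have hY : ∀ x ∈ (D.P : Subgroup G), x ≠ 1 → ∑ χ ∈ D.S.Y, (χ : G → ℂ) x = 1 := by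
    intro x hx hx1
    have hxo : orderOf x = p := by
      rw [← Nat.card_zpowers, zpowers_eq_of_prime_card D.card_sylow hx hx1, D.card_sylow]
    have h4 := Block.sum_block_mul_conj_eq_zero D.S.hM
      (Block.vInt_indVec D.S.hM Block.isPBlock_principal)
      (g := 1) (h := x) (Block.not_isConj_pPt_of_dvd hone (hxo ▸ dvd_rfl))
    rw [finsum_mem_eq_finite_toFinset_sum _ (principalBlock D.S.M G).toFinite,
      show (principalBlock D.S.M G).toFinite.toFinset = D.S.X ∪ D.S.Y by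
        ext χ; rw [Set.Finite.mem_toFinset, Finset.mem_union]; exact D.S.mem_block χ,
      Finset.sum_union D.S.disj,
      Finset.sum_congr rfl fun χ h => by rw [D.val_P h hx hx1, map_intCast, mul_comm],
      Finset.sum_congr (rfl : D.S.Y = D.S.Y) fun θ' h => by rw [D.theta_agree h hone],
      ← Finset.mul_sum, ← map_sum] at h4
    have h5 := D.S.rel 1 hone
    rw [D.S.Z_eq, Finset.sum_insert D.S.θ_notMem, D.sign_θ, Int.cast_one, one_mul] at h5
    have h6 : conj (∑ χ ∈ D.S.Y, (χ : G → ℂ) x) = 1 := by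
      apply mul_left_cancel₀ D.S.θ.2.apply_one_ne_zero
      linear_combination h4 - h5
    have h7 := congrArg conj h6
    rwa [Complex.conj_conj, map_one] at h7
  have h1 : ∑ χ ∈ D.S.Y, (p : ℂ) * F.dim χ =
      ∑ x : (D.P : Subgroup G), ∑ χ ∈ D.S.Y, (χ : G → ℂ) x := by
    rw [Finset.sum_comm]; exact Finset.sum_congr rfl fun χ _ => F.dim_eq χ
  rw [← Finset.mul_sum, D.sum_P (fun x => ∑ χ ∈ D.S.Y, (χ : G → ℂ) x) hY,
    Finset.sum_congr rfl (fun θ' h => D.theta_agree h hone), Finset.sum_const, D.card_Y',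
    nsmul_eq_mul, D.theta_one, D.p_cast] at h1
  have h2 : ((∑ χ ∈ D.S.Y, F.dim χ : ℕ) : ℂ) = ((D.k + 1 : ℕ) : ℂ) := by
    refine mul_left_cancel₀ (a := (D.e : ℂ) * ((D.k : ℂ) + 1) + 1) ?_ ?_
    · rw [← D.p_cast]; exact Nat.cast_ne_zero.2 hp.out.ne_zero
    · push_cast at h1 ⊢; linear_combination h1
  exact_mod_cast h2

theorem sum_rest_sq : ((∑ χ ∈ D.rest, F.dim χ ^ 2 : ℕ) : ℂ) = (D.k : ℂ) := by
  have hone : ¬ p ∣ orderOf (1 : G) := by rw [orderOf_one]; exact hp.out.not_dvd_one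
  have h := Char.sum_sq_degree (G := G)
  rw [D.sum_split, one'_apply,
    Finset.sum_congr (rfl : D.plus = D.plus) fun χ h => by rw [D.plus_one h],
    Finset.sum_congr (rfl : D.minus = D.minus) fun χ h => by rw [D.minus_one h],
    Finset.sum_congr (rfl : D.S.Y = D.S.Y) fun χ h => by rw [D.theta_agree h hone, D.theta_one],
    Finset.sum_congr (rfl : D.rest = D.rest) fun χ h => by rw [F.rest_one h, mul_pow],
    Finset.sum_const, Finset.sum_const, Finset.sum_const, D.card_Y', nsmul_eq_mul, nsmul_eq_mul,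
    nsmul_eq_mul, D.minus_card, D.card_G, ← Finset.mul_sum] at h
  push_cast at h ⊢
  rw [D.p_cast] at h
  have hp0 : ((D.e : ℂ) * ((D.k : ℂ) + 1) + 1) ^ 2 ≠ 0 := by
    rw [← D.p_cast]; exact pow_ne_zero _ (Nat.cast_ne_zero.2 hp.out.ne_zero)
  refine mul_left_cancel₀ hp0 ?_
  linear_combination h - ((D.e : ℂ) * ((D.k : ℂ) + 1) + 1) *
    (2 + ((D.k : ℂ) - 1) * ((D.e : ℂ) * ((D.k : ℂ) + 1) + 1)) * D.plus_card

theorem rel_pow {s : ℕ} (hs : ¬ D.e ∣ s) :
    1 + ∑ χ ∈ D.plus, F.v χ s + (D.S.θ : G → ℂ) (F.g ^ s) = 0 := by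
  have h := D.relation (F.regular s)
  rw [Finset.sum_eq_zero (fun χ h => F.val_minus h hs), sub_zero,
    Finset.sum_congr rfl (fun χ _ => F.value χ s hs)] at h
  exact h

theorem half : ¬ D.e ∣ D.e / 2 ∧ D.e / 2 + D.e / 2 = D.e := by
  obtain ⟨l, hl⟩ := D.even_e
  have := D.two_le_e
  refine ⟨fun h => ?_, by omega⟩
  have := Nat.le_of_dvd (by omega) h
  omega

theorem y_sq : (F.g ^ (D.e / 2)) ^ 2 = 1 := by
  rw [← pow_mul, show D.e / 2 * 2 = D.e by have := (half (D := D)).2; omega, ← F.ord,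
    pow_orderOf_eq_one]

theorem y_order : orderOf (F.g ^ (D.e / 2)) = 2 := by
  haveI : Fact (Nat.Prime 2) := ⟨Nat.prime_two⟩
  refine orderOf_eq_prime F.y_sq fun h => F.free _ (half (D := D)).1 ?_
  rw [h]; exact one_mem _

open Classical in
/-- The values at the involution of the complement. -/
theorem base :
    ∃ ζ : ℂ, ζ ^ D.e = 1 ∧ ζ ^ (D.e / 2) = -1 ∧
      (∀ s, ¬ D.e ∣ s → (D.S.θ : G → ℂ) (F.g ^ s) = ζ ^ s) ∧
      Nat.card (Subgroup.centralizer ({F.g ^ (D.e / 2)} : Set G)) = p - 1 ∧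
      (∀ χ ∈ D.plus, ∃ ε : ℤ, (ε = 1 ∨ ε = -1) ∧ ∀ j, F.μ χ j ^ (D.e / 2) = (ε : ℂ)) ∧
      ∀ χ ∈ D.rest, (χ : G → ℂ) (F.g ^ (D.e / 2)) = (F.dim χ : ℂ) := by
  set h := D.e / 2 with hh
  have hhalf := half (D := D)
  rw [← hh] at hhalf
  set y := F.g ^ h with hy
  have hk2 := D.two_le_k
  -- values of the members of positive sign
  set N : IrrCharacter G → ℕ := fun χ => (Finset.univ.filter fun j => F.μ χ j ^ h = 1).card
  set b : IrrCharacter G → ℤ := fun χ => 2 * (N χ : ℤ) - ((D.k : ℤ) + 1) with hb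
  have hsign : ∀ χ j, F.μ χ j ^ h = 1 ∨ F.μ χ j ^ h = -1 := fun χ j => by
    refine sq_eq_one_iff.1 ?_
    rw [← pow_mul, show h * 2 = D.e by omega, F.μ_pow]
  have hNle : ∀ χ ∈ D.plus, N χ ≤ D.k + 1 := fun χ hχ =>
    (Finset.card_le_univ _).trans_eq (by rw [Fintype.card_fin, F.dim_plus hχ])
  have hbv : ∀ χ ∈ D.plus, F.v χ h = (b χ : ℂ) := by
    intro χ hχ
    have hd := (Finset.card_filter_add_card_filter_not
      (s := (Finset.univ : Finset (Fin (F.dim χ)))) (fun j => F.μ χ j ^ h = 1)).trans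
      (show _ = D.k + 1 by rw [Finset.card_univ, Fintype.card_fin, F.dim_plus hχ])
    rw [v, ← Finset.sum_filter_add_sum_filter_not _ (fun j => F.μ χ j ^ h = 1),
      Finset.sum_congr rfl (g := fun _ => (1 : ℂ)) fun j hj => (Finset.mem_filter.1 hj).2,
      Finset.sum_congr rfl (g := fun _ => (-1 : ℂ)) fun j hj =>
        (hsign χ j).resolve_left (Finset.mem_filter.1 hj).2,
      Finset.sum_const, Finset.sum_const, nsmul_eq_mul, nsmul_eq_mul]
    have hd' : (((Finset.univ.filter fun j => ¬ F.μ χ j ^ h = 1).card : ℕ) : ℂ) =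
        (D.k : ℂ) + 1 - (N χ : ℂ) := by
      rw [eq_sub_iff_add_eq, ← Nat.cast_add, add_comm, hd]; push_cast; ring
    rw [hd', hb]
    push_cast
    ring
  have hrely : 1 + ((∑ χ ∈ D.plus, b χ : ℤ) : ℂ) + (D.S.θ : G → ℂ) y = 0 := by
    push_cast
    rw [← F.rel_pow hhalf.1, Finset.sum_congr rfl hbv]
  -- a member of `Y` with one-dimensional fixed space
  obtain ⟨θ₀, hθ₀, hdim⟩ : ∃ θ₀ ∈ D.S.Y, F.dim θ₀ ≤ 1 := by
    by_contra hcon
    push Not at hcon
    have h1 := Finset.card_nsmul_le_sum D.S.Y F.dim 2 fun χ hχ => hcon χ hχ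
    rw [D.card_Y', F.sum_dim_Y, smul_eq_mul] at h1
    omega
  have hdim1 : F.dim θ₀ = 1 := by
    by_contra hne
    have h0 : F.dim θ₀ = 0 := by omega
    have h1 : (D.S.θ : G → ℂ) y = 0 := by
      rw [← D.theta_agree hθ₀ (F.regular h), F.value θ₀ h hhalf.1]
      exact Finset.sum_eq_zero fun j _ => absurd j.2 (by omega)
    rw [h1, add_zero] at hrely
    have h2 : (1 : ℤ) + ∑ χ ∈ D.plus, b χ = 0 := by exact_mod_cast hrely
    rw [hb, Finset.sum_sub_distrib, ← Finset.mul_sum, Finset.sum_const, nsmul_eq_mul] at h2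
    have h3 : (D.plus.card : ℤ) * ((D.k : ℤ) + 1) + 2 = D.e := by exact_mod_cast D.card_plus
    obtain ⟨l, hl⟩ := D.even_e
    omega
  set ζ := F.μ θ₀ ⟨0, by omega⟩ with hζ
  have hθs : ∀ s, ¬ D.e ∣ s → (D.S.θ : G → ℂ) (F.g ^ s) = ζ ^ s := fun s hs => by
    rw [← D.theta_agree hθ₀ (F.regular s), F.value θ₀ s hs]
    exact Fintype.sum_eq_single _ fun j hj => absurd (Fin.ext (by omega)) hj
  have hθsign := hsign θ₀ ⟨0, by omega⟩
  rw [← hζ] at hθsign
  -- the centralizer of `y`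
  obtain ⟨t, x, hx, hx1, -, hinv, hcount, -, -, -⟩ := exists_inverting (G := G)
    (show p ≠ 2 by have := D.seven_le; omega) D.P D.card_sylow D.card_C D.S.relIndex_eq D.even_e.two_dvd
  have hyN : y ∈ Subgroup.normalizer ((D.P : Subgroup G) : Set G) := pow_mem F.mem h
  have hyP := F.free h hhalf.1
  have hyt : IsConj y t := by
    have hyy : y⁻¹ = y := inv_eq_of_mul_eq_one_right (by rw [← pow_two, hy, F.y_sq])
    have hyx : ∀ z ∈ (D.P : Subgroup G), y * z * y⁻¹ = z⁻¹ := fun z hz => by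
      obtain ⟨c, hc⟩ := isConj_iff.1 (isConj_mul_of_normalizer D.card_sylow D.centralizer_eq hyN hyP hz)
      have h2 : y * z * (y * z) = 1 := by
        rw [← pow_two, ← hc, conj_pow, hy, F.y_sq, mul_one, mul_inv_cancel]
      rw [hyy]
      exact eq_inv_of_mul_eq_one_left (by rw [mul_assoc]; exact h2)
    have hmem : y⁻¹ * t ∈ (D.P : Subgroup G) := by
      rw [← D.centralizer_eq, Subgroup.mem_centralizer_iff]
      intro z hz
      have h1 : t * z * t⁻¹ = z⁻¹ := hinv z hz
      have h2 : y⁻¹ * z⁻¹ * y = z := by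
        rw [← hyx z hz]; group
      calc z * (y⁻¹ * t) = y⁻¹ * z⁻¹ * y * (y⁻¹ * t) := by rw [h2]
        _ = y⁻¹ * t * z := by rw [← h1]; group
    have h := isConj_mul_of_normalizer D.card_sylow D.centralizer_eq hyN hyP hmem
    rwa [mul_inv_cancel_left] at h
  have hcl : Char.classFinset y = Char.classFinset t := by
    ext z
    rw [Char.mem_classFinset, Char.mem_classFinset]
    exact ⟨hyt.symm.trans, hyt.trans⟩
  have hform := D.S.formula_int D.card_C (F.regular h) (F.regular h) hx hx1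
  rw [← hy, hcl, hcount, D.S.Z_eq, Finset.sum_insert D.S.θ_notMem, D.sign_θ,
    ← Finset.add_sum_erase _ _ D.one_X, D.S.sign_one, one'_apply, one'_apply,
    ← Finset.sum_filter_add_sum_filter_not (D.S.X.erase (one' G)) (fun χ => D.S.σ χ = 1)] at hform
  set n : ℂ := ((D.k : ℂ) + 1) * ((D.k : ℂ) * D.e + 1) with hn
  have hp1 : ∑ χ ∈ D.plus, (D.S.σ χ : ℂ) * ((χ : G → ℂ) y * (χ : G → ℂ) y / (χ : G → ℂ) 1) =
      ((∑ χ ∈ D.plus, b χ * b χ : ℤ) : ℂ) / n := by
    push_cast
    rw [Finset.sum_div]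
    refine Finset.sum_congr rfl fun χ hχ => ?_
    rw [(D.mem_plus hχ).2.1, D.plus_one hχ, hy, F.value χ h hhalf.1,
      show ∑ j, F.μ χ j ^ h = (b χ : ℂ) from hbv χ hχ]
    push_cast; ring
  have hm1 : ∑ χ ∈ D.minus, (D.S.σ χ : ℂ) * ((χ : G → ℂ) y * (χ : G → ℂ) y / (χ : G → ℂ) 1) = 0 :=
    Finset.sum_eq_zero fun χ hχ => by rw [hy, F.val_minus hχ hhalf.1]; ring
  have hθ2 : (D.S.θ : G → ℂ) y * (D.S.θ : G → ℂ) y = 1 := by
    rw [hy, hθs h hhalf.1]; rcases hθsign with h' | h' <;> rw [h'] <;> ring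
  simp only [plus, minus] at hp1 hm1
  rw [hp1, hm1, hθ2, D.theta_one, D.card_G] at hform
  set C := Nat.card (Subgroup.centralizer ({y} : Set G)) with hC
  set B : ℤ := ∑ χ ∈ D.plus, b χ * b χ with hB
  have hBC : (C : ℤ) * C = D.e * ((D.k + 1) * (D.k * D.e + 1) + B + (D.k + 1)) := by
    have hf0 : (D.k : ℂ) * D.e + 1 ≠ 0 := by exact_mod_cast (Nat.succ_ne_zero (D.k * D.e))
    have hk0 : (D.k : ℂ) + 1 ≠ 0 := by exact_mod_cast (Nat.succ_ne_zero D.k)
    have hn0 : n ≠ 0 := mul_ne_zero hk0 hf0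
    have hp0 : (p : ℂ) ≠ 0 := Nat.cast_ne_zero.2 hp.out.ne_zero
    have : ((C : ℂ)) * C = (D.e : ℂ) * (((D.k : ℂ) + 1) * ((D.k : ℂ) * D.e + 1) + (B : ℂ) + ((D.k : ℂ) + 1)) := by
      refine mul_left_cancel₀ hp0 ?_
      rw [← mul_assoc, hform, hn]
      simp only [hB, plus]
      push_cast
      generalize hf : (D.k : ℂ) * D.e + 1 = f at hf0 ⊢
      field_simp
      ring
    exact_mod_cast this
  obtain ⟨w, hw⟩ : (D.e : ℤ) ∣ C := by
    rw [Int.natCast_dvd_natCast, ← F.ord, ← Nat.card_zpowers]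
    refine Subgroup.card_dvd_of_le (Subgroup.zpowers_le.2 ?_)
    exact Subgroup.mem_centralizer_singleton_iff.2 (Commute.self_pow F.g h)
  have hbsq : ∀ χ ∈ D.plus, b χ * b χ ≤ ((D.k : ℤ) + 1) * ((D.k : ℤ) + 1) := fun χ hχ => by
    have h1 : (N χ : ℤ) ≤ (D.k : ℤ) + 1 := by exact_mod_cast hNle χ hχ
    simp only [hb]
    nlinarith [mul_nonneg (Nat.cast_nonneg (α := ℤ) (N χ)) (sub_nonneg.2 h1)]
  have hB0 : 0 ≤ B := Finset.sum_nonneg fun χ _ => mul_self_nonneg _
  have hBle : B ≤ ((D.e : ℤ) - 2) * ((D.k : ℤ) + 1) := by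
    refine (Finset.sum_le_sum hbsq).trans (le_of_eq ?_)
    rw [Finset.sum_const, nsmul_eq_mul]
    have h3 : (D.plus.card : ℤ) * ((D.k : ℤ) + 1) + 2 = D.e := by exact_mod_cast D.card_plus
    linear_combination ((D.k : ℤ) + 1) * h3
  have he0 : (0 : ℤ) < D.e := by have := D.two_le_e; omega
  have hu : (D.e : ℤ) * (w * w) = D.e * (D.k * (D.k + 1)) + 2 * (D.k + 1) + B := by
    refine mul_left_cancel₀ he0.ne' ?_
    rw [hw] at hBC
    linear_combination hBC
  have hw0 : 0 ≤ w := by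
    by_contra hcon
    have : (D.e : ℤ) * w < 0 := mul_neg_of_pos_of_neg he0 (by omega)
    omega
  have hwk : w = D.k + 1 := by
    refine le_antisymm ?_ ?_
    · by_contra hcon
      have h1 : ((D.k : ℤ) + 2) * ((D.k : ℤ) + 2) ≤ w * w :=
        mul_le_mul (by omega) (by omega) (by omega) hw0
      have h2 := mul_le_mul_of_nonneg_left h1 he0.le
      nlinarith
    · by_contra hcon
      have h1 : w * w ≤ (D.k : ℤ) * D.k := mul_le_mul (by omega) (by omega) hw0 (by omega)
      have h2 := mul_le_mul_of_nonneg_left h1 he0.le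
      nlinarith
  have hBeq : B = ∑ χ ∈ D.plus, ((D.k : ℤ) + 1) * ((D.k : ℤ) + 1) := by
    rw [Finset.sum_const, nsmul_eq_mul]
    have h3 : (D.plus.card : ℤ) * ((D.k : ℤ) + 1) + 2 = D.e := by exact_mod_cast D.card_plus
    rw [hwk] at hu
    linear_combination -hu - ((D.k : ℤ) + 1) * h3
  have hall := (Finset.sum_eq_sum_iff_of_le hbsq).1 hBeq
  have hε : ∀ χ ∈ D.plus, N χ = 0 ∨ N χ = D.k + 1 := fun χ hχ => by
    have h1 := hall χ hχ
    simp only [hb] at h1
    have h2 : (N χ : ℤ) * ((N χ : ℤ) - ((D.k : ℤ) + 1)) = 0 := by linarith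
    rcases mul_eq_zero.1 h2 with h' | h' <;> omega
  have hCval : C = p - 1 := by
    rw [D.pred_eq]
    rw [hwk] at hw
    exact_mod_cast hw
  -- the sign of `θ`
  have hdvdb : ((D.k : ℤ) + 1) ∣ ∑ χ ∈ D.plus, b χ := Finset.dvd_sum fun χ hχ => by
    simp only [hb]
    rcases hε χ hχ with h' | h' <;> rw [h']
    · exact ⟨-1, by push_cast; ring⟩
    · exact ⟨1, by push_cast; ring⟩
  have hθy : ζ ^ h = -1 := by
    refine hθsign.resolve_left fun h1 => ?_
    rw [hy, hθs h hhalf.1, h1] at hrely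
    have h2 : (1 : ℤ) + (∑ χ ∈ D.plus, b χ) + 1 = 0 := by exact_mod_cast hrely
    have h3 : ((D.k : ℤ) + 1) ∣ -2 := by
      rw [show (-2 : ℤ) = ∑ χ ∈ D.plus, b χ by omega]; exact hdvdb
    rw [Int.dvd_neg] at h3
    have := Int.le_of_dvd two_pos h3
    omega
  refine ⟨ζ, F.μ_pow _ _, hθy, hθs, hCval, fun χ hχ => ?_, ?_⟩
  · rcases hε χ hχ with h' | h'
    · refine ⟨-1, Or.inr rfl, fun j => ?_⟩
      push_cast
      refine (hsign χ j).resolve_left fun h1 => ?_
      have h2 : 0 < N χ := Finset.card_pos.2 ⟨j, Finset.mem_filter.2 ⟨Finset.mem_univ j, h1⟩⟩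
      omega
    · refine ⟨1, Or.inl rfl, fun j => ?_⟩
      push_cast
      have h1 : (Finset.univ.filter fun j => F.μ χ j ^ h = 1) = Finset.univ :=
        (Finset.card_eq_iff_eq_univ _).1 (by
          simp only [N] at h'; rw [h', Fintype.card_fin, F.dim_plus hχ])
      have h2 : j ∈ Finset.univ.filter fun j => F.μ χ j ^ h = 1 := by
        rw [h1]; exact Finset.mem_univ j
      exact (Finset.mem_filter.1 h2).2
  · have hne : ¬ IsConj y (1 : G) := fun h' => hyP (by
      rw [show F.g ^ h = 1 from isConj_one_left.1 h']; exact one_mem _)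
    have hone : ¬ p ∣ orderOf (1 : G) := by rw [orderOf_one]; exact hp.out.not_dvd_one
    have ho := D.orth (F.regular h) hone (g := y) (h := 1)
    rw [if_neg hne, Finset.sum_congr (rfl : D.plus = D.plus) fun χ hχ => by
        rw [hy, F.value χ h hhalf.1, show ∑ j, F.μ χ j ^ h = (b χ : ℂ) from hbv χ hχ, D.plus_one hχ],
      ← Finset.sum_mul,
      Finset.sum_eq_zero (s := D.minus) (fun χ hχ => by rw [hy, F.val_minus hχ hhalf.1, zero_mul]),
      Finset.sum_congr (rfl : D.rest = D.rest) fun χ hχ => by rw [F.rest_one hχ],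
      D.theta_one, hy, hθs h hhalf.1, hθy] at ho
    have hsum0 : ∑ χ ∈ D.plus, (b χ : ℂ) = 0 := by
      rw [hy, hθs h hhalf.1, hθy] at hrely
      push_cast at hrely
      linear_combination hrely
    rw [hsum0] at ho
    simp only [map_mul, map_add, map_natCast, map_one, zero_mul, add_zero] at ho
    refine eq_of_sum_extremal D.rest F.dim (fun χ => (χ : G → ℂ) y) (fun χ hχ => F.rest_pos hχ)
      (fun χ _ => by rw [hy, F.value χ h hhalf.1]; exact F.norm_v_le χ h) ?_
    rw [F.sum_rest_sq]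
    have hp0 : (p : ℂ) ≠ 0 := Nat.cast_ne_zero.2 hp.out.ne_zero
    refine mul_left_cancel₀ hp0 ?_
    rw [Finset.mul_sum]
    have h5 : ∑ χ ∈ D.rest, (p : ℂ) * ((F.dim χ : ℂ) * (χ : G → ℂ) y) =
        ∑ χ ∈ D.rest, (χ : G → ℂ) (F.g ^ h) * ((p : ℂ) * (F.dim χ : ℂ)) :=
      Finset.sum_congr rfl fun χ _ => by rw [hy]; ring
    rw [h5, D.p_cast]
    rw [D.p_cast] at ho
    linear_combination ho

theorem pair_sum (χ χ' : IrrCharacter G) :
    ∃ N : ℕ, ∑ s ∈ Finset.range D.e, F.v χ s * conj (F.v χ' s) = ((D.e * N : ℕ) : ℂ) := by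
  classical
  refine ⟨∑ l, (Finset.univ.filter fun j => F.μ χ j = F.μ χ' l).card, ?_⟩
  have hconj : ∀ l, conj (F.μ χ' l) = (F.μ χ' l)⁻¹ := fun l =>
    (Complex.inv_eq_conj (F.μ_norm χ' l)).symm
  simp only [v, map_sum, map_pow, hconj, Finset.mul_sum]
  rw [Finset.sum_comm]
  push_cast
  refine Finset.sum_congr rfl fun l _ => ?_
  rw [← sum_pow_inv_mul (F.μ χ) (F.μ_pow χ) (F.μ_pow χ' l)]
  exact Finset.sum_congr rfl fun s _ => mul_comm _ _

end Frame

open Classical in
/-- The automizer has order two. -/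
theorem e_eq_two : D.e = 2 := by
  obtain ⟨F⟩ := D.exists_frame
  obtain ⟨ζ, hζe, hζh, hθs, hCy, hplus, hrest⟩ := F.base
  by_contra hne
  have he2 := D.two_le_e
  have hk2 := D.two_le_k
  set h := D.e / 2 with hh
  obtain ⟨hhd, hhh⟩ := Frame.half (D := D)
  rw [← hh] at hhd hhh
  set y := F.g ^ h with hy
  choose! ε hε hεj using hplus
  have hy_val : ∀ χ ∈ D.plus, (χ : G → ℂ) y = ((D.k : ℂ) + 1) * (ε χ : ℂ) := fun χ hχ => by
    rw [hy, F.value χ h hhd, Finset.sum_congr rfl fun j _ => hεj χ hχ j, Finset.sum_const,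
      Finset.card_univ, Fintype.card_fin, F.dim_plus hχ, nsmul_eq_mul]
    push_cast; ring
  have hεε : ∀ χ ∈ D.plus, (ε χ : ℂ) * (ε χ : ℂ) = 1 := fun χ hχ => by
    rcases hε χ hχ with h' | h' <;> rw [h'] <;> norm_num
  have hθy : (D.S.θ : G → ℂ) y = -1 := by rw [hy, hθs h hhd, hζh]
  set S' := (Finset.range D.e).filter fun s => s ≠ 0 ∧ s ≠ h with hS'
  have hmem : ∀ s ∈ S', ¬ D.e ∣ s ∧ ¬ D.e ∣ s + h ∧ ¬ IsConj (F.g ^ s) y := by
    intro s hs
    obtain ⟨hs1, hs0, hsh⟩ := Finset.mem_filter.1 hs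
    rw [Finset.mem_range] at hs1
    refine ⟨fun hd => ?_, fun hd => ?_, fun hc => ?_⟩
    · have := Nat.le_of_dvd (by omega) hd; omega
    · obtain ⟨c, hc⟩ := hd
      rcases Nat.lt_or_ge c 2 with h' | h'
      · interval_cases c <;> omega
      · have := Nat.mul_le_mul_left D.e h'; omega
    · obtain ⟨c, hc'⟩ := isConj_iff.1 hc.symm
      have h1 : (F.g ^ s) ^ 2 = 1 := by
        rw [← hc', conj_pow, hy, F.y_sq, mul_one, mul_inv_cancel]
      rw [← pow_mul] at h1
      obtain ⟨c, hc⟩ := F.ord ▸ orderOf_dvd_of_pow_eq_one h1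
      rcases Nat.lt_or_ge c 2 with h' | h'
      · interval_cases c <;> omega
      · have := Nat.mul_le_mul_left D.e h'; omega
  have hzz : ∀ s, ζ ^ s * conj (ζ ^ s) = 1 := fun s => by
    rw [map_pow, ← mul_pow, Complex.mul_conj', Complex.norm_eq_one_of_pow_eq_one hζe (by omega)]
    simp
  -- characters outside the block at elements of the complement
  have hrest' : ∀ s ∈ S', ∀ χ ∈ D.rest, (χ : G → ℂ) (F.g ^ s) = (F.dim χ : ℂ) := by
    intro s hs
    obtain ⟨h1, h2, h3⟩ := hmem s hs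
    refine eq_of_sum_extremal D.rest F.dim (fun χ => (χ : G → ℂ) (F.g ^ s))
      (fun χ hχ => F.rest_pos hχ) (fun χ _ => by rw [F.value χ s h1]; exact F.norm_v_le χ s) ?_
    rw [F.sum_rest_sq]
    have ho := D.orth (F.regular s) (F.regular h) (g := F.g ^ s) (h := y)
    have hr2 := F.rel_pow h2
    rw [hθs _ h2, pow_add, hζh] at hr2
    have hA : ∑ χ ∈ D.plus, (χ : G → ℂ) (F.g ^ s) * conj ((χ : G → ℂ) y) =
        ((D.k : ℂ) + 1) * ∑ χ ∈ D.plus, F.v χ (s + h) := by
      rw [Finset.mul_sum]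
      refine Finset.sum_congr rfl fun χ hχ => ?_
      have hvs : F.v χ (s + h) = F.v χ s * (ε χ : ℂ) := by
        simp only [Frame.v, pow_add, Finset.sum_mul]
        exact Finset.sum_congr rfl fun j _ => by rw [hεj χ hχ j]
      rw [hy_val χ hχ, F.value χ s h1, map_mul, map_add, map_natCast, map_one, map_intCast, hvs,
        show ∑ j, F.μ χ j ^ s = F.v χ s from rfl]
      ring
    rw [if_neg h3, hA, Finset.sum_eq_zero (s := D.minus) (fun χ hχ => by
        rw [F.val_minus hχ h1, zero_mul]), hθy, hθs s h1,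
      Finset.sum_congr (rfl : D.rest = D.rest) (g := fun χ => (F.dim χ : ℂ) * (χ : G → ℂ) (F.g ^ s))
        fun χ hχ => by rw [hrest χ hχ, map_natCast, mul_comm]] at ho
    simp only [map_neg, map_one] at ho
    linear_combination ho - ((D.k : ℂ) + 1) * hr2
  -- the centralizer orders
  have hcent : ∀ s ∈ S', (Nat.card (Subgroup.centralizer ({F.g ^ s} : Set G)) : ℂ) =
      2 * ((D.k : ℂ) + 1) + ∑ χ ∈ D.plus, F.v χ s * conj (F.v χ s) := by
    intro s hs
    obtain ⟨h1, -, -⟩ := hmem s hs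
    have ho := D.orth (F.regular s) (F.regular s) (g := F.g ^ s) (h := F.g ^ s)
    rw [if_pos (IsConj.refl _), Finset.sum_congr (rfl : D.plus = D.plus) (g := fun χ => F.v χ s * conj (F.v χ s))
      fun χ _ => by rw [F.value χ s h1]; rfl,
      Finset.sum_eq_zero (s := D.minus) (fun χ hχ => by rw [F.val_minus hχ h1, zero_mul]),
      hθs s h1, hzz, Finset.sum_congr (rfl : D.rest = D.rest) (g := fun χ => ((F.dim χ ^ 2 : ℕ) : ℂ))
        fun χ hχ => by rw [hrest' s hs χ hχ, map_natCast]; push_cast; ring,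
      ← Nat.cast_sum, F.sum_rest_sq] at ho
    linear_combination -ho
  choose N hN using F.pair_sum
  have hrange : Finset.range D.e = insert 0 (insert h S') := by
    ext s
    simp only [hS', Finset.mem_range, Finset.mem_insert, Finset.mem_filter]
    omega
  have h0' : (0 : ℕ) ∉ insert h S' := by simp [hS']; omega
  have hh' : h ∉ S' := by simp [hS']
  have hv0 : ∀ χ ∈ D.plus, F.v χ 0 = (D.k : ℂ) + 1 := fun χ hχ => by
    simp [Frame.v, F.dim_plus hχ]
  have hvh : ∀ χ ∈ D.plus, F.v χ h * conj (F.v χ h) = ((D.k : ℂ) + 1) * ((D.k : ℂ) + 1) :=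
    fun χ hχ => by
    rw [show F.v χ h = (χ : G → ℂ) y from (F.value χ h hhd).symm, hy_val χ hχ, map_mul, map_add,
      map_natCast, map_one, map_intCast]
    linear_combination ((D.k : ℂ) + 1) * ((D.k : ℂ) + 1) * hεε χ hχ
  -- upper bound for the diagonal
  have htot : ∑ χ ∈ D.plus, ∑ χ' ∈ D.plus, D.e * N χ χ' = D.e * (D.e - 2) := by
    have hfib : ∀ s ∈ Finset.range D.e, (∑ χ ∈ D.plus, F.v χ s) * conj (∑ χ ∈ D.plus, F.v χ s) =
        2 + ζ ^ s + (ζ⁻¹) ^ s + if s = 0 then ((D.e : ℂ) - 2) ^ 2 - 4 else 0 := by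
      intro s hs
      by_cases h0 : s = 0
      · subst h0
        rw [if_pos rfl, Finset.sum_congr rfl hv0, Finset.sum_const, nsmul_eq_mul, map_mul,
          map_natCast, map_add, map_natCast, map_one, D.plus_card]
        ring
      · rw [if_neg h0]
        have h1 : ¬ D.e ∣ s := fun hd => by
          have := Nat.le_of_dvd (by omega) hd; rw [Finset.mem_range] at hs; omega
        have hr := F.rel_pow h1
        rw [hθs s h1] at hr
        have hinv : (ζ⁻¹) ^ s = conj (ζ ^ s) := by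
          rw [map_pow, Complex.inv_eq_conj (Complex.norm_eq_one_of_pow_eq_one hζe (by omega))]
        rw [hinv, show ∑ χ ∈ D.plus, F.v χ s = -1 - ζ ^ s by linear_combination hr, map_sub,
          map_neg, map_one]
        linear_combination hzz s
    have hζ1 : ζ ≠ 1 := fun h' => by rw [h', one_pow] at hζh; norm_num at hζh
    have hgeo : ∑ s ∈ Finset.range D.e, ζ ^ s = 0 := by
      rw [geom_sum_eq hζ1, hζe, sub_self, zero_div]
    have hgeo' : ∑ s ∈ Finset.range D.e, (ζ⁻¹) ^ s = 0 := by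
      rw [geom_sum_eq (fun h' => hζ1 (inv_eq_one.1 h')), inv_pow, hζe, inv_one, sub_self, zero_div]
    have h2 := Finset.sum_congr (s₁ := Finset.range D.e) rfl hfib
    simp only [map_sum, Finset.sum_mul, Finset.mul_sum] at h2
    rw [Finset.sum_comm, Finset.sum_congr rfl fun χ _ => Finset.sum_comm,
      Finset.sum_congr rfl fun χ _ => Finset.sum_congr rfl fun χ' _ => hN χ' χ,
      Finset.sum_add_distrib, Finset.sum_add_distrib, Finset.sum_add_distrib, hgeo, hgeo',
      Finset.sum_const, Finset.card_range, Finset.sum_ite_eq', if_pos (Finset.mem_range.2 (by omega)),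
      nsmul_eq_mul] at h2
    rw [Finset.sum_comm]
    have h3 : ((∑ χ ∈ D.plus, ∑ χ' ∈ D.plus, D.e * N χ' χ : ℕ) : ℂ) =
        ((D.e * (D.e - 2) : ℕ) : ℂ) := by
      rw [Nat.cast_mul D.e (D.e - 2), Nat.cast_sub he2]
      push_cast at h2 ⊢
      linear_combination h2
    exact_mod_cast h3
  have hdiag : ∑ χ ∈ D.plus, D.e * N χ χ ≤ D.e * (D.e - 2) := htot ▸ Finset.sum_le_sum fun χ hχ =>
    Finset.single_le_sum (f := fun χ' => D.e * N χ χ') (fun _ _ => Nat.zero_le _) hχ
  have hcardS : S'.card + 2 = D.e := by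
    have h' := congrArg Finset.card hrange
    rw [Finset.card_range, Finset.card_insert_of_notMem h0', Finset.card_insert_of_notMem hh'] at h'
    omega
  have hsumC : ∑ s ∈ S', Nat.card (Subgroup.centralizer ({F.g ^ s} : Set G)) ≤ D.e * S'.card := by
    have h2 : ((∑ s ∈ S', Nat.card (Subgroup.centralizer ({F.g ^ s} : Set G)) : ℕ) : ℂ) +
        2 * ((D.k : ℂ) + 1) * ((D.e : ℂ) - 2) =
        2 * ((D.k : ℂ) + 1) * ((D.e : ℂ) - 2) + ((∑ χ ∈ D.plus, D.e * N χ χ : ℕ) : ℂ) := by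
      rw [Nat.cast_sum, Nat.cast_sum, Finset.sum_congr rfl hcent, Finset.sum_add_distrib,
        Finset.sum_const, nsmul_eq_mul, Finset.sum_comm,
        Finset.sum_congr (rfl : D.plus = D.plus) (g := fun χ =>
          ((D.e * N χ χ : ℕ) : ℂ) - 2 * (((D.k : ℂ) + 1) * ((D.k : ℂ) + 1))) fun χ hχ => by
          rw [← hN χ χ, hrange, Finset.sum_insert h0', Finset.sum_insert hh', hvh χ hχ, hv0 χ hχ,
            map_add, map_natCast, map_one]
          ring,
        Finset.sum_sub_distrib, Finset.sum_const, nsmul_eq_mul]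
      have hS : (S'.card : ℂ) = (D.e : ℂ) - 2 := by
        rw [eq_sub_iff_add_eq]; exact_mod_cast hcardS
      rw [hS]
      linear_combination -(2 * ((D.k : ℂ) + 1)) * D.plus_card
    have h3 : ((∑ s ∈ S', Nat.card (Subgroup.centralizer ({F.g ^ s} : Set G)) : ℕ) : ℂ) =
        ((∑ χ ∈ D.plus, D.e * N χ χ : ℕ) : ℂ) := by linear_combination h2
    have h4 : ∑ s ∈ S', Nat.card (Subgroup.centralizer ({F.g ^ s} : Set G)) =
        ∑ χ ∈ D.plus, D.e * N χ χ := by exact_mod_cast h3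
    rw [h4, show S'.card = D.e - 2 by omega]
    exact hdiag
  have hge : ∀ s ∈ S', D.e ≤ Nat.card (Subgroup.centralizer ({F.g ^ s} : Set G)) := by
    intro s _
    refine Nat.le_of_dvd Nat.card_pos ?_
    rw [← F.ord, ← Nat.card_zpowers]
    exact Subgroup.card_dvd_of_le (Subgroup.zpowers_le.2
      (Subgroup.mem_centralizer_singleton_iff.2 (Commute.self_pow F.g s)))
  have h1S : 1 ∈ S' := Finset.mem_filter.2
    ⟨Finset.mem_range.2 (by omega), one_ne_zero, by omega⟩
  have hC1 : Nat.card (Subgroup.centralizer ({F.g} : Set G)) = D.e := by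
    have h1 : ∑ _s ∈ S', D.e = ∑ s ∈ S', Nat.card (Subgroup.centralizer ({F.g ^ s} : Set G)) :=
      le_antisymm (Finset.sum_le_sum hge) (by
        rw [Finset.sum_const, smul_eq_mul, mul_comm]; exact hsumC)
    have h2 := (Finset.sum_eq_sum_iff_of_le hge).1 h1 1 h1S
    rw [pow_one] at h2
    exact h2.symm
  -- the number of factorizations of the generator
  have h1e : ¬ D.e ∣ 1 := (hmem 1 h1S).1
  have hcount : ((Char.classFinset y ×ˢ Char.classFinset y).filter fun q => q.1 * q.2 = F.g).card =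
      D.e * D.k := by
    have hcp := class_product_int y y F.g
    rw [hCy, D.sum_split, one'_apply, one'_apply, one'_apply,
      Finset.sum_congr (rfl : D.plus = D.plus) (g := fun χ =>
        ((D.k : ℂ) + 1) / ((D.k : ℂ) * D.e + 1) * conj (F.v χ 1)) fun χ hχ => by
        have hval := F.value χ 1 h1e
        rw [pow_one] at hval
        rw [hy_val χ hχ, hval, D.plus_one hχ, show ∑ j, F.μ χ j ^ 1 = F.v χ 1 from rfl]
        have := hεε χ hχ
        have hk0 : (D.k : ℂ) + 1 ≠ 0 := by exact_mod_cast (Nat.succ_ne_zero D.k)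
        have hf0 : (D.k : ℂ) * D.e + 1 ≠ 0 := by exact_mod_cast (Nat.succ_ne_zero (D.k * D.e))
        generalize (D.k : ℂ) * D.e + 1 = f at hf0 ⊢
        field_simp
        linear_combination conj (F.v χ 1) * this,
      ← Finset.mul_sum, ← map_sum,
      Finset.sum_eq_zero (s := D.minus) (fun χ hχ => by
        rw [hy, F.val_minus hχ hhd]; ring),
      Finset.sum_congr (rfl : D.S.Y = D.S.Y) (g := fun _ =>
        conj (ζ ^ 1) / ((D.k : ℂ) * D.e + 1)) fun χ hχ => by
        have hreg : ¬ p ∣ orderOf F.g := by have := F.regular 1; rwa [pow_one] at this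
        have hval := hθs 1 h1e
        rw [pow_one] at hval
        rw [D.theta_agree hχ (F.regular h), D.theta_agree hχ hreg, D.theta_agree hχ
          (show ¬ p ∣ orderOf (1 : G) by rw [orderOf_one]; exact hp.out.not_dvd_one),
          hθy, hval, D.theta_one, pow_one]
        ring,
      Finset.sum_congr (rfl : D.rest = D.rest) (g := fun χ =>
        ((F.dim χ ^ 2 : ℕ) : ℂ) / (p : ℂ)) fun χ hχ => by
        have hval := hrest' 1 h1S χ hχ
        rw [pow_one] at hval
        rw [hrest χ hχ, hval, F.rest_one hχ, map_natCast]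
        have hd0 : (F.dim χ : ℂ) ≠ 0 := Nat.cast_ne_zero.2 (F.rest_pos hχ).ne'
        push_cast
        field_simp,
      ← Finset.sum_div D.rest, ← Nat.cast_sum, F.sum_rest_sq, Finset.sum_const, D.card_Y',
      nsmul_eq_mul, D.card_G, D.pred_eq, map_one] at hcp
    have hr := F.rel_pow h1e
    rw [hθs 1 h1e] at hr
    rw [show ∑ χ ∈ D.plus, F.v χ 1 = -1 - ζ ^ 1 by linear_combination hr, map_sub, map_neg,
      map_one] at hcp
    have hf0 : (D.k : ℂ) * D.e + 1 ≠ 0 := by exact_mod_cast (Nat.succ_ne_zero (D.k * D.e))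
    have hp0 : (p : ℂ) ≠ 0 := Nat.cast_ne_zero.2 hp.out.ne_zero
    push_cast at hcp
    generalize hf : (D.k : ℂ) * D.e + 1 = f at hcp hf0
    field_simp at hcp
    rw [← hf, D.p_cast] at hcp
    have hek : (D.e : ℂ) * ((D.k : ℂ) + 1) ≠ 0 := mul_ne_zero
      (Nat.cast_ne_zero.2 (by omega)) (by exact_mod_cast (Nat.succ_ne_zero D.k))
    have h5 : (((Char.classFinset y ×ˢ Char.classFinset y).filter fun q => q.1 * q.2 = F.g).card : ℂ) =
        ((D.e * D.k : ℕ) : ℂ) := by
      push_cast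
      refine mul_left_cancel₀ (mul_ne_zero (Nat.cast_ne_zero.2 (show D.e ≠ 0 by omega)) hek) ?_
      linear_combination hcp
    exact_mod_cast h5
  obtain ⟨U, hUc, hU⟩ := exists_inverting_finset F.y_sq F.g
  rw [← hy, hcount] at hUc
  obtain ⟨u₀, hu₀⟩ : U.Nonempty := Finset.card_pos.1 (by rw [hUc]; exact Nat.mul_pos (by omega) (by omega))
  have hle : U.card ≤ Nat.card (Subgroup.centralizer ({F.g} : Set G)) := by
    rw [Nat.card_eq_fintype_card, ← Finset.card_univ]
    refine Finset.card_le_card_of_injOn (fun u => if hu : u₀ * u ∈ Subgroup.centralizer ({F.g} : Set G)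
      then ⟨u₀ * u, hu⟩ else 1) (fun _ _ => Finset.mem_univ _) ?_
    have hcen : ∀ u ∈ U, u₀ * u ∈ Subgroup.centralizer ({F.g} : Set G) := fun u hu => by
      rw [Subgroup.mem_centralizer_singleton_iff]
      have h1 := (hU u hu).2.2
      have h2 := (hU u₀ hu₀).2.2
      have : u₀ * u * F.g * (u₀ * u)⁻¹ = F.g := by
        calc u₀ * u * F.g * (u₀ * u)⁻¹ = u₀ * (u * F.g * u⁻¹) * u₀⁻¹ := by group
          _ = F.g := by rw [h1, ← conj_inv, h2, inv_inv]
      exact mul_inv_eq_iff_eq_mul.1 this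
    intro u hu w hw huw
    simp only [dif_pos (hcen u hu), dif_pos (hcen w hw)] at huw
    exact mul_left_cancel (congrArg Subtype.val huw)
  rw [hUc, hC1] at hle
  have := Nat.mul_le_mul_left D.e hk2
  omega

include D in
open Classical in
/-- The group looks like `PSL(2, q)` for `q = p - 1`. -/
theorem structure_two : 2 < p - 1 ∧ Nat.card G = p * (p - 1) * (p - 2) ∧
    ∃ y : G, orderOf y = 2 ∧ Nat.card (Subgroup.centralizer ({y} : Set G)) = p - 1 ∧
      (∀ u : G, orderOf u = 2 → IsConj y u) ∧ ∀ g : G, 2 ∣ orderOf g → orderOf g = 2 := by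
  have he := D.e_eq_two
  have hk2 := D.two_le_k
  have hpk : p = 2 * D.k + 3 := by have := D.p_eq; rw [he] at this; omega
  obtain ⟨F⟩ := D.exists_frame
  obtain ⟨ζ, -, hζh, hθs, hCy, -, hrest⟩ := F.base
  obtain ⟨hhd, -⟩ := Frame.half (D := D)
  rw [show D.e / 2 = 1 by omega] at hCy hrest hζh hhd
  rw [pow_one] at hCy hrest
  have hyo : orderOf F.g = 2 := F.ord.trans he
  have hy2 : F.g ^ 2 = 1 := by rw [← hyo, pow_orderOf_eq_one]
  have hregy : ¬ p ∣ orderOf F.g := fun h => by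
    rw [hyo] at h
    have := Nat.le_of_dvd two_pos h
    omega
  have hplus : D.plus = ∅ := Finset.card_eq_zero.1 (by
    have h1 : D.plus.card * (D.k + 1) + 2 = D.e := D.card_plus
    rcases Nat.eq_zero_or_pos D.plus.card with h | h
    · exact h
    · have := Nat.mul_pos h (show 0 < D.k + 1 by omega); omega)
  obtain ⟨χ, hχ⟩ : ∃ χ, D.minus = {χ} := Finset.card_eq_one.1 (by
    have h := D.minus_card
    rw [hplus, he, Finset.card_empty] at h
    push_cast at h
    norm_num at h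
    exact_mod_cast h)
  have hχm : χ ∈ D.minus := hχ ▸ Finset.mem_singleton_self χ
  have hχ1 : (χ : G → ℂ) 1 = 2 * ((D.k : ℂ) + 1) := by
    rw [D.minus_one hχm, he]; norm_num
  have hθ1 : (D.S.θ : G → ℂ) 1 = 2 * (D.k : ℂ) + 1 := by rw [D.theta_one, he]; push_cast; ring
  have hχy : (χ : G → ℂ) F.g = 0 := by
    have := F.val_minus hχm hhd; rwa [pow_one] at this
  have hθy : (D.S.θ : G → ℂ) F.g = -1 := by
    have := hθs 1 hhd; rw [pow_one, pow_one] at this; rw [this]; simpa using hζh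
  have hone : ¬ p ∣ orderOf (1 : G) := by rw [orderOf_one]; exact hp.out.not_dvd_one
  have hpc : (p : ℂ) = 2 * (D.k : ℂ) + 3 := by exact_mod_cast hpk
  -- values at the other regular elements
  have hvals : ∀ g : G, ¬ p ∣ orderOf g → g ≠ 1 → ¬ IsConj g F.g →
      (D.S.θ : G → ℂ) g = 0 ∧ (χ : G → ℂ) g = 1 ∧
        ∑ ψ ∈ D.rest, (F.dim ψ : ℂ) * (ψ : G → ℂ) g = -1 := by
    intro g hg hg1 hgy
    have hr := D.relation hg
    rw [hplus, hχ, Finset.sum_empty, Finset.sum_singleton] at hr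
    have ho1 := D.orth hg hone
    rw [if_neg (fun h => hg1 (isConj_one_left.1 h)), hplus, hχ, Finset.sum_empty,
      Finset.sum_singleton, hχ1, hθ1,
      Finset.sum_congr (rfl : D.rest = D.rest) (g := fun ψ => (p : ℂ) * ((F.dim ψ : ℂ) * (ψ : G → ℂ) g))
        fun ψ hψ => by rw [F.rest_one hψ, map_mul, map_natCast, map_natCast]; ring,
      ← Finset.mul_sum] at ho1
    simp only [map_mul, map_add, map_natCast, map_ofNat, map_one] at ho1
    have hoy := D.orth hg hregy
    rw [if_neg hgy, hplus, hχ, Finset.sum_empty, Finset.sum_singleton, hχy, hθy,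
      Finset.sum_congr (rfl : D.rest = D.rest) (g := fun ψ => (F.dim ψ : ℂ) * (ψ : G → ℂ) g)
        fun ψ hψ => by rw [hrest ψ hψ, map_natCast, mul_comm]] at hoy
    simp only [map_neg, map_one, map_zero, mul_zero] at hoy
    set θg := (D.S.θ : G → ℂ) g
    set χg := (χ : G → ℂ) g
    set M := ∑ ψ ∈ D.rest, (F.dim ψ : ℂ) * (ψ : G → ℂ) g
    have hθ0 : θg = 0 := by
      have h0 : (((2 * D.k + 2 + (D.k + 1) * (2 * D.k + 1) + (2 * D.k + 3) * (D.k + 1) : ℕ)) : ℂ) *
          θg = 0 := by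
        push_cast
        rw [hpc] at ho1
        linear_combination ho1 + 2 * ((D.k : ℂ) + 1) * hr - (2 * (D.k : ℂ) + 3) * hoy
      exact (mul_eq_zero.1 h0).resolve_left (Nat.cast_ne_zero.2 (by omega))
    rw [hθ0] at hr hoy ⊢
    exact ⟨rfl, by linear_combination -hr, by linear_combination hoy⟩
  -- one class of involutions
  have hinvol : ∀ u : G, orderOf u = 2 → IsConj F.g u := by
    intro u hu
    by_contra hne
    have hu1 : u ≠ 1 := fun h => by rw [h, orderOf_one] at hu; norm_num at hu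
    obtain ⟨-, hχu, -⟩ := hvals u (by rw [hu]; intro h; have := Nat.le_of_dvd two_pos h; omega) hu1
      (fun h => hne h.symm)
    obtain ⟨N, μ, hμ, hk⟩ := Char.exists_sum_roots χ.2.isCharacter u
    rw [hu] at hμ
    have h0 := hk 0
    simp only [pow_zero, Finset.sum_const, Finset.card_univ, Fintype.card_fin, nsmul_one] at h0
    rw [hχ1] at h0
    have hN : N = 2 * (D.k + 1) := by exact_mod_cast h0.symm
    have h1 := hk 1
    simp only [pow_one] at h1
    have hsign : ∀ j, μ j = 1 ∨ μ j = -1 := fun j => sq_eq_one_iff.1 (hμ j)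
    have hc := Finset.card_filter_add_card_filter_not
      (s := (Finset.univ : Finset (Fin N))) (fun j => μ j = 1)
    rw [hχu, ← Finset.sum_filter_add_sum_filter_not _ (fun j => μ j = 1),
      Finset.sum_congr rfl (g := fun _ => (1 : ℂ)) fun j hj => (Finset.mem_filter.1 hj).2,
      Finset.sum_congr rfl (g := fun _ => (-1 : ℂ)) fun j hj =>
        (hsign j).resolve_left (Finset.mem_filter.1 hj).2,
      Finset.sum_const, Finset.sum_const, nsmul_eq_mul, nsmul_eq_mul, mul_one, mul_neg_one,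
      ← sub_eq_add_neg] at h1
    have h2 : (1 : ℤ) = ((Finset.univ.filter fun j => μ j = 1).card : ℤ) -
        ((Finset.univ.filter fun j => ¬ μ j = 1).card : ℤ) := by exact_mod_cast h1
    rw [Finset.card_univ, Fintype.card_fin] at hc
    omega
  refine ⟨by omega, ?_, F.g, hyo, hCy, hinvol, fun g hg => ?_⟩
  · rw [D.card_G, he, show p - 1 = 2 * (D.k + 1) by omega, show p - 2 = D.k * 2 + 1 by omega]
    ring
  by_contra hne
  obtain ⟨l, hl⟩ := hg
  have ho0 := orderOf_pos g
  set z := g ^ l with hz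
  have hzo : orderOf z = 2 := by
    rw [hz, orderOf_pow' g (by omega : l ≠ 0), hl, Nat.gcd_mul_left_left, Nat.mul_div_cancel _ (by omega)]
  obtain ⟨c, hc⟩ := isConj_iff.1 (hinvol z hzo)
  have hzC : Nat.card (Subgroup.centralizer ({z} : Set G)) = p - 1 := by
    rw [← hCy, ← hc]
    refine Nat.card_congr ((MulAut.conj c).toEquiv.subtypeEquiv fun x => ?_).symm
    simp only [Subgroup.mem_centralizer_singleton_iff]
    show x * F.g = F.g * x ↔ MulAut.conj c x * MulAut.conj c F.g = MulAut.conj c F.g * MulAut.conj c x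
    rw [← map_mul, ← map_mul]
    exact (MulAut.conj c).injective.eq_iff.symm
  have hgz : g ∈ Subgroup.centralizer ({z} : Set G) :=
    Subgroup.mem_centralizer_singleton_iff.2 (Commute.self_pow g l)
  have hgreg : ¬ p ∣ orderOf g := fun h => by
    have h1 := (Subgroup.orderOf_dvd_natCard _ hgz)
    rw [hzC] at h1
    have := Nat.le_of_dvd (by omega) (h.trans h1)
    omega
  have hg1 : g ≠ 1 := fun h => by rw [h, orderOf_one] at hl; omega
  have hgy : ¬ IsConj g F.g := fun h => hne (by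
    obtain ⟨d, hd⟩ := isConj_iff.1 h
    rw [← hyo, ← hd, show d * g * d⁻¹ = MulAut.conj d g from rfl, MulEquiv.orderOf_eq])
  obtain ⟨hθ0, hχ0, hM⟩ := hvals g hgreg hg1 hgy
  have hcnt : ((Char.classFinset F.g ×ˢ Char.classFinset F.g).filter fun q => q.1 * q.2 = g).card =
      2 * D.k + 1 := by
    have h := class_product_int F.g F.g g
    have hM' : ∑ ψ ∈ D.rest, conj ((ψ : G → ℂ) g) * (F.dim ψ : ℂ) = -1 := by
      have := congrArg conj hM
      rw [map_sum, map_neg, map_one] at this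
      rw [← this]
      exact Finset.sum_congr rfl fun ψ _ => by rw [map_mul, map_natCast, mul_comm]
    rw [hCy, D.sum_split, one'_apply, one'_apply, one'_apply, hplus, hχ, Finset.sum_empty,
      Finset.sum_singleton, hχy,
      Finset.sum_eq_zero (s := D.S.Y) (fun θ' hθ' => by
        rw [D.theta_agree hθ' hgreg, hθ0, map_zero, mul_zero, zero_div]),
      Finset.sum_congr (rfl : D.rest = D.rest) (g := fun ψ : IrrCharacter G =>
        conj ((ψ : G → ℂ) g) * (F.dim ψ : ℂ) / (p : ℂ)) fun ψ hψ => by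
        rw [hrest ψ hψ, F.rest_one hψ]
        have hd0 : (F.dim ψ : ℂ) ≠ 0 := Nat.cast_ne_zero.2 (F.rest_pos hψ).ne'
        field_simp,
      ← Finset.sum_div, hM', D.card_G, he, show p - 1 = 2 * (D.k + 1) by omega, map_one] at h
    have hp0 : (p : ℂ) ≠ 0 := Nat.cast_ne_zero.2 hp.out.ne_zero
    push_cast at h
    field_simp at h
    rw [hpc] at h
    have h4 : (2 * ((D.k : ℂ) + 1)) ≠ 0 := mul_ne_zero two_ne_zero (by exact_mod_cast Nat.succ_ne_zero D.k)
    have h5 : (((Char.classFinset F.g ×ˢ Char.classFinset F.g).filter fun q => q.1 * q.2 = g).card : ℂ) =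
        ((2 * D.k + 1 : ℕ) : ℂ) := by
      push_cast
      refine mul_left_cancel₀ h4 ?_
      linear_combination h
    exact_mod_cast h5
  obtain ⟨U, hUc, hU⟩ := exists_inverting_finset hy2 g
  rw [hcnt] at hUc
  have hUg : g ∉ U := fun h => hne (by
    obtain ⟨d, hd⟩ := isConj_iff.1 (hU g h).1
    rw [← hyo, ← hd, show d * F.g * d⁻¹ = MulAut.conj d F.g from rfl, MulEquiv.orderOf_eq])
  have hU1 : (1 : G) ∉ U := fun h => by
    obtain ⟨d, hd⟩ := isConj_iff.1 (hU 1 h).1
    rw [conj_eq_one_iff] at hd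
    rw [hd, orderOf_one] at hyo
    norm_num at hyo
  have hz2 : z⁻¹ = z := inv_eq_of_mul_eq_one_right (by rw [← pow_two, ← hzo, pow_orderOf_eq_one])
  have hsub : insert g (insert (1 : G) U) ⊆
      (Subgroup.centralizer ({z} : Set G) : Set G).toFinset := by
    intro u hu
    rw [Set.mem_toFinset, SetLike.mem_coe]
    rcases Finset.mem_insert.1 hu with rfl | hu
    · exact hgz
    rcases Finset.mem_insert.1 hu with rfl | hu
    · exact one_mem _
    have h1 := congrArg (· ^ l) (hU u hu).2.2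
    simp only [conj_pow, inv_pow, ← hz, hz2] at h1
    exact Subgroup.mem_centralizer_singleton_iff.2 (mul_inv_eq_iff_eq_mul.1 h1)
  have hle := Finset.card_le_card hsub
  rw [Finset.card_insert_of_notMem (by simp [hUg, hg1]), Finset.card_insert_of_notMem hU1, hUc,
    Set.toFinset_card, ← Nat.card_eq_fintype_card] at hle
  change _ ≤ Nat.card (Subgroup.centralizer ({z} : Set G)) at hle
  omega

end LargeData

end Cfsg.Lib.Small
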