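import Cfsg.Agent.Lib.Small.BlockOrders
import Cfsg.Agent.Lib.Small.CentralizerD8
import Cfsg.Agent.Lib.Invol.Basic
import Cfsg.Agent.Lib.ZStar.Main
import Cfsg.Agent.S0978
import Cfsg.Agent.S1010
import Cfsg.Agent.S4304
import Mathlib.GroupTheory.SpecificGroups.Alternating.Simple

/-!
# Local data of a simple group of order 2520

Elements of order 5 and 7 are self-centralizing, there is one class of involutions, the Sylow
2-subgroups are dihedral and the centralizer of an involution has order 24.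
-/

set_option autoImplicit false
set_option linter.unusedSectionVars false
set_option linter.style.haveILetI false

namespace Cfsg.Lib.Small.Order2520

open Subgroup Cfsg Cfsg.Lib Cfsg.Lib.Small

universe u

variable {G : Type u} [Group G] [Finite G] [IsSimpleGroup G]

theorem noncyclic (h : Nat.card G = 2520) : ¬ IsCyclic G :=
  not_isCyclic_of_card (by rw [h]; norm_num)

theorem index_ge (h : Nat.card G = 2520) {H : Subgroup G} (hH : H ≠ ⊤) : 7 ≤ H.index := by
  by_contra hlt
  have := index_dvd_factorial_le hH (b := 6) (by omega)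
  rw [h] at this
  norm_num [Nat.factorial] at this

theorem no_index_two (h : Nat.card G = 2520) (M : Subgroup G) (hM : M.Normal) : M.index ≠ 2 := by
  intro h2
  rcases hM.eq_bot_or_eq_top with rfl | rfl
  · rw [index_bot, h] at h2; omega
  · rw [index_top] at h2; omega

theorem centralizer_of_prime {p : ℕ} [Fact p.Prime] (P : Sylow p G) (hP : Nat.card (P : Subgroup G) = p)
    (hC : Nat.card (centralizer ((P : Subgroup G) : Set G)) = p) {y : G} (hy : orderOf y = p) {w : G}
    (hw : Commute w y) : w ∈ zpowers y := by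
  haveI := Fintype.ofFinite G
  obtain ⟨Q, hQ⟩ := exists_sylow_eq_zpowers (G := G) (fun Q => by
    rw [Q.card_eq_multiplicity, ← P.card_eq_multiplicity, hP]) hy
  obtain ⟨g, hg⟩ := MulAction.exists_smul_eq G Q P
  have hCP : centralizer ((P : Subgroup G) : Set G) = (P : Subgroup G) :=
    (Subgroup.eq_of_le_of_card_ge (Block.le_centralizer_self hP) (by rw [hC, hP])).symm
  have hmem : ∀ v, v ∈ (Q : Subgroup G) → g * v * g⁻¹ ∈ (P : Subgroup G) := fun v hv => by
    rw [← hg]; exact Subgroup.smul_mem_pointwise_smul v (MulAut.conj g) _ hv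
  have hwC : g * w * g⁻¹ ∈ centralizer ((P : Subgroup G) : Set G) := by
    rw [mem_centralizer_iff]
    intro v hv
    have hv' : g⁻¹ * v * g ∈ (Q : Subgroup G) := by
      have e : ((g⁻¹ • P : Sylow p G) : Subgroup G) = (Q : Subgroup G) := by rw [← hg, inv_smul_smul]
      rw [← e]
      have := Subgroup.smul_mem_pointwise_smul v (MulAut.conj g⁻¹) _ hv
      simpa [MulAut.smul_def, Sylow.coe_subgroup_smul, map_inv] using this
    rw [hQ] at hv'
    obtain ⟨k, hk⟩ := hv'
    have hvk : v = g * y ^ k * g⁻¹ := by rw [show y ^ k = g⁻¹ * v * g from hk]; group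
    rw [hvk, conj_mul, conj_mul, ((hw.zpow_right k).symm).eq]
  rw [hCP] at hwC
  have h2 : g⁻¹ * (g * w * g⁻¹) * g ∈ (Q : Subgroup G) := by
    have e : ((g⁻¹ • P : Sylow p G) : Subgroup G) = (Q : Subgroup G) := by rw [← hg, inv_smul_smul]
    rw [← e]
    have := Subgroup.smul_mem_pointwise_smul _ (MulAut.conj g⁻¹) _ hwC
    simpa [MulAut.smul_def, Sylow.coe_subgroup_smul, map_inv, mul_assoc] using this
  rw [hQ] at h2
  simpa [mul_assoc] using h2

/-! ## Elements of order five -/

theorem eq_one_of_small [Fintype G] [Fact (Nat.Prime 5)] {P : Sylow 5 G} {e : ℕ} (S : Shape P e)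
    (hnc : ¬ IsCyclic G) {χ : IrrCharacter G} (hχ : χ ∈ S.X) (hne : χ ≠ one' G)
    (hd : charDegree (χ : G → ℂ) < 10) {r : ℕ} [Fact r.Prime] (hr5 : r ≠ 5) {y : G}
    (hyC : y ∈ centralizer ((P : Subgroup G) : Set G)) (hy : orderOf y = r) : False := by
  classical
  obtain ⟨n, ρ, -, hρ⟩ := χ.2
  obtain ⟨b, μ, hb, hμ⟩ := Char.exists_eigenbasis ρ y
  have hval : ∀ i : ℕ, (χ : G → ℂ) (y ^ i) = ∑ j, μ j ^ i := by
    intro i
    have hp' : ∀ (k : ℕ) j, ρ (y ^ k) (b j) = μ j ^ k • b j := by
      intro k j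
      induction k with
      | zero => simp
      | succ k ih => rw [pow_succ, map_mul, Module.End.mul_apply, hb, map_smul, ih, smul_smul, pow_succ']
    rw [← hρ]
    exact Char.trace_eq_sum_of_eigenbasis _ b _ (hp' i)
  have hN : Fintype.card (Fin (Module.finrank ℂ (Fin n → ℂ))) = charDegree (χ : G → ℂ) := by
    have h := hval 0
    simp only [pow_zero, Finset.sum_const, Finset.card_univ, nsmul_one, Block.apply_one_eq_charDegree] at h
    exact_mod_cast h.symm
  have hall : ∀ j, μ j = 1 := by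
    by_contra hcon
    push Not at hcon
    obtain ⟨j0, hj0⟩ := hcon
    have hfive : ∀ j, μ j ≠ 1 → 5 ≤ (Finset.univ.filter fun i => μ i = μ j).card ∧
        5 ∣ (Finset.univ.filter fun i => μ i = μ j).card := by
      intro j hj
      have hd5 := Cfsg.Agent.S0978.mult_dvd (r := r) S hr5 hyC hy hχ hρ hμ hval (hy ▸ hμ j) hj
      exact ⟨Nat.le_of_dvd (Finset.card_pos.2 ⟨j, by simp⟩) hd5, hd5⟩
    obtain ⟨h5, h5d⟩ := hfive j0 hj0
    have hle : (Finset.univ.filter fun i => μ i = μ j0).card ≤ charDegree (χ : G → ℂ) :=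
      hN ▸ Finset.card_le_univ _
    have hrest : ∀ j, μ j = μ j0 ∨ μ j = 1 := by
      intro j
      by_contra hj
      push Not at hj
      obtain ⟨hj', -⟩ := hfive j hj.2
      have hdisj : Disjoint (Finset.univ.filter fun i => μ i = μ j0)
          (Finset.univ.filter fun i => μ i = μ j) := by
        rw [Finset.disjoint_filter]
        exact fun i _ h1 h2 => hj.1 (h2.symm.trans h1)
      have := Finset.card_union_of_disjoint hdisj
      have h2 := Finset.card_le_univ ((Finset.univ.filter fun i => μ i = μ j0) ∪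
          (Finset.univ.filter fun i => μ i = μ j))
      omega
    have hk : (Finset.univ.filter fun i => μ i = μ j0).card = 5 := by omega
    have hprod := prod_eigen_eq_one (commutator_eq_top hnc) ρ y b μ hb
    rw [← Finset.prod_filter_mul_prod_filter_not Finset.univ (fun i => μ i = μ j0),
      Finset.prod_congr rfl (fun i hi => (Finset.mem_filter.1 hi).2), Finset.prod_const, hk,
      Finset.prod_eq_one (fun i hi => (hrest i).resolve_left (Finset.mem_filter.1 hi).2), mul_one] at hprod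
    have hg := pow_gcd_eq_one.2 ⟨hprod, (hy ▸ hμ j0 : μ j0 ^ r = 1)⟩
    rw [Nat.Coprime.gcd_eq_one ((Nat.coprime_primes (by norm_num) Fact.out).2 hr5.symm), pow_one] at hg
    exact hj0 hg
  have hy1 := eq_one_of_apply_eq hne (g := y) (by
    have h0 := hval 1
    have h1 := hval 0
    rw [pow_one] at h0
    rw [pow_zero] at h1
    rw [h0, h1]
    simp [hall])
  rw [hy1, orderOf_one] at hy
  exact (Fact.out : r.Prime).ne_one hy.symm

theorem decide_two : ∀ d ∈ Nat.divisors 504, ∀ f ∈ Nat.divisors 504, 2 ≤ d →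
    ((d % 5 = 1 ∧ f = d + 1) ∨ ((d + 1) % 5 = 0 ∧ f + 1 = d)) →
    1 + d ^ 2 + 2 * f ^ 2 ≤ 2520 → d < 10 := by decide +kernel

theorem decide_four : ∀ n ∈ Nat.divisors 126, n % 5 = 1 → n ≠ 1 → n = 6 ∨ n = 21 ∨ n = 126 := by
  decide +kernel

/-- The Sylow 5-subgroups are self-centralizing, with automizer of order four. -/
theorem five_setup [Fintype G] [Fact (Nat.Prime 5)] (h : Nat.card G = 2520) :
    ∃ P : Sylow 5 G, Nat.card (P : Subgroup G) = 5 ∧
      Nat.card (centralizer ((P : Subgroup G) : Set G)) = 5 ∧ Nonempty (Shape P 4) := by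
  have hm : Nat.card G = 5 * 504 := by rw [h]
  have hnc := noncyclic h
  obtain ⟨P, e, c, n, ⟨S⟩, hC, hnec, hn, hn1, he2, hed, hnS⟩ :=
    block_setup (G := G) (p := 5) (by norm_num) hm (by norm_num) (by norm_num)
  have he : e = 2 ∨ e = 4 := by
    have := Nat.le_of_dvd (by norm_num) hed
    interval_cases e <;> simp_all
  rcases he with rfl | rfl
  · exfalso
    obtain ⟨χ, hχX, hne, -, -, -, hd2, -, hdm, hfm, hor, hsum⟩ :=
      S.two_cases hnc hm rfl (by norm_num)
    have hd := decide_two _ (Nat.mem_divisors.2 ⟨hdm, by norm_num⟩) _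
      (Nat.mem_divisors.2 ⟨hfm, by norm_num⟩) hd2 (hor.imp (fun h => ⟨h.2.2.1, h.2.2.2⟩)
        (fun h => ⟨h.2.2.1, h.2.2.2⟩)) (by rw [h] at hsum; exact hsum)
    rcases eq_or_ne c 1 with rfl | hc
    · omega
    obtain ⟨r, hr, hrc⟩ := Nat.exists_prime_and_dvd hc
    haveI := Fact.mk hr
    have hr5 : r ≠ 5 := by
      rintro rfl
      have : 5 ∣ 504 := hnec ▸ dvd_mul_of_dvd_right hrc _
      norm_num at this
    obtain ⟨⟨y, hyC⟩, hyo⟩ := exists_prime_orderOf_dvd_card'
      (G := centralizer ((P : Subgroup G) : Set G)) r (hC ▸ dvd_mul_of_dvd_right hrc 5)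
    rw [Subgroup.orderOf_mk] at hyo
    exact eq_one_of_small S hnc hχX hne hd hr5 hyC hyo
  · refine ⟨P, S.card_P, ?_, ⟨S⟩⟩
    have hn126 : n ∣ 126 := ⟨c, by
      have : 4 * (n * c) = 4 * 126 := by rw [show 4 * 126 = 504 from rfl, ← hnec]; ring
      omega⟩
    rcases decide_four n (Nat.mem_divisors.2 ⟨hn126, by norm_num⟩) hn hn1 with rfl | rfl | rfl
    · exfalso
      have hidx : (Subgroup.normalizer ((P : Subgroup G) : Set G)).index = 6 :=
        P.card_eq_index_normalizer.symm.trans hnS.symm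
      have := index_ge h (H := Subgroup.normalizer ((P : Subgroup G) : Set G))
        (fun e => by rw [e, index_top] at hidx; omega)
      omega
    · exact absurd hnS.symm Cfsg.Agent.S1010.result
    · rw [hC]
      have : c = 1 := by omega
      rw [this]

theorem five_centralizer (h : Nat.card G = 2520) {y w : G} (hy : orderOf y = 5) (hw : Commute w y) :
    w ∈ zpowers y := by
  haveI : Fintype G := Fintype.ofFinite G
  haveI : Fact (Nat.Prime 5) := ⟨by norm_num⟩
  obtain ⟨P, hP, hC, -⟩ := five_setup h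
  exact centralizer_of_prime P hP hC hy hw

/-! ## Elements of order seven -/

theorem decide_seven : ∀ n ∈ Nat.divisors 360, n % 7 = 1 → n ≠ 1 →
    n = 8 ∨ n = 15 ∨ n = 36 ∨ n = 120 := by decide +kernel

theorem seven_centralizer (h : Nat.card G = 2520) {y w : G} (hy : orderOf y = 7) (hw : Commute w y) :
    w ∈ zpowers y := by
  haveI : Fintype G := Fintype.ofFinite G
  haveI : Fact (Nat.Prime 7) := ⟨by norm_num⟩
  haveI : Fact (Nat.Prime 5) := ⟨by norm_num⟩
  have hm : Nat.card G = 7 * 360 := by rw [h]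
  obtain ⟨P, e, c, n, ⟨S⟩, hC, hnec, hn, hn1, he2, hed, hnS⟩ :=
    block_setup (G := G) (p := 7) (by norm_num) hm (by norm_num) (by norm_num)
  have hn360 : n ∣ 360 := ⟨e * c, by rw [← hnec]; ring⟩
  have hc : c = 1 := by
    have he : e = 2 ∨ e = 3 ∨ e = 6 := by
      have := Nat.le_of_dvd (by norm_num) hed
      interval_cases e <;> simp_all
    by_contra hc1
    have hc5 : 5 ∣ c → False := fun h5 => by
      obtain ⟨⟨z, hzC⟩, hzo⟩ := exists_prime_orderOf_dvd_card'
        (G := centralizer ((P : Subgroup G) : Set G)) 5 (hC ▸ dvd_mul_of_dvd_right h5 7)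
      rw [Subgroup.orderOf_mk] at hzo
      haveI : Nontrivial (P : Subgroup G) := by
        rw [← Finite.one_lt_card_iff_nontrivial, S.card_P]; norm_num
      obtain ⟨⟨x, hx⟩, hx1'⟩ := exists_ne (1 : (P : Subgroup G))
      have hx1 : x ≠ 1 := fun h => hx1' (Subtype.ext h)
      have hxo : orderOf x = 7 := by
        rw [← Nat.card_zpowers, zpowers_eq_of_prime_card S.card_P hx hx1, S.card_P]
      have hxz := five_centralizer h hzo (w := x) (mem_centralizer_iff.1 hzC x hx)
      have := Subgroup.orderOf_dvd_natCard _ hxz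
      rw [hxo, Nat.card_zpowers, hzo] at this
      norm_num at this
    rcases decide_seven n (Nat.mem_divisors.2 ⟨hn360, by norm_num⟩) hn hn1 with rfl | rfl | rfl | rfl
    · rcases he with rfl | rfl | rfl
      · omega
      · exact hc5 ⟨3, by omega⟩
      · omega
    · exact Cfsg.Agent.S4304.result hnS.symm
    · rcases he with rfl | rfl | rfl
      · exact hc5 ⟨1, by omega⟩
      · omega
      · omega
    · rcases he with rfl | rfl | rfl <;> omega
  exact centralizer_of_prime P S.card_P (by rw [hC, hc]) hy hw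

/-! ## The involutions -/

theorem decide_deg : ∀ d ∈ Nat.divisors 504, 2 ≤ d → d * d ≤ 2520 → d % 5 = 1 →
    ∀ L ∈ List.range 11, 5 * L = d + 4 → 9 * (L * L) ≤ 16 * d := by decide +kernel

theorem decide_cent : ∀ c ∈ Nat.divisors 2520, 4 ∣ c → ¬ 5 ∣ c → ¬ 7 ∣ c → c * c ≤ 4096 → 8 ∣ c →
    c = 8 ∨ c = 24 := by decide +kernel

/-- An element of order four whose square inverts a Sylow 5-subgroup. -/
theorem exists_root (h : Nat.card G = 2520) :
    ∃ r t : G, orderOf r = 4 ∧ r * r = t ∧ orderOf t = 2 ∧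
      ¬ 5 ∣ Nat.card (centralizer ({t} : Set G)) ∧
      Nat.card (centralizer ({t} : Set G)) * Nat.card (centralizer ({t} : Set G)) ≤ 4096 := by
  classical
  haveI : Fintype G := Fintype.ofFinite G
  haveI : Fact (Nat.Prime 5) := ⟨by norm_num⟩
  haveI : Fact (Nat.Prime 2) := ⟨Nat.prime_two⟩
  obtain ⟨P, hP, hC, ⟨S⟩⟩ := five_setup h
  have hnc := noncyclic h
  have hm : Nat.card G = 5 * 504 := by rw [h]
  obtain ⟨t, x, hx, hx1, ht, hinv, hcard, -, h5t, -⟩ :=
    exists_inverting (p := 5) (by norm_num) P hP hC S.relIndex_eq (by norm_num)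
  have hxo : orderOf x = 5 := by
    rw [← Nat.card_zpowers, zpowers_eq_of_prime_card hP hx hx1, hP]
  set N := Subgroup.normalizer ((P : Subgroup G) : Set G) with hN
  have hzx : zpowers x = (P : Subgroup G) := zpowers_eq_of_prime_card hP hx hx1
  have hCP : centralizer ((P : Subgroup G) : Set G) = (P : Subgroup G) :=
    (Subgroup.eq_of_le_of_card_ge (Block.le_centralizer_self hP) (by rw [hC, hP])).symm
  have htN : t ∈ N := by
    refine Subgroup.mem_normalizer_iff.2 fun v => ⟨fun hv => by rw [hinv v hv]; exact inv_mem hv, fun hv => ?_⟩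
    have := hinv _ hv
    have e : t * (t * v * t⁻¹) * t⁻¹ = v := by
      have ht2 : t * t = 1 := by rw [← pow_two, ← ht, pow_orderOf_eq_one]
      have hti : t⁻¹ = t := inv_eq_of_mul_eq_one_right ht2
      rw [hti]
      calc t * (t * v * t) * t = (t * t) * v * (t * t) := by group
        _ = v := by rw [ht2, one_mul, mul_one]
    rw [e] at this
    rw [this]
    exact inv_mem hv
  have hNcard : Nat.card N = 20 := by
    have h2 := Subgroup.card_mul_index ((centralizer ((P : Subgroup G) : Set G)).subgroupOf N)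
    rw [Nat.card_congr (Subgroup.subgroupOfEquivOfLe (Subgroup.centralizer_le_normalizer _)).toEquiv,
      hC] at h2
    rw [← h2]
    show 5 * (centralizer ((P : Subgroup G) : Set G)).relIndex N = 20
    rw [hN, S.relIndex_eq]
  obtain ⟨T, hT⟩ := (IsPGroup.of_card (p := 2) (n := 1) (G := zpowers (⟨t, htN⟩ : N))
    (by rw [Nat.card_zpowers, Subgroup.orderOf_mk, ht, pow_one])).exists_le_sylow
  have hTc : Nat.card (T : Subgroup N) = 4 := by
    rw [card_sylow 2 5 (by rw [hNcard]; norm_num) (by norm_num) T]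
    norm_num
  set T' := (T : Subgroup N).map N.subtype with hT'
  have hT'c : Nat.card T' = 4 := by rw [hT', card_map_of_injective N.subtype_injective, hTc]
  have htT' : t ∈ T' := ⟨⟨t, htN⟩, hT (mem_zpowers _), rfl⟩
  have hT'P : ∀ u ∈ T', u ∈ (P : Subgroup G) → u = 1 := fun u h1 h2 => by
    have := Nat.dvd_gcd (Subgroup.orderOf_dvd_natCard _ h1) (Subgroup.orderOf_dvd_natCard _ h2)
    rw [hT'c, hP] at this
    norm_num at this
    exact this
  -- an element of the normalizer of order at most two inverts or centralizes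
  have hsq : ∀ u ∈ T', u * u = 1 → u = 1 ∨ u = t := by
    intro u hu hu2
    have huN : u ∈ N := (map_subtype_le _) hu
    obtain ⟨j, hj⟩ : u * x * u⁻¹ ∈ zpowers x := hzx ▸ (Subgroup.mem_normalizer_iff.1 huN x).1 hx
    have hj : u * x * u⁻¹ = x ^ j := hj.symm
    have h1 : x ^ (j * j) = x ^ (1 : ℤ) := by
      rw [zpow_mul, ← hj, conj_zpow, ← hj, zpow_one,
        show u * (u * x * u⁻¹) * u⁻¹ = (u * u) * x * (u * u)⁻¹ by group, hu2]
      simp
    have h2 : (5 : ℤ) ∣ (j - 1) * (j + 1) := by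
      rw [show (5 : ℤ) = ((orderOf x : ℕ) : ℤ) by rw [hxo]; rfl, orderOf_dvd_iff_zpow_eq_one,
        show (j - 1) * (j + 1) = j * j - 1 by ring, zpow_sub, h1, mul_inv_cancel]
    have hcent : ∀ w : G, w * x * w⁻¹ = x → w ∈ T' → w = 1 := fun w hw hwT => by
      refine hT'P w hwT ?_
      rw [← hCP, mem_centralizer_iff]
      intro v hv
      rw [← hzx] at hv
      obtain ⟨i, rfl⟩ := hv
      exact ((Commute.zpow_left (mul_inv_eq_iff_eq_mul.1 hw).symm i)).eq
    rcases (Int.prime_iff_natAbs_prime.2 (by norm_num) : Prime (5 : ℤ)).dvd_or_dvd h2 with hd | hd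
    · left
      refine hcent u ?_ hu
      rw [hj]
      rw [show (5 : ℤ) = ((orderOf x : ℕ) : ℤ) by rw [hxo]; rfl, orderOf_dvd_iff_zpow_eq_one,
        zpow_sub, zpow_one, mul_inv_eq_one] at hd
      exact hd
    · right
      rw [show (5 : ℤ) = ((orderOf x : ℕ) : ℤ) by rw [hxo]; rfl, orderOf_dvd_iff_zpow_eq_one,
        zpow_add, zpow_one] at hd
      have hux : u * x * u⁻¹ = x⁻¹ := hj.trans (eq_inv_of_mul_eq_one_left hd)
      have htx : t * x⁻¹ * t⁻¹ = x := by rw [hinv _ (inv_mem hx), inv_inv]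
      have := hcent (t * u) (by
        calc t * u * x * (t * u)⁻¹ = t * (u * x * u⁻¹) * t⁻¹ := by group
          _ = x := by rw [hux, htx]) (mul_mem htT' hu)
      rw [← inv_eq_of_mul_eq_one_right this]
      exact inv_eq_of_mul_eq_one_right (by rw [← pow_two, ← ht, pow_orderOf_eq_one])
  obtain ⟨s, hs, hs1, hst⟩ : ∃ s ∈ T', s ≠ 1 ∧ s ≠ t := by
    by_contra hcon
    push Not at hcon
    have hsub : (T' : Set G) ⊆ {1, t} := fun s hs => by
      by_cases h1 : s = 1
      · exact Or.inl h1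
      · exact Or.inr (hcon s hs h1)
    have := Set.ncard_le_ncard hsub (Set.toFinite _)
    rw [← Nat.card_coe_set_eq] at this
    have h2 : ({1, t} : Set G).ncard ≤ 2 := (Set.ncard_insert_le _ _).trans (by simp)
    change Nat.card T' ≤ _ at this
    omega
  have hs4 : s ^ 4 = 1 := orderOf_dvd_iff_pow_eq_one.1 (hT'c ▸ Subgroup.orderOf_dvd_natCard _ hs)
  have hss : s * s ≠ 1 := fun e => (hsq s hs e).elim hs1 hst
  have hss4 : s * s * (s * s) = 1 := by rw [← hs4]; simp [pow_succ, mul_assoc]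
  have hsst : s * s = t := (hsq _ (mul_mem hs hs) hss4).resolve_left hss
  refine ⟨s, t, ?_, hsst, ht, h5t, ?_⟩
  · have hd : orderOf s ∣ 2 ^ 2 := orderOf_dvd_of_pow_eq_one hs4
    obtain ⟨k, hk, hk2⟩ := (Nat.dvd_prime_pow Nat.prime_two).1 hd
    interval_cases k
    · exact absurd (orderOf_eq_one_iff.1 (by simpa using hk2)) hs1
    · exact absurd (by rw [← pow_two, show 2 = orderOf s by rw [hk2]; norm_num, pow_orderOf_eq_one]) hss
    · simpa using hk2
  -- the bound on the centralizer
  have he4 : 4 + 1 = 5 := rfl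
  have hlin : ∀ χ ∈ S.Z, ∃ (L : ℕ) (b : ℤ), (χ : G → ℂ) t = (b : ℂ) ∧
      (L : ℤ) * 5 = charDegree (χ : G → ℂ) + (((5 : ℕ) : ℤ) - 1) * S.σ χ ∧
      b.natAbs ≤ L ∧ (2 : ℤ) ∣ (L : ℤ) - b := fun χ hχ =>
    S.linBound' (by norm_num) (by rw [← ht, pow_orderOf_eq_one]) hinv
      fun x hx hx1 => S.val_all he4 hχ hx hx1
  choose L b hb1 hb2 hb3 _ using hlin
  set B : IrrCharacter G → ℤ := fun χ => if hχ : χ ∈ S.Z then b χ hχ else 0 with hBdef
  set R : ℝ := ∑ χ ∈ S.Z, (S.σ χ : ℝ) * ((B χ : ℝ) * (B χ : ℝ) / (charDegree (χ : G → ℂ) : ℝ)) with hR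
  have hform := S.formula_int hC (a := t) (b := t) (x := x) (by rw [ht]; norm_num)
    (by rw [ht]; norm_num) hx hx1
  rw [hcard, h] at hform
  have hsum : ∑ χ ∈ S.Z, (S.σ χ : ℂ) * ((χ : G → ℂ) t * (χ : G → ℂ) t / (χ : G → ℂ) 1) = ((R : ℝ) : ℂ) := by
    rw [hR, Complex.ofReal_sum]
    refine Finset.sum_congr rfl fun χ hχ => ?_
    have : B χ = b χ hχ := dif_pos hχ
    rw [hb1 χ hχ, Block.apply_one_eq_charDegree, this]
    push_cast
    ring
  rw [hsum] at hform
  set c := Nat.card (centralizer ({t} : Set G)) with hc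
  have hreal : (5 : ℝ) * c * c = 2520 * R := by
    apply Complex.ofReal_injective
    push_cast at hform ⊢
    exact hform
  have hterm : ∀ χ ∈ S.Z.erase (one' G),
      (S.σ χ : ℝ) * ((B χ : ℝ) * (B χ : ℝ) / (charDegree (χ : G → ℂ) : ℝ)) ≤ 16 / 9 := by
    intro χ hχ'
    obtain ⟨hne, hχ⟩ := Finset.mem_erase.1 hχ'
    have hdpos : (0 : ℝ) < charDegree (χ : G → ℂ) := by exact_mod_cast Block.charDegree_pos χ
    have hnn : (0 : ℝ) ≤ (B χ : ℝ) * (B χ : ℝ) / (charDegree (χ : G → ℂ) : ℝ) :=
      div_nonneg (mul_self_nonneg _) hdpos.le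
    rcases S.sign χ hχ with hσ | hσ
    · rw [hσ, Int.cast_one, one_mul, div_le_iff₀ hdpos]
      have hd2 := two_le_charDegree hnc hne
      have hsq' : charDegree (χ : G → ℂ) * charDegree (χ : G → ℂ) ≤ 2520 := by
        have hle := S.sum_sq
        rw [h, show (5 - 1) / 4 = 1 from rfl, one_mul] at hle
        rw [← pow_two]
        rcases S.mem_Z.1 hχ with h1 | h1
        · rw [h1]; exact (Nat.le_add_left _ _).trans hle
        · exact (Finset.single_le_sum (f := fun χ : IrrCharacter G => charDegree (χ : G → ℂ) ^ 2)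
            (fun _ _ => Nat.zero_le _) h1).trans ((Nat.le_add_right _ _).trans hle)
      have hmod : charDegree (χ : G → ℂ) % 5 = 1 := by
        have := S.cong_all he4 hχ
        rw [hσ, one_mul] at this
        have h2 : (((charDegree (χ : G → ℂ)) : ℕ) : ℤ) % 5 = 1 := this
        omega
      have h2 := hb2 χ hχ
      rw [hσ] at h2
      push_cast at h2
      have hd50 : charDegree (χ : G → ℂ) ≤ 50 := by nlinarith
      have hdec := decide_deg _ (Nat.mem_divisors.2 ⟨S.deg_dvd hm hχ, by norm_num⟩) hd2 hsq' hmod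
        (L χ hχ) (List.mem_range.2 (by omega)) (by omega)
      have h3 : (B χ).natAbs * (B χ).natAbs * 9 ≤ 16 * charDegree (χ : G → ℂ) := by
        rw [show B χ = b χ hχ from dif_pos hχ]
        have := Nat.mul_le_mul (hb3 χ hχ) (hb3 χ hχ)
        omega
      have h4 : (B χ : ℝ) * (B χ : ℝ) * 9 ≤ 16 * (charDegree (χ : G → ℂ) : ℝ) := by
        have h5 : (((B χ).natAbs * (B χ).natAbs * 9 : ℕ) : ℤ) ≤ ((16 * charDegree (χ : G → ℂ) : ℕ) : ℤ) := by
          exact_mod_cast h3
        push_cast at h5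
        rw [abs_mul_abs_self] at h5
        exact_mod_cast h5
      linarith
    · rw [hσ]; push_cast; linarith
  have hR9 : R ≤ 1 + 4 * (16 / 9 : ℝ) := by
    rw [hR, ← Finset.add_sum_erase _ _ S.one_mem]
    refine add_le_add ?_ ?_
    · have : B (one' G) = 1 := by
        rw [hBdef]
        simp only [dif_pos S.one_mem]
        have := hb1 _ S.one_mem
        rw [one'_apply] at this
        exact_mod_cast this.symm
      rw [this, S.sign_one, charDegree_one']
      norm_num
    · refine (Finset.sum_le_card_nsmul _ _ _ hterm).trans ?_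
      rw [Finset.card_erase_of_mem S.one_mem, S.card_Z, nsmul_eq_mul]
      norm_num
  have : (c : ℝ) * c ≤ 4096 := by linarith
  exact_mod_cast this

theorem eq_of_sq_eq_one_of_mem_zpowers {r : G} (hr : orderOf r = 4) {g : G} (hg : g ∈ zpowers r)
    (hg2 : g * g = 1) : g = 1 ∨ g = r * r := by
  obtain ⟨k, rfl⟩ := hg
  simp only at hg2 ⊢
  rw [← zpow_add, ← orderOf_dvd_iff_zpow_eq_one, hr] at hg2
  rcases Int.emod_two_eq_zero_or_one k with hk | hk
  · rcases (show (4 : ℤ) ∣ k ∨ (4 : ℤ) ∣ k - 2 by omega) with h4 | h4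
    · left
      rwa [← orderOf_dvd_iff_zpow_eq_one, hr]
    · right
      rw [show (4 : ℤ) = ((orderOf r : ℕ) : ℤ) by rw [hr]; rfl, orderOf_dvd_iff_zpow_eq_one,
        zpow_sub, mul_inv_eq_one] at h4
      rw [h4, zpow_two]
  · omega

/-- The involution data: one class, dihedral Sylow groups, centralizers of order 24. -/
theorem involutions (h : Nat.card G = 2520) :
    ∃ r a : G, orderOf r = 4 ∧ orderOf a = 2 ∧ a * r * a⁻¹ = r⁻¹ ∧
      (∀ u : G, orderOf u = 2 → IsConj (r * r) u) ∧
      Nat.card (centralizer ({r * r} : Set G)) = 24 ∧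
      (∀ S : Sylow 2 G, Nat.card (S : Subgroup G) = 8 ∧
        ∃ v ∈ (S : Subgroup G), ∃ w ∈ (S : Subgroup G), v * w ≠ w * v) := by
  classical
  haveI : Fintype G := Fintype.ofFinite G
  haveI : Fact (Nat.Prime 2) := ⟨Nat.prime_two⟩
  obtain ⟨r, t, hr, hrt, ht, h5t, hbound⟩ := exists_root h
  have hnc := noncyclic h
  obtain ⟨S, hS⟩ := (IsPGroup.of_card (p := 2) (n := 2) (G := zpowers r)
    (by rw [Nat.card_zpowers, hr]; norm_num)).exists_le_sylow
  have hrS : r ∈ (S : Subgroup G) := hS (mem_zpowers r)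
  have hS8 : ∀ S : Sylow 2 G, Nat.card (S : Subgroup G) = 8 := fun S => by
    rw [card_sylow 3 315 (by rw [h]; norm_num) (by norm_num) S]; norm_num
  have hidx : ((zpowers r).subgroupOf (S : Subgroup G)).index = 2 := by
    have h1 := card_mul_index ((zpowers r).subgroupOf (S : Subgroup G))
    rw [Nat.card_congr (subgroupOfEquivOfLe hS).toEquiv, Nat.card_zpowers, hr, hS8] at h1
    omega
  haveI hRn := normal_of_index_eq_two hidx
  have hconjr : ∀ s ∈ (S : Subgroup G), ∀ g ∈ zpowers r, s * g * s⁻¹ ∈ zpowers r :=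
    fun s hs g hg => hRn.conj_mem ⟨g, hS hg⟩ hg ⟨s, hs⟩
  have htr : t ∈ zpowers r := hrt ▸ mul_mem (mem_zpowers r) (mem_zpowers r)
  have ht2 : t * t = 1 := by rw [← pow_two, ← ht, pow_orderOf_eq_one]
  have ht1 : t ≠ 1 := fun e => by rw [e, orderOf_one] at ht; omega
  have hScent : ∀ s ∈ (S : Subgroup G), Commute s t := by
    intro s hs
    rcases eq_of_sq_eq_one_of_mem_zpowers hr (hconjr s hs t htr) (by rw [conj_mul, ht2]; group) with e | e
    · exact absurd (conj_eq_one_iff.1 e) ht1
    · rw [hrt] at e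
      exact mul_inv_eq_iff_eq_mul.1 e
  have hinv : ∀ u : G, orderOf u = 2 → IsConj (r * r) u := by
    intro u hu
    rw [hrt]
    obtain ⟨S', hS'⟩ := (IsPGroup.of_card (p := 2) (n := 1) (G := zpowers u)
      (by rw [Nat.card_zpowers, hu, pow_one])).exists_le_sylow
    obtain ⟨g, hg⟩ := MulAction.exists_smul_eq G S' S
    have hgu : g * u * g⁻¹ ∈ (S : Subgroup G) := by
      rw [← hg]
      exact Subgroup.smul_mem_pointwise_smul u (MulAut.conj g) _ (hS' (mem_zpowers u))
    have hu2 : orderOf (g * u * g⁻¹) = 2 := by rw [← hu]; exact (MulAut.conj g).orderOf_eq u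
    have key : ∀ v ∈ zpowers r, orderOf v = 2 → v = t := fun v hv hv2 => by
      rcases eq_of_sq_eq_one_of_mem_zpowers hr hv (by rw [← pow_two, ← hv2, pow_orderOf_eq_one]) with e | e
      · rw [e, orderOf_one] at hv2; omega
      · rw [e, hrt]
    by_cases hmem : g * u * g⁻¹ ∈ zpowers r
    · exact (isConj_iff.2 ⟨g, key _ hmem hu2⟩ : IsConj u t).symm
    rcases Cfsg.Agent.S0111.result S (zpowers r) hS hidx _ hu2 hgu hmem with ⟨M, hM, hMi, -⟩ | ⟨g', hg'⟩
    · exact absurd hMi (no_index_two h M hM)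
    · refine (isConj_iff.2 ⟨g' * g, ?_⟩ : IsConj u t).symm
      rw [← key _ hg' (by rw [← hu2]; exact (MulAut.conj g').orderOf_eq _)]
      group
  -- a second involution in the Sylow subgroup
  obtain ⟨a, haS, ha, hat⟩ : ∃ a ∈ (S : Subgroup G), orderOf a = 2 ∧ a ≠ t := by
    by_contra hcon
    push Not at hcon
    have hO : Cfsg.oddCore G = ⊥ := by
      by_contra hne
      have htop := (inferInstance : (Cfsg.oddCore G).Normal).eq_bot_or_eq_top.resolve_left hne
      have hodd := Cfsg.Lib.ZStar.odd_card_oddCore (G := G)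
      rw [htop, card_top, h] at hodd
      exact absurd hodd (by decide)
    have hz := Cfsg.Lib.ZStar.mem_center_of_isolated hO
      (Cfsg.Lib.ZStar.isolated_of_unique_involution S ht hcon)
    rcases (inferInstance : (center G).Normal).eq_bot_or_eq_top with e | e
    · rw [e] at hz; exact ht1 (mem_bot.1 hz)
    · refine commutator_eq_top (G := G) hnc |>.symm.trans ?_ |> fun hh => absurd hh top_ne_bot
      rw [commutator_def, Subgroup.commutator_eq_bot_iff_le_centralizer]
      intro x _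
      rw [mem_centralizer_iff]
      intro y _
      exact (mem_center_iff.1 (e ▸ mem_top x) y)
  have ha2 : a * a = 1 := by rw [← pow_two, ← ha, pow_orderOf_eq_one]
  have har : a ∉ zpowers r := fun hm => by
    rcases eq_of_sq_eq_one_of_mem_zpowers hr hm ha2 with e | e
    · rw [e, orderOf_one] at ha; omega
    · exact hat (e.trans hrt)
  have hdec : ∀ s ∈ (S : Subgroup G), s ∈ zpowers r ∨ a * s ∈ zpowers r := by
    intro s hs
    by_contra hc
    push Not at hc
    exact hc.2 ((Subgroup.mul_mem_iff_of_index_two hidx (a := ⟨a, haS⟩) (b := ⟨s, hs⟩)).2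
      (iff_of_false har hc.1))
  have hinvr : a * r * a⁻¹ = r⁻¹ := by
    obtain ⟨k, hk⟩ := hconjr a haS r (mem_zpowers r)
    have hk : a * r * a⁻¹ = r ^ k := hk.symm
    have h1 : r ^ (k * k) = r ^ (1 : ℤ) := by
      rw [zpow_mul, ← hk, conj_zpow, ← hk, zpow_one,
        show a * (a * r * a⁻¹) * a⁻¹ = (a * a) * r * (a * a)⁻¹ by group, ha2]
      simp
    rw [zpow_eq_zpow_iff_modEq, hr, Int.modEq_iff_dvd] at h1
    rcases (show (4 : ℤ) ∣ k - 1 ∨ (4 : ℤ) ∣ k + 1 by
      have h4 : k % 4 = 0 ∨ k % 4 = 1 ∨ k % 4 = 2 ∨ k % 4 = 3 := by omega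
      have hkk : (k * k) % 4 = (k % 4) * (k % 4) % 4 := Int.mul_emod k k 4
      rcases h4 with e | e | e | e <;> rw [e] at hkk <;> omega) with h4 | h4
    · -- an abelian Sylow subgroup contradicts fusion
      exfalso
      rw [show (4 : ℤ) = ((orderOf r : ℕ) : ℤ) by rw [hr]; rfl, orderOf_dvd_iff_zpow_eq_one,
        zpow_sub, zpow_one, mul_inv_eq_one] at h4
      rw [h4] at hk
      have har' : Commute a r := mul_inv_eq_iff_eq_mul.1 hk
      have hform : ∀ s ∈ (S : Subgroup G), ∃ i : ℤ, s = r ^ i ∨ s = a * r ^ i := by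
        intro s hs
        rcases hdec s hs with ⟨i, hi⟩ | ⟨i, hi⟩
        · exact ⟨i, Or.inl hi.symm⟩
        · exact ⟨i, Or.inr (by rw [show r ^ i = a * s from hi, ← mul_assoc, ha2, one_mul])⟩
      haveI : IsMulCommutative (S : Subgroup G) := ⟨⟨fun ⟨u, hu⟩ ⟨v, hv⟩ => Subtype.ext (by
        obtain ⟨i, rfl | rfl⟩ := hform u hu <;> obtain ⟨j, rfl | rfl⟩ := hform v hv
        · exact (Commute.zpow_zpow_self r i j).eq
        · exact ((har'.zpow_right i).symm.mul_right (Commute.zpow_zpow_self r i j)).eq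
        · exact ((har'.zpow_right j).mul_left (Commute.zpow_zpow_self r i j)).eq
        · exact (((Commute.refl a).mul_right (har'.zpow_right j)).mul_left
            ((har'.zpow_right i).symm.mul_right (Commute.zpow_zpow_self r i j))).eq)⟩⟩
      obtain ⟨g, hg⟩ := isConj_iff.1 (hinv a ha).symm
      rw [hrt] at hg
      obtain ⟨n, hn, hn2⟩ := S.conj_eq_normalizer_conj_of_mem a g⁻¹ haS (by
        rw [inv_inv, hg]; exact hS htr)
      rw [inv_inv, hg] at hn2
      have hr' : n * r * n⁻¹ ∈ (S : Subgroup G) := (Subgroup.mem_normalizer_iff.1 hn r).1 hrS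
      have hsq : n * r * n⁻¹ * (n * r * n⁻¹) = a := by
        rw [conj_mul, hrt, hn2]; group
      rcases hdec _ hr' with hm | hm
      · exact har (hsq ▸ mul_mem hm hm)
      · obtain ⟨i, hi⟩ := hm
        have hi : a * (n * r * n⁻¹) = r ^ i := hi.symm
        have e : n * r * n⁻¹ = a * r ^ i := by rw [← hi, ← mul_assoc, ha2, one_mul]
        apply har
        rw [← hsq, e, show a * r ^ i * (a * r ^ i) = a * (r ^ i * a) * r ^ i by group,
          ← (har'.zpow_right i).eq, ← mul_assoc, ha2, one_mul]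
        exact mul_mem (zpow_mem (mem_zpowers r) i) (zpow_mem (mem_zpowers r) i)
    · rw [show (4 : ℤ) = ((orderOf r : ℕ) : ℤ) by rw [hr]; rfl, orderOf_dvd_iff_zpow_eq_one,
        zpow_add, zpow_one] at h4
      rw [hk]
      exact eq_inv_of_mul_eq_one_left h4
  refine ⟨r, a, hr, ha, hinvr, hinv, ?_, fun S' => ⟨hS8 S', ?_⟩⟩
  · rw [hrt]
    have hle : (S : Subgroup G) ≤ centralizer ({t} : Set G) := fun s hs =>
      mem_centralizer_singleton_iff.2 (hScent s hs).eq
    have h8 : 8 ∣ Nat.card (centralizer ({t} : Set G)) := hS8 S ▸ card_dvd_of_le hle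
    have h7 : ¬ 7 ∣ Nat.card (centralizer ({t} : Set G)) := fun h7 => by
      haveI : Fact (Nat.Prime 7) := ⟨by norm_num⟩
      obtain ⟨⟨y, hy⟩, hyo⟩ := exists_prime_orderOf_dvd_card' (G := centralizer ({t} : Set G)) 7 h7
      rw [Subgroup.orderOf_mk] at hyo
      have := Subgroup.orderOf_dvd_natCard _
        (seven_centralizer h hyo (w := t) (mem_centralizer_singleton_iff.1 hy).symm)
      rw [ht, Nat.card_zpowers, hyo] at this
      norm_num at this
    rcases decide_cent _ (Nat.mem_divisors.2 ⟨h ▸ Subgroup.card_subgroup_dvd_card _, by norm_num⟩)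
      (dvd_trans (by norm_num) h8) h5t h7 hbound h8 with h' | h'
    · exfalso
      have hinj := Cfsg.Lib.Invol.dihedralHom_injective ha2 hinvr har
      set φ := Cfsg.Lib.Invol.dihedralHom (orderOf r) (pow_orderOf_eq_one r) ha2 hinvr with hφ
      have hmem : ∀ d, φ d ∈ centralizer ({t} : Set G) := by
        rintro (i | i) <;> apply hle
        · rw [hφ, Cfsg.Lib.Invol.dihedralHom_r]; exact zpow_mem hrS _
        · rw [hφ, Cfsg.Lib.Invol.dihedralHom_sr]; exact mul_mem haS (zpow_mem hrS _)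
      have e : DihedralGroup (orderOf r) ≃* centralizer ({t} : Set G) :=
        MulEquiv.ofBijective (φ.codRestrict _ hmem) ((Nat.bijective_iff_injective_and_card _).2
          ⟨fun d d' hdd => hinj (congrArg Subtype.val hdd), by rw [DihedralGroup.nat_card, hr, h']⟩)
      rw [hr] at e
      have := Cfsg.Lib.Small.CentralizerD8.card_eq e.symm (commutator_eq_top hnc) ht
      omega
    · exact h'
  · obtain ⟨g, hg⟩ := MulAction.exists_smul_eq G S S'
    have hm : ∀ v ∈ (S : Subgroup G), g * v * g⁻¹ ∈ (S' : Subgroup G) := fun v hv => by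
      rw [← hg]; exact Subgroup.smul_mem_pointwise_smul v (MulAut.conj g) _ hv
    refine ⟨_, hm a haS, _, hm r hrS, fun e => ?_⟩
    rw [conj_mul, conj_mul] at e
    have e' : a * r = r * a := by simpa using e
    have : r⁻¹ = r := by rw [← hinvr, e', mul_inv_cancel_right]
    have : r * r = 1 := by nth_rewrite 1 [← this]; exact inv_mul_cancel r
    exact ht1 (hrt ▸ this)

end Cfsg.Lib.Small.Order2520
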