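import Cfsg.Agent.Lib.Small.BlockOrders
import Cfsg.Agent.Lib.MEleven.Basic

/-!
# No simple group has order 459648 = 2 ^ 7 * 3 ^ 3 * 7 * 19

The principal 19-block forces an automiser of order 6 and five characters whose degrees lie in
{56, 96, 189}; the involution centralising a Sylow 19-subgroup then has a centraliser of order at
least 649, which is impossible.
-/

set_option autoImplicit false
set_option linter.unusedSectionVars false
set_option linter.style.haveILetI false

namespace Cfsg.Lib.Order459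

open Cfsg Cfsg.Lib

universe u

variable {G : Type u} [Group G] [Fintype G] [IsSimpleGroup G]

section Actions

variable {α : Type*} [MulAction G α]

theorem eq_one_of_fix [MulAction.IsPretransitive G α] [Nontrivial α] {g : G}
    (h : ∀ a : α, g • a = a) : g = 1 := by
  rcases (inferInstance : (MulAction.toPermHom G α).ker.Normal).eq_bot_or_eq_top with hk | hk
  · have hg : g ∈ (MulAction.toPermHom G α).ker := MonoidHom.mem_ker.2 (Equiv.ext h)
    rwa [hk, Subgroup.mem_bot] at hg
  · exfalso
    obtain ⟨a, b, hab⟩ := exists_pair_ne α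
    obtain ⟨c, hc⟩ := MulAction.exists_smul_eq G a b
    have h1 := MonoidHom.mem_ker.1 (hk ▸ Subgroup.mem_top c : c ∈ (MulAction.toPermHom G α).ker)
    exact hab ((congrArg (fun e : Equiv.Perm α => e a) h1).symm.trans hc)

/-- A commuting element of small prime order fixes the points moved by an element of order 19. -/
theorem fix_or_fix [Finite α] {x y : G} {r : ℕ} (hr : r.Prime) (hr19 : r ≠ 19)
    (hx : orderOf x = 19) (hy : y ^ r = 1) (hc : Commute x y) (hcard : Nat.card α < 19 * r)
    (a : α) : x • a = a ∨ y • a = a := by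
  classical
  haveI := Fintype.ofFinite α
  set w := x * y
  set k := Function.minimalPeriod (fun b : α => w • b) a with hk
  have hw : w ^ (19 * r) = 1 := by
    rw [hc.mul_pow, pow_mul, ← hx, pow_orderOf_eq_one, one_pow, one_mul, hx, mul_comm, pow_mul, hy,
      one_pow]
  have hd : k ∣ 19 * r := MulAction.pow_smul_eq_iff_minimalPeriod_dvd.1 (by rw [hw, one_smul])
  have hle : k ≤ Nat.card α := by
    have h := Finset.card_le_card_of_injOn (s := Finset.range k) (t := (Finset.univ : Finset α))
      (fun i => (fun b : α => w • b)^[i] a) (fun _ _ => Finset.mem_univ _)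
      (by rw [Finset.coe_range]; exact Function.iterate_injOn_Iio_minimalPeriod)
    rwa [Finset.card_range, Finset.card_univ, ← Nat.card_eq_fintype_card] at h
  have h19 : (19 : ℕ).Prime := by norm_num
  obtain ⟨u, v, hu, hv, huv⟩ := Nat.dvd_mul.1 hd
  rcases (Nat.dvd_prime h19).1 hu with rfl | rfl
  · left
    have hf : w ^ r • a = a := MulAction.pow_smul_eq_iff_minimalPeriod_dvd.2 (by
      show k ∣ r
      rw [← huv, one_mul]
      exact hv)
    rw [hc.mul_pow, hy, mul_one] at hf
    obtain ⟨m, hm⟩ := exists_pow_eq_self_of_coprime (x := x) (n := r)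
      (hx ▸ (Nat.coprime_primes hr h19).2 hr19)
    have hmem : (x ^ r) ^ m ∈ MulAction.stabilizer G a := pow_mem (MulAction.mem_stabilizer_iff.2 hf) m
    rwa [hm, MulAction.mem_stabilizer_iff] at hmem
  · rcases (Nat.dvd_prime hr).1 hv with rfl | rfl
    · right
      have hf : w ^ 19 • a = a := MulAction.pow_smul_eq_iff_minimalPeriod_dvd.2 (by
        show k ∣ 19
        rw [← huv, mul_one])
      rw [hc.mul_pow, show x ^ 19 = 1 by rw [← hx, pow_orderOf_eq_one], one_mul] at hf
      have hco : (orderOf y).Coprime 19 :=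
        Nat.Coprime.coprime_dvd_left (orderOf_dvd_of_pow_eq_one hy) ((Nat.coprime_primes hr h19).2 hr19)
      obtain ⟨m, hm⟩ := exists_pow_eq_self_of_coprime (x := y) (n := 19) hco.symm
      have hmem : (y ^ 19) ^ m ∈ MulAction.stabilizer G a :=
        pow_mem (MulAction.mem_stabilizer_iff.2 hf) m
      rwa [hm, MulAction.mem_stabilizer_iff] at hmem
    · omega

end Actions

theorem dvd_cases {n : ℕ} (h : n ∣ 24192) (h1 : n % 19 = 1) : n = 1 ∨ n = 96 ∨ n = 1008 := by
  obtain ⟨u, v, hu, hv, rfl⟩ := Nat.dvd_mul.1 (show n ∣ 128 * 189 by simpa using h)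
  have hu' : u ∈ Nat.divisors 128 := Nat.mem_divisors.2 ⟨hu, by norm_num⟩
  have hv' : v ∈ Nat.divisors 189 := Nat.mem_divisors.2 ⟨hv, by norm_num⟩
  rw [show Nat.divisors 128 = {1, 2, 4, 8, 16, 32, 64, 128} by decide +kernel] at hu'
  rw [show Nat.divisors 189 = {1, 3, 7, 9, 21, 27, 63, 189} by decide +kernel] at hv'
  simp only [Finset.mem_insert, Finset.mem_singleton] at hu' hv'
  rcases hu' with rfl | rfl | rfl | rfl | rfl | rfl | rfl | rfl <;>
    rcases hv' with rfl | rfl | rfl | rfl | rfl | rfl | rfl | rfl <;> omega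

/-- The signed degrees allowed by the congruence at 19. -/
theorem signed_cases : ∀ d ∈ Finset.range 678, d ∣ 24192 → 2 ≤ d →
    (d % 19 = 1 → d = 96) ∧ (d % 19 = 18 → d = 18 ∨ d = 56 ∨ d = 189) := by
  decide +kernel

theorem three_arith : ∀ a ∈ ([-18, -56, 96, -189] : List ℤ), ∀ b ∈ ([-18, -56, 96, -189] : List ℤ),
    ¬ (1 + a + b).natAbs ∣ 24192 := by
  decide +kernel

section Main

variable [Fact (Nat.Prime 19)] (hcard : Nat.card G = 459648)
include hcard

theorem card_eq : Nat.card G = 19 * 24192 := by rw [hcard]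

theorem not_cyclic : ¬ IsCyclic G :=
  Small.not_isCyclic_of_card (by rw [hcard]; norm_num)

theorem card_sylow (P : Sylow 19 G) : Nat.card (P : Subgroup G) = 19 := by
  rw [Small.card_sylow 1 24192 (by rw [pow_one]; exact card_eq hcard) (by norm_num) P, pow_one]

theorem sylow_cases : Nat.card (Sylow 19 G) = 96 ∨ Nat.card (Sylow 19 G) = 1008 := by
  obtain ⟨P, e, c, n, -, -, hnec, hmod, hn1, -, -, hn⟩ :=
    Small.block_setup (G := G) (p := 19) (by norm_num) (card_eq hcard) (by norm_num) (by norm_num)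
  have := dvd_cases (Dvd.intro (e * c) (by rw [← mul_assoc]; exact hnec)) hmod
  omega

theorem exists_generator (P : Sylow 19 G) :
    ∃ x : G, orderOf x = 19 ∧ x ∈ (P : Subgroup G) ∧ Subgroup.zpowers x = (P : Subgroup G) := by
  obtain ⟨⟨x, hxP⟩, hx⟩ := exists_prime_orderOf_dvd_card' (G := (P : Subgroup G)) 19
    (card_sylow hcard P).symm.dvd
  rw [Subgroup.orderOf_mk] at hx
  exact ⟨x, hx, hxP, Small.zpowers_eq_of_prime_card (card_sylow hcard P) hxP
    (fun h => by rw [h, orderOf_one] at hx; omega)⟩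

/-- The number of Sylow 19-subgroups is 1008. -/
theorem card_sylow_eq : Nat.card (Sylow 19 G) = 1008 := by
  rcases sylow_cases hcard with h96 | h
  swap
  · exact h
  exfalso
  obtain ⟨P, e, c, n, -, hC, hnec, -, -, he2, hed, hn⟩ :=
    Small.block_setup (G := G) (p := 19) (by norm_num) (card_eq hcard) (by norm_num) (by norm_num)
  rw [hn, h96] at hnec
  have h7 : 7 ∣ c := by
    have h := Dvd.intro_left 36 (show 36 * 7 = e * c by nlinarith)
    refine ((Nat.Prime.dvd_mul (by norm_num)).1 h).resolve_left fun h7e => ?_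
    have := h7e.trans hed
    norm_num at this
  haveI : Fact (Nat.Prime 7) := ⟨by norm_num⟩
  obtain ⟨⟨y, hyC⟩, hy⟩ := exists_prime_orderOf_dvd_card'
    (G := Subgroup.centralizer ((P : Subgroup G) : Set G)) 7 (hC ▸ dvd_mul_of_dvd_right h7 19)
  rw [Subgroup.orderOf_mk] at hy
  obtain ⟨x, hx, hxP, hzx⟩ := exists_generator hcard P
  have hc : Commute x y := Subgroup.mem_centralizer_iff.1 hyC x hxP
  haveI : Nontrivial (Sylow 19 G) := Finite.one_lt_card_iff_nontrivial.1 (by omega)
  have hy1 : y = 1 := eq_one_of_fix (α := Sylow 19 G) fun Q => by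
    rcases fix_or_fix (α := Sylow 19 G) (by norm_num : (7 : ℕ).Prime) (by norm_num) hx
      (hy ▸ pow_orderOf_eq_one y) hc (by omega) Q with h | h
    swap
    · exact h
    have hle : (P : Subgroup G) ≤ (Q : Subgroup G) := by
      have hPN : (P : Subgroup G) ≤ Subgroup.normalizer ((Q : Subgroup G) : Set G) := by
        rw [← hzx, Subgroup.zpowers_le]
        exact Sylow.smul_eq_iff_mem_normalizer.1 h
      have := P.2.inf_normalizer_sylow Q
      exact fun g hg => ((this ▸ ⟨hg, hPN hg⟩ : g ∈ (P : Subgroup G) ⊓ (Q : Subgroup G))).2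
    have hQP : Q = P := Sylow.ext
      (Subgroup.eq_of_le_of_card_ge hle (by rw [card_sylow hcard, card_sylow hcard])).symm
    rw [hQP]
    exact Sylow.smul_eq_iff_mem_normalizer.2 (Subgroup.centralizer_le_normalizer _ hyC)
  rw [hy1, orderOf_one] at hy
  omega

theorem card_normalizer (Q : Sylow 19 G) :
    Nat.card (Subgroup.normalizer ((Q : Subgroup G) : Set G)) = 456 := by
  have h := Small.card_normalizer_mul Q
  rw [card_sylow_eq hcard, hcard] at h
  omega

theorem center_bot : Subgroup.center G = ⊥ :=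
  (inferInstance : (Subgroup.center G).Normal).eq_bot_or_eq_top.resolve_right fun h =>
    not_cyclic hcard (by
      let _ : CommGroup G := { (inferInstance : Group G) with
        mul_comm := fun a b => (Subgroup.mem_center_iff.mp (h ▸ Subgroup.mem_top b) a) }
      exact IsSimpleGroup.isCyclic)

theorem norm_ne_deg {χ : IrrCharacter G} (hχ : χ ≠ Small.one' G) {z : G} (hz : z ≠ 1) :
    ‖(χ : G → ℂ) z‖ ≠ (charDegree (χ : G → ℂ) : ℝ) := by
  intro hn
  obtain ⟨n, ρ, hρ, hc⟩ := χ.2
  haveI := hρ
  have hfr : (Module.finrank ℂ (Fin n → ℂ)) = charDegree (χ : G → ℂ) := by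
    have h := Block.apply_one_eq_charDegree χ
    rw [← hc, Representation.char_one] at h
    rw [← hc]
    exact_mod_cast h
  obtain ⟨a, ha⟩ := (Char.norm_character_eq_iff ρ z).1 (by rw [hc, hn, hfr])
  have hker : ∀ g, g * z * g⁻¹ * z⁻¹ = 1 := fun g => by
    refine Small.eq_one_of_apply_eq hχ ?_
    have hcomm : ρ g * ρ z = ρ z * ρ g := by
      rw [ha]
      exact LinearMap.ext fun w => by simp
    rw [← hc]
    show LinearMap.trace ℂ _ (ρ (g * z * g⁻¹ * z⁻¹)) = LinearMap.trace ℂ _ (ρ 1)
    have e : ρ (g * z * g⁻¹ * z⁻¹) = ρ 1 := by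
      rw [map_mul ρ (g * z * g⁻¹), map_mul ρ (g * z), map_mul ρ g, hcomm, mul_assoc (ρ z), ← map_mul ρ g,
        mul_inv_cancel, map_one, mul_one, ← map_mul, mul_inv_cancel, map_one]
    rw [e]
  refine hz ?_
  have : z ∈ Subgroup.center G := Subgroup.mem_center_iff.2 fun g => by
    have h := hker g
    rwa [mul_inv_eq_one, mul_inv_eq_iff_eq_mul] at h
  rwa [center_bot hcard, Subgroup.mem_bot] at this

/-- No subgroup of order 128 is normalised by an element of order 19. -/
theorem not_normalised (S : Subgroup G) (hS : Nat.card S = 128) {y : G} (hy : orderOf y = 19)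
    (hyS : y ∈ Subgroup.normalizer (S : Set G)) : False := by
  obtain ⟨Q, hQ⟩ := Small.exists_sylow_eq_zpowers (card_sylow hcard) hy
  have hle : Subgroup.zpowers y ≤ Subgroup.normalizer (S : Set G) := Subgroup.zpowers_le.2 hyS
  letI : MulAction (Subgroup.zpowers y) S :=
    MulAction.compHom S (S.normalizerMonoidHom.comp (Subgroup.inclusion hle))
  have hmod := IsPGroup.card_modEq_card_fixedPoints (p := 19) (G := Subgroup.zpowers y)
    (IsPGroup.of_card (n := 1) (by rw [Nat.card_zpowers, hy, pow_one])) (α := S)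
  set D := S ⊓ Subgroup.centralizer ({y} : Set G)
  have hmem : ∀ s : S, s ∈ MulAction.fixedPoints (Subgroup.zpowers y) S ↔ (s : G) ∈ D := by
    intro s
    have hsmul : ∀ q : Subgroup.zpowers y, ((q • s : S) : G) = (q : G) * s * (q : G)⁻¹ := fun _ => rfl
    constructor
    · intro h
      have h1 := congrArg Subtype.val (h ⟨y, Subgroup.mem_zpowers y⟩)
      rw [hsmul] at h1
      exact ⟨s.2, Subgroup.mem_centralizer_singleton_iff.2 (mul_inv_eq_iff_eq_mul.1 h1).symm⟩
    · rintro ⟨-, h⟩ ⟨q, hq⟩
      refine Subtype.ext ?_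
      obtain ⟨i, rfl⟩ := Subgroup.mem_zpowers_iff.1 hq
      rw [hsmul]
      have hc : Commute y (s : G) := (Subgroup.mem_centralizer_singleton_iff.1 h).symm
      show y ^ i * (s : G) * (y ^ i)⁻¹ = s
      rw [(hc.zpow_left i).eq, mul_inv_cancel_right]
  have hfix : Nat.card (MulAction.fixedPoints (Subgroup.zpowers y) S) = Nat.card D :=
    Nat.card_congr
      { toFun := fun s => ⟨(s.1 : G), (hmem s.1).1 s.2⟩
        invFun := fun d => ⟨⟨(d : G), d.2.1⟩, (hmem ⟨(d : G), d.2.1⟩).2 d.2⟩
        left_inv := fun _ => rfl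
        right_inv := fun _ => rfl }
  rw [hfix, hS] at hmod
  have hN : Subgroup.centralizer ({y} : Set G) ≤ Subgroup.normalizer ((Q : Subgroup G) : Set G) := by
    rw [← Small.centralizer_zpowers, ← hQ]
    exact Subgroup.centralizer_le_normalizer _
  have hd1 : Nat.card D ∣ 128 := hS ▸ Subgroup.card_dvd_of_le inf_le_left
  have hd2 : Nat.card D ∣ 456 :=
    card_normalizer hcard Q ▸ Subgroup.card_dvd_of_le (inf_le_right.trans hN)
  have hd : Nat.card D ∈ Nat.divisors 8 :=
    Nat.mem_divisors.2 ⟨(Nat.dvd_gcd hd1 hd2).trans (by norm_num), by norm_num⟩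
  rw [show Nat.divisors 8 = {1, 2, 4, 8} by decide +kernel] at hd
  simp only [Finset.mem_insert, Finset.mem_singleton] at hd
  rcases hd with e | e | e | e <;> rw [e] at hmod <;> norm_num [Nat.ModEq] at hmod

/-- No subgroup of index 21 contains the centraliser of a Sylow 19-subgroup. -/
theorem no_index_twenty_one (P : Sylow 19 G)
    (hC : Nat.card (Subgroup.centralizer ((P : Subgroup G) : Set G)) = 76) (H : Subgroup G)
    (hH : H.index = 21) : False := by
  classical
  obtain ⟨x, hx, hxP, hzx⟩ := exists_generator hcard P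
  set C := Subgroup.centralizer ((P : Subgroup G) : Set G) with hCdef
  have hcX : Nat.card (G ⧸ H) = 21 := hH
  haveI : Nontrivial (G ⧸ H) := Finite.one_lt_card_iff_nontrivial.1 (by omega)
  let F := {a : G ⧸ H // x • a = a}
  have hmemF : ∀ a : G ⧸ H, a ∈ MulAction.fixedPoints (P : Subgroup G) (G ⧸ H) ↔ x • a = a := by
    intro a
    constructor
    · intro h; exact h ⟨x, hxP⟩
    · intro h q
      obtain ⟨i, hi⟩ := Subgroup.mem_zpowers_iff.1 (show (q : G) ∈ Subgroup.zpowers x by rw [hzx]; exact q.2)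
      show (q : G) • a = a
      rw [← hi]
      exact MulAction.mem_stabilizer_iff.1 (zpow_mem (MulAction.mem_stabilizer_iff.2 h) i)
  have hF : Nat.card F = 2 := by
    have hmod := P.2.card_modEq_card_fixedPoints (α := G ⧸ H)
    rw [hcX, show Nat.card (MulAction.fixedPoints (P : Subgroup G) (G ⧸ H)) = Nat.card F from
      Nat.card_congr (Equiv.subtypeEquivRight hmemF)] at hmod
    have hle : Nat.card F ≤ 21 := hcX ▸ Finite.card_subtype_le _
    have hlt : Nat.card F ≠ 21 := fun h => by
      have hx1 : x = 1 := eq_one_of_fix (α := G ⧸ H) fun a => by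
        by_contra hne
        have := Finite.card_subtype_lt (p := fun a : G ⧸ H => x • a = a) hne
        rw [hcX] at this
        exact this.ne h
      rw [hx1, orderOf_one] at hx
      omega
    rw [Nat.ModEq] at hmod
    omega
  obtain ⟨⟨a, ha⟩, ⟨b, hb⟩, hab, huniv⟩ := Nat.card_eq_two_iff.1 hF
  have hFab : ∀ q, x • q = q → q = a ∨ q = b := fun q hq => by
    have := huniv ▸ Set.mem_univ (⟨q, hq⟩ : F)
    simp only [Set.mem_insert_iff, Set.mem_singleton_iff, Subtype.mk.injEq, F] at this
    exact this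
  have hcomm : ∀ k ∈ C, Commute x k := fun k hk => Subgroup.mem_centralizer_iff.1 hk x hxP
  have hinv : ∀ k ∈ C, ∀ q : G ⧸ H, x • q = q → x • (k • q) = k • q := fun k hk q hq => by
    rw [smul_smul, (hcomm k hk).eq, mul_smul, hq]
  have horb : Nat.card (MulAction.orbit C a) ≤ 2 := by
    rw [← hF]
    refine Nat.card_le_card_of_injective
      (fun q => (⟨q.1, ?_⟩ : F)) fun q q' h => Subtype.ext (congrArg Subtype.val h :)
    obtain ⟨⟨k, hk⟩, hkq⟩ := q.2
    exact hkq ▸ hinv k hk a ha
  have hst := Subgroup.card_mul_index (MulAction.stabilizer C a)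
  rw [MulAction.index_stabilizer, hC, ← Nat.card_coe_set_eq] at hst
  have h2 : 2 ∣ Nat.card (MulAction.stabilizer C a) := by
    haveI : Nonempty (MulAction.orbit C a) := (MulAction.nonempty_orbit a).to_subtype
    have hpos : 0 < Nat.card (MulAction.orbit C a) := Nat.card_pos
    interval_cases h : Nat.card (MulAction.orbit C a) <;> omega
  haveI : Fact (Nat.Prime 2) := ⟨Nat.prime_two⟩
  obtain ⟨⟨⟨k, hkC⟩, hks⟩, hk⟩ := exists_prime_orderOf_dvd_card' (G := MulAction.stabilizer C a) 2 h2
  rw [Subgroup.orderOf_mk, Subgroup.orderOf_mk] at hk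
  have hka : k • a = a := MulAction.mem_stabilizer_iff.1 hks
  have hkb : k • b = b := by
    rcases hFab _ (hinv k hkC b hb) with h | h
    · exact absurd (Subtype.ext (smul_left_cancel k (hka.trans h.symm))) hab
    · exact h
  have hk1 : k = 1 := eq_one_of_fix (α := G ⧸ H) fun q => by
    rcases fix_or_fix (α := G ⧸ H) Nat.prime_two (by norm_num) hx
      (hk ▸ pow_orderOf_eq_one k) (hcomm k hkC) (by omega) q with h | h
    · rcases hFab q h with rfl | rfl
      exacts [hka, hkb]
    · exact h
  rw [hk1, orderOf_one] at hk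
  omega

/-- A proper subgroup containing the centraliser of a Sylow 19-subgroup is small. -/
theorem card_lt_of_contains (P : Sylow 19 G)
    (hC : Nat.card (Subgroup.centralizer ((P : Subgroup G) : Set G)) = 76) (H : Subgroup G)
    (hCH : Subgroup.centralizer ((P : Subgroup G) : Set G) ≤ H) (hH : H ≠ ⊤) :
    Nat.card H < 649 := by
  classical
  set C := Subgroup.centralizer ((P : Subgroup G) : Set G) with hCdef
  set N := Subgroup.normalizer ((P : Subgroup G) : Set G) with hNdef
  by_contra hbig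
  push Not at hbig
  have hPH : (P : Subgroup G) ≤ H := (Block.le_centralizer_self (card_sylow hcard P)).trans hCH
  let P' : Sylow 19 H := P.subtype hPH
  have hP' : Nat.card (P' : Subgroup H) = 19 := by
    rw [Sylow.coe_subtype, Nat.card_congr (Subgroup.subgroupOfEquivOfLe hPH).toEquiv, card_sylow hcard]
  have hN' : Subgroup.normalizer ((P' : Subgroup H) : Set H) = N.subgroupOf H := by
    rw [Sylow.coe_subtype, ← Subgroup.subgroupOf_normalizer_eq hPH]
  set k := Nat.card (Subgroup.normalizer ((P' : Subgroup H) : Set H)) with hkdef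
  have hk' : k = Nat.card (N ⊓ H : Subgroup G) := by
    rw [hkdef, hN', ← Subgroup.inf_subgroupOf_right,
      Nat.card_congr (Subgroup.subgroupOfEquivOfLe inf_le_right).toEquiv]
  have hCN : C ≤ N ⊓ H := le_inf (Subgroup.centralizer_le_normalizer _) hCH
  have hk76 : 76 ∣ k := hC ▸ hk' ▸ Subgroup.card_dvd_of_le hCN
  have hk456 : k ∣ 456 := card_normalizer hcard P ▸ hk' ▸ Subgroup.card_dvd_of_le inf_le_left
  obtain ⟨j, hj⟩ := hk76
  have hj6 : j ∣ 6 := Nat.dvd_of_mul_dvd_mul_left (by norm_num : 0 < 76) (hj ▸ hk456)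
  have hn := Small.card_normalizer_mul P'
  rw [← hkdef] at hn
  have hnd : Nat.card (Sylow 19 H) ∣ 459648 :=
    (Dvd.intro k hn).trans (hcard ▸ Subgroup.card_subgroup_dvd_card H)
  have hnmod : Nat.card (Sylow 19 H) % 19 = 1 := card_sylow_modEq_one 19 H
  have hnd' : Nat.card (Sylow 19 H) ∣ 24192 := by
    refine (Nat.Coprime.dvd_of_dvd_mul_left ?_ (hnd.trans (by norm_num : 459648 ∣ 19 * 24192)))
    exact ((Nat.Prime.coprime_iff_not_dvd (by norm_num)).2 fun h => by omega).symm
  have hj' : j ∈ Nat.divisors 6 := Nat.mem_divisors.2 ⟨hj6, by norm_num⟩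
  rw [show Nat.divisors 6 = {1, 2, 3, 6} by decide +kernel] at hj'
  simp only [Finset.mem_insert, Finset.mem_singleton] at hj'
  rcases dvd_cases hnd' hnmod with e | e | e <;> rw [e, hj] at hn
  · omega
  · -- 96 Sylow subgroups
    have hdvd := hn.symm ▸ Subgroup.card_subgroup_dvd_card H
    rw [hcard] at hdvd
    rcases hj' with rfl | rfl | rfl | rfl
    · -- Burnside transfer
      have hNC : N ⊓ H = C := (Subgroup.eq_of_le_of_card_ge hCN (by rw [← hk', hj, hC])).symm
      have hle : Subgroup.normalizer ((P' : Subgroup H) : Set H) ≤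
          Subgroup.centralizer ((P' : Subgroup H) : Set H) := by
        intro g hg
        rw [hN', Subgroup.mem_subgroupOf] at hg
        have hgC : (g : G) ∈ C := hNC ▸ ⟨hg, g.2⟩
        rw [Subgroup.mem_centralizer_iff]
        intro q hq
        rw [SetLike.mem_coe, Sylow.coe_subtype, Subgroup.mem_subgroupOf] at hq
        exact Subtype.ext (Subgroup.mem_centralizer_iff.1 hgC _ hq)
      have hcompl := MonoidHom.ker_transferSylow_isComplement' P' hle
      set L := (MonoidHom.transferSylow P' hle).ker with hLdef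
      have hL : Nat.card L = 384 := by
        have := hcompl.card_mul_card
        rw [hP', ← hn] at this
        omega
      haveI : L.Normal := MonoidHom.normal_ker _
      haveI : Fact (Nat.Prime 2) := ⟨Nat.prime_two⟩
      obtain ⟨T⟩ : Nonempty (Sylow 2 L) := inferInstance
      set S := (T : Subgroup L).map L.subtype with hSdef
      have hS : Nat.card S = 128 := by
        rw [hSdef, Subgroup.card_map_of_injective L.subtype_injective,
          Small.card_sylow 7 3 (by rw [hL]; norm_num) (by norm_num) T]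
        norm_num
      have htop := Sylow.normalizer_sup_eq_top T
      have h19 : 19 ∣ Nat.card (Subgroup.normalizer (S : Set H)) := by
        have h1 := (Subgroup.relIndex_sup_right
          (H := Subgroup.normalizer (S : Set H)) (K := L)).symm
        rw [htop, Subgroup.relIndex_top_right] at h1
        have h2 : L.index = 19 := by
          have := Subgroup.card_mul_index L
          rw [hL, ← hn] at this
          omega
        rw [h2] at h1
        have h3 := Subgroup.index_mul_card (L.subgroupOf (Subgroup.normalizer (S : Set H)))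
        rw [← h3]
        exact Dvd.intro _ (by rw [← h1]; rfl)
      obtain ⟨⟨⟨y, hyH⟩, hyN⟩, hy⟩ := exists_prime_orderOf_dvd_card'
        (G := Subgroup.normalizer (S : Set H)) 19 h19
      rw [Subgroup.orderOf_mk, Subgroup.orderOf_mk] at hy
      refine not_normalised hcard (S.map H.subtype) ?_ hy ?_
      · rw [Subgroup.card_map_of_injective H.subtype_injective, hS]
      · exact Subgroup.le_normalizer_map H.subtype ⟨_, hyN, rfl⟩
    · norm_num at hdvd
    · refine no_index_twenty_one hcard P hC H ?_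
      have := Subgroup.card_mul_index H
      rw [hcard, ← hn] at this
      omega
    · norm_num at hdvd
  · have h1 := Subgroup.card_mul_index H
    rw [hcard] at h1
    have h6 : H.index ≤ 6 := by
      by_contra h7
      have := Nat.mul_le_mul (show 76608 ≤ Nat.card H by rcases hj' with rfl | rfl | rfl | rfl <;> omega)
        (show 7 ≤ H.index by omega)
      omega
    have := Small.index_dvd_factorial_le hH h6
    rw [hcard] at this
    norm_num [Nat.factorial] at this

/-- The signed degree of a nontrivial nonexceptional character. -/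
theorem signed_deg {P : Sylow 19 G} {e : ℕ} (S : Small.Shape P e) {χ : IrrCharacter G} (hχ : χ ∈ S.X)
    (hne : χ ≠ Small.one' G) :
    (S.σ χ = 1 ∧ charDegree (χ : G → ℂ) = 96) ∨
      (S.σ χ = -1 ∧ (charDegree (χ : G → ℂ) = 18 ∨ charDegree (χ : G → ℂ) = 56 ∨
        charDegree (χ : G → ℂ) = 189)) := by
  classical
  have hd := S.deg_dvd (card_eq hcard) (S.mem_Z.2 (Or.inr hχ))
  have h2 := Small.two_le_charDegree (not_cyclic hcard) hne
  have hsq : charDegree (χ : G → ℂ) ^ 2 ≤ 459648 := by
    have := Finset.single_le_sum (f := fun ψ : IrrCharacter G => charDegree (ψ : G → ℂ) ^ 2)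
      (fun _ _ => Nat.zero_le _) hχ
    have := S.sum_sq
    rw [hcard] at this
    omega
  have hlt : charDegree (χ : G → ℂ) < 678 := by
    by_contra h
    have := Nat.pow_le_pow_left (show 678 ≤ charDegree (χ : G → ℂ) by omega) 2
    omega
  have hcases := signed_cases _ (Finset.mem_range.2 hlt) hd h2
  have hc := Int.modEq_iff_dvd.1 (S.cong χ hχ)
  rcases S.sign χ (S.mem_Z.2 (Or.inr hχ)) with h | h <;> rw [h] at hc
  · exact Or.inl ⟨h, hcases.1 (by push_cast at hc; omega)⟩
  · exact Or.inr ⟨h, hcases.2 (by push_cast at hc; omega)⟩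

theorem signed_mem {P : Sylow 19 G} {e : ℕ} (S : Small.Shape P e) {χ : IrrCharacter G} (hχ : χ ∈ S.X)
    (hne : χ ≠ Small.one' G) :
    S.σ χ * (charDegree (χ : G → ℂ) : ℤ) ∈ ([-18, -56, 96, -189] : List ℤ) := by
  rcases signed_deg hcard S hχ hne with ⟨h, e⟩ | ⟨h, e | e | e⟩ <;> simp [h, e]

/-- Facts about the exceptional character. -/
theorem exceptional {P : Sylow 19 G} {e : ℕ} (S : Small.Shape P e) (he : e + 1 < 19) :
    (1 + ∑ χ ∈ S.X.erase (Small.one' G), S.σ χ * (charDegree (χ : G → ℂ) : ℤ)).natAbs =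
        charDegree (S.θ : G → ℂ) ∧
      charDegree (S.θ : G → ℂ) ∣ 24192 ∧
      (19 - 1) / e * charDegree (S.θ : G → ℂ) ^ 2 ≤ 459648 := by
  classical
  refine ⟨?_, S.deg_dvd (card_eq hcard) (S.mem_Z.2 (Or.inl rfl)), ?_⟩
  · have h := S.rel_deg
    rw [S.Z_eq, Finset.sum_insert S.θ_notMem, ← Finset.add_sum_erase _ _ (S.one_mem_X he), S.sign_one,
      Small.charDegree_one'] at h
    push_cast at h
    rcases S.sign S.θ (S.mem_Z.2 (Or.inl rfl)) with hs | hs <;> rw [hs] at h <;> omega
  · have := S.sum_sq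
    rw [hcard] at this
    omega

/-- An involution commuting with the Sylow subgroup takes large values. -/
theorem value_bound {P : Sylow 19 G} {e : ℕ} (S : Small.Shape P e) {z : G}
    (hzC : z ∈ Subgroup.centralizer ((P : Subgroup G) : Set G)) (hz : orderOf z = 2)
    {χ : IrrCharacter G} (hχ : χ ∈ S.X) (hne : χ ≠ Small.one' G) :
    charDegree (χ : G → ℂ) ≠ 18 ∧
      (charDegree (χ : G → ℂ) ≠ 189 → (18 : ℝ) ≤ ‖(χ : G → ℂ) z‖) := by
  classical
  haveI : Fact (Nat.Prime 2) := ⟨Nat.prime_two⟩
  obtain ⟨b, hb⟩ := MEleven.exists_int_value χ (g := z) fun k hk => by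
    have hodd : ¬ 2 ∣ k := fun h => by
      have := Nat.dvd_gcd h (show 2 ∣ Nat.card G by rw [hcard]; norm_num)
      rw [hk.gcd_eq_one] at this
      omega
    have : z ^ k = z := by
      rw [← Nat.div_add_mod k 2, pow_add, pow_mul, ← hz, pow_orderOf_eq_one, one_pow, one_mul, hz,
        show k % 2 = 1 by omega, pow_one]
    rw [this]
  have hpar : (2 : ℤ) ∣ b - (charDegree (χ : G → ℂ) : ℤ) :=
    MEleven.int_modEq_deg (p := 2) χ (k := 1) (by rw [hz, pow_one]) hb
  have hlt : b.natAbs < charDegree (χ : G → ℂ) := by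
    have hle : ‖(χ : G → ℂ) z‖ ≤ (charDegree (χ : G → ℂ) : ℝ) := by
      simpa [Block.apply_one_eq_charDegree] using χ.2.isCharacter.norm_le z
    have hlt := hle.lt_of_ne (norm_ne_deg hcard hne fun h => by rw [h, orderOf_one] at hz; omega)
    rw [hb, Complex.norm_intCast, ← Int.cast_abs, Int.abs_eq_natAbs, Int.cast_natCast] at hlt
    exact_mod_cast hlt
  haveI : Fintype (P : Subgroup G) := Fintype.ofFinite _
  have hint := Char.isIntegral_avg_of_commute χ.2.isCharacter (g := z) (P : Subgroup G)
    (fun u hu => (Subgroup.mem_centralizer_iff.1 hzC u hu).symm)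
  have hsum : ∑ u : (P : Subgroup G), (χ : G → ℂ) (z * (u : G)) = ((b + 18 * S.σ χ : ℤ) : ℂ) := by
    rw [← Finset.add_sum_erase _ _ (Finset.mem_univ (1 : (P : Subgroup G))), OneMemClass.coe_one,
      mul_one, hb, Finset.sum_congr rfl (g := fun _ => (S.σ χ : ℂ)) fun u hu => by
        rw [← Subgroup.mem_centralizer_iff.1 hzC u u.2]
        exact S.val χ hχ u u.2 (fun h => (Finset.mem_erase.1 hu).1 (Subtype.ext h)) z hzC
          (by rw [hz]; norm_num),
      Finset.sum_const, Finset.card_erase_of_mem (Finset.mem_univ _), Finset.card_univ,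
      ← Nat.card_eq_fintype_card, S.card_P, nsmul_eq_mul]
    push_cast
    ring
  rw [hsum, S.card_P] at hint
  obtain ⟨w, hw⟩ := Char.exists_int_of_isIntegral_rat (q := ((b + 18 * S.σ χ : ℤ) : ℚ) / ((19 : ℕ) : ℚ))
    (by rw [Rat.cast_div, Rat.cast_intCast, Rat.cast_natCast]; exact hint)
  rw [div_eq_iff (by norm_num)] at hw
  have hw' : b + 18 * S.σ χ = w * 19 := by exact_mod_cast hw
  have hnorm : 18 ≤ b.natAbs → (18 : ℝ) ≤ ‖(χ : G → ℂ) z‖ := fun h => by
    rw [hb, Complex.norm_intCast, ← Int.cast_abs, Int.abs_eq_natAbs, Int.cast_natCast]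
    exact_mod_cast h
  rcases signed_deg hcard S hχ hne with ⟨h, e'⟩ | ⟨h, e' | e' | e'⟩ <;>
    rw [h] at hw' <;> rw [e'] at hpar hlt ⊢ <;> refine ⟨by omega, fun h' => ?_⟩ <;>
    first
      | exact absurd rfl h'
      | exact hnorm (by omega)

/-- The automiser of order six is impossible. -/
theorem no_six {P : Sylow 19 G} (S : Small.Shape P 6)
    (hC : Nat.card (Subgroup.centralizer ((P : Subgroup G) : Set G)) = 76) : False := by
  classical
  set C := Subgroup.centralizer ((P : Subgroup G) : Set G) with hCdef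
  haveI : Fact (Nat.Prime 2) := ⟨Nat.prime_two⟩
  obtain ⟨T⟩ : Nonempty (Sylow 2 C) := inferInstance
  have hT : Nat.card (T : Subgroup C) = 4 := by
    rw [Small.card_sylow 2 19 (by rw [hC]; norm_num) (by norm_num) T]
    norm_num
  obtain ⟨⟨⟨z, hzC⟩, hzT⟩, hz⟩ := exists_prime_orderOf_dvd_card' (G := (T : Subgroup C)) 2
    (by rw [hT]; norm_num)
  rw [Subgroup.orderOf_mk, Subgroup.orderOf_mk] at hz
  have hab := IsPGroup.commutative_of_card_eq_prime_sq (p := 2) (G := (T : Subgroup C))
    (by rw [hT]; norm_num)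
  have hz1 : z ≠ 1 := fun h => by rw [h, orderOf_one] at hz; omega
  have hCH : C ≤ Subgroup.centralizer ({z} : Set G) := by
    set D := C ⊓ Subgroup.centralizer ({z} : Set G) with hD
    have h19 : 19 ∣ Nat.card D := by
      rw [← card_sylow hcard P]
      refine Subgroup.card_dvd_of_le (le_inf (Block.le_centralizer_self (card_sylow hcard P)) fun u hu => ?_)
      exact Subgroup.mem_centralizer_singleton_iff.2 (Subgroup.mem_centralizer_iff.1 hzC u hu)
    have h4 : 4 ∣ Nat.card D := by
      rw [← hT, ← Subgroup.card_map_of_injective C.subtype_injective]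
      refine Subgroup.card_dvd_of_le (le_inf (Subgroup.map_subtype_le _) ?_)
      rintro _ ⟨u, hu, rfl⟩
      exact Subgroup.mem_centralizer_singleton_iff.2
        (congrArg (fun w : (T : Subgroup C) => ((w : C) : G)) (hab ⟨u, hu⟩ ⟨⟨z, hzC⟩, hzT⟩))
    have hDC : D = C := Subgroup.eq_of_le_of_card_ge inf_le_left (by
      rw [hC]
      exact Nat.le_of_dvd Nat.card_pos (Nat.Coprime.mul_dvd_of_dvd_of_dvd (by norm_num) h4 h19))
    exact hDC ▸ inf_le_right
  have hne_top : Subgroup.centralizer ({z} : Set G) ≠ ⊤ := fun h => by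
    have : z ∈ Subgroup.center G := Subgroup.mem_center_iff.2 fun g =>
      Subgroup.mem_centralizer_singleton_iff.1 (h ▸ Subgroup.mem_top g)
    rw [center_bot hcard, Subgroup.mem_bot] at this
    exact hz1 this
  have hlt := card_lt_of_contains hcard P hC _ hCH hne_top
  have hcard5 : (S.X.erase (Small.one' G)).card = 5 := by
    rw [Finset.card_erase_of_mem (S.one_mem_X (by norm_num)), S.card_X]
  set X' := S.X.erase (Small.one' G) with hX'
  have hX : ∀ χ ∈ X', χ ∈ S.X ∧ χ ≠ Small.one' G := fun χ h =>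
    ⟨(Finset.mem_erase.1 h).2, (Finset.mem_erase.1 h).1⟩
  set A := X'.filter fun χ : IrrCharacter G => charDegree (χ : G → ℂ) ≠ 189 with hA
  -- at most one character of degree different from 189
  have hA1 : A.card ≤ 1 := by
    by_contra h
    push Not at h
    obtain ⟨χ, hχ, ψ, hψ, hne⟩ := Finset.one_lt_card.1 h
    rw [hA, Finset.mem_filter] at hχ hψ
    obtain ⟨hχX, hχ1⟩ := hX χ hχ.1
    obtain ⟨hψX, hψ1⟩ := hX ψ hψ.1
    have h1 := (value_bound hcard S hzC hz hχX hχ1).2 hχ.2
    have h2 := (value_bound hcard S hzC hz hψX hψ1).2 hψ.2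
    have hsub : ({Small.one' G, χ, ψ} : Finset (IrrCharacter G)) ⊆ S.Z := by
      simp only [Finset.insert_subset_iff, Finset.singleton_subset_iff]
      exact ⟨S.one_mem, S.mem_Z.2 (Or.inr hχX), S.mem_Z.2 (Or.inr hψX)⟩
    have hsum := (Finset.sum_le_sum_of_subset_of_nonneg hsub
      (f := fun η : IrrCharacter G => ‖(η : G → ℂ) z‖ ^ 2) fun _ _ _ => sq_nonneg _).trans (S.orth_le z)
    rw [Finset.sum_insert (by simp [hχ1.symm, hψ1.symm]), Finset.sum_pair hne, Small.one'_apply,
      norm_one] at hsum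
    have : (649 : ℝ) ≤ Nat.card (Subgroup.centralizer ({z} : Set G)) := by nlinarith
    have : 649 ≤ Nat.card (Subgroup.centralizer ({z} : Set G)) := by exact_mod_cast this
    omega
  obtain ⟨hf, -, hfb⟩ := exceptional hcard S (by norm_num)
  rw [← hX'] at hf
  have hle : ∑ χ ∈ X', S.σ χ * (charDegree (χ : G → ℂ) : ℤ) ≤ -660 := by
    rw [← Finset.sum_filter_add_sum_filter_not X' (fun χ : IrrCharacter G => charDegree (χ : G → ℂ) ≠ 189), ← hA]
    have h1 : ∑ χ ∈ A, S.σ χ * (charDegree (χ : G → ℂ) : ℤ) ≤ (A.card : ℤ) * 96 := by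
      refine (Finset.sum_le_card_nsmul A _ 96 fun χ hχ => ?_).trans (by rw [nsmul_eq_mul])
      obtain ⟨hχX, hχ1⟩ := hX χ (Finset.mem_filter.1 hχ).1
      rcases signed_deg hcard S hχX hχ1 with ⟨h, e⟩ | ⟨h, e | e | e⟩ <;> rw [h, e] <;> norm_num
    have h2 : ∑ χ ∈ X'.filter (fun χ : IrrCharacter G => ¬ charDegree (χ : G → ℂ) ≠ 189),
        S.σ χ * (charDegree (χ : G → ℂ) : ℤ) ≤
          ((X'.filter fun χ : IrrCharacter G => ¬ charDegree (χ : G → ℂ) ≠ 189).card : ℤ) * (-189) := by
      refine (Finset.sum_le_card_nsmul _ _ (-189) fun χ hχ => ?_).trans (by rw [nsmul_eq_mul])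
      obtain ⟨hχ', h189⟩ := Finset.mem_filter.1 hχ
      rw [not_not] at h189
      obtain ⟨hχX, hχ1⟩ := hX χ hχ'
      rcases signed_deg hcard S hχX hχ1 with ⟨h, e⟩ | ⟨h, e | e | e⟩ <;>
        first | (rw [h, h189]; norm_num; done) | omega
    have h3 := Finset.card_filter_add_card_filter_not (s := X') (fun χ : IrrCharacter G => charDegree (χ : G → ℂ) ≠ 189)
    rw [← hA, hcard5] at h3
    omega
  have hfbig : 659 ≤ charDegree (S.θ : G → ℂ) := by omega
  have := Nat.pow_le_pow_left hfbig 2
  norm_num at hfb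
  omega

/-- The contradiction. -/
theorem absurd_card : False := by
  classical
  obtain ⟨P, e, c, n, ⟨S⟩, hC, hnec, -, -, he2, hed, hn⟩ :=
    Small.block_setup (G := G) (p := 19) (by norm_num) (card_eq hcard) (by norm_num) (by norm_num)
  rw [hn, card_sylow_eq hcard, mul_assoc] at hnec
  have hec : e * c = 24 := by omega
  have he6 : e ∣ 6 := (Nat.dvd_gcd hed (Dvd.intro c hec)).trans (by norm_num)
  have hele := Nat.le_of_dvd (by norm_num) he6
  interval_cases e
  · obtain ⟨χ, hχX, hne, -, -, -, -, -, -, hfd, hcases, -⟩ :=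
      S.two_cases (not_cyclic hcard) (card_eq hcard) rfl (by norm_num)
    rcases hcases with ⟨hσ, -, -, hf⟩ | ⟨hσ, -, -, hf⟩ <;>
      rcases signed_deg hcard S hχX hne with ⟨h, e⟩ | ⟨h, e | e | e⟩ <;>
      first
        | omega
        | (rw [show charDegree (S.θ : G → ℂ) = 97 by omega] at hfd; norm_num at hfd)
        | (rw [show charDegree (S.θ : G → ℂ) = 17 by omega] at hfd; norm_num at hfd)
        | (rw [show charDegree (S.θ : G → ℂ) = 55 by omega] at hfd; norm_num at hfd)
        | (rw [show charDegree (S.θ : G → ℂ) = 188 by omega] at hfd; norm_num at hfd)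
  · obtain ⟨hf, hfd, -⟩ := exceptional hcard S (by norm_num)
    have hc2 : (S.X.erase (Small.one' G)).card = 2 := by
      rw [Finset.card_erase_of_mem (S.one_mem_X (by norm_num)), S.card_X]
    obtain ⟨χ, ψ, hne, hX⟩ := Finset.card_eq_two.1 hc2
    rw [hX, Finset.sum_pair hne, ← add_assoc] at hf
    obtain ⟨hχ1, hχX⟩ := Finset.mem_erase.1 (hX ▸ Finset.mem_insert_self χ {ψ} : χ ∈ S.X.erase _)
    obtain ⟨hψ1, hψX⟩ := Finset.mem_erase.1
      (hX ▸ Finset.mem_insert_of_mem (Finset.mem_singleton_self ψ) : ψ ∈ S.X.erase _)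
    exact three_arith _ (signed_mem hcard S hχX hχ1) _ (signed_mem hcard S hψX hψ1) (hf ▸ hfd)
  all_goals first
    | exact no_six hcard S (by rw [hC, show c = 4 by omega])
    | (exfalso; omega)

end Main

end Cfsg.Lib.Order459

namespace Cfsg.Lib.Order459

/-- No simple group has order 459648. -/
theorem card_ne {G : Type*} [Group G] [Finite G] [IsSimpleGroup G] : Nat.card G ≠ 459648 := by
  intro h
  haveI := Fintype.ofFinite G
  haveI : Fact (Nat.Prime 19) := ⟨by norm_num⟩
  exact absurd_card h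

end Cfsg.Lib.Order459
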