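import Cfsg.Agent.Lib.Small.OrderFilter
import Cfsg.Agent.S0978

/-!
# No non-abelian simple group of order 720

The principal block at `5` and the class multiplication formula at an involution inverting a
Sylow `5`-subgroup.
-/

set_option autoImplicit false
set_option linter.style.haveILetI false

namespace Cfsg.Lib.Small.Order720

open Cfsg Cfsg.Lib Cfsg.Lib.Small Cfsg.Lib.Small.OrderFilter

universe u

variable {G : Type u} [Group G] [Finite G] [IsSimpleGroup G]

theorem decide_opt : ∀ e ∈ List.range 5, ∀ k ∈ List.range 29,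
    optK 720 5 (fun _ => true) e k = true → e = 4 ∧ cof 720 5 e k = 1 := by decide +kernel

theorem decide_slist : slist 720 5 2 (fun _ => true) 1 = [-4, 6, -9, 16, -24] := by decide +kernel

theorem not_simple_of_card (hG : ¬ IsMulCommutative G) : Nat.card G ≠ 720 := by
  classical
  intro h
  haveI := Fintype.ofFinite G
  haveI : Fact (Nat.Prime 5) := ⟨by norm_num⟩
  have hnc := not_isCyclic hG
  have hperf := commutator_eq_top hnc
  obtain ⟨P, e, k, ⟨S⟩, hep, hk, hC, -, hopt⟩ := option_sound (p := 5) hG (by norm_num) h (by norm_num)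
    (by norm_num) (by norm_num) (by norm_num) (fun _ => true) fun _ => rfl
  obtain ⟨rfl, hcof⟩ := decide_opt e (List.mem_range.2 hep) k (List.mem_range.2 (by norm_num at hk ⊢; omega)) hopt
  rw [hcof, mul_one] at hC
  have hm : Nat.card G = 5 * 144 := by rw [h]
  have hsum : ∑ χ ∈ S.Z, charDegree (χ : G → ℂ) ^ 2 ≤ 720 := by
    have h2 := S.sum_sq
    rw [h] at h2
    rw [S.Z_eq, Finset.sum_insert S.θ_notMem]
    norm_num at h2
    omega
  set Z' := S.Z.erase (one' G) with hZ'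
  have hZsum : ∀ {A : Type} [AddCommMonoid A] (F : IrrCharacter G → A),
      ∑ χ ∈ S.Z, F χ = F (one' G) + ∑ χ ∈ Z', F χ := fun F => (Finset.add_sum_erase _ _ S.one_mem).symm
  rw [hZsum, charDegree_one'] at hsum
  set v : IrrCharacter G → ℤ := fun χ => S.σ χ * (charDegree (χ : G → ℂ) : ℤ) with hvdef
  have hd2 : ∀ χ ∈ Z', (charDegree (χ : G → ℂ) : ℤ) ^ 2 = v χ * v χ := fun χ hχ => by
    rcases S.sign χ (Finset.mem_of_mem_erase hχ) with hs | hs <;> simp only [hvdef, hs] <;> ring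
  have hmaps : ∀ χ ∈ Z', v χ ∈ ({-4, 6, -9, 16, -24} : Finset ℤ) := fun χ hχ => by
    have hχZ := Finset.mem_of_mem_erase hχ
    have h2 := two_le_charDegree hnc (Finset.ne_of_mem_erase hχ)
    have hsq := Finset.single_le_sum (s := Z') (f := fun χ : IrrCharacter G => charDegree (χ : G → ℂ) ^ 2)
      (fun _ _ => Nat.zero_le _) hχ
    have := mem_slist (n := 720) (p := 5) (L := 2) (A := fun _ => true) (r := 1) (S.sign χ hχZ) h2 h2
      (by have := S.deg_dvd hm hχZ; simpa using this) (by rw [← pow_two]; omega) (by nlinarith) rfl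
      (emod_eq_zero (S.cong_all rfl hχZ))
    rw [decide_slist] at this
    simpa using this
  have hsplit : ∀ {A : Type} [AddCommMonoid A] (F : IrrCharacter G → A), ∑ χ ∈ Z', F χ =
      (∑ χ ∈ Z' with v χ = -4, F χ) + ((∑ χ ∈ Z' with v χ = 6, F χ) + ((∑ χ ∈ Z' with v χ = -9, F χ) +
        ((∑ χ ∈ Z' with v χ = 16, F χ) + (∑ χ ∈ Z' with v χ = -24, F χ)))) := by
    intro A _ F
    rw [← Finset.sum_fiberwise_of_maps_to hmaps]
    simp
  have hconst : ∀ (w : ℤ) {A : Type} [AddCommMonoid A] (F : ℤ → A),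
      ∑ χ ∈ Z' with v χ = w, F (v χ) = (Z'.filter fun χ => v χ = w).card • F w := fun w A _ F => by
    rw [Finset.sum_congr rfl fun χ hχ => by rw [(Finset.mem_filter.1 hχ).2], Finset.sum_const]
  have e4 : ∑ χ ∈ Z', (1 : ℤ) = 4 := by
    rw [Finset.sum_const, hZ', Finset.card_erase_of_mem S.one_mem, S.card_Z]; rfl
  have e1 : ∑ χ ∈ Z', v χ = -1 := by
    have := S.rel_deg
    rw [hZsum, S.sign_one, charDegree_one'] at this
    push_cast at this
    show (∑ χ ∈ Z', S.σ χ * (charDegree (χ : G → ℂ) : ℤ)) = -1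
    omega
  have e2 : ∑ χ ∈ Z', v χ * v χ ≤ 719 := by
    rw [← Finset.sum_congr rfl hd2]
    have : ((1 ^ 2 + ∑ χ ∈ Z', charDegree (χ : G → ℂ) ^ 2 : ℕ) : ℤ) ≤ 720 := by exact_mod_cast hsum
    push_cast at this
    linarith
  rw [hsplit, hconst (-4) (fun _ => (1 : ℤ)), hconst 6 (fun _ => (1 : ℤ)), hconst (-9) (fun _ => (1 : ℤ)),
    hconst 16 (fun _ => (1 : ℤ)), hconst (-24) (fun _ => (1 : ℤ))] at e4
  rw [hsplit, hconst (-4) (fun z => z), hconst 6 (fun z => z), hconst (-9) (fun z => z),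
    hconst 16 (fun z => z), hconst (-24) (fun z => z)] at e1
  rw [hsplit, hconst (-4) (fun z => z * z), hconst 6 (fun z => z * z), hconst (-9) (fun z => z * z),
    hconst 16 (fun z => z * z), hconst (-24) (fun z => z * z)] at e2
  simp only [nsmul_eq_mul, mul_one] at e4 e1 e2
  obtain ⟨t, x, hx, hx1, ht, hinv, hcount, -, -, -⟩ :=
    exists_inverting (p := 5) (by norm_num) P S.card_P hC S.relIndex_eq (by norm_num)
  have htp : ¬ 5 ∣ orderOf t := by rw [ht]; norm_num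
  have ht2 : t ^ 2 = 1 := by rw [← ht, pow_orderOf_eq_one]
  have hdata : ∀ χ ∈ Z', ∃ b : ℤ, (χ : G → ℂ) t = (b : ℂ) ∧ (v χ = -4 → b = 0) ∧ (v χ = -9 → b = 1) ∧
      (v χ = 6 → b = -2 ∨ b = 2) ∧ (v χ = 16 → b = -4 ∨ b = 0 ∨ b = 4) := by
    intro χ hχ
    have hχZ := Finset.mem_of_mem_erase hχ
    obtain ⟨L, b, hb, hL, hbL, -⟩ := S.linBound' (by norm_num) (t := t) ht2 hinv (χ := χ)
      (fun y hy hy1 => S.val_all rfl hχZ hy hy1)
    have h4 := Cfsg.Agent.S0978.four_dvd hperf χ ht2 hb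
    refine ⟨b, hb, ?_⟩
    rcases S.sign χ hχZ with hs | hs <;> simp only [hvdef, hs] at hL ⊢ <;> push_cast at hL <;> omega
  choose! b hb hb4 hb9 hb6 hb16 using hdata
  set B : ℤ → ℤ := fun w => ∑ χ ∈ Z' with v χ = w, b χ with hB
  set Q : ℤ → ℤ := fun w => ∑ χ ∈ Z' with v χ = w, b χ * b χ with hQ
  set kk := Nat.card (Subgroup.centralizer ({t} : Set G)) with hkdef
  have hrelB : 1 + (-B (-4)) + B 6 + (-B (-9)) + B 16 + (-B (-24)) = 0 := by
    have hrel := S.rel t htp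
    have hterm : ∀ χ ∈ Z', (S.σ χ : ℂ) * (χ : G → ℂ) t = (((v χ).sign * b χ : ℤ) : ℂ) := by
      intro χ hχ
      have hdpos : (0 : ℤ) < (charDegree (χ : G → ℂ) : ℤ) := by exact_mod_cast Block.charDegree_pos χ
      rw [hb χ hχ, Int.cast_mul]
      congr 2
      rcases S.sign χ (Finset.mem_of_mem_erase hχ) with hs | hs <;>
        simp [hvdef, hs, Int.sign_eq_one_of_pos hdpos]
    rw [hZsum, S.sign_one, one'_apply, Finset.sum_congr rfl hterm, ← Int.cast_sum, Int.cast_one, one_mul] at hrel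
    have hi : (1 : ℤ) + ∑ χ ∈ Z', (v χ).sign * b χ = 0 := by exact_mod_cast hrel
    rw [hsplit] at hi
    have hf : ∀ w s : ℤ, w.sign = s → (∑ χ ∈ Z' with v χ = w, (v χ).sign * b χ) = s * B w := fun w s hs => by
      rw [hB, Finset.mul_sum]
      exact Finset.sum_congr rfl fun χ hχ => by rw [(Finset.mem_filter.1 hχ).2, hs]
    rw [hf (-4) (-1) rfl, hf 6 1 rfl, hf (-9) (-1) rfl, hf 16 1 rfl, hf (-24) (-1) rfl] at hi
    linarith
  have key : 5 * ((kk : ℤ) * kk) =
      720 + (-180) * Q (-4) + 120 * Q 6 + (-80) * Q (-9) + 45 * Q 16 + (-30) * Q (-24) := by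
    have hform := S.formula_int hC htp htp hx hx1
    rw [hcount, ← hkdef, hZsum, S.sign_one, one'_apply, one'_apply, h, mul_add, Finset.mul_sum] at hform
    have hterm : ∀ χ ∈ Z', ((720 : ℕ) : ℂ) * ((S.σ χ : ℂ) * ((χ : G → ℂ) t * (χ : G → ℂ) t / (χ : G → ℂ) 1)) =
        (720 : ℂ) / (v χ : ℂ) * ((b χ * b χ : ℤ) : ℂ) := by
      intro χ hχ
      have hd0 : (charDegree (χ : G → ℂ) : ℂ) ≠ 0 := Nat.cast_ne_zero.2 (Block.charDegree_pos χ).ne'
      rw [hb χ hχ, Block.apply_one_eq_charDegree]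
      rcases S.sign χ (Finset.mem_of_mem_erase hχ) with hs | hs <;> simp only [hvdef, hs] <;> push_cast <;>
        field_simp
    rw [Finset.sum_congr rfl hterm, hsplit] at hform
    have hf : ∀ w : ℤ, (∑ χ ∈ Z' with v χ = w, (720 : ℂ) / (v χ : ℂ) * ((b χ * b χ : ℤ) : ℂ)) =
        (720 : ℂ) / (w : ℂ) * ((Q w : ℤ) : ℂ) := fun w => by
      rw [hQ, Int.cast_sum, Finset.mul_sum]
      exact Finset.sum_congr rfl fun χ hχ => by rw [(Finset.mem_filter.1 hχ).2]
    rw [hf (-4), hf 6, hf (-9), hf 16, hf (-24)] at hform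
    norm_num at hform
    have : ((5 * ((kk : ℤ) * kk) : ℤ) : ℂ) =
        ((720 + (-180) * Q (-4) + 120 * Q 6 + (-80) * Q (-9) + 45 * Q 16 + (-30) * Q (-24) : ℤ) : ℂ) := by
      push_cast; linear_combination hform
    exact_mod_cast this
  set f : ℤ → Finset (IrrCharacter G) := fun w => Z'.filter fun χ => v χ = w with hf
  have h0 : ∀ w, (f w).card = 0 → B w = 0 ∧ Q w = 0 := fun w hw => by
    simp only [hf, Finset.card_eq_zero] at hw
    simp [hB, hQ, hw]
  have h1 : ∀ w, (f w).card = 1 → ∀ (Pr : ℤ → Prop), (∀ χ ∈ Z', v χ = w → Pr (b χ)) →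
      ∃ y, Pr y ∧ B w = y ∧ Q w = y * y := fun w hw Pr hP => by
    obtain ⟨a, ha⟩ := Finset.card_eq_one.1 hw
    have hm' : a ∈ f w := by rw [ha]; exact Finset.mem_singleton_self a
    simp only [hf] at ha hm'
    exact ⟨b a, hP a (Finset.mem_filter.1 hm').1 (Finset.mem_filter.1 hm').2, by simp [hB, ha], by simp [hQ, ha]⟩
  have z4 : B (-4) = 0 ∧ Q (-4) = 0 := by
    constructor <;> refine Finset.sum_eq_zero fun χ hχ => ?_ <;>
      simp [hb4 χ (Finset.mem_filter.1 hχ).1 (Finset.mem_filter.1 hχ).2]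
  obtain ⟨c24, c9, hcase⟩ : (f (-24)).card = 0 ∧ (f (-9)).card = 1 ∧
      ((f 6).card = 0 ∧ (f 16).card = 1 ∨ (f 6).card = 2 ∧ (f 16).card = 0) := by
    simp only [hf]
    omega
  obtain ⟨y9, rfl, hB9, hQ9⟩ := h1 (-9) c9 (fun y => y = 1) hb9
  rw [z4.1, (h0 _ c24).1, hB9] at hrelB
  rw [z4.2, (h0 _ c24).2, hQ9] at key
  rcases hcase with ⟨c6, c16⟩ | ⟨c6, c16⟩
  · obtain ⟨y, hy, hB16, hQ16⟩ := h1 16 c16 (fun y => y = -4 ∨ y = 0 ∨ y = 4) hb16
    rw [(h0 _ c6).1, hB16] at hrelB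
    rw [(h0 _ c6).2, hQ16] at key
    obtain rfl : y = 0 := by omega
    norm_num at key
    have : kk < 12 := by nlinarith
    interval_cases kk <;> norm_num at key
  · rw [(h0 _ c16).1] at hrelB
    rw [(h0 _ c16).2] at key
    have hQ6 : Q 6 = 8 := by
      simp only [hf] at c6
      rw [hQ]
      show ∑ χ ∈ Z' with v χ = 6, b χ * b χ = 8
      rw [Finset.sum_congr rfl (g := fun _ => (4 : ℤ)) fun χ hχ => by
        rcases hb6 χ (Finset.mem_filter.1 hχ).1 (Finset.mem_filter.1 hχ).2 with e | e <;> rw [e] <;> norm_num,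
        Finset.sum_const, c6]
      norm_num
    rw [hQ6] at key
    norm_num at key
    have : kk < 19 := by nlinarith
    interval_cases kk <;> norm_num at key

end Cfsg.Lib.Small.Order720
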