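import Cfsg.Agent.Lib.Small.BlockOrders
import Cfsg.Agent.S0991
import Cfsg.Agent.S0985
import Cfsg.Agent.S0144
import Cfsg.Agent.Lib.OrderLeHundred
import Mathlib.GroupTheory.SpecificGroups.Alternating

/-!
# Decidable filters for the orders of non-abelian simple groups

`check n w` certifies, with the witness `w`, that no non-abelian simple group has order `n`
(at most `6241`), except for the orders listed in `special`.
-/

set_option autoImplicit false
set_option linter.unusedSectionVars false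
set_option linter.style.haveILetI false

namespace Cfsg.Lib.Small.OrderFilter

open Cfsg Cfsg.Lib Cfsg.Lib.Small

universe u

/-- A subgroup of index `d` needs `n ∣ d! / 2`. -/
def F (d n : ℕ) : Bool := decide (20 ≤ d) || (d.factorial / 2) % n == 0

/-- No admissible number of Sylow `p`-subgroups. -/
def noSyl (n p a : ℕ) : Bool :=
  (List.range (n / p ^ a / p + 1)).all fun k =>
    k == 0 || (n / p ^ a) % (k * p + 1) != 0 || !F (k * p + 1) n

/-- `k` members out of `V` with prescribed sum and bounded sum of squares. -/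
def poss : List ℤ → ℕ → ℤ → ℤ → Bool
  | [], k, s, q => k == 0 && s == 0 && decide (0 ≤ q)
  | v :: V, k, s, q => (List.range (k + 1)).any fun j =>
      decide ((j : ℤ) * (v * v) ≤ q) && poss V (k - j) (s - j * v) (q - j * (v * v))

/-- Candidate degrees. -/
def degs (n p L : ℕ) (A : ℕ → Bool) : List ℕ :=
  (List.range 79).filter fun d =>
    decide (2 ≤ d) && decide (L ≤ d) && (n / p) % d == 0 && decide (d * d < n) && A d

/-- Signed candidate degrees congruent to `r`. -/
def slist (n p L : ℕ) (A : ℕ → Bool) (r : ℤ) : List ℤ :=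
  ((degs n p L A).flatMap fun (d : ℕ) => [(d : ℤ), -(d : ℤ)]).filter fun v => (v - r) % (p : ℤ) == 0

/-- The principal block relation is solvable. -/
def blockPoss (n p e L : ℕ) (A : ℕ → Bool) : Bool :=
  if e + 1 == p then poss (slist n p L A 1) e (-1) ((n : ℤ) - 1)
  else (slist n p L A (-(e : ℤ))).any fun f =>
    poss (slist n p L A 1) (e - 1) (-1 - f) ((n : ℤ) - 1 - ((p - 1) / e : ℕ) * (f * f))

/-- The cofactor of the centralizer. -/
def cof (n p e k : ℕ) : ℕ := n / p / ((k * p + 1) * e)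

/-- An admissible option. -/
def optK (n p : ℕ) (A : ℕ → Bool) (e k : ℕ) : Bool :=
  decide (2 ≤ e) && (p - 1) % e == 0 && k != 0 && (n / p) % ((k * p + 1) * e) == 0 &&
    F (k * p + 1) n && blockPoss n p e (if cof n p e k == 1 then 2 else 2 * p) A

/-- No admissible option. -/
def blockOut (n p : ℕ) (A : ℕ → Bool) : Bool :=
  (List.range p).all fun e => !(decide (2 ≤ e) && (p - 1) % e == 0 && (n / p) % e == 0) ||
    (List.range (n / p / p + 1)).all fun k => !optK n p A e k

/-- Every option has a self-centralizing Sylow subgroup. -/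
def qSelf (n q : ℕ) : Bool :=
  (List.range q).all fun e => (List.range (n / q / q + 1)).all fun k =>
    !optK n q (fun _ => true) e k || cof n q e k == 1

/-- The degrees allowed by a self-centralizing prime. -/
def allowed (n q d : ℕ) : Bool :=
  d % q == 0 || ((d : ℤ) - 1) % (q : ℤ) == 0 || ((d : ℤ) + 1) % (q : ℤ) == 0 ||
    (List.range q).any fun e => ((List.range (n / q / q + 1)).any fun k => optK n q (fun _ => true) e k) &&
      (((d : ℤ) - e) % (q : ℤ) == 0 || ((d : ℤ) + e) % (q : ℤ) == 0)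

/-- `s` has a divisor congruent to `1` modulo `p` other than `1`. -/
def hasDiv (p s : ℕ) : Bool :=
  (List.range (s / p + 1)).any fun j => j != 0 && s % (j * p + 1) == 0

/-- Intersections of Sylow subgroups exclude the order. -/
def interOut (n p a : ℕ) : Bool :=
  decide (2 ≤ a) &&
    ((List.range (n / p ^ a / p + 1)).all fun k =>
      k == 0 || (n / p ^ a) % (k * p + 1) != 0 || !F (k * p + 1) n || (k * p + 1) % (p * p) != 1) &&
    ((List.range (n / p ^ a + 1)).all fun s =>
      s == 0 || (n / p ^ a) % s != 0 || !hasDiv p s || n / p ^ a / s == 1 || !F (n / p ^ a / s) n)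

/-- Primality by trial division. -/
def isP (p : ℕ) : Bool :=
  decide (2 ≤ p) && decide (p < 6400) &&
    (List.range 80).all fun k => decide (k < 2) || decide (p ≤ k) || p % k != 0

/-- The orders not settled by the filters. -/
def special : List ℕ := [4032, 4080, 4320, 5040, 5400, 5616, 5760, 6048, 6072]

/-- The witness check. -/
def check (n w : ℕ) : Bool :=
  let kind := w / 100000000
  let p := w / 10000 % 10000
  let q := w % 10000
  if kind == 0 then n % 4 == 2
  else if kind == 1 then isP p && isP q && p != q && (p ^ 13 * q ^ 13) % n == 0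
  else if kind == 2 then
    isP p && q != 0 && n % p ^ q == 0 && (n / p ^ q) % p != 0 && n / p ^ q != 1 && noSyl n p q
  else if kind == 3 then
    isP p && p != 2 && n % p == 0 && (n / p) % p != 0 && n / p != 1 && blockOut n p fun _ => true
  else if kind == 4 then
    isP p && n % p ^ q == 0 && (n / p ^ q) % p != 0 && n / p ^ q != 1 && interOut n p q
  else if kind == 5 then
    isP p && p != 2 && n % p == 0 && (n / p) % p != 0 && n / p != 1 &&
      isP q && q != 2 && n % q == 0 && (n / q) % q != 0 && n / q != 1 && qSelf n q &&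
        blockOut n p (allowed n q)
  else special.contains n

theorem isP_sound {p : ℕ} (h : isP p = true) : p.Prime := by
  simp only [isP, Bool.and_eq_true, decide_eq_true_eq, List.all_eq_true, List.mem_range,
    Bool.or_eq_true, bne_iff_ne] at h
  obtain ⟨⟨h2, hlt⟩, hall⟩ := h
  refine Nat.prime_def_le_sqrt.2 ⟨h2, fun m hm hms hd => ?_⟩
  have hm80 : m < 80 := by
    have := Nat.sqrt_le p
    have : Nat.sqrt p < 80 := by
      by_contra hh
      push Not at hh
      nlinarith
    omega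
  rcases hall m hm80 with (h' | h') | h'
  · omega
  · have hsp : Nat.sqrt p < p := Nat.sqrt_lt_self (by omega)
    omega
  · exact h' (Nat.mod_eq_zero_of_dvd hd)

theorem poss_sound {α : Type*} [DecidableEq α] (v : α → ℤ) :
    ∀ (V : List ℤ) (s : Finset α) (S q : ℤ), (∀ x ∈ s, v x ∈ V) → ∑ x ∈ s, v x = S →
      ∑ x ∈ s, v x * v x ≤ q → poss V s.card S q = true
  | [], s, S, q, hmem, hS, hq => by
    have hs : s = ∅ := Finset.eq_empty_of_forall_notMem fun x hx => by simpa using hmem x hx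
    subst hs
    simp only [Finset.sum_empty] at hS hq
    simp [poss, ← hS, hq]
  | w :: V, s, S, q, hmem, hS, hq => by
    set s₁ := s.filter fun x => v x = w with hs₁
    set s₂ := s.filter fun x => ¬ v x = w with hs₂
    have hcard := Finset.card_filter_add_card_filter_not (s := s) (fun x => v x = w)
    have h1 : ∑ x ∈ s₁, v x = (s₁.card : ℤ) * w := by
      rw [Finset.sum_congr rfl fun x hx => (Finset.mem_filter.1 hx).2, Finset.sum_const, nsmul_eq_mul]
    have h2 : ∑ x ∈ s₁, v x * v x = (s₁.card : ℤ) * (w * w) := by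
      rw [Finset.sum_congr rfl fun x hx => by rw [(Finset.mem_filter.1 hx).2], Finset.sum_const, nsmul_eq_mul]
    have h3 := Finset.sum_filter_add_sum_filter_not s (fun x => v x = w) v
    have h4 := Finset.sum_filter_add_sum_filter_not s (fun x => v x = w) (fun x => v x * v x)
    rw [← hs₁, ← hs₂] at h3 h4 hcard
    have h0 : 0 ≤ ∑ x ∈ s₂, v x * v x := Finset.sum_nonneg fun x _ => mul_self_nonneg _
    have hrec := poss_sound v V s₂ (S - (s₁.card : ℤ) * w) (q - (s₁.card : ℤ) * (w * w))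
      (fun x hx => by
        obtain ⟨hx1, hx2⟩ := Finset.mem_filter.1 hx
        exact (List.mem_cons.1 (hmem x hx1)).resolve_left hx2) (by linarith) (by linarith)
    rw [poss, List.any_eq_true]
    refine ⟨s₁.card, List.mem_range.2 (by omega), ?_⟩
    rw [Bool.and_eq_true, decide_eq_true_eq, show s.card - s₁.card = s₂.card by omega]
    exact ⟨by linarith, hrec⟩

variable {G : Type u} [Group G] [Finite G] [IsSimpleGroup G]

theorem F_sound (hG : ¬ IsMulCommutative G) {H : Subgroup G} (hH : H ≠ ⊤) :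
    F H.index (Nat.card G) = true := by
  simp only [F, Bool.or_eq_true, decide_eq_true_eq, beq_iff_eq]
  by_cases h20 : 20 ≤ H.index
  · exact Or.inl h20
  refine Or.inr (Nat.mod_eq_zero_of_dvd ?_)
  obtain ⟨f, hf⟩ := Cfsg.Agent.S0991.result hG H hH
  have h2 : 2 ≤ H.index := by
    exact (Nat.two_le_iff _).2 ⟨H.index_ne_zero_of_finite, fun e => hH (Subgroup.index_eq_one.1 e)⟩
  haveI : Nontrivial (Fin H.index) := Fin.nontrivial_iff_two_le.2 h2
  have := Subgroup.card_dvd_of_injective f hf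
  rwa [nat_card_alternatingGroup, Nat.card_fin] at this

theorem not_isCyclic (hG : ¬ IsMulCommutative G) : ¬ IsCyclic G := fun h =>
  hG ⟨⟨fun a b => (IsCyclic.commutative (α := G)).is_comm.comm a b⟩⟩

theorem exists_index (hG : ¬ IsMulCommutative G) {p a m : ℕ} [Fact p.Prime]
    (hm : Nat.card G = p ^ a * m) (hpm : ¬ p ∣ m) (ha : a ≠ 0) :
    ∃ k, k ≠ 0 ∧ k * p + 1 ∣ m ∧ Nat.card (Sylow p G) = k * p + 1 ∧ F (k * p + 1) (Nat.card G) = true := by
  have hpp : p.Prime := Fact.out
  obtain ⟨hd, hmod⟩ := sylow_facts (G := G) a m hm hpm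
  obtain ⟨P⟩ : Nonempty (Sylow p G) := inferInstance
  have hidx := P.card_eq_index_normalizer
  set d := Nat.card (Sylow p G)
  have hd1 : d ≠ 1 := fun h1 => by
    rw [h1] at hidx
    rcases (Subgroup.normalizer_eq_top_iff.1 (Subgroup.index_eq_one.1 hidx.symm)).eq_bot_or_eq_top with h | h
    · have := card_sylow a m hm hpm P
      rw [h, Subgroup.card_bot] at this
      exact ha (Nat.pow_eq_one.1 this.symm |>.resolve_left hpp.ne_one)
    · refine not_isCyclic hG ?_
      have hpG : IsPGroup p G := (h ▸ P.isPGroup').of_equiv Subgroup.topEquiv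
      haveI : Nontrivial G := inferInstance
      haveI := hpG.center_nontrivial
      have hc : Subgroup.center G = ⊤ := ((inferInstance : (Subgroup.center G).Normal)).eq_bot_or_eq_top.resolve_left
        ((Subgroup.nontrivial_iff_ne_bot _).1 inferInstance)
      letI : CommGroup G := Group.commGroupOfCenterEqTop hc
      exact IsSimpleGroup.isCyclic
  have hdk : d / p * p + 1 = d := by
    have := Nat.div_add_mod d p
    rw [hmod] at this
    rw [mul_comm]; exact this
  refine ⟨d / p, fun h0 => hd1 (by rw [h0] at hdk; omega), hdk.symm ▸ hd, hdk.symm, ?_⟩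
  rw [hdk, hidx]
  exact F_sound hG fun h => hd1 (by rw [hidx, h, Subgroup.index_top])

/-- The condition used for the congruence classes. -/
theorem emod_eq_zero {p : ℕ} {a b : ℤ} (h : a ≡ b [ZMOD p]) : (a - b) % (p : ℤ) = 0 :=
  Int.emod_eq_zero_of_dvd (Int.modEq_iff_dvd.1 h.symm)

theorem mem_slist {n p L : ℕ} {A : ℕ → Bool} {r : ℤ} {d : ℕ} {s : ℤ} (hs : s = 1 ∨ s = -1)
    (h2 : 2 ≤ d) (hL : L ≤ d) (hd : d ∣ n / p) (hsq : d * d < n) (h79 : d < 79) (hA : A d = true)
    (hr : (s * (d : ℤ) - r) % (p : ℤ) = 0) : s * (d : ℤ) ∈ slist n p L A r := by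
  simp only [slist, List.mem_filter, List.mem_flatMap, beq_iff_eq]
  refine ⟨⟨d, ?_, ?_⟩, hr⟩
  · simp only [degs, List.mem_filter, List.mem_range, Bool.and_eq_true, decide_eq_true_eq, beq_iff_eq]
    exact ⟨h79, ⟨⟨⟨h2, hL⟩, Nat.mod_eq_zero_of_dvd hd⟩, hsq⟩, hA⟩
  · rcases hs with rfl | rfl <;> simp

variable [Fintype G] {p : ℕ} [Fact p.Prime]

theorem blockPoss_sound {P : Sylow p G} {e : ℕ} (S : Shape P e) (hnc : ¬ IsCyclic G) {n m L : ℕ}
    (hn : Nat.card G = n) (hm : Nat.card G = p * m) (hn' : n ≤ 6241) (A : ℕ → Bool)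
    (hA : ∀ χ : IrrCharacter G, A (charDegree (χ : G → ℂ)) = true)
    (hL : ∀ χ ∈ S.Z, χ ≠ one' G → L ≤ charDegree (χ : G → ℂ)) : blockPoss n p e L A = true := by
  classical
  have hpp : p.Prime := Fact.out
  have hnm : n / p = m := by rw [← hn, hm, Nat.mul_div_cancel_left _ hpp.pos]
  have hsum := S.sum_sq
  rw [hn] at hsum
  have ht : 1 ≤ (p - 1) / e := Nat.div_pos (Nat.le_sub_one_of_lt S.e_lt) S.e_pos
  have htθ := Nat.le_mul_of_pos_left (charDegree (S.θ : G → ℂ) ^ 2) ht
  have hle : ∑ χ ∈ S.Z, charDegree (χ : G → ℂ) ^ 2 ≤ n := by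
    rw [S.Z_eq, Finset.sum_insert S.θ_notMem]
    omega
  have hmem : ∀ χ ∈ S.Z, χ ≠ one' G → ∀ r : ℤ, S.σ χ * (charDegree (χ : G → ℂ) : ℤ) ≡ r [ZMOD p] →
      S.σ χ * (charDegree (χ : G → ℂ) : ℤ) ∈ slist n p L A r := by
    intro χ hχ hne r hr
    have h2 := two_le_charDegree hnc hne
    have hsub : ({one' G, χ} : Finset (IrrCharacter G)) ⊆ S.Z :=
      Finset.insert_subset S.one_mem (Finset.singleton_subset_iff.2 hχ)
    have hlt := (Finset.sum_le_sum_of_subset (f := fun χ : IrrCharacter G => charDegree (χ : G → ℂ) ^ 2) hsub).trans hle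
    rw [Finset.sum_insert (by simpa using hne.symm), Finset.sum_singleton, charDegree_one', pow_two, pow_two] at hlt
    refine mem_slist (S.sign χ hχ) h2 (hL χ hχ hne) (hnm ▸ S.deg_dvd hm hχ) (by omega) ?_ (hA χ) (emod_eq_zero hr)
    nlinarith
  have hsq : ∀ χ ∈ S.Z, (S.σ χ * (charDegree (χ : G → ℂ) : ℤ)) * (S.σ χ * (charDegree (χ : G → ℂ) : ℤ)) =
      ((charDegree (χ : G → ℂ) ^ 2 : ℕ) : ℤ) := fun χ hχ => by
    rcases S.sign χ hχ with hs | hs <;> rw [hs] <;> push_cast <;> ring
  unfold blockPoss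
  by_cases he : e + 1 = p
  · rw [if_pos (beq_iff_eq.2 he)]
    have hc : (S.Z.erase (one' G)).card = e := by
      rw [Finset.card_erase_of_mem S.one_mem, S.card_Z, Nat.add_sub_cancel]
    have h := poss_sound (fun χ : IrrCharacter G => S.σ χ * (charDegree (χ : G → ℂ) : ℤ))
      (slist n p L A 1) (S.Z.erase (one' G)) (-1) ((n : ℤ) - 1)
      (fun χ hχ => hmem χ (Finset.mem_of_mem_erase hχ) (Finset.ne_of_mem_erase hχ) 1
        (S.cong_all he (Finset.mem_of_mem_erase hχ))) ?_ ?_
    · rwa [hc] at h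
    · have := S.rel_deg
      rw [← Finset.add_sum_erase _ _ S.one_mem, S.sign_one, charDegree_one'] at this
      push_cast at this
      omega
    · rw [Finset.sum_congr rfl fun χ hχ => hsq χ (Finset.mem_of_mem_erase hχ), ← Nat.cast_sum]
      have := hle
      rw [← Finset.add_sum_erase _ _ S.one_mem, charDegree_one'] at this
      omega
  · rw [if_neg (fun h => he (beq_iff_eq.1 h))]
    have he1 : e + 1 < p := by have := S.e_lt; omega
    have h1X : one' G ∈ S.X := S.one_mem_X he1
    have hθ1 := S.θ_ne_one he1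
    rw [List.any_eq_true]
    refine ⟨_, hmem _ (S.mem_Z.2 (Or.inl rfl)) hθ1 _ S.congθ, ?_⟩
    have hc : (S.X.erase (one' G)).card = e - 1 := by
      rw [Finset.card_erase_of_mem h1X, S.card_X]
    rw [← hc]
    refine poss_sound (fun χ : IrrCharacter G => S.σ χ * (charDegree (χ : G → ℂ) : ℤ)) _ _ _ _
      (fun χ hχ => hmem χ (S.mem_Z.2 (Or.inr (Finset.mem_of_mem_erase hχ))) (Finset.ne_of_mem_erase hχ) 1
        (S.cong χ (Finset.mem_of_mem_erase hχ))) ?_ ?_
    · have := S.rel_deg
      rw [S.Z_eq, Finset.sum_insert S.θ_notMem, ← Finset.add_sum_erase _ _ h1X, S.sign_one, charDegree_one'] at this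
      push_cast at this
      omega
    · rw [Finset.sum_congr rfl fun χ hχ => hsq χ (S.mem_Z.2 (Or.inr (Finset.mem_of_mem_erase hχ))),
        hsq _ (S.mem_Z.2 (Or.inl rfl)), ← Nat.cast_sum, ← Nat.cast_mul]
      rw [← Finset.add_sum_erase _ _ h1X, charDegree_one'] at hsum
      omega

theorem option_sound (hG : ¬ IsMulCommutative G) (hodd : p ≠ 2) {n : ℕ} (hn : Nat.card G = n)
    (hn' : n ≤ 6241) (hpn : n % p = 0) (hpm : (n / p) % p ≠ 0) (hm1 : n / p ≠ 1) (A : ℕ → Bool)
    (hA : ∀ χ : IrrCharacter G, A (charDegree (χ : G → ℂ)) = true) :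
    ∃ (P : Sylow p G) (e k : ℕ), Nonempty (Shape P e) ∧ e < p ∧ k < n / p / p + 1 ∧
      Nat.card (Subgroup.centralizer ((P : Subgroup G) : Set G)) = p * cof n p e k ∧
      (n / p) % e = 0 ∧ optK n p A e k = true := by
  have hpp : p.Prime := Fact.out
  have hm : Nat.card G = p * (n / p) := by
    rw [Nat.mul_div_cancel' (Nat.dvd_of_mod_eq_zero hpn), hn]
  set m := n / p with hmdef
  have hpm' : ¬ p ∣ m := fun h => hpm (Nat.mod_eq_zero_of_dvd h)
  have hnc := not_isCyclic hG
  obtain ⟨P, e, c, nS, ⟨S⟩, hC, hnec, -, -, he2, hed, hnS⟩ := block_setup (G := G) (p := p) hodd hm hpm' hm1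
  obtain ⟨k, hk0, hkd, hk, hkF⟩ := exists_index hG (a := 1) (by rw [pow_one]; exact hm) hpm' one_ne_zero
  rw [← hnS] at hk
  subst hk
  have hpos : 0 < (k * p + 1) * e := Nat.mul_pos (Nat.succ_pos _) (by omega)
  have hcof : cof n p e k = c := by
    rw [cof, ← hmdef, ← hnec, Nat.mul_div_cancel_left _ hpos]
  have hkm : k < m / p + 1 := by
    rw [Nat.lt_succ_iff, Nat.le_div_iff_mul_le hpp.pos]
    have := Nat.le_of_dvd (Nat.pos_of_ne_zero fun h0 => hpm (by rw [h0, Nat.zero_mod])) hkd
    omega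
  refine ⟨P, e, k, ⟨S⟩, S.e_lt, hkm, by rw [hC, hcof],
    Nat.mod_eq_zero_of_dvd ⟨(k * p + 1) * c, by rw [← hnec]; ring⟩, ?_⟩
  simp only [optK, Bool.and_eq_true, decide_eq_true_eq, beq_iff_eq, bne_iff_ne]
  refine ⟨⟨⟨⟨⟨he2, Nat.mod_eq_zero_of_dvd hed⟩, hk0⟩, ?_⟩, hn ▸ hkF⟩, ?_⟩
  · rw [← hmdef, ← hnec]; exact Nat.mod_eq_zero_of_dvd (dvd_mul_right _ _)
  refine blockPoss_sound S hnc hn hm hn' A hA fun χ hχ hne => ?_
  by_cases hc1 : c = 1
  · rw [if_pos (by rw [hcof, hc1])]
    exact two_le_charDegree hnc hne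
  · rw [if_neg (by rw [hcof]; exact hc1)]
    by_contra hlt
    have := S.small hnc (block_setup_c hm hpm') hχ hne (by omega)
    rw [hC] at this
    exact hc1 ((Nat.mul_eq_left hpp.ne_zero).1 this)

theorem blockOut_sound (hG : ¬ IsMulCommutative G) (hodd : p ≠ 2) {n : ℕ} (hn : Nat.card G = n)
    (hn' : n ≤ 6241) (hpn : n % p = 0) (hpm : (n / p) % p ≠ 0) (hm1 : n / p ≠ 1) (A : ℕ → Bool)
    (hA : ∀ χ : IrrCharacter G, A (charDegree (χ : G → ℂ)) = true) : blockOut n p A = false := by
  obtain ⟨P, e, k, -, hep, hk, -, hem, hopt⟩ := option_sound hG hodd hn hn' hpn hpm hm1 A hA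
  by_contra hne
  rw [Bool.not_eq_false] at hne
  simp only [blockOut, List.all_eq_true, List.mem_range, Bool.or_eq_true, Bool.not_eq_true',
    Bool.and_eq_false_iff, decide_eq_false_iff_not, beq_eq_false_iff_ne] at hne
  rcases hne e hep with h | h
  · have := hopt
    simp only [optK, Bool.and_eq_true, decide_eq_true_eq, beq_iff_eq] at this
    rcases h with (h | h) | h
    · exact h this.1.1.1.1.1
    · exact h this.1.1.1.1.2
    · exact h hem
  · rw [h k hk] at hopt; exact Bool.noConfusion hopt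

theorem allowed_sound (hG : ¬ IsMulCommutative G) (hodd : p ≠ 2) {n : ℕ} (hn : Nat.card G = n)
    (hn' : n ≤ 6241) (hpn : n % p = 0) (hpm : (n / p) % p ≠ 0) (hm1 : n / p ≠ 1)
    (hself : qSelf n p = true) (χ : IrrCharacter G) : allowed n p (charDegree (χ : G → ℂ)) = true := by
  classical
  have hpp : p.Prime := Fact.out
  obtain ⟨P, e, k, ⟨S⟩, hep, hk, hC, -, hopt⟩ :=
    option_sound hG hodd hn hn' hpn hpm hm1 (fun _ => true) fun _ => rfl
  simp only [qSelf, List.all_eq_true, List.mem_range, Bool.or_eq_true, Bool.not_eq_true', beq_iff_eq] at hself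
  rw [(hself e hep k hk).resolve_left (by rw [hopt]; exact Bool.noConfusion), mul_one] at hC
  simp only [allowed, Bool.or_eq_true, beq_iff_eq]
  have hcases : χ ∈ principalBlock S.M G ∨ p ∣ charDegree (χ : G → ℂ) := by
    by_contra hh
    push Not at hh
    obtain ⟨hχ, hdiv⟩ := hh
    have hCP : Subgroup.centralizer ((P : Subgroup G) : Set G) = (P : Subgroup G) :=
      (Subgroup.eq_of_le_of_card_ge (Block.le_centralizer_self S.card_P) (by rw [hC, S.card_P])).symm
    have hB : IsPBlock S.M (blockOf S.M (χ : G → ℂ)) := Block.isPBlock_blockOf χ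
    have hd0 : blockDefect p (blockOf S.M (χ : G → ℂ)) = 0 := by
      by_contra hd
      have h1 := Block.isDefectGroup_of_pos S.hM P S.card_P hB hd
      have h2 := Block.isDefectGroup_principal_sylow S.hM P
      have hsub : Subsingleton {C : ConjClasses (Subgroup.normalizer ((P : Subgroup G) : Set G)) //
          ∀ n : Subgroup.normalizer ((P : Subgroup G) : Set G), ConjClasses.mk n = C →
            ¬ p ∣ orderOf n ∧ (n : G) ∈ Subgroup.centralizer ((P : Subgroup G) : Set G)} := by
        refine ⟨fun C D => Subtype.ext ?_⟩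
        have key : ∀ C : {C : ConjClasses (Subgroup.normalizer ((P : Subgroup G) : Set G)) //
          ∀ n : Subgroup.normalizer ((P : Subgroup G) : Set G), ConjClasses.mk n = C →
            ¬ p ∣ orderOf n ∧ (n : G) ∈ Subgroup.centralizer ((P : Subgroup G) : Set G)},
            C.1 = ConjClasses.mk 1 := by
          rintro ⟨C, hC'⟩
          obtain ⟨n, rfl⟩ := ConjClasses.mk_surjective C
          obtain ⟨h3, h4⟩ := hC' n rfl
          rw [hCP] at h4
          have h5 : orderOf n ∣ p := by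
            rw [← Subgroup.orderOf_coe]
            exact (Subgroup.orderOf_dvd_natCard _ h4).trans S.card_P.dvd
          rcases (Nat.dvd_prime hpp).1 h5 with h6 | h6
          · exact congrArg ConjClasses.mk (orderOf_eq_one_iff.1 h6)
          · exact absurd h6.symm.dvd h3
        rw [key C, key D]
      have hle : Nat.card {B : Set (IrrCharacter G) // IsPBlock S.M B ∧
          IsDefectGroup p S.M B (P : Subgroup G)} ≤ 1 := by
        rw [Cfsg.Agent.S0953.result p S.M S.hM P]
        exact Finite.card_le_one_iff_subsingleton.2 hsub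
      have := Finite.card_le_one_iff_subsingleton.1 hle
      have h3 := congrArg Subtype.val (@Subsingleton.elim _ this
        ⟨_, hB, h1⟩ ⟨_, Block.isPBlock_principal, h2⟩)
      have h3' : blockOf S.M (χ : G → ℂ) = principalBlock S.M G := h3
      exact hχ (h3' ▸ Block.self_mem_blockOf S.hM χ)
    obtain ⟨ψ, hψ, hf⟩ := (Block.blockDefect_eq_zero_iff S.hM hB).1 hd0
    have hψ' : χ = ψ := by
      have := Block.self_mem_blockOf S.hM χ; rw [hψ] at this; exact this
    subst hψ'
    refine hdiv (Nat.dvd_of_factorization_pos ?_)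
    rw [hf]
    exact (hpp.factorization_pos_of_dvd Nat.card_pos.ne' (hn ▸ Nat.dvd_of_mod_eq_zero hpn)).ne'
  rcases hcases with hχ | hdiv
  swap
  · exact Or.inl (Or.inl (Or.inl (Nat.mod_eq_zero_of_dvd hdiv)))
  rcases (S.mem_block χ).1 hχ with hX | hY
  · have h1 := emod_eq_zero (S.cong χ hX)
    rcases S.sign χ (S.mem_Z.2 (Or.inr hX)) with hs | hs <;> rw [hs] at h1
    · rw [one_mul] at h1; exact Or.inl (Or.inl (Or.inr h1))
    · exact Or.inl (Or.inr (Int.emod_eq_zero_of_dvd (Int.dvd_neg.1 (by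
        rw [show -((charDegree (χ : G → ℂ) : ℤ) + 1) = -1 * (charDegree (χ : G → ℂ) : ℤ) - 1 by ring]
        exact Int.dvd_of_emod_eq_zero h1))))
  · have hd : charDegree (χ : G → ℂ) = charDegree (S.θ : G → ℂ) := by
      have h := S.agree χ hY 1 (by rw [orderOf_one]; exact hpp.not_dvd_one)
      rw [Block.apply_one_eq_charDegree, Block.apply_one_eq_charDegree] at h
      exact_mod_cast h
    refine Or.inr ?_
    rw [List.any_eq_true]
    refine ⟨e, List.mem_range.2 hep, ?_⟩
    simp only [Bool.and_eq_true, Bool.or_eq_true, beq_iff_eq, List.any_eq_true]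
    refine ⟨⟨k, List.mem_range.2 hk, hopt⟩, ?_⟩
    have h1 := emod_eq_zero S.congθ
    rw [hd]
    rcases S.sign S.θ (S.mem_Z.2 (Or.inl rfl)) with hs | hs <;> rw [hs] at h1
    · rw [one_mul, sub_neg_eq_add] at h1; exact Or.inr h1
    · exact Or.inl (Int.emod_eq_zero_of_dvd (Int.dvd_neg.1 (by
        rw [show -((charDegree (S.θ : G → ℂ) : ℤ) - (e : ℤ)) = -1 * (charDegree (S.θ : G → ℂ) : ℤ) - -(e : ℤ) by ring]
        exact Int.dvd_of_emod_eq_zero h1)))

omit [Fintype G] in
theorem noSyl_sound (hG : ¬ IsMulCommutative G) {n a : ℕ} (hn : Nat.card G = n) (ha : a ≠ 0)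
    (hd : n % p ^ a = 0) (hpm : (n / p ^ a) % p ≠ 0) : noSyl n p a = false := by
  have hm : Nat.card G = p ^ a * (n / p ^ a) := by
    rw [Nat.mul_div_cancel' (Nat.dvd_of_mod_eq_zero hd), hn]
  obtain ⟨k, hk0, hkd, -, hF⟩ := exists_index hG hm (fun h => hpm (Nat.mod_eq_zero_of_dvd h)) ha
  by_contra hne
  rw [Bool.not_eq_false] at hne
  simp only [noSyl, List.all_eq_true, List.mem_range, Bool.or_eq_true, Bool.not_eq_true', beq_iff_eq,
    bne_iff_ne] at hne
  have hk : k < n / p ^ a / p + 1 := by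
    rw [Nat.lt_succ_iff, Nat.le_div_iff_mul_le (Fact.out : p.Prime).pos]
    have := Nat.le_of_dvd (Nat.pos_of_ne_zero fun h0 => hpm (by rw [h0, Nat.zero_mod])) hkd
    omega
  rcases hne k hk with (h | h) | h
  · exact hk0 h
  · exact h (Nat.mod_eq_zero_of_dvd hkd)
  · rw [hn] at hF; rw [hF] at h; exact Bool.noConfusion h

omit [Fintype G] in
/-- The normalizer of a large intersection of two Sylow subgroups. -/
theorem inter_data (hG : ¬ IsMulCommutative G) {a m : ℕ} (ha : 2 ≤ a)
    (hm : Nat.card G = p ^ a * m) (hpm : ¬ p ∣ m) (hn1 : Nat.card (Sylow p G) % (p * p) ≠ 1) :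
    ∃ (P Q : Sylow p G) (R : Subgroup G) (s : ℕ), P ≠ Q ∧ R = (P : Subgroup G) ⊓ (Q : Subgroup G) ∧
      Nat.card R = p ^ (a - 1) ∧ R ≤ (P : Subgroup G) ∧ (P : Subgroup G) ≤ Subgroup.normalizer (R : Set G) ∧
      (Q : Subgroup G) ≤ Subgroup.normalizer (R : Set G) ∧
      Nat.card (Subgroup.normalizer (R : Set G)) = p ^ a * s ∧ s ∣ m ∧ hasDiv p s = true ∧
      Subgroup.normalizer (R : Set G) ≠ ⊤ ∧ (Subgroup.normalizer (R : Set G)).index = m / s := by
  have hpp : p.Prime := Fact.out
  have hcS : ∀ T : Sylow p G, Nat.card (T : Subgroup G) = p ^ a := fun T => card_sylow a m hm hpm T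
  obtain ⟨P, Q, hPQ, hidx⟩ := Cfsg.Agent.S0985.result (G := G) p 2 (fun h => hn1 (by
    unfold Nat.ModEq at h
    rw [pow_two, Nat.mod_eq_of_lt (show 1 < p * p by nlinarith [hpp.two_le])] at h
    exact h))
  set R := (P : Subgroup G) ⊓ (Q : Subgroup G) with hR
  rw [show ((Q : Subgroup G).subgroupOf (P : Subgroup G)) = R.subgroupOf (P : Subgroup G) by
    rw [hR, Subgroup.inf_subgroupOf_left], pow_one] at hidx
  have hmul := (R.subgroupOf (P : Subgroup G)).index_mul_card
  rw [Nat.card_congr (Subgroup.subgroupOfEquivOfLe (inf_le_left : R ≤ _)).toEquiv, hcS] at hmul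
  have hRne : R ≠ (P : Subgroup G) := fun e => hPQ (Sylow.ext (Subgroup.eq_of_le_of_card_ge
    (e ▸ inf_le_right) (by rw [hcS, hcS])))
  obtain ⟨j, hja, hj⟩ := (Nat.dvd_prime_pow hpp).1 ⟨_, (by rw [← hmul, mul_comm] : p ^ a = Nat.card R * (R.subgroupOf (P : Subgroup G)).index)⟩
  have hj1 : j = a - 1 := by
    have hlt : j ≠ a := fun e => hRne (Subgroup.eq_of_le_of_card_ge inf_le_left (by rw [hcS, hj, e]))
    by_contra hne
    rw [hj] at hmul
    have h1 : p ^ (j + 2) ≤ p ^ a := Nat.pow_le_pow_right hpp.pos (by omega)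
    have h2 : (R.subgroupOf (P : Subgroup G)).index * p ^ j ≤ p * p ^ j := Nat.mul_le_mul_right _ hidx
    have h3 : p * p ^ j < p ^ (j + 2) := by
      rw [← pow_succ']
      exact Nat.pow_lt_pow_right hpp.one_lt (by omega)
    omega
  have hnorm : ∀ T : Sylow p G, R ≤ (T : Subgroup G) → (T : Subgroup G) ≤ Subgroup.normalizer (R : Set G) := by
    intro T hT
    have hi : (R.subgroupOf (T : Subgroup G)).index = p := by
      have h := (R.subgroupOf (T : Subgroup G)).index_mul_card
      rw [Nat.card_congr (Subgroup.subgroupOfEquivOfLe hT).toEquiv, hcS, hj, hj1,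
        show p ^ a = p * p ^ (a - 1) by rw [← pow_succ']; congr 1; omega] at h
      exact Nat.eq_of_mul_eq_mul_right (pow_pos hpp.pos _) h
    have hnor : (R.subgroupOf (T : Subgroup G)).Normal := Subgroup.normal_of_index_eq_minFac_card (by
      rw [hi, hcS, hpp.pow_minFac (by omega)])
    exact (Subgroup.normal_subgroupOf_iff_le_normalizer hT).1 hnor
  set N := Subgroup.normalizer (R : Set G) with hN
  have hPN : (P : Subgroup G) ≤ N := hnorm P inf_le_left
  have hQN : (Q : Subgroup G) ≤ N := hnorm Q inf_le_right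
  obtain ⟨s, hs⟩ : p ^ a ∣ Nat.card N := hcS P ▸ Subgroup.card_dvd_of_le hPN
  have hsm : s ∣ m := by
    refine (Nat.mul_dvd_mul_iff_left (pow_pos hpp.pos a)).1 ?_
    rw [← hs, ← hm]; exact Subgroup.card_subgroup_dvd_card _
  have htop : N ≠ ⊤ := fun e => by
    haveI : R.Normal := Subgroup.normalizer_eq_top_iff.1 e
    have h1 : 1 < p ^ (a - 1) := Nat.one_lt_pow (by omega) hpp.one_lt
    rcases Subgroup.Normal.eq_bot_or_eq_top (inferInstance : R.Normal) with e' | e'
    · rw [e', Subgroup.card_bot, hj1] at hj; omega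
    · exact hRne (le_antisymm inf_le_left (e' ▸ le_top))
  refine ⟨P, Q, R, s, hPQ, rfl, hj1 ▸ hj, inf_le_left, hPN, hQN, hs, hsm, ?_, htop, ?_⟩
  · obtain ⟨hd, hmod⟩ := sylow_facts (G := N) (p := p) a s hs (fun h => hpm (h.trans hsm))
    set d := Nat.card (Sylow p N) with hddef
    have hd1 : d ≠ 1 := fun h1 => by
      haveI : Subsingleton (Sylow p N) := Finite.card_le_one_iff_subsingleton.1 h1.le
      have := congrArg (fun T : Sylow p N => (T : Subgroup N)) (Subsingleton.elim (P.subtype hPN) (Q.subtype hQN))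
      simp only [Sylow.coe_subtype] at this
      exact hPQ (Sylow.ext ((Subgroup.subgroupOf_inj).1 this |> fun h => by
        rwa [inf_eq_left.2 hPN, inf_eq_left.2 hQN] at h))
    have hdk : d / p * p + 1 = d := by
      have := Nat.div_add_mod d p
      rw [hmod] at this
      rw [mul_comm]; exact this
    simp only [hasDiv, List.any_eq_true, List.mem_range, Bool.and_eq_true, bne_iff_ne, beq_iff_eq]
    refine ⟨d / p, ?_, fun h0 => hd1 (by rw [h0] at hdk; omega), Nat.mod_eq_zero_of_dvd (hdk.symm ▸ hd)⟩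
    have hspos : 0 < s := Nat.pos_of_ne_zero fun h0 => by
      rw [h0, mul_zero] at hs
      exact Nat.card_pos.ne' hs
    exact Nat.lt_succ_of_le (Nat.div_le_div_right (Nat.le_of_dvd hspos hd))
  · have h := N.index_mul_card
    rw [hs, hm] at h
    have hspos : 0 < s := Nat.pos_of_ne_zero fun h0 => by
      rw [h0, mul_zero] at hs
      exact Nat.card_pos.ne' hs
    refine (Nat.div_eq_of_eq_mul_left hspos ?_).symm
    refine Nat.eq_of_mul_eq_mul_left (pow_pos hpp.pos a) ?_
    rw [← h]; ring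

omit [Fintype G] in
theorem interOut_sound (hG : ¬ IsMulCommutative G) {n a : ℕ} (hn : Nat.card G = n)
    (hd : n % p ^ a = 0) (hpm : (n / p ^ a) % p ≠ 0) : interOut n p a = false := by
  have hpp : p.Prime := Fact.out
  by_contra hne
  rw [Bool.not_eq_false] at hne
  simp only [interOut, List.all_eq_true, List.mem_range, Bool.or_eq_true, Bool.and_eq_true,
    Bool.not_eq_true', beq_iff_eq, bne_iff_ne, decide_eq_true_eq] at hne
  obtain ⟨⟨ha, h1⟩, h2⟩ := hne
  have hm : Nat.card G = p ^ a * (n / p ^ a) := by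
    rw [Nat.mul_div_cancel' (Nat.dvd_of_mod_eq_zero hd), hn]
  set m := n / p ^ a with hmdef
  have hpm' : ¬ p ∣ m := fun h => hpm (Nat.mod_eq_zero_of_dvd h)
  have hmpos : 0 < m := Nat.pos_of_ne_zero fun h0 => hpm (by rw [h0, Nat.zero_mod])
  obtain ⟨k, hk0, hkd, hk, hkF⟩ := exists_index hG hm hpm' (by omega)
  have hkb : k < m / p + 1 := by
    rw [Nat.lt_succ_iff, Nat.le_div_iff_mul_le hpp.pos]
    have := Nat.le_of_dvd hmpos hkd
    omega
  have hn1 : Nat.card (Sylow p G) % (p * p) ≠ 1 := by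
    rw [hk]
    rcases h1 k hkb with ((h | h) | h) | h
    · exact absurd h hk0
    · exact absurd (Nat.mod_eq_zero_of_dvd hkd) h
    · rw [hn] at hkF; rw [hkF] at h; exact Bool.noConfusion h
    · exact h
  obtain ⟨P, Q, R, s, -, -, -, -, -, -, -, hsm, hdiv, htop, hidx⟩ := inter_data hG ha hm hpm' hn1
  have hs0 : s ≠ 0 := fun h0 => hmpos.ne' (Nat.eq_zero_of_zero_dvd (h0 ▸ hsm))
  rcases h2 s (Nat.lt_succ_of_le (Nat.le_of_dvd hmpos hsm)) with (((h | h) | h) | h) | h
  · exact hs0 h
  · exact h (Nat.mod_eq_zero_of_dvd hsm)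
  · rw [hdiv] at h; exact Bool.noConfusion h
  · rw [h] at hidx; exact htop (Subgroup.index_eq_one.1 hidx)
  · have := F_sound hG htop
    rw [hidx, hn, h] at this
    exact Bool.noConfusion this

omit [Fintype G] p [Fact p.Prime] in
/-- The witness check is sound. -/
theorem check_sound (hG : ¬ IsMulCommutative G) {n w : ℕ} (hn : Nat.card G = n) (hn' : n ≤ 6241)
    (hw : check n w = true) : n ∈ special := by
  haveI := Fintype.ofFinite G
  have hnc := not_isCyclic hG
  simp only [check] at hw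
  split_ifs at hw with h0 h1 h2 h3 h4 h5
  · exfalso
    have h4' : Nat.card G = 2 ^ 1 * (n / 2) := by
      rw [hn]; simp only [beq_iff_eq] at hw; omega
    obtain ⟨T⟩ : Nonempty (Sylow 2 G) := inferInstance
    simp only [beq_iff_eq] at hw
    haveI := isCyclic_of_prime_card (p := 2) (α := (T : Subgroup G)) (by
      rw [card_sylow 1 (n / 2) h4' (by omega) T, pow_one])
    obtain ⟨H, hH⟩ := Cfsg.Lib.Invol.exists_index_two_of_isCyclic (even_iff_two_dvd.2 (by omega : 2 ∣ Nat.card G)) T inferInstance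
    exact OrderLeHundred.no_index_two hnc H hH
  · exfalso
    simp only [Bool.and_eq_true, beq_iff_eq, bne_iff_ne] at hw
    obtain ⟨⟨⟨hp, hq⟩, hpq⟩, hd⟩ := hw
    obtain ⟨u, v, hu, hv, huv⟩ := exists_dvd_and_dvd_of_dvd_mul (Nat.dvd_of_mod_eq_zero hd)
    obtain ⟨i, -, rfl⟩ := (Nat.dvd_prime_pow (isP_sound hp)).1 hu
    obtain ⟨j, -, rfl⟩ := (Nat.dvd_prime_pow (isP_sound hq)).1 hv
    exact OrderLeHundred.not_solvable hnc
      (Cfsg.Agent.S0144.result _ _ i j (isP_sound hp) (isP_sound hq) (hn.trans huv))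
  · exfalso
    simp only [Bool.and_eq_true, beq_iff_eq, bne_iff_ne] at hw
    obtain ⟨⟨⟨⟨⟨hp, hq0⟩, hd⟩, hpm⟩, -⟩, hs⟩ := hw
    haveI := Fact.mk (isP_sound hp)
    rw [noSyl_sound hG hn hq0 hd hpm] at hs
    exact Bool.noConfusion hs
  · exfalso
    simp only [Bool.and_eq_true, beq_iff_eq, bne_iff_ne] at hw
    obtain ⟨⟨⟨⟨⟨hp, hp2⟩, hd⟩, hpm⟩, hm1⟩, hs⟩ := hw
    haveI := Fact.mk (isP_sound hp)
    rw [blockOut_sound hG hp2 hn hn' hd hpm hm1 _ fun _ => rfl] at hs
    exact Bool.noConfusion hs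
  · exfalso
    simp only [Bool.and_eq_true, beq_iff_eq, bne_iff_ne] at hw
    obtain ⟨⟨⟨⟨hp, hd⟩, hpm⟩, -⟩, hs⟩ := hw
    haveI := Fact.mk (isP_sound hp)
    rw [interOut_sound hG hn hd hpm] at hs
    exact Bool.noConfusion hs
  · exfalso
    simp only [Bool.and_eq_true, beq_iff_eq, bne_iff_ne] at hw
    obtain ⟨⟨⟨⟨⟨⟨⟨⟨⟨⟨⟨hp, hp2⟩, hd⟩, hpm⟩, hm1⟩, hq⟩, hq2⟩, hqd⟩, hqm⟩, hqm1⟩, hself⟩, hs⟩ := hw
    haveI := Fact.mk (isP_sound hp)
    have hA : ∀ χ : IrrCharacter G, allowed n (w % 10000) (charDegree (χ : G → ℂ)) = true := by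
      haveI := Fact.mk (isP_sound hq)
      exact allowed_sound hG hq2 hn hn' hqd hqm hqm1 hself
    rw [blockOut_sound hG hp2 hn hn' hd hpm hm1 _ hA] at hs
    exact Bool.noConfusion hs
  · exact List.contains_iff_mem.1 hw

/-- Witnesses for consecutive orders. -/
def checkFrom : ℕ → List ℕ → Bool
  | _, [] => true
  | s, w :: W => check s w && checkFrom (s + 1) W

omit [Finite G] [IsSimpleGroup G] [Fintype G] p [Fact p.Prime] in
theorem checkFrom_sound : ∀ (W : List ℕ) (s : ℕ), checkFrom s W = true → ∀ n, s ≤ n → n < s + W.length →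
    ∃ w, check n w = true
  | [], s, _, n, h1, h2 => by simp at h2; omega
  | w :: W, s, h, n, h1, h2 => by
    rw [checkFrom, Bool.and_eq_true] at h
    rcases Nat.eq_or_lt_of_le h1 with rfl | h1'
    · exact ⟨w, h.1⟩
    · exact checkFrom_sound W (s + 1) h.2 n h1' (by simp at h2; omega)

end Cfsg.Lib.Small.OrderFilter
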