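import Mathlib.GroupTheory.GroupAction.Quotient
import Mathlib.GroupTheory.PGroup
import Mathlib.GroupTheory.Index
import Mathlib.GroupTheory.Sylow
import Mathlib.GroupTheory.IndexNormal
import Mathlib.Tactic

/-!
# A degree-13 action with elementary translation groups determines a plane
-/

set_option autoImplicit false
set_option linter.unusedSectionVars false
set_option linter.style.haveILetI false

namespace Cfsg.Lib.Small.PlaneThree

open Subgroup MulAction

universe u v

/-- Translation groups of a degree-13 action. -/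
structure Setup (G : Type u) (Ω : Type v) [Group G] [MulAction G Ω] where
  /-- The translation group at a point. -/
  A : Ω → Subgroup G
  card_Ω : Nat.card Ω = 13
  card_A : ∀ p, Nat.card (A p) = 9
  comm : ∀ p, ∀ a ∈ A p, ∀ b ∈ A p, a * b = b * a
  cube : ∀ p, ∀ a ∈ A p, a ^ 3 = 1
  equiv : ∀ (g : G) (p : Ω), ∀ a ∈ A p, g * a * g⁻¹ ∈ A (g • p)
  fix_self : ∀ p, ∀ a ∈ A p, a • p = p
  norm_le : ∀ (p : Ω) (g : G), (∀ a ∈ A p, g * a * g⁻¹ ∈ A p) → g • p = p
  same_fix : ∀ p, ∀ a ∈ A p, ∀ b ∈ A p, a ≠ 1 → b ≠ 1 →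
    Nat.card {x : Ω // a • x = x} = Nat.card {x : Ω // b • x = x}
  noSylow : ∀ T : Subgroup G, Nat.card T = 27 → ∀ p q : Ω, p ≠ q →
    (∀ g ∈ T, g • p = p) → (∀ g ∈ T, g • q = q) → False
  cent : ∀ p, ∀ a ∈ A p, a ≠ 1 →
    ∃ T : Subgroup G, Nat.card T = 27 ∧ ∀ y : G, y * a = a * y → y ^ 3 = 1 → y ∈ T
  three : ∀ T : Subgroup G, IsPGroup 3 T → Nat.card T ∣ 27

namespace Setup

variable {G : Type u} {Ω : Type v} [Group G] [Finite G] [MulAction G Ω] [FaithfulSMul G Ω] [Fintype Ω]
  [DecidableEq Ω] (D : Setup G Ω)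
include D

theorem fix_of_index_three {T : Subgroup G} (hT : Nat.card T = 27) {p : Ω} (hAT : D.A p ≤ T) :
    ∀ g ∈ T, g • p = p := by
  intro g hg
  have hidx : ((D.A p).subgroupOf T).index = 3 := by
    have h := card_mul_index ((D.A p).subgroupOf T)
    rw [Nat.card_congr (subgroupOfEquivOfLe hAT).toEquiv, D.card_A, hT] at h
    omega
  have hn : ((D.A p).subgroupOf T).Normal := normal_of_index_eq_minFac_card (by rw [hidx, hT]; norm_num)
  exact D.norm_le p g fun a ha => hn.conj_mem ⟨a, hAT ha⟩ ha ⟨g, hg⟩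

theorem le_cent {p : Ω} {a : G} (ha : a ∈ D.A p) {T : Subgroup G}
    (hT : ∀ y : G, y * a = a * y → y ^ 3 = 1 → y ∈ T) : D.A p ≤ T :=
  fun y hy => hT y (D.comm p y hy a ha) (D.cube p y hy)

/-- Two translation groups meet trivially off the two-point stabilizers. -/
theorem eq_of_mem_inter {p q : Ω} {a : G} (ha : a ∈ D.A p) (hb : a ∈ D.A q) (h1 : a ≠ 1) : p = q := by
  by_contra hne
  obtain ⟨T, hT, hTc⟩ := D.cent p a ha h1
  exact D.noSylow T hT p q hne (D.fix_of_index_three hT (D.le_cent ha hTc))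
    (D.fix_of_index_three hT (D.le_cent hb hTc))

theorem sup_pgroup {A B : Subgroup G} (hA : IsPGroup 3 A) (hB : IsPGroup 3 B)
    (h : A ≤ normalizer (B : Set G)) : Nat.card ↥(A ⊔ B) ∣ 27 :=
  D.three _ (hA.to_sup_of_normal_right' hB h)

theorem isPGroup_A (p : Ω) : IsPGroup 3 (D.A p) := IsPGroup.of_card (n := 2) (by rw [D.card_A]; rfl)

theorem fixedPoints_eq {p q : Ω} (h : ∀ a ∈ D.A p, a • q = q) : q = p := by
  by_contra hne
  have hle : D.A p ≤ normalizer (D.A q : Set G) := fun a ha => by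
    rw [mem_normalizer_iff]
    intro b
    have e1 : a⁻¹ • q = q := h _ (inv_mem ha)
    refine ⟨fun hb => ?_, fun hb => ?_⟩
    · have := D.equiv a q b hb; rwa [h a ha] at this
    · have h2 := D.equiv a⁻¹ q _ hb
      rw [e1] at h2
      simpa [mul_assoc] using h2
  have hd := D.sup_pgroup (D.isPGroup_A p) (D.isPGroup_A q) hle
  have h9 := card_dvd_of_le (le_sup_left : D.A p ≤ D.A p ⊔ D.A q)
  rw [D.card_A] at h9
  obtain ⟨k, hk⟩ := h9
  rw [hk, show 27 = 9 * 3 from rfl] at hd
  rcases (Nat.dvd_prime Nat.prime_three).mp (Nat.dvd_of_mul_dvd_mul_left (by norm_num) hd) with hk1 | hk1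
  · -- equal groups
    have he : D.A p = D.A p ⊔ D.A q := eq_of_le_of_card_ge le_sup_left (by rw [hk, hk1, mul_one, D.card_A])
    have hqp : D.A q ≤ D.A p := he ▸ le_sup_right
    obtain ⟨a, haq, ha1⟩ := (Subgroup.bot_or_exists_ne_one (D.A q)).resolve_left fun hb => by
      have := D.card_A q; rw [hb, card_bot] at this; omega
    exact hne (D.eq_of_mem_inter (hqp haq) haq ha1).symm
  · refine D.noSylow _ (by rw [hk, hk1]) p q (Ne.symm hne)
      (D.fix_of_index_three (by rw [hk, hk1]) le_sup_left) (D.fix_of_index_three (by rw [hk, hk1]) le_sup_right)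

theorem card_fix {p : Ω} {a : G} (ha : a ∈ D.A p) (ha1 : a ≠ 1) :
    (Finset.univ.filter fun x : Ω => a • x = x).card = 4 := by
  classical
  haveI := Fintype.ofFinite G
  haveI : ∀ b : D.A p, Fintype (fixedBy Ω b) := fun b => Fintype.ofFinite _
  haveI : Fintype (Quotient (orbitRel (D.A p) Ω)) := Fintype.ofFinite _
  have h := MulAction.sum_card_fixedBy_eq_card_orbits_mul_card_group (D.A p) Ω
  rw [← Finset.add_sum_erase _ _ (Finset.mem_univ (1 : D.A p))] at h
  have hc : ∀ b : D.A p, Fintype.card (fixedBy Ω b) = (Finset.univ.filter fun x : Ω => (b : G) • x = x).card :=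
    fun b => Fintype.card_of_subtype _ (fun x => by simp [fixedBy]; rfl)
  have h13 : Fintype.card Ω = 13 := by rw [← Nat.card_eq_fintype_card, D.card_Ω]
  rw [Finset.sum_congr rfl (fun b hb => show Fintype.card (fixedBy Ω b) =
      (Finset.univ.filter fun x : Ω => a • x = x).card by
    rw [hc]
    have := D.same_fix p b b.2 a ha (fun he => (Finset.mem_erase.mp hb).1 (Subtype.ext he)) ha1
    simpa [Nat.card_eq_fintype_card, Fintype.card_subtype] using this),
    Finset.sum_const, Finset.card_erase_of_mem (Finset.mem_univ _), Finset.card_univ, smul_eq_mul,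
    ← Nat.card_eq_fintype_card (α := D.A p), D.card_A, hc,
    show (Finset.univ.filter fun x : Ω => ((1 : D.A p) : G) • x = x).card = 13 by simp [h13]] at h
  have hle : (Finset.univ.filter fun x : Ω => a • x = x).card ≤ 13 := h13 ▸ Finset.card_le_univ _
  by_contra hne
  have hall : (Finset.univ.filter fun x : Ω => a • x = x) = Finset.univ := by
    refine Finset.eq_univ_of_card _ ?_
    rw [h13]; omega
  refine ha1 (eq_of_smul_eq_smul fun x : Ω => ?_)
  have hx : x ∈ Finset.univ.filter fun x : Ω => a • x = x := by rw [hall]; exact Finset.mem_univ x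
  rw [(Finset.mem_filter.mp hx).2, one_smul]

/-- The part of a translation group fixing a second point. -/
def B (p q : Ω) : Subgroup G := D.A p ⊓ stabilizer G q

theorem mem_B {p q : Ω} {a : G} : a ∈ D.B p q ↔ a ∈ D.A p ∧ a • q = q := Iff.rfl

theorem card_B {p q : Ω} (hpq : p ≠ q) : Nat.card (D.B p q) = 3 := by
  classical
  haveI := Fintype.ofFinite G
  let m : Ω → ℕ := fun x => (Finset.univ.filter fun a : G => a ∈ D.A p ∧ a ≠ 1 ∧ a • x = x).card
  have hB : ∀ x, Nat.card (D.B p x) = m x + 1 := by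
    intro x
    rw [Nat.card_eq_fintype_card, Fintype.card_of_subtype (Finset.univ.filter fun a : G => a ∈ D.B p x)
      (fun a => by simp), show (Finset.univ.filter fun a : G => a ∈ D.B p x) =
      insert 1 (Finset.univ.filter fun a : G => a ∈ D.A p ∧ a ≠ 1 ∧ a • x = x) by
        ext a
        by_cases h : a = 1
        · simp [h, one_mem]
        · simp [h, D.mem_B], Finset.card_insert_of_notMem (by simp)]
  have hle : ∀ x ∈ Finset.univ.erase p, m x ≤ 2 := by
    intro x hx
    have hd : Nat.card (D.B p x) ∣ 3 ^ 2 := by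
      rw [show 3 ^ 2 = Nat.card (D.A p) by rw [D.card_A]; rfl]
      exact card_dvd_of_le inf_le_left
    obtain ⟨j, hj, hje⟩ := (Nat.dvd_prime_pow Nat.prime_three).mp hd
    have hj2 : j ≠ 2 := fun h => by
      have he : D.B p x = D.A p := eq_of_le_of_card_ge inf_le_left (by rw [hje, h, D.card_A]; norm_num)
      exact (Finset.mem_erase.mp hx).1 (D.fixedPoints_eq fun a ha => ((he.symm ▸ ha : a ∈ D.B p x)).2)
    have := hB x
    interval_cases j <;> omega
  have htot : ∑ x ∈ Finset.univ.erase p, m x = ∑ x ∈ Finset.univ.erase p, 2 := by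
    have h1 : ∑ x, m x = ∑ a ∈ Finset.univ.filter (fun a : G => a ∈ D.A p ∧ a ≠ 1),
        (Finset.univ.filter fun x : Ω => a • x = x).card := by
      have e : ∀ x, m x = ((Finset.univ.filter (fun a : G => a ∈ D.A p ∧ a ≠ 1)).filter
          fun a => a • x = x).card := fun x => by
        simp only [m, Finset.filter_filter, and_assoc]
      simp only [e, Finset.card_filter]
      exact Finset.sum_comm
    have h8 : (Finset.univ.filter (fun a : G => a ∈ D.A p ∧ a ≠ 1)).card = 8 := by
      rw [show (Finset.univ.filter (fun a : G => a ∈ D.A p ∧ a ≠ 1)) =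
        (Finset.univ.filter fun a : G => a ∈ D.A p).erase 1 by ext a; simp [and_comm],
        Finset.card_erase_of_mem (by simp [one_mem])]
      have : (Finset.univ.filter fun a : G => a ∈ D.A p).card = 9 := by
        rw [← Fintype.card_subtype, ← Nat.card_eq_fintype_card]; exact D.card_A p
      omega
    rw [Finset.sum_congr rfl (fun a ha => D.card_fix (Finset.mem_filter.mp ha).2.1 (Finset.mem_filter.mp ha).2.2),
      Finset.sum_const, h8, smul_eq_mul] at h1
    have hmp : m p = 8 := by
      rw [← h8]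
      simp only [m]
      congr 1
      ext a
      simp only [Finset.mem_filter, Finset.mem_univ, true_and]
      exact ⟨fun h => ⟨h.1, h.2.1⟩, fun h => ⟨h.1, h.2, D.fix_self p a h.1⟩⟩
    rw [← Finset.add_sum_erase _ _ (Finset.mem_univ p), hmp] at h1
    rw [Finset.sum_const, Finset.card_erase_of_mem (Finset.mem_univ _), Finset.card_univ,
      ← Nat.card_eq_fintype_card, D.card_Ω, smul_eq_mul]
    omega
  have h := (Finset.sum_eq_sum_iff_of_le hle).mp htot q (Finset.mem_erase.mpr ⟨hpq.symm, Finset.mem_univ q⟩)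
  rw [hB, h]

theorem exists_gen {p q : Ω} (hpq : p ≠ q) : ∃ a, a ∈ D.B p q ∧ a ≠ 1 ∧ D.B p q = zpowers a := by
  obtain ⟨a, ha, ha1⟩ := (Subgroup.bot_or_exists_ne_one (D.B p q)).resolve_left fun hb => by
    have := D.card_B hpq; rw [hb, card_bot] at this; omega
  refine ⟨a, ha, ha1, (eq_of_le_of_card_ge (zpowers_le.mpr ha) ?_).symm⟩
  haveI : Fact (Nat.Prime 3) := ⟨Nat.prime_three⟩
  rw [D.card_B hpq, Nat.card_zpowers, orderOf_eq_prime (D.cube p a ha.1) ha1]

/-- The line through two points. -/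
noncomputable def line (p q : Ω) : Finset Ω := by
  classical exact Finset.univ.filter fun x => ∀ b ∈ D.B p q, b • x = x

theorem mem_line {p q x : Ω} : x ∈ D.line p q ↔ ∀ b ∈ D.B p q, b • x = x := by
  classical simp [line]

theorem left_mem_line (p q : Ω) : p ∈ D.line p q := D.mem_line.mpr fun b hb => D.fix_self p b hb.1

theorem right_mem_line (p q : Ω) : q ∈ D.line p q := D.mem_line.mpr fun _ hb => hb.2

theorem card_line {p q : Ω} (hpq : p ≠ q) : (D.line p q).card = 4 := by
  obtain ⟨a, ha, ha1, he⟩ := D.exists_gen hpq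
  rw [← D.card_fix ha.1 ha1]
  congr 1
  ext x
  rw [D.mem_line, Finset.mem_filter]
  refine ⟨fun h => ⟨Finset.mem_univ _, h a ha⟩, fun h b hb => ?_⟩
  rw [he] at hb
  exact (zpowers_le.mpr (show a ∈ stabilizer G x from h.2)) hb

theorem smul_mem_line {p q : Ω} {a : G} (ha : a ∈ D.A p) {x : Ω} (hx : x ∈ D.line p q) :
    a • x ∈ D.line p q := by
  rw [D.mem_line] at hx ⊢
  intro b hb
  rw [← mul_smul, D.comm p b hb.1 a ha, mul_smul, hx b hb]

theorem B_eq {p q x : Ω} (hpq : p ≠ q) (hx : x ∈ D.line p q) (hxp : p ≠ x) : D.B p x = D.B p q :=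
  (eq_of_le_of_card_ge (show D.B p q ≤ D.B p x from fun b hb => mem_inf.mpr ⟨hb.1, D.mem_line.mp hx b hb⟩)
    (by rw [D.card_B hpq, D.card_B hxp])).symm

theorem conj_mem_B {p q : Ω} {g : G} {b : G} (hb : b ∈ D.B p q) : g * b * g⁻¹ ∈ D.B (g • p) (g • q) :=
  mem_inf.mpr ⟨D.equiv g p b hb.1, show (g * b * g⁻¹) • (g • q) = g • q by
    rw [← mul_smul, inv_mul_cancel_right, mul_smul, hb.2]⟩

theorem line_symm {p q : Ω} (hpq : p ≠ q) : D.line q p = D.line p q := by
  classical
  refine (Finset.eq_of_subset_of_card_le (fun x hx => ?_) (by rw [D.card_line hpq, D.card_line hpq.symm])).symm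
  rw [D.mem_line]
  intro c hc
  by_contra hne
  have hcp : c • p = p := hc.2
  have hcq : c • q = q := D.fix_self q c hc.1
  have hmaps : ∀ y ∈ D.line p q, c • y ∈ D.line p q := by
    intro y hy
    rw [D.mem_line] at hy ⊢
    intro b hb
    have h := D.conj_mem_B (g := c⁻¹) hb
    rw [inv_smul_eq_iff.mpr hcp.symm, inv_smul_eq_iff.mpr hcq.symm] at h
    have h' := hy _ h
    rw [inv_inv, mul_smul, mul_smul, inv_smul_eq_iff] at h'
    exact h'
  have hc3 : c • c • c • x = x := by
    rw [← mul_smul, ← mul_smul, show c * c * c = c ^ 3 by rw [pow_succ, sq],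
      D.cube q c hc.1, one_smul]
  have hrest : ∀ y ∈ D.line p q, y = p ∨ y = q ∨ y = x ∨ y = c • x := by
    intro y hy
    by_contra hy'
    push Not at hy'
    have hxp : x ≠ p := fun h => hne (by rw [h, hcp])
    have hxq : x ≠ q := fun h => hne (by rw [h, hcq])
    have hcxp : c • x ≠ p := fun h => hxp (MulAction.injective c (h.trans hcp.symm))
    have hcxq : c • x ≠ q := fun h => hxq (MulAction.injective c (h.trans hcq.symm))
    have hsub : ({y, p, q, x, c • x} : Finset Ω) ⊆ D.line p q := by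
      simp only [Finset.insert_subset_iff, Finset.singleton_subset_iff]
      exact ⟨hy, D.left_mem_line p q, D.right_mem_line p q, hx, hmaps x hx⟩
    have h := Finset.card_le_card hsub
    rw [D.card_line hpq] at h
    simp [hy'.1, hy'.2.1, hy'.2.2.1, hy'.2.2.2, hpq, hxp.symm, hxq.symm, hcxp.symm, hcxq.symm,
      Ne.symm hne] at h
  rcases hrest _ (hmaps _ (hmaps x hx)) with h | h | h | h
  · exact hne (by rw [h, hcp] at hc3; rw [← hc3, hcp])
  · exact hne (by rw [h, hcq] at hc3; rw [← hc3, hcq])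
  · exact hne (by rw [h] at hc3; exact hc3)
  · exact hne (MulAction.injective c h)

theorem line_eq {p q x : Ω} (hpq : p ≠ q) (hx : x ∈ D.line p q) (hxp : p ≠ x) :
    D.line p x = D.line p q := by
  ext y; rw [D.mem_line, D.mem_line, D.B_eq hpq hx hxp]

/-- Two points determine their line. -/
theorem line_eq_of_mem {p q a b : Ω} (hpq : p ≠ q) (ha : a ∈ D.line p q) (hb : b ∈ D.line p q) (hab : a ≠ b) :
    D.line a b = D.line p q := by
  by_cases hap : a = p
  · subst hap; exact D.line_eq hpq hb hab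
  · have h1 : D.line a p = D.line p q := by rw [D.line_symm (Ne.symm hap), D.line_eq hpq ha (Ne.symm hap)]
    rw [D.line_eq hap (h1.symm ▸ hb) hab, h1]

theorem smul_line {p q : Ω} (hpq : p ≠ q) (g : G) : (D.line p q).image (g • ·) = D.line (g • p) (g • q) := by
  refine Finset.eq_of_subset_of_card_le ?_ ?_
  · intro y hy
    obtain ⟨x, hx, rfl⟩ := Finset.mem_image.mp hy
    rw [D.mem_line]
    intro b hb
    have h := D.conj_mem_B (g := g⁻¹) hb
    rw [inv_smul_smul, inv_smul_smul] at h
    have h' := D.mem_line.mp hx _ h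
    rw [inv_inv, mul_smul, mul_smul, inv_smul_eq_iff] at h'
    exact h'
  · rw [Finset.card_image_of_injective _ (MulAction.injective g), D.card_line hpq,
      D.card_line ((MulAction.injective g).ne hpq)]

end Setup

end Cfsg.Lib.Small.PlaneThree
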