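import Cfsg.Agent.S0144
import Cfsg.Agent.S0494
import Cfsg.Agent.S0496
import Cfsg.Agent.S0997
import Cfsg.Agent.S0998
import Cfsg.Agent.Lib.Linear.PSLSmall
import Cfsg.Agent.Lib.Small.ThreePrime
import Cfsg.Agent.Lib.Block.KleinData
import Cfsg.Agent.Lib.Block.KleinStructure
import Cfsg.Agent.Lib.Block.PrimeDegrees
import Mathlib.Tactic.Positivity

/-!
# Simple groups of order `3 p^a q^b` or `4 p^a q^b` with `a ≤ 2`

The main tool is Brauer's order formula for a four-group Sylow subgroup: with degrees `dᵢ` and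
signs `εᵢ` in the principal `2`-block every prime divisor of `∏ (dᵢ + εᵢ)` divides the order of
the group.
-/

set_option autoImplicit false
set_option linter.unusedSectionVars false
set_option linter.style.haveILetI false

namespace Cfsg.Lib.Small.SmallCofactor

open Cfsg Cfsg.Lib

universe u

variable {G : Type u} [Group G] [Fintype G] [IsSimpleGroup G]

theorem not_two_primes (hnc : ¬ IsCyclic G) {r s i j : ℕ} (hr : r.Prime) (hs : s.Prime) :
    Nat.card G ≠ r ^ i * s ^ j := fun h =>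
  OrderLeHundred.not_solvable hnc (Cfsg.Agent.S0144.result r s i j hr hs h)

theorem not_comm (hnc : ¬ IsCyclic G) : ¬ ∀ a b : G, a * b = b * a := fun h => hnc (by
  let _ : CommGroup G := { (inferInstance : Group G) with mul_comm := h }
  exact IsSimpleGroup.isCyclic)

theorem not_mul_comm (hnc : ¬ IsCyclic G) : ¬ IsMulCommutative G := fun h =>
  not_comm hnc fun a b => h.is_comm.comm a b

/-- The smallest prime divisor cannot divide the order exactly once. -/
theorem smallest_once (hnc : ¬ IsCyclic G) {r : ℕ} (hr : r.Prime)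
    (hmin : (Nat.card G).minFac = r) : (Nat.card G).factorization r ≠ 1 := by
  haveI := Fact.mk hr
  intro h1
  obtain ⟨P⟩ : Nonempty (Sylow r G) := inferInstance
  have hP : Nat.card (P : Subgroup G) = r := by rw [P.card_eq_multiplicity, h1, pow_one]
  exact not_normalizer_le_centralizer hnc P
    (fun h => hr.ne_one (by rw [← hP, h, Subgroup.card_bot]))
    (IsCyclic.normalizer_le_centralizer hmin (isCyclic_of_prime_card hP))

/-- Prime divisors of the degree terms in the order formula. -/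
theorem klein_data (hnc : ¬ IsCyclic G) {g₀ : ℕ} (hg₀ : Odd g₀) (hG : Nat.card G = 4 * g₀) :
    ∃ (χ : Fin 3 → IrrCharacter G) (ε : Fin 3 → ℤ),
      (∀ i, χ i ≠ one' G ∧ (ε i = 1 ∨ ε i = -1) ∧
        (4 : ℤ) ∣ (charDegree (χ i : G → ℂ) : ℤ) + 3 * ε i ∧ charDegree (χ i : G → ℂ) ∣ g₀) ∧
      1 + ε 0 * (charDegree (χ 0 : G → ℂ) : ℤ) + ε 1 * (charDegree (χ 1 : G → ℂ) : ℤ) +
        ε 2 * (charDegree (χ 2 : G → ℂ) : ℤ) = 0 ∧
      ∀ r : ℕ, r.Prime → ¬ r ∣ Nat.card G →
        ∀ i, ¬ (r : ℤ) ∣ (charDegree (χ i : G → ℂ) : ℤ) + ε i := by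
  classical
  haveI : Fact (Nat.Prime 2) := ⟨Nat.prime_two⟩
  obtain ⟨P⟩ : Nonempty (Sylow 2 G) := inferInstance
  have hg1 : g₀ ≠ 1 := fun h =>
    not_two_primes hnc (i := 2) (j := 0) Nat.prime_two Nat.prime_two (by rw [hG, h]; norm_num)
  have hP : Block.KleinCond P := Block.kleinCond_of_no_complement hg₀ hG fun ⟨N, hN, hNc⟩ => by
    rcases hN.eq_bot_or_eq_top with h | h
    · exact hg1 (by rw [← hNc, h, Subgroup.card_bot])
    · rw [h, Subgroup.card_top, hG] at hNc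
      have := hg₀.pos
      omega
  obtain ⟨M, hM⟩ := Block.exists_isPModular Nat.prime_two
  obtain ⟨z, hzP, hz⟩ := hP.exists_involution
  obtain ⟨a, b, c, ha0, hb0, hc0, hab, hac, hbc, sa, sc, sb, hset⟩ :=
    Block.klein_exists_three hM hP hz
  obtain ⟨eb, heb, hebv⟩ : ∃ eb : ℤ, (eb = 1 ∨ eb = -1) ∧ (b : G → ℂ) z = eb := by
    rcases sb with h | h
    · exact ⟨1, Or.inl rfl, by rw [h]; norm_num⟩
    · exact ⟨-1, Or.inr rfl, by rw [h]; norm_num⟩
  have hva : (a : G → ℂ) z = ((1 : ℤ) : ℂ) := by rw [sa]; norm_num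
  have hvc : (c : G → ℂ) z = ((-1 : ℤ) : ℂ) := by rw [sc]; norm_num
  have hB : principalBlock M G = {χ : IrrCharacter G |
      (χ : G → ℂ) = (fun _ => 1) ∨ χ = a ∨ χ = b ∨ χ = c} := by
    rw [hset]
    ext χ
    simp only [Set.mem_insert_iff, Set.mem_singleton_iff, Set.mem_ofPred_eq]
    exact or_congr_left ⟨fun h => by rw [h]; rfl, fun h => Subtype.ext h⟩
  have hd : (a : G → ℂ) ≠ (fun _ => 1) ∧ (b : G → ℂ) ≠ (fun _ => 1) ∧ (c : G → ℂ) ≠ (fun _ => 1) ∧
      a ≠ b ∧ a ≠ c ∧ b ≠ c :=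
    ⟨fun h => ha0 (Subtype.ext h), fun h => hb0 (Subtype.ext h), fun h => hc0 (Subtype.ext h),
      hab, hac, hbc⟩
  have hrel := Block.klein_degree_relation hM hP hz hB hd ⟨hva, hebv, hvc⟩
  have hord := Block.klein_order_rat hM hP hzP hz hB hd ⟨hva, hebv, hvc⟩
  have hdvd : ∀ χ : IrrCharacter G, ∀ e : ℤ, (χ : G → ℂ) z = e → (e = 1 ∨ e = -1) →
      (4 : ℤ) ∣ (charDegree (χ : G → ℂ) : ℤ) + 3 * e ∧ charDegree (χ : G → ℂ) ∣ g₀ := by
    intro χ e he he1
    have h4 := Block.klein_degree_congr hM hP hz χ he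
    refine ⟨h4, ?_⟩
    have hd' : charDegree (χ : G → ℂ) ∣ Nat.card G :=
      Char.degree_dvd_card χ.2 (Block.apply_one_eq_charDegree χ)
    rw [hG] at hd'
    have hodd : Nat.Coprime 2 (charDegree (χ : G → ℂ)) := by
      rw [Nat.Prime.coprime_iff_not_dvd Nat.prime_two]
      intro h2
      rcases he1 with h | h <;> rw [h] at h4 <;> omega
    exact Nat.Coprime.dvd_of_dvd_mul_left
      ((Nat.Coprime.pow_left 2 hodd).symm : Nat.Coprime (charDegree (χ : G → ℂ)) (2 ^ 2)) hd'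
  refine ⟨![a, b, c], ![1, eb, -1], fun i => ?_, ?_, ?_⟩
  · fin_cases i
    · exact ⟨ha0, Or.inl rfl, hdvd a 1 hva (Or.inl rfl)⟩
    · exact ⟨hb0, heb, hdvd b eb hebv heb⟩
    · exact ⟨hc0, Or.inr rfl, hdvd c (-1) hvc (Or.inr rfl)⟩
  · show 1 + (1 : ℤ) * (charDegree (a : G → ℂ) : ℤ) + eb * (charDegree (b : G → ℂ) : ℤ) +
      (-1) * (charDegree (c : G → ℂ) : ℤ) = 0
    exact_mod_cast hrel
  · intro r hr hrG
    have hpa := Block.charDegree_pos a
    have hpb := Block.charDegree_pos b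
    have hpc := Block.charDegree_pos c
    have hsq : ((eb : ℚ)) * eb = 1 := by rcases heb with h | h <;> rw [h] <;> norm_num
    have hal := Block.klein_alpha (x₁ := (charDegree (a : G → ℂ) : ℚ))
      (x₂ := (charDegree (b : G → ℂ) : ℚ)) (x₃ := (charDegree (c : G → ℂ) : ℚ))
      (e₁ := ((1 : ℤ) : ℚ)) (e₂ := (eb : ℚ)) (e₃ := ((-1 : ℤ) : ℚ))
      (Nat.cast_ne_zero.2 hpa.ne') (Nat.cast_ne_zero.2 hpb.ne') (Nat.cast_ne_zero.2 hpc.ne')
      (by norm_num) hsq (by norm_num) (by linear_combination hrel)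
    set k := Nat.card (Subgroup.centralizer ((P : Subgroup G) : Set G)) with hk
    set C := Nat.card (Subgroup.centralizer ({z} : Set G)) with hC
    have key : (Nat.card G : ℤ) * (((charDegree (a : G → ℂ) : ℤ) + 1) *
        ((charDegree (b : G → ℂ) : ℤ) + eb) * ((charDegree (c : G → ℂ) : ℤ) + -1)) * (k : ℤ) ^ 2 =
        8 * (C : ℤ) ^ 3 * ((charDegree (a : G → ℂ) : ℤ) * (charDegree (b : G → ℂ) : ℤ) *
          (charDegree (c : G → ℂ) : ℤ)) := by
      apply Int.cast_injective (α := ℚ)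
      push_cast at hal hord ⊢
      linear_combination (Nat.card G : ℚ) * (k : ℚ) ^ 2 * hal +
        ((charDegree (a : G → ℂ) : ℚ) * (charDegree (b : G → ℂ) : ℚ) *
          (charDegree (c : G → ℂ) : ℚ)) * hord
    have hri : Prime (r : ℤ) := Nat.prime_iff_prime_int.1 hr
    intro i hi
    have hdiv : (r : ℤ) ∣ ((charDegree (a : G → ℂ) : ℤ) + 1) *
        ((charDegree (b : G → ℂ) : ℤ) + eb) * ((charDegree (c : G → ℂ) : ℤ) + -1) := by
      fin_cases i
      · exact Dvd.dvd.mul_right (Dvd.dvd.mul_right hi _) _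
      · exact Dvd.dvd.mul_right (Dvd.dvd.mul_left hi _) _
      · exact Dvd.dvd.mul_left hi _
    have hR : (r : ℤ) ∣ 8 * (C : ℤ) ^ 3 * ((charDegree (a : G → ℂ) : ℤ) *
        (charDegree (b : G → ℂ) : ℤ) * (charDegree (c : G → ℂ) : ℤ)) :=
      key ▸ Dvd.dvd.mul_right (Dvd.dvd.mul_left hdiv _) _
    have hno : ∀ m : ℕ, m ∣ Nat.card G → ¬ (r : ℤ) ∣ (m : ℤ) := fun m hm h =>
      hrG ((Int.natCast_dvd_natCast.1 h).trans hm)
    have hdeg : ∀ χ : IrrCharacter G, ¬ (r : ℤ) ∣ (charDegree (χ : G → ℂ) : ℤ) := fun χ =>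
      hno _ (Char.degree_dvd_card χ.2 (Block.apply_one_eq_charDegree χ))
    rcases hri.dvd_mul.1 hR with h | h
    · rcases hri.dvd_mul.1 h with h | h
      · have h8 : r ∣ 2 ^ 3 := by exact_mod_cast h
        exact hrG ((hr.dvd_of_dvd_pow h8).trans (hG ▸ Dvd.dvd.mul_right (by norm_num) _))
      · exact hno C (Subgroup.card_subgroup_dvd_card _) (hri.dvd_of_dvd_pow h)
    · rcases hri.dvd_mul.1 h with h | h
      · rcases hri.dvd_mul.1 h with h | h
        · exact hdeg a h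
        · exact hdeg b h
      · exact hdeg c h

/-- A degree not divisible by the prime `s`. -/
theorem exists_not_dvd {s : ℕ} (hs : s.Prime) {d : Fin 3 → ℕ} {ε : Fin 3 → ℤ}
    (hrel : 1 + ε 0 * (d 0 : ℤ) + ε 1 * (d 1 : ℤ) + ε 2 * (d 2 : ℤ) = 0) : ∃ i, ¬ s ∣ d i := by
  by_contra h
  push Not at h
  have hd : ∀ i, (s : ℤ) ∣ ε i * (d i : ℤ) := fun i =>
    Dvd.dvd.mul_left (Int.natCast_dvd_natCast.2 (h i)) _
  have : (s : ℤ) ∣ 1 := by
    have e : (1 : ℤ) = -(ε 0 * (d 0 : ℤ) + ε 1 * (d 1 : ℤ) + ε 2 * (d 2 : ℤ)) := by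
      linear_combination hrel
    rw [e]
    exact dvd_neg.2 ((dvd_add (hd 0) (hd 1)).add (hd 2))
  exact hs.ne_one (Nat.dvd_one.1 (Int.natCast_dvd_natCast.1 (by exact_mod_cast this)))

theorem dvd_prime_pow_mul {p q d a b : ℕ} (hp : p.Prime) (hq : q.Prime) (hpq : p ≠ q)
    (h : d ∣ p ^ a * q ^ b) (hd : ¬ q ∣ d) : ∃ i ≤ a, d = p ^ i := by
  have hc : d.Coprime (q ^ b) := Nat.Coprime.pow_right b ((hq.coprime_iff_not_dvd.2 hd).symm)
  exact (Nat.dvd_prime_pow hp).1 (hc.dvd_of_dvd_mul_right h)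

theorem fac_of_eq {p q a b c : ℕ} (hp : p.Prime) (hq : q.Prime) (hpq : p ≠ q) (hc : ¬ p ∣ c)
    (hG : Nat.card G = c * (p ^ a * q ^ b)) : (Nat.card G).factorization p = a := by
  have h1 : ¬ p ∣ c * q ^ b := fun h => (hp.dvd_mul.1 h).elim hc fun h =>
    hpq ((Nat.prime_dvd_prime_iff_eq hp hq).1 (hp.dvd_of_dvd_pow h))
  rw [hG, show c * (p ^ a * q ^ b) = p ^ a * (c * q ^ b) by ring,
    Nat.factorization_mul (pow_ne_zero _ hp.ne_zero) (fun h0 => h1 (by rw [h0]; exact dvd_zero p)),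
    Finsupp.add_apply, hp.factorization_pow, Finsupp.single_eq_same,
    Nat.factorization_eq_zero_of_not_dvd h1, add_zero]

/-- A character of prime degree fixes the exponent of that prime. -/
theorem exponent_of_degree (hnc : ¬ IsCyclic G) {s : ℕ} (hs : s.Prime) {χ : IrrCharacter G}
    (hd : charDegree (χ : G → ℂ) = s) : (Nat.card G).factorization s = 1 := by
  haveI := Fact.mk hs
  obtain ⟨S⟩ : Nonempty (Sylow s G) := inferInstance
  have h := Block.sylow_card_of_degree (not_comm hnc) hd S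
  rw [S.card_eq_multiplicity] at h
  exact Nat.pow_right_injective hs.two_le (by simpa using h)

/-- Order `4 · p · 3^b`, `p = 5`, or `4 · p^2 · 3^b`. -/
theorem four_three (hnc : ¬ IsCyclic G) {p a b : ℕ} (hp : p.Prime) (hp5 : 5 ≤ p)
    (ha : a = 2 ∨ (a = 1 ∧ p = 5)) (hG : Nat.card G = 4 * (p ^ a * 3 ^ b)) : Nat.card G = 60 := by
  classical
  haveI := Fact.mk hp
  have hp3 : p ≠ 3 := by omega
  have hpodd : Odd p := hp.odd_of_ne_two (by omega)
  have hg : Odd (p ^ a * 3 ^ b) := hpodd.pow.mul (Odd.pow (by decide))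
  obtain ⟨χ, ε, hχ, hrel, hpr⟩ := klein_data hnc hg hG
  have hp4 : ¬ p ∣ 4 := fun h => by
    have := (Nat.prime_dvd_prime_iff_eq hp Nat.prime_two).1
      (hp.dvd_of_dvd_pow (show p ∣ 2 ^ 2 from h))
    omega
  have hfp := fac_of_eq hp Nat.prime_three hp3 hp4 hG
  have hf3 := fac_of_eq (p := 3) (q := p) (a := b) (b := a) Nat.prime_three hp hp3.symm
    (by norm_num) (c := 4) (by rw [hG]; ring)
  have hrG : ∀ r : ℕ, r.Prime → r ≠ 2 → r ≠ 3 → r ≠ p → ¬ r ∣ Nat.card G := by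
    intro r hr h2 h3 hrp h
    rw [hG] at h
    rcases hr.dvd_mul.1 h with h | h
    · exact h2 ((Nat.prime_dvd_prime_iff_eq hr Nat.prime_two).1
        (hr.dvd_of_dvd_pow (show r ∣ 2 ^ 2 from h)))
    · rcases hr.dvd_mul.1 h with h | h
      · exact hrp ((Nat.prime_dvd_prime_iff_eq hr hp).1 (hr.dvd_of_dvd_pow h))
      · exact h3 ((Nat.prime_dvd_prime_iff_eq hr Nat.prime_three).1 (hr.dvd_of_dvd_pow h))
  have hge : ∀ i, 2 ≤ charDegree (χ i : G → ℂ) := fun i => two_le_charDegree hnc (hχ i).1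
  rcases ha with rfl | ⟨rfl, rfl⟩
  · exfalso
    obtain ⟨i, hi⟩ := exists_not_dvd (s := 3) Nat.prime_three
      (d := fun i => charDegree (χ i : G → ℂ)) hrel
    obtain ⟨-, hs, h4, hd⟩ := hχ i
    obtain ⟨j, hj, hdj⟩ := dvd_prime_pow_mul hp Nat.prime_three hp3 hd hi
    have h2i := hge i
    interval_cases j
    · rw [pow_zero] at hdj; omega
    · have := exponent_of_degree hnc hp (hdj.trans (pow_one p))
      omega
    · obtain ⟨m, hm⟩ := hpodd
      have hi1 : ε i = 1 := by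
        rcases hs with h | h
        · exact h
        · exfalso
          rw [h, hdj, hm] at h4
          push_cast at h4
          obtain ⟨c, hc⟩ := h4
          have e : ((2 : ℤ) * m + 1) ^ 2 = 4 * ((m : ℤ) * m + m) + 1 := by ring
          omega
      have h25 : 5 * 5 ≤ p * p := Nat.mul_le_mul hp5 hp5
      obtain ⟨t, ht, htodd, ht3⟩ : ∃ t, p ^ 2 + 1 = 2 * t ∧ ¬ 2 ∣ t ∧ ¬ 3 ∣ t := by
        have h3 : p % 3 = 1 ∨ p % 3 = 2 := by
          have : ¬ 3 ∣ p := fun h => hp3 ((Nat.prime_dvd_prime_iff_eq Nat.prime_three hp).1 h).symm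
          omega
        refine ⟨2 * m * m + 2 * m + 1, by rw [hm]; ring, by
          have : 2 * m * m = 2 * (m * m) := by ring
          omega, ?_⟩
        intro h
        have h2 : 3 ∣ p ^ 2 + 1 := by
          rw [show p ^ 2 + 1 = 2 * (2 * m * m + 2 * m + 1) by rw [hm]; ring]
          exact h.mul_left 2
        rw [Nat.dvd_iff_mod_eq_zero, Nat.add_mod, Nat.pow_mod] at h2
        rcases h3 with h3 | h3 <;> rw [h3] at h2 <;> norm_num at h2
      have ht1 : t ≠ 1 := by rw [pow_two] at ht; omega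
      set r := t.minFac
      have hr : r.Prime := Nat.minFac_prime ht1
      have hrt : r ∣ t := Nat.minFac_dvd t
      refine hpr r hr (hrG r hr (fun h => htodd (h ▸ hrt)) (fun h => ht3 (h ▸ hrt)) ?_) i ?_
      · intro h
        have h2 : p ∣ p ^ 2 + 1 := ht ▸ (h ▸ hrt).mul_left 2
        exact hp.ne_one (Nat.dvd_one.1 ((Nat.dvd_add_right (dvd_pow_self p two_ne_zero)).1 h2))
      · rw [hi1, hdj]
        have h2 : (r : ℕ) ∣ p ^ 2 + 1 := ht ▸ hrt.mul_left 2
        exact_mod_cast h2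
  · by_cases h3 : ∃ i, charDegree (χ i : G → ℂ) = 3
    · obtain ⟨i, hi⟩ := h3
      have := exponent_of_degree hnc Nat.prime_three hi
      rw [hf3] at this
      rw [hG, this]
      norm_num
    exfalso
    push Not at h3
    have hterm : ∀ i, ε i * (charDegree (χ i : G → ℂ) : ℤ) = 5 ∨
        (9 : ℤ) ∣ ε i * (charDegree (χ i : G → ℂ) : ℤ) := by
      intro i
      obtain ⟨-, hs, h4, hd⟩ := hχ i
      have h2i := hge i
      have h3i := h3 i
      by_cases h9 : 9 ∣ charDegree (χ i : G → ℂ)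
      · exact Or.inr (Dvd.dvd.mul_left (by exact_mod_cast h9) _)
      left
      have hd45 : charDegree (χ i : G → ℂ) ∣ 15 := by
        obtain ⟨u, v, hu, hv, huv⟩ := exists_dvd_and_dvd_of_dvd_mul hd
        obtain ⟨j, hj, rfl⟩ := (Nat.dvd_prime_pow Nat.prime_three).1 hv
        rw [huv]
        have hj1 : j ≤ 1 := by
          by_contra hj1
          exact h9 (huv ▸ Dvd.dvd.mul_left
            ((show (9 : ℕ) = 3 ^ 2 by norm_num) ▸ pow_dvd_pow 3 (by omega)) u)
        rw [show (15 : ℕ) = 5 ^ 1 * 3 ^ 1 by norm_num]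
        exact Nat.mul_dvd_mul hu (pow_dvd_pow 3 hj1)
      have hle := Nat.le_of_dvd (by norm_num) hd45
      have h1 : charDegree (χ i : G → ℂ) = 5 ∨ charDegree (χ i : G → ℂ) = 15 := by
        interval_cases hh : charDegree (χ i : G → ℂ) <;> omega
      rcases h1 with h1 | h1
      · rw [h1] at h4 ⊢
        rcases hs with h | h <;> rw [h] at h4 ⊢ <;> omega
      · exfalso
        refine hpr 7 (by norm_num) (hrG 7 (by norm_num) (by norm_num) (by norm_num) (by norm_num))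
          i ?_
        rw [h1] at h4 ⊢
        rcases hs with h | h <;> rw [h] at h4 ⊢ <;> omega
    rcases hterm 0 with h0 | h0 <;> rcases hterm 1 with h1 | h1 <;> rcases hterm 2 with h2 | h2 <;>
      omega

theorem sixty_of_le (hnc : ¬ IsCyclic G) (h : Nat.card G ≤ 165) : Nat.card G = 60 := by
  have := Cfsg.Agent.S0496.result (G := G) (not_mul_comm hnc) (by omega)
  omega

/-- Order `12 · q^b`. -/
theorem twelve (hnc : ¬ IsCyclic G) {q b : ℕ} (hq : q.Prime) (hq5 : 5 ≤ q)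
    (hG : Nat.card G = 12 * q ^ b) : Nat.card G = 60 := by
  haveI := Fact.mk hq
  have hq12 : ¬ q ∣ 12 := fun h => by
    have := Nat.le_of_dvd (by norm_num) h
    interval_cases q <;> first | omega | norm_num at hq
  have hk : Nat.card G = q ^ b * 12 := by rw [hG, mul_comm]
  obtain ⟨hn, hn1⟩ := sylow_facts b 12 hk hq12
  obtain ⟨Q⟩ : Nonempty (Sylow q G) := inferInstance
  have hb : b ≠ 0 := fun h => by
    rw [h] at hG
    exact not_two_primes hnc (i := 2) (j := 1) Nat.prime_two Nat.prime_three (by rw [hG]; norm_num)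
  have hne : Subgroup.normalizer ((Q : Subgroup G) : Set G) ≠ ⊤ := fun h => by
    rcases (Subgroup.normalizer_eq_top_iff.1 h).eq_bot_or_eq_top with h' | h'
    · have := card_sylow b 12 hk hq12 Q
      rw [h', Subgroup.card_bot] at this
      exact absurd this.symm (one_lt_pow₀ hq.one_lt hb).ne'
    · exact not_two_primes hnc (i := b) (j := 0) hq hq (by
        rw [pow_zero, mul_one, ← card_sylow b 12 hk hq12 Q, h', Subgroup.card_top])
  have hidx : (Subgroup.normalizer ((Q : Subgroup G) : Set G)).index = Nat.card (Sylow q G) := by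
    rw [Q.card_eq_index_normalizer, Sylow.coe_coe]
  have hn2 : Nat.card (Sylow q G) ≠ 1 := fun h => hne (Subgroup.index_eq_one.1 (hidx.trans h))
  have hfac : Nat.card G ∣ (Nat.card (Sylow q G)).factorial := hidx ▸ card_dvd_factorial hne
  have hqb : q ^ b ∣ (Nat.card (Sylow q G)).factorial := (Dvd.intro _ hk.symm).trans hfac
  have hle := Nat.le_of_dvd (by norm_num) hn
  have hqn : q < Nat.card (Sylow q G) := by
    by_contra hc
    rcases Nat.lt_or_eq_of_le (not_lt.1 hc) with h | h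
    · rw [Nat.mod_eq_of_lt h] at hn1
      exact hn2 hn1
    · rw [h, Nat.mod_self] at hn1
      exact zero_ne_one hn1
  have hb1 : b = 1 := by
    by_contra hb1
    have h2 : q ^ 2 ∣ (Nat.card (Sylow q G)).factorial :=
      (pow_dvd_pow q (by omega)).trans hqb
    have hcases : Nat.card (Sylow q G) = 6 ∨ Nat.card (Sylow q G) = 12 := by
      interval_cases hh : Nat.card (Sylow q G) <;> omega
    rcases hcases with h | h <;> rw [h] at h2 hn1 hqn <;> interval_cases q <;>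
      first | omega | norm_num [Nat.factorial] at hq h2
  rw [hb1, pow_one] at hG
  exact sixty_of_le hnc (by omega)

/-- A prime other than `2`, `3`, `5` dividing `5^k + 1`. -/
theorem exists_prime_five_pow {k : ℕ} (hk : 2 ≤ k) :
    ∃ r : ℕ, r.Prime ∧ r ≠ 2 ∧ r ≠ 3 ∧ r ≠ 5 ∧ r ∣ 5 ^ k + 1 := by
  by_cases h9 : 9 ∣ 5 ^ k + 1
  · refine ⟨7, by norm_num, by norm_num, by norm_num, by norm_num, ?_⟩
    have e : ∀ m : ℕ, m ∣ 63 → 5 ^ k % m = 5 ^ (k % 6) % m := by
      intro m hm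
      have h6 : 5 ^ 6 % m = 1 % m := (Nat.ModEq.of_dvd hm (by decide : 5 ^ 6 ≡ 1 [MOD 63]))
      conv_lhs => rw [← Nat.div_add_mod k 6, pow_add, pow_mul, Nat.mul_mod, Nat.pow_mod, h6,
        ← Nat.pow_mod, one_pow, ← Nat.mul_mod, one_mul]
    rw [Nat.dvd_iff_mod_eq_zero, Nat.add_mod, e 9 (by norm_num)] at h9
    rw [Nat.dvd_iff_mod_eq_zero, Nat.add_mod, e 7 (by norm_num)]
    have : k % 6 < 6 := Nat.mod_lt _ (by norm_num)
    interval_cases hh : k % 6 <;> norm_num at h9 <;> norm_num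
  have h25 : 25 ≤ 5 ^ k := (show 25 = 5 ^ 2 by norm_num) ▸ Nat.pow_le_pow_right (by norm_num) hk
  have h4 : 5 ^ k % 4 = 1 := by rw [Nat.pow_mod]; norm_num
  have h5 : 5 ^ k % 5 = 0 := Nat.mod_eq_zero_of_dvd (dvd_pow_self 5 (by omega))
  set t := if 3 ∣ 5 ^ k + 1 then (5 ^ k + 1) / 2 / 3 else (5 ^ k + 1) / 2 with ht
  have ht' : t ∣ 5 ^ k + 1 ∧ t ≠ 1 ∧ ¬ 2 ∣ t ∧ ¬ 3 ∣ t := by
    rw [ht]
    split_ifs with h3
    · refine ⟨⟨6, by omega⟩, ?_, ?_, ?_⟩ <;> omega
    · refine ⟨⟨2, by omega⟩, ?_, ?_, ?_⟩ <;> omega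
  have hr := Nat.minFac_prime ht'.2.1
  have hrt := Nat.minFac_dvd t
  refine ⟨t.minFac, hr, fun h => ht'.2.2.1 (h ▸ hrt), fun h => ht'.2.2.2 (h ▸ hrt), fun h => ?_,
    hrt.trans ht'.1⟩
  have h6 := hrt.trans ht'.1
  rw [h] at h6
  omega

/-- Order `36 · q^b` does not occur. -/
theorem thirty_six (hnc : ¬ IsCyclic G) {q b : ℕ} (hq : q.Prime) (hq5 : 5 ≤ q)
    (hG : Nat.card G = 4 * (3 ^ 2 * q ^ b)) : False := by
  have hq3 : 3 ≠ q := by omega
  have hg : Odd (3 ^ 2 * q ^ b) :=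
    (Odd.pow (by decide)).mul (hq.odd_of_ne_two (by omega)).pow
  obtain ⟨χ, ε, hχ, hrel, hpr⟩ := klein_data hnc hg hG
  have hf3 := fac_of_eq (p := 3) (c := 4) Nat.prime_three hq hq3 (by norm_num) hG
  have hge : ∀ i, 2 ≤ charDegree (χ i : G → ℂ) := fun i => two_le_charDegree hnc (hχ i).1
  obtain ⟨i, hi⟩ := exists_not_dvd hq (d := fun i => charDegree (χ i : G → ℂ)) hrel
  obtain ⟨-, hs, h4, hd⟩ := hχ i
  obtain ⟨j, hj, hdj⟩ := dvd_prime_pow_mul Nat.prime_three hq hq3 hd hi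
  have h2i := hge i
  have hi9 : charDegree (χ i : G → ℂ) = 9 := by
    interval_cases j
    · rw [pow_zero] at hdj; omega
    · have := exponent_of_degree hnc Nat.prime_three (hdj.trans (pow_one 3))
      omega
    · rw [hdj]; norm_num
  have hq_eq : q = 5 := by
    by_contra hne
    refine hpr 5 (by norm_num) (fun h => ?_) i ?_
    · rw [hG] at h
      rcases Nat.prime_five.dvd_mul.1 h with h | h
      · norm_num at h
      · rcases Nat.prime_five.dvd_mul.1 h with h | h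
        · norm_num at h
        · exact hne ((Nat.prime_dvd_prime_iff_eq Nat.prime_five hq).1
            (Nat.prime_five.dvd_of_dvd_pow h)).symm
    · rw [hi9] at h4 ⊢
      rcases hs with h | h <;> rw [h] at h4 ⊢ <;> omega
  subst hq_eq
  obtain ⟨l, hl⟩ := exists_not_dvd (s := 3) Nat.prime_three
    (d := fun i => charDegree (χ i : G → ℂ)) hrel
  obtain ⟨-, hsl, h4l, hdl⟩ := hχ l
  rw [mul_comm] at hdl
  obtain ⟨k, -, hdk⟩ := dvd_prime_pow_mul hq Nat.prime_three hq3.symm hdl hl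
  have h2l := hge l
  have hk0 : k ≠ 0 := fun h => by rw [h, pow_zero] at hdk; omega
  by_cases hk : k = 1
  · rw [hk, pow_one] at hdk
    have h1 := exponent_of_degree hnc hq hdk
    rw [fac_of_eq (p := 5) (q := 3) (a := b) (b := 2) (c := 4) hq Nat.prime_three hq3.symm
      (by norm_num) (by rw [hG]; ring)] at h1
    rw [h1] at hG
    have := Cfsg.Agent.S0496.result (G := G) (not_mul_comm hnc) (by omega)
    omega
  · obtain ⟨r, hr, r2, r3, r5, hrd⟩ := exists_prime_five_pow (k := k) (by omega)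
    refine hpr r hr (fun h => ?_) l ?_
    · rw [hG] at h
      rcases hr.dvd_mul.1 h with h | h
      · exact r2 ((Nat.prime_dvd_prime_iff_eq hr Nat.prime_two).1
          (hr.dvd_of_dvd_pow (show r ∣ 2 ^ 2 from h)))
      · rcases hr.dvd_mul.1 h with h | h
        · exact r3 ((Nat.prime_dvd_prime_iff_eq hr Nat.prime_three).1 (hr.dvd_of_dvd_pow h))
        · exact r5 ((Nat.prime_dvd_prime_iff_eq hr hq).1 (hr.dvd_of_dvd_pow h))
    · have h4' : 5 ^ k % 4 = 1 := by rw [Nat.pow_mod]; norm_num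
      have hl1 : ε l = 1 := by
        rcases hsl with h | h
        · exact h
        · exfalso
          rw [h, hdk] at h4l
          omega
      rw [hl1, hdk]
      exact_mod_cast hrd

theorem sum_shape_two {p : ℕ} [Fact p.Prime] {P : Sylow p G} (S : Shape P 2) :
    ∃ u v : IrrCharacter G, u ∈ S.Z ∧ v ∈ S.Z ∧ u ≠ one' G ∧ v ≠ one' G ∧
      1 + S.σ u * (charDegree (u : G → ℂ) : ℤ) + S.σ v * (charDegree (v : G → ℂ) : ℤ) = 0 := by
  classical
  have hcard : (S.Z.erase (one' G)).card = 2 := by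
    rw [Finset.card_erase_of_mem S.one_mem, S.Z_eq, Finset.card_insert_of_notMem S.θ_notMem,
      S.card_X]
  obtain ⟨u, v, huv, he⟩ := Finset.card_eq_two.1 hcard
  have hu : u ∈ S.Z.erase (one' G) := by rw [he]; simp
  have hv : v ∈ S.Z.erase (one' G) := by rw [he]; simp
  have hr := S.rel 1 (by
    rw [orderOf_one]
    exact fun h => (Fact.out : p.Prime).ne_one (Nat.dvd_one.1 h))
  rw [← Finset.add_sum_erase _ _ S.one_mem, he, Finset.sum_pair huv, S.sign_one, one'_apply,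
    Block.apply_one_eq_charDegree, Block.apply_one_eq_charDegree] at hr
  refine ⟨u, v, Finset.mem_of_mem_erase hu, Finset.mem_of_mem_erase hv, Finset.ne_of_mem_erase hu,
    Finset.ne_of_mem_erase hv, ?_⟩
  apply Int.cast_injective (α := ℂ)
  push_cast at hr ⊢
  linear_combination hr

theorem sq_ne_two_pow {p k : ℕ} (hp : p.Prime) (hp5 : 5 ≤ p) :
    p ^ 2 + 1 ≠ 2 ^ k ∧ p ^ 2 ≠ 2 ^ k + 1 := by
  obtain ⟨m, hm⟩ := hp.odd_of_ne_two (by omega)
  have e : p ^ 2 = 4 * (m * m + m) + 1 := by rw [hm]; ring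
  have h25 : 5 * 5 ≤ p * p := Nat.mul_le_mul hp5 hp5
  rw [← pow_two p] at h25
  refine ⟨fun h => ?_, fun h => ?_⟩
  · rcases Nat.lt_or_ge k 2 with hk | hk
    · interval_cases k <;> omega
    · obtain ⟨c, hc⟩ := (show 4 ∣ 2 ^ k from (show 4 = 2 ^ 2 by norm_num) ▸ pow_dvd_pow 2 hk)
      omega
  · have hmul : (p + 1) * (p - 1) = 2 ^ k := by
      rw [← Nat.sq_sub_sq p 1, one_pow]
      omega
    obtain ⟨i, -, hi⟩ := (Nat.dvd_prime_pow Nat.prime_two).1 (Dvd.intro _ hmul)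
    obtain ⟨j, -, hj⟩ := (Nat.dvd_prime_pow Nat.prime_two).1 (Dvd.intro_left _ hmul)
    rcases Nat.lt_or_ge j 2 with hj2 | hj2
    · interval_cases j <;> omega
    · rcases Nat.lt_or_ge i 2 with hi2 | hi2
      · interval_cases i <;> omega
      · obtain ⟨c, hc⟩ := (show 4 ∣ 2 ^ i from (show 4 = 2 ^ 2 by norm_num) ▸ pow_dvd_pow 2 hi2)
        obtain ⟨c', hc'⟩ := (show 4 ∣ 2 ^ j from (show 4 = 2 ^ 2 by norm_num) ▸ pow_dvd_pow 2 hj2)
        omega

/-- Order `3 · p^2 · 2^b` does not occur for `p ≥ 5`. -/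
theorem three_two (hnc : ¬ IsCyclic G) {p b : ℕ} (hp : p.Prime) (hp5 : 5 ≤ p)
    (hG : Nat.card G = 3 * (p ^ 2 * 2 ^ b)) : False := by
  haveI : Fact (Nat.Prime 3) := ⟨Nat.prime_three⟩
  have hp3 : p ≠ 3 := by omega
  have hp2 : p ≠ 2 := by omega
  have hfp := fac_of_eq hp Nat.prime_two hp2
    (fun h => hp3 ((Nat.prime_dvd_prime_iff_eq hp Nat.prime_three).1 h)) hG
  have hf3 : (Nat.card G).factorization 3 = 1 := by
    have h1 : ¬ 3 ∣ p ^ 2 * 2 ^ b := fun h => (Nat.prime_three.dvd_mul.1 h).elim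
      (fun h => hp3 ((Nat.prime_dvd_prime_iff_eq Nat.prime_three hp).1
        (Nat.prime_three.dvd_of_dvd_pow h)).symm)
      fun h => absurd (Nat.prime_three.dvd_of_dvd_pow h) (by norm_num)
    rw [hG, Nat.factorization_mul (by norm_num) (fun h0 => h1 (by rw [h0]; exact dvd_zero 3)),
      Finsupp.add_apply,
      Nat.prime_three.factorization_self, Nat.factorization_eq_zero_of_not_dvd h1]
  obtain ⟨P⟩ : Nonempty (Sylow 3 G) := inferInstance
  obtain ⟨-, e, he2, hed, ⟨S⟩⟩ := ThreePrime.exists_data hnc (by norm_num) hf3 P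
  obtain rfl : e = 2 := by
    have := Nat.le_of_dvd (by norm_num) hed
    omega
  obtain ⟨u, v, hu, hv, hu1, hv1, hrel⟩ := sum_shape_two S
  have hnd : ∀ χ ∈ S.Z, ¬ 3 ∣ charDegree (χ : G → ℂ) := by
    intro χ hχ h
    have h0 : ((3 : ℕ) : ℤ) ∣ S.σ χ * (charDegree (χ : G → ℂ) : ℤ) :=
      Dvd.dvd.mul_left (Int.natCast_dvd_natCast.2 h) _
    rw [S.Z_eq, Finset.mem_insert] at hχ
    have hc : S.σ χ * (charDegree (χ : G → ℂ) : ℤ) % 3 ≠ 0 := by
      rcases hχ with rfl | hχ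
      · have := S.congθ
        rw [Int.ModEq] at this
        norm_num at this ⊢
        omega
      · have := S.cong χ hχ
        rw [Int.ModEq] at this
        norm_num at this ⊢
        omega
    exact hc (Int.emod_eq_zero_of_dvd (by exact_mod_cast h0))
  have hdeg : ∀ χ ∈ S.Z, charDegree (χ : G → ℂ) ∣ p ^ 2 * 2 ^ b := by
    intro χ hχ
    have h : charDegree (χ : G → ℂ) ∣ Nat.card G :=
      Char.degree_dvd_card χ.2 (Block.apply_one_eq_charDegree χ)
    rw [hG] at h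
    exact ((Nat.prime_three.coprime_iff_not_dvd.2 (hnd χ hχ)).symm).dvd_of_dvd_mul_left h
  have key : ∀ x y : IrrCharacter G, x ∈ S.Z → y ∈ S.Z → x ≠ one' G →
      ¬ 2 ∣ charDegree (x : G → ℂ) →
      (charDegree (x : G → ℂ) = charDegree (y : G → ℂ) + 1 ∨
        charDegree (y : G → ℂ) = charDegree (x : G → ℂ) + 1) → False := by
    intro x y hx hy hx1 hodd hxy
    obtain ⟨i, hi, hdx⟩ := dvd_prime_pow_mul hp Nat.prime_two hp2 (hdeg x hx) hodd
    have := two_le_charDegree hnc hx1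
    interval_cases i
    · rw [pow_zero] at hdx; omega
    · have := exponent_of_degree hnc hp (hdx.trans (pow_one p))
      omega
    · have hyp : ¬ p ∣ charDegree (y : G → ℂ) := fun h => by
        have hx' : p ∣ charDegree (x : G → ℂ) := hdx ▸ dvd_pow_self p two_ne_zero
        rcases hxy with e | e
        · exact hp.ne_one (Nat.dvd_one.1 ((Nat.dvd_add_right h).1 (e ▸ hx')))
        · exact hp.ne_one (Nat.dvd_one.1 ((Nat.dvd_add_right hx').1 (e ▸ h)))
      have h2 := hdeg y hy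
      rw [mul_comm] at h2
      obtain ⟨k, -, hdy⟩ := dvd_prime_pow_mul Nat.prime_two hp hp2.symm h2 hyp
      rw [hdx, hdy] at hxy
      obtain ⟨h3, h4⟩ := sq_ne_two_pow (k := k) hp hp5
      omega
  have hu2 := two_le_charDegree hnc hu1
  have hv2 := two_le_charDegree hnc hv1
  rcases S.sign u hu with su | su <;> rcases S.sign v hv with sv | sv <;> rw [su, sv] at hrel <;>
    first
    | omega
    | (by_cases h : 2 ∣ charDegree (u : G → ℂ)
       · exact key v u hv hu hv1 (by omega) (by omega)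
       · exact key u v hu hv hu1 h (by omega))

theorem fac_three {m : ℕ} (hm : ¬ 3 ∣ m) (hG : Nat.card G = 3 * m) :
    (Nat.card G).factorization 3 = 1 := by
  rw [hG, Nat.factorization_mul (by norm_num) (fun h0 => hm (by rw [h0]; exact dvd_zero 3)),
    Finsupp.add_apply, Nat.prime_three.factorization_self,
    Nat.factorization_eq_zero_of_not_dvd hm]

/-- A four-group Sylow subgroup needs an element of order three. -/
theorem no_three_free (hnc : ¬ IsCyclic G) {g : ℕ} (hG : Nat.card G = 4 * g) (hg : Odd g)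
    (h3 : ¬ 3 ∣ g) : False := by
  classical
  haveI : Fact (Nat.Prime 2) := ⟨Nat.prime_two⟩
  obtain ⟨P⟩ : Nonempty (Sylow 2 G) := inferInstance
  have hg2 : ¬ 2 ∣ g := fun h => Nat.not_even_iff_odd.2 hg (even_iff_two_dvd.2 h)
  have hP4 : Nat.card (P : Subgroup G) = 4 := by
    rw [card_sylow 2 g (by rw [hG]; norm_num) hg2 P]; norm_num
  set Pg := (P : Subgroup G)
  set N := Subgroup.normalizer (Pg : Set G)
  set C := Subgroup.centralizer (Pg : Set G)
  refine not_normalizer_le_centralizer hnc P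
    (fun h => by rw [show Pg = ⊥ from h, Subgroup.card_bot] at hP4; omega)
    (Subgroup.relIndex_eq_one.1 ?_)
  let act : MulAut Pg →* Equiv.Perm {x : Pg // x ≠ 1} :=
    { toFun := fun φ => φ.toEquiv.subtypeEquiv fun x => by simp
      map_one' := by ext x; rfl
      map_mul' := fun φ ψ => by ext x; rfl }
  have hinj : Function.Injective act := fun φ ψ h => by
    refine MulEquiv.ext fun x => ?_
    by_cases hx : x = 1
    · rw [hx, map_one, map_one]
    · exact congrArg (fun e : Equiv.Perm {x : Pg // x ≠ 1} => ((e ⟨x, hx⟩ : {x : Pg // x ≠ 1}) : Pg)) h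
  have h6 : Nat.card (Equiv.Perm {x : Pg // x ≠ 1}) = 6 := by
    haveI := Fintype.ofFinite Pg
    rw [Nat.card_perm, Nat.card_eq_fintype_card, Fintype.card_subtype_compl,
      Fintype.card_subtype_eq, ← Nat.card_eq_fintype_card, hP4]
    rfl
  have hdvd6 : C.relIndex N ∣ 6 := by
    rw [← h6]
    refine Dvd.dvd.trans ?_ (Subgroup.card_dvd_of_injective act hinj)
    rw [Subgroup.relIndex, show C.subgroupOf N = Pg.normalizerMonoidHom.ker from
      (Pg.normalizerMonoidHom_ker).symm, Subgroup.index_ker]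
    exact Subgroup.card_subgroup_dvd_card _
  have hPC : Pg ≤ C := fun x hx => Subgroup.mem_centralizer_iff.2 fun y hy => by
    haveI := IsPGroup.isMulCommutative_of_card_eq_prime_sq (p := 2) (G := Pg) (by rw [hP4]; norm_num)
    exact congrArg Subtype.val (mul_comm' (⟨y, hy⟩ : Pg) ⟨x, hx⟩)
  have hdg : C.relIndex N ∣ g := by
    obtain ⟨m, hm⟩ := hP4 ▸ Subgroup.card_dvd_of_le hPC
    have h1 := Subgroup.card_mul_index (C.subgroupOf N)
    rw [Nat.card_congr (Subgroup.subgroupOfEquivOfLe (Subgroup.centralizer_le_normalizer _)).toEquiv,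
      ← Subgroup.relIndex, hm] at h1
    have h2 : Nat.card N ∣ 4 * g := hG ▸ Subgroup.card_subgroup_dvd_card N
    rw [← h1, mul_assoc] at h2
    exact (dvd_mul_left _ _).trans (Nat.dvd_of_mul_dvd_mul_left (by norm_num) h2)
  have hle := Nat.le_of_dvd (by norm_num) hdvd6
  interval_cases hh : C.relIndex N <;> omega

/-- Order `4 · p · 3^b` with a prime `p ≥ 7`. -/
theorem large_prime (hnc : ¬ IsCyclic G) {p b : ℕ} (hp : p.Prime) (hp7 : 7 ≤ p)
    (hG : Nat.card G = 4 * (p ^ 1 * 3 ^ b)) : False := by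
  have hodd : ¬ 8 ∣ Nat.card G := fun h => by
    rw [hG, show (8 : ℕ) = 4 * 2 by norm_num] at h
    rcases Nat.prime_two.dvd_mul.1 (Nat.dvd_of_mul_dvd_mul_left (by norm_num) h) with h | h
    · rw [pow_one] at h
      have := (Nat.prime_dvd_prime_iff_eq Nat.prime_two hp).1 h
      omega
    · exact absurd (Nat.prime_two.dvd_of_dvd_pow h) (by norm_num)
  rcases Cfsg.Agent.S0997.result hnc p 3 b 4 hp Nat.prime_three (by omega) (by rw [hG]; ring)
    (by omega) with ⟨m, F, _, _, hF, hm, ⟨e⟩⟩ | ⟨m, F, _, _, hF, hm, -, ⟨e⟩⟩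
  · have hc := Cfsg.Lib.Linear.Two.card_PSL_two (F := F)
    rw [← Nat.card_congr e.toEquiv, hF] at hc
    have hpodd := hp.odd_of_ne_two (by omega)
    have hg : Nat.gcd 2 (p - 1) = 2 := Nat.gcd_eq_left (by obtain ⟨k, rfl⟩ := hpodd; omega)
    rw [hg] at hc
    have hm3 : 3 ≤ m := by
      by_contra hm3
      interval_cases m <;> omega
    obtain ⟨t, ht⟩ := Nat.exists_eq_add_of_le hm3
    have h16 : 16 ∣ p ^ 2 - 1 := by
      have h8 : 2 ^ m = 8 * 2 ^ t := by rw [ht, pow_add]; norm_num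
      have hpos : 0 < 2 ^ t := pow_pos two_pos t
      rcases hm with hm | hm
      · refine ⟨2 ^ t * (4 * 2 ^ t + 1), ?_⟩
        rw [hm, h8, show (8 * 2 ^ t + 1) ^ 2 = 16 * (2 ^ t * (4 * 2 ^ t + 1)) + 1 by ring]
        omega
      · refine ⟨2 ^ t * (4 * 2 ^ t - 1), ?_⟩
        have hx : p + 1 = 8 * 2 ^ t := by omega
        have h1 : (p + 1) * (p - 1) = p ^ 2 - 1 := by rw [← Nat.sq_sub_sq, one_pow]
        rw [← h1, hx, show p - 1 = 2 * (4 * 2 ^ t - 1) by omega]
        ring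
    apply hodd
    have : 2 * 8 ∣ 2 * Nat.card G := hc ▸ Dvd.dvd.mul_left h16 p
    exact Nat.dvd_of_mul_dvd_mul_left two_pos this
  · have hc := Cfsg.Lib.Linear.Two.card_PSL_two (F := F)
    rw [← Nat.card_congr e.toEquiv, hF] at hc
    have hm3 : 3 ≤ m := by
      by_contra hm3
      interval_cases m <;> omega
    have h8 : (2 : ℕ) ^ 3 ∣ 2 ^ m := pow_dvd_pow 2 hm3
    have hg : Nat.gcd 2 (2 ^ m - 1) = 1 := by
      refine (Nat.prime_two.coprime_iff_not_dvd.2 fun h => ?_ : Nat.Coprime 2 (2 ^ m - 1))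
      have := pow_pos two_pos m (a := (2:ℕ))
      obtain ⟨c, hc⟩ := h8
      omega
    rw [hg, one_mul] at hc
    exact hodd (hc ▸ h8.mul_right _)

end Cfsg.Lib.Small.SmallCofactor
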