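import Cfsg.Agent.Lib.Small.BlockOrders
import Cfsg.Agent.Lib.Block.Principal
import Cfsg.Agent.Lib.Block.Cartan
import Cfsg.Agent.Lib.Block.DegreePSubTwo
import Cfsg.Agent.Lib.Block.KleinBlock
import Cfsg.Agent.Lib.Char.Burnside
import Cfsg.Agent.Lib.MEleven.Basic

/-!
# Tools for simple groups whose order has two simple prime divisors

* `principal_of_small_part`: if the nontrivial `q`-regular elements have classes of size divisible
  by the full `q`-part of the order, every character of smaller `q`-part is in the principal block;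
* `apply_ne_zero_of_principal`: such a character does not vanish on a class of size prime to `q`;
* `card_centralizer_of_degree`: an irreducible character of degree `p`, with `p` dividing the order
  once, forces self-centralizing Sylow `p`-subgroups.
-/

set_option autoImplicit false
set_option linter.unusedSectionVars false
set_option linter.style.haveILetI false

namespace Cfsg.Lib.Small.ThreePrime

open Cfsg Cfsg.Lib
open scoped ComplexConjugate

universe u

variable {G : Type u} [Group G] [Fintype G]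

/-- A class function supported on large classes has a sum congruent to its value at one. -/
theorem exists_sum_eq {f : G → ℂ} (hf : IsClassFunction G f) (hint : ∀ g, IsIntegral ℤ (f g))
    (m : ℕ) (hm : ∀ g : G, g ≠ 1 → f g ≠ 0 → m ∣ (Subgroup.centralizer ({g} : Set G)).index) :
    ∃ α : ℂ, IsIntegral ℤ α ∧ ∑ g, f g = f 1 + (m : ℂ) * α := by
  classical
  haveI : Finite (ConjClasses G) := Quotient.finite _
  haveI := Fintype.ofFinite (ConjClasses G)
  let a : ConjClasses G → ℂ := fun C =>
    (((Subgroup.centralizer ({C.out} : Set G)).index / m : ℕ) : ℂ) * f C.out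
  refine ⟨∑ C ∈ (Finset.univ.erase (ConjClasses.mk (1 : G))), a C,
    IsIntegral.sum _ fun C _ => IsIntegral.mul (isIntegral_algebraMap (R := ℤ) (x := (_ : ℤ))) (hint _), ?_⟩
  rw [← Finset.sum_fiberwise Finset.univ ConjClasses.mk f,
    ← Finset.add_sum_erase _ _ (Finset.mem_univ (ConjClasses.mk (1 : G))), Finset.mul_sum]
  congr 1
  · have h : (Finset.univ.filter fun x : G => ConjClasses.mk x = ConjClasses.mk 1) = {1} := by
      ext x
      simp [ConjClasses.mk_eq_mk_iff_isConj]
    rw [h, Finset.sum_singleton]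
  refine Finset.sum_congr rfl fun C hC => ?_
  have hC' : ConjClasses.mk C.out = C := Quotient.out_eq C
  have hset : (Finset.univ.filter fun x => ConjClasses.mk x = C) = Char.classFinset C.out := by
    ext x
    rw [Finset.mem_filter, Char.mem_classFinset]
    conv_lhs => rw [← hC', ConjClasses.mk_eq_mk_iff_isConj]
    exact ⟨fun h => h.2.symm, fun h => ⟨Finset.mem_univ _, h.symm⟩⟩
  rw [hset, Char.sum_classFinset hf, Char.card_classFinset]
  simp only [a]
  by_cases h0 : f C.out = 0
  · rw [h0, mul_zero, mul_zero, mul_zero]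
  have hne : C.out ≠ 1 := fun h => (Finset.mem_erase.1 hC).1 (by rw [← hC', h])
  rw [← mul_assoc, ← Nat.cast_mul, Nat.mul_div_cancel' (hm _ hne h0)]

/-- A character of small `q`-part lies in the principal block. -/
theorem principal_of_small_part {q : ℕ} [Fact q.Prime] {M : Ideal AlgInt} (hM : IsPModular q M)
    (N : ℕ) (hN : ∀ g : G, g ≠ 1 → ¬ q ∣ orderOf g → N ∣ (Subgroup.centralizer ({g} : Set G)).index)
    (χ : IrrCharacter G) (hd : ¬ N ∣ charDegree (χ : G → ℂ)) : χ ∈ principalBlock M G := by
  classical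
  refine Block.mem_principal_of_regSum_ne hM χ fun h => hd ?_
  have hN0 : N ≠ 0 → ((N : ℕ) : ℂ) ≠ 0 := Nat.cast_ne_zero.2
  have hcl : IsClassFunction G (pRegularPart q (χ : G → ℂ)) := by
    intro x y
    have e : IsPRegular q (y * x * y⁻¹) ↔ IsPRegular q x := by
      unfold IsPRegular
      rw [show y * x * y⁻¹ = MulAut.conj y x by simp, (MulAut.conj y).orderOf_eq]
    simp only [pRegularPart]
    split_ifs with h1 h2 h2
    all_goals first
      | exact χ.2.isClassFunction x y
      | rfl
      | exact absurd (e.1 h1) h2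
      | exact absurd (e.2 h2) h1
      | exact absurd (e.1 h2) h1
      | exact absurd (e.2 h1) h2
  have hone : pRegularPart q (χ : G → ℂ) 1 = (charDegree (χ : G → ℂ) : ℂ) := by
    rw [Block.pRegularPart_of_reg (show IsPRegular q (1 : G) by
      simp [IsPRegular, (Fact.out : q.Prime).ne_one]), Block.apply_one_eq_charDegree]
  obtain ⟨α, hα, hsum⟩ := exists_sum_eq hcl (fun g => by
      simp only [pRegularPart]
      split_ifs
      · exact χ.2.isCharacter.isIntegral g
      · exact isIntegral_zero) N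
    fun g hg hg0 => hN g hg fun hdvd => hg0 (Block.pRegularPart_of_sing fun h' => h' hdvd)
  rw [hsum, hone] at h
  rcases eq_or_ne N 0 with rfl | hN'
  · rw [Nat.cast_zero, zero_mul, add_zero, Nat.cast_eq_zero] at h
    rw [h]
  refine Char.natCast_dvd_of_isIntegral hN' ?_
  have e : (charDegree (χ : G → ℂ) : ℂ) / (N : ℂ) = -α := by
    rw [div_eq_iff (hN0 hN')]
    linear_combination h
  rw [e]
  exact hα.neg

/-- A member of the principal block does not vanish on a class of size prime to `q`. -/
theorem apply_ne_zero_of_principal {q : ℕ} [Fact q.Prime] {M : Ideal AlgInt} (hM : IsPModular q M)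
    {χ : IrrCharacter G} (hχ : χ ∈ principalBlock M G) {z : G}
    (hz : ¬ q ∣ (Subgroup.centralizer ({z} : Set G)).index) : (χ : G → ℂ) z ≠ 0 := by
  intro h0
  have h := (Block.mem_blockOf.1 hχ : SameBlock M (fun _ : G => (1 : ℂ)) (χ : G → ℂ)) z
  simp only [centralChar, h0, mul_zero, zero_div, sub_zero, div_one, mul_one] at h
  exact hz ((Block.memLocalIdeal_natCast_iff hM _).1 h)

/-- Burnside's vanishing lemma in a simple group. -/
theorem apply_eq_zero_of_coprime [IsSimpleGroup G] (hnc : ¬ IsCyclic G) {χ : IrrCharacter G}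
    (hχ : χ ≠ one' G) {z : G} (hz : z ≠ 1)
    (hco : (charDegree (χ : G → ℂ)).Coprime (Subgroup.centralizer ({z} : Set G)).index) :
    (χ : G → ℂ) z = 0 := by
  classical
  have hfaith : ∀ g : G, (χ : G → ℂ) g = (χ : G → ℂ) 1 → g = 1 := fun g => eq_one_of_apply_eq hχ
  obtain ⟨n, ρ, hirr, hρ⟩ := χ.2
  have hn : Module.finrank ℂ (Fin n → ℂ) = charDegree (χ : G → ℂ) := by
    have h := congrFun hρ 1
    rw [Representation.char_one, Block.apply_one_eq_charDegree] at h
    exact_mod_cast h
  rcases Char.character_zero_or_norm ρ z (by rw [Char.card_classFinset, hn]; exact hco) with h | h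
  · rwa [hρ] at h
  · rw [hρ, hn] at h
    have hc := Block.mem_center_of_norm_eq χ.2 hfaith (Block.apply_one_eq_charDegree χ) h
    refine absurd ?_ hz
    rcases (inferInstance : (Subgroup.center G).Normal).eq_bot_or_eq_top with hb | hb
    · rwa [hb, Subgroup.mem_bot] at hc
    · exact absurd (commutator_eq_top hnc) (by
        have : commutator G = ⊥ := by
          rw [commutator_eq_bot_iff_center_eq_top]; exact hb
        rw [this]
        exact bot_ne_top)

/-- An irreducible character of degree `p` vanishing off the `p`-regular elements forces the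
elements of order `p` to be self-centralizing. -/
theorem commute_eq_one [IsSimpleGroup G] (hnc : ¬ IsCyclic G) {p : ℕ} [Fact p.Prime]
    {θ : IrrCharacter G} (hθ : charDegree (θ : G → ℂ) = p)
    (hfac : (Nat.card G).factorization p = 1) {x y : G} (hx : orderOf x = p) (hxy : Commute x y)
    (hy : ¬ p ∣ orderOf y) : y = 1 := by
  classical
  have hpp : p.Prime := Fact.out
  have hne : θ ≠ one' G := fun h => hpp.ne_one (by rw [← hθ, h, charDegree_one'])
  have hvan : ∀ g : G, p ∣ orderOf g → (θ : G → ℂ) g = 0 := fun g hg => by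
    refine Cfsg.Lib.MEleven.apply_eq_zero_of_defectZero θ ?_ hg
    show (charDegree (θ : G → ℂ)).factorization p = _
    rw [hθ, hfac, hpp.factorization_self]
  set z := x * y with hz
  set N := orderOf y with hN
  have hN0 : 0 < N := orderOf_pos y
  have hpN : p * N ≠ 0 := Nat.mul_ne_zero hpp.ne_zero hN0.ne'
  have hzo : orderOf z = p * N := by
    rw [hz, hxy.orderOf_mul_eq_mul_orderOf_of_coprime (by
      rw [hx]; exact (hpp.coprime_iff_not_dvd).2 hy), hx]
  have hfaith : ∀ g : G, (θ : G → ℂ) g = (θ : G → ℂ) 1 → g = 1 := fun g => eq_one_of_apply_eq hne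
  obtain ⟨n, ρ, hirr, hρ⟩ := θ.2
  obtain ⟨μ, hμ, -, -, hpow, -, -⟩ := Char.character_eq_sum_roots ρ z
  rw [hzo] at hμ
  have hdim : Module.finrank ℂ (Fin n → ℂ) = p := by
    have h := congrFun hρ 1
    rw [Representation.char_one, Block.apply_one_eq_charDegree, hθ] at h
    exact_mod_cast h
  have hcard : ∀ ν : ℂ, ν ^ (p * N) = 1 → ((p * N : ℕ) : ℂ) *
      ((Finset.univ.filter fun j => μ j = ν).card : ℂ) =
        ∑ k ∈ Finset.range N, (ν⁻¹) ^ (p * k) * (θ : G → ℂ) (z ^ (p * k)) := by
    intro ν hν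
    rw [← sum_pow_inv_mul μ hμ hν]
    have hval : ∀ i, ∑ j, μ j ^ i = (θ : G → ℂ) (z ^ i) := fun i => by
      rw [← hpow i, hρ]
    simp only [hval]
    have hset : (Finset.range (p * N)).filter (fun i => p ∣ i) =
        (Finset.range N).image (fun k => p * k) := by
      ext i
      simp only [Finset.mem_filter, Finset.mem_range, Finset.mem_image]
      constructor
      · rintro ⟨hi, k, rfl⟩
        exact ⟨k, Nat.lt_of_mul_lt_mul_left hi, rfl⟩
      · rintro ⟨k, hk, rfl⟩
        exact ⟨Nat.mul_lt_mul_of_pos_left hk hpp.pos, dvd_mul_right _ _⟩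
    rw [← Finset.sum_subset (Finset.filter_subset (fun i => p ∣ i) _) fun i hi hi' => by
        rw [hvan (z ^ i), mul_zero]
        have hni : ¬ p ∣ i := fun h => hi' (Finset.mem_filter.2 ⟨hi, h⟩)
        rw [orderOf_pow, hzo]
        refine Nat.dvd_div_of_mul_dvd ?_
        refine Nat.mul_dvd_mul_right ?_ p |>.trans (dvd_of_eq (mul_comm N p))
        have hco : Nat.Coprime p i := (hpp.coprime_iff_not_dvd).2 hni
        rw [Nat.Coprime.gcd_mul_left_cancel N hco]
        exact Nat.gcd_dvd_left _ _,
      hset, Finset.sum_image fun k _ k' _ h => Nat.eq_of_mul_eq_mul_left hpp.pos h]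
  -- every translate of one eigenvalue by a `p`-th root of unity is an eigenvalue
  obtain ⟨j₀⟩ : Nonempty (Fin (Module.finrank ℂ (Fin n → ℂ))) :=
    ⟨⟨0, by rw [hdim]; exact hpp.pos⟩⟩
  obtain ⟨ζ, hζ⟩ : ∃ ζ : ℂ, IsPrimitiveRoot ζ p :=
    ⟨_, Complex.isPrimitiveRoot_exp p hpp.ne_zero⟩
  have hsurj : ∀ i : ℕ, ∃ j, μ j = μ j₀ * ζ ^ i := by
    intro i
    have hν : (μ j₀ * ζ ^ i) ^ (p * N) = 1 := by
      rw [mul_pow, hμ, one_mul, ← pow_mul, mul_comm, mul_assoc, pow_mul, hζ.pow_eq_one, one_pow]
    have h1 := hcard _ hν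
    have h2 := hcard _ (hμ j₀)
    have he : ∀ k, ((μ j₀ * ζ ^ i)⁻¹) ^ (p * k) = ((μ j₀)⁻¹) ^ (p * k) := fun k => by
      rw [inv_pow, inv_pow, mul_pow, ← pow_mul, mul_comm i, mul_assoc p, pow_mul ζ, hζ.pow_eq_one,
        one_pow, mul_one]
    simp only [he] at h1
    rw [← h2] at h1
    have h3 := mul_left_cancel₀ (Nat.cast_ne_zero.2 hpN) h1
    have h4 : (Finset.univ.filter fun j => μ j = μ j₀ * ζ ^ i).card =
        (Finset.univ.filter fun j => μ j = μ j₀).card := by exact_mod_cast h3
    obtain ⟨j, hj⟩ : (Finset.univ.filter fun j => μ j = μ j₀ * ζ ^ i).Nonempty := by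
      rw [← Finset.card_pos, h4, Finset.card_pos]
      exact ⟨j₀, by simp⟩
    exact ⟨j, (Finset.mem_filter.1 hj).2⟩
  choose g hg using hsurj
  have hμ0 : μ j₀ ≠ 0 := fun h => by
    have := hμ j₀
    rw [h, zero_pow hpN] at this
    exact zero_ne_one this
  have hinj : Function.Injective (fun i : Fin p => g i) := by
    intro i i' h
    have h' : μ (g i) = μ (g i') := congrArg μ h
    rw [hg, hg] at h'
    exact Fin.ext (hζ.pow_inj i.2 i'.2 (mul_left_cancel₀ hμ0 h'))
  have hbij : Function.Bijective (fun i : Fin p => g i) :=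
    (Fintype.bijective_iff_injective_and_card _).2 ⟨hinj, by simp [hdim]⟩
  have hall : ∀ j, μ j ^ p = μ j₀ ^ p := fun j => by
    obtain ⟨i, rfl⟩ := hbij.2 j
    rw [hg, mul_pow, ← pow_mul, mul_comm (i : ℕ), pow_mul, hζ.pow_eq_one, one_pow, mul_one]
  have hnorm : ‖(θ : G → ℂ) (z ^ p)‖ = (p : ℝ) := by
    have hn1 : ‖μ j₀‖ = 1 := Complex.norm_eq_one_of_pow_eq_one (hμ j₀) hpN
    rw [← hρ, hpow, Finset.sum_congr rfl fun j _ => hall j, Finset.sum_const, Finset.card_univ,
      Fintype.card_fin, hdim, nsmul_eq_mul, norm_mul, norm_pow, hn1, one_pow, mul_one,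
      Complex.norm_natCast]
  have hc := Block.mem_center_of_norm_eq θ.2 hfaith (by rw [Block.apply_one_eq_charDegree, hθ]) hnorm
  have hzp : z ^ p = 1 := by
    rcases (inferInstance : (Subgroup.center G).Normal).eq_bot_or_eq_top with hb | hb
    · rwa [hb, Subgroup.mem_bot] at hc
    · exfalso
      have : commutator G = ⊥ := by rw [commutator_eq_bot_iff_center_eq_top]; exact hb
      exact bot_ne_top (this.symm.trans (commutator_eq_top hnc))
  rw [hz, hxy.mul_pow, show x ^ p = 1 by rw [← hx, pow_orderOf_eq_one], one_mul] at hzp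
  rcases (Nat.dvd_prime hpp).1 (orderOf_dvd_of_pow_eq_one hzp) with h | h
  · exact orderOf_eq_one_iff.1 h
  · exact absurd h.symm.dvd hy

/-- The centralizer of an element of order `p` has order `p`. -/
theorem card_centralizer_of_degree [IsSimpleGroup G] (hnc : ¬ IsCyclic G) {p : ℕ} [Fact p.Prime]
    {θ : IrrCharacter G} (hθ : charDegree (θ : G → ℂ) = p)
    (hfac : (Nat.card G).factorization p = 1) {x : G} (hx : orderOf x = p) :
    Nat.card (Subgroup.centralizer ({x} : Set G)) = p := by
  have hpp : p.Prime := Fact.out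
  set C := Subgroup.centralizer ({x} : Set G) with hC
  have hxC : Subgroup.zpowers x ≤ C :=
    Subgroup.zpowers_le.2 (Subgroup.mem_centralizer_singleton_iff.2 rfl)
  have hd : p ∣ Nat.card C := by
    have := Subgroup.card_dvd_of_le hxC
    rwa [Nat.card_zpowers, hx] at this
  obtain ⟨c, hc⟩ := hd
  suffices hc1 : c = 1 by rw [hc, hc1, mul_one]
  by_contra hne
  obtain ⟨l, hl, hlc⟩ := Nat.exists_prime_and_dvd hne
  have hlp : l ≠ p := by
    rintro rfl
    have h2 : l ^ 2 ∣ Nat.card G :=
      ((pow_two l) ▸ (hc ▸ mul_dvd_mul_left l hlc)).trans (Subgroup.card_subgroup_dvd_card C)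
    rw [hpp.pow_dvd_iff_le_factorization Nat.card_pos.ne'] at h2
    omega
  haveI := Fact.mk hl
  obtain ⟨⟨y, hyC⟩, hy⟩ :=
    exists_prime_orderOf_dvd_card' (G := C) l (hc ▸ dvd_mul_of_dvd_right hlc p)
  rw [Subgroup.orderOf_mk] at hy
  have hy1 := commute_eq_one hnc hθ hfac hx
    (Subgroup.mem_centralizer_singleton_iff.1 hyC).symm
    (by rw [hy]; exact fun h => hlp ((Nat.prime_dvd_prime_iff_eq hpp hl).1 h).symm)
  rw [hy1, orderOf_one] at hy
  exact hl.ne_one hy.symm

end Cfsg.Lib.Small.ThreePrime
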